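import Cfsg.Agent.Lib.HNIndex.Fix

/-!
# The centre of the stabiliser of a point has no element of order five
-/

set_option autoImplicit false
set_option maxRecDepth 100000

namespace CfsgLib.HNIndex

open CfsgLib.HNxyz

theorem zero_checks :
    (((List.range 1408).filter fun i =>
      Nat.beq (img [2] i) i && Nat.beq (img [1, 2, 0] i) i).length ≤ 4) ∧
    fix0 [2] = true ∧ fix0 [1, 2, 0] = true := by
  decide +kernel

/-- Only the point itself among the points of its orbit is fixed by the generators below it. -/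
def aloneOk (L : Level) (nxt : List (List ℕ)) : Bool :=
  match grow L.gens L.rows (2 ^ L.pt) with
  | none => false
  | some m => (List.range 1408).all fun i =>
      !m.testBit i || Nat.beq i L.pt || !(nxt.all fun w => Nat.beq (img w i) i)

theorem alone_checks : aloneOk cLevel0 cLevel1.gens = true ∧ aloneOk cLevel1 cLevel2.gens = true ∧
    aloneOk cLevel2 cLevel3.gens = true ∧ aloneOk cLevel3 cLevel4.gens = true := by
  decide +kernel

theorem split_checks :
    chainOk [0] [cLevel0, cLevel1, cLevel2, cLevel3, cLevel4] = true ∧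
    chainSize [cLevel0, cLevel1, cLevel2, cLevel3, cLevel4] = 126000 ∧
    chainSize [cLevel1, cLevel2, cLevel3, cLevel4] = 2520 ∧
    chainSize [cLevel2, cLevel3, cLevel4] = 60 ∧
    chainSize [cLevel3, cLevel4] = 10 ∧ chainSize [cLevel4] = 2 := by
  decide +kernel

variable {G : Type} [Group G] {a b c : G}

theorem level_step (h : XYZRels a b c) {fixed : List ℕ} {L L' : Level} {Ls : List Level} {N : ℕ}
    (hchain : chainOk fixed (L :: L' :: Ls) = true)
    (hN : Nat.card (fixOf (rho a b c) fixed) ≤ N) (hsize : chainSize (L :: L' :: Ls) = N)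
    (halone : aloneOk L L'.gens = true) {u : Mg a b c} (hu : u ∈ fixOf (rho a b c) fixed)
    (hcomm : ∀ w ∈ L'.gens, Commute u (mW a b c w)) :
    u ∈ fixOf (rho a b c) (L.pt :: fixed) ∧
      Nat.card (fixOf (rho a b c) (L.pt :: fixed)) ≤ chainSize (L' :: Ls) ∧
      chainOk (L.pt :: fixed) (L' :: Ls) = true := by
  haveI := m_finite h
  obtain ⟨hrest, hL⟩ : chainOk (L.pt :: fixed) (L' :: Ls) = true ∧
      (Nat.blt L.pt 1408 && (L.gens.all fun w => (w.all fun g => Nat.blt g 6) &&
        fixed.all fun b => Nat.beq (img w b) b) && (grow L.gens L.rows (2 ^ L.pt)).isSome) = true := by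
    rw [chainOk, Bool.and_eq_true] at hchain
    exact ⟨hchain.2, hchain.1⟩
  simp only [Bool.and_eq_true, Nat.blt_eq, List.all_eq_true, Nat.beq_eq,
    Option.isSome_iff_exists] at hL
  obtain ⟨⟨hpt, hgens⟩, m, hgrow⟩ := hL
  have hlow := chain_bound (mA a b c) (mB a b c) (mC a b c) (rho a b c) rfl rfl rfl ⊤ hrest
    (fun _ _ w _ => Subgroup.mem_top _)
  rw [top_inf_eq, top_inf_eq] at hlow
  have hpos : 0 < Nat.card (fixOf (rho a b c) (chainPts (L.pt :: fixed) (L' :: Ls))) := Nat.card_pos
  set A := fixOf (rho a b c) fixed with hA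
  set B := fixOf (rho a b c) (L.pt :: fixed) with hB
  have hBlow : chainSize (L' :: Ls) ≤ Nat.card B := (Nat.le_mul_of_pos_right _ hpos).trans hlow
  let x0 : Fin 1408 := ⟨L.pt, hpt⟩
  let P : ℕ → Prop := fun i => ∃ v ∈ A, (rho a b c v x0 : ℕ) = i
  have key : ∀ S : Finset ℕ, (∀ i ∈ S, P i) → S.card * Nat.card B ≤ Nat.card A := by
    intro S hS
    choose f hfA hfv using fun i : S => hS i.1 i.2
    let F : S × B → A := fun p => ⟨f p.1 * p.2.1, mul_mem (hfA p.1)
      fun i hi => p.2.2 i (List.mem_cons_of_mem _ hi)⟩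
    have hF : Function.Injective F := by
      rintro ⟨i, v⟩ ⟨j, v'⟩ e
      have e' : f i * v.1 = f j * v'.1 := congrArg Subtype.val e
      have hv : rho a b c v.1 x0 = x0 := v.2 x0 List.mem_cons_self
      have hv' : rho a b c v'.1 x0 = x0 := v'.2 x0 List.mem_cons_self
      have e2 := congrArg (fun g => (rho a b c g x0 : ℕ)) e'
      simp only [map_mul, Equiv.Perm.mul_apply, hv, hv', hfv] at e2
      obtain rfl : i = j := Subtype.ext e2
      obtain rfl : v = v' := Subtype.ext (mul_left_cancel e')
      rfl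
    have := Nat.card_le_card_of_injective F hF
    rwa [Nat.card_prod, Nat.card_eq_fintype_card (α := S), Fintype.card_coe] at this
  have hP : ∀ w ∈ L.gens, ∀ p, P p → P (img w p) := by
    rintro w hw p ⟨v, hv, rfl⟩
    have hρ : ∀ i : Fin 1408, (rho a b c (mW a b c w)⁻¹ i : ℕ) = img w i := fun i => by
      rw [map_inv, rho_mW]
      exact img_spec (hgens w hw).1 i
    refine ⟨(mW a b c w)⁻¹ * v, mul_mem (fun i hi => Fin.ext ((hρ i).trans ((hgens w hw).2 i.1 hi))) hv, ?_⟩
    rw [map_mul, Equiv.Perm.mul_apply]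
    exact hρ _
  obtain ⟨hin, hcount⟩ := grow_spec hP hgrow (fun i hi => by
    rw [Nat.testBit_two_pow, decide_eq_true_eq] at hi
    exact ⟨1, one_mem _, by rw [map_one]; exact hi⟩)
  obtain ⟨S, hS, hScard⟩ := hcount {L.pt} (fun i hi => by
    rw [Finset.mem_singleton.1 hi]; exact Nat.testBit_two_pow_self)
  rw [Finset.card_singleton, Nat.add_comm] at hScard
  rw [chainSize] at hsize
  have hmS := key S (fun i hi => hin i (hS i hi))
  rw [hScard] at hmS
  have hBupp : Nat.card B ≤ chainSize (L' :: Ls) :=
    Nat.le_of_mul_le_mul_left (hmS.trans (hN.trans hsize.ge)) (Nat.succ_pos _)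
  have hmem : (rho a b c u x0 : ℕ) ∈ S := by
    by_contra hnot
    have h2 := key (insert (rho a b c u x0 : ℕ) S) fun i hi => by
      rcases Finset.mem_insert.1 hi with rfl | hi
      exacts [⟨u, hu, rfl⟩, hin i (hS i hi)]
    rw [Finset.card_insert_of_notMem hnot, hScard] at h2
    have h3 : 0 < Nat.card B := Nat.card_pos
    nlinarith
  refine ⟨fun i hi => ?_, hBupp, hrest⟩
  rcases List.mem_cons.1 hi with e | e
  · obtain rfl : i = x0 := Fin.ext e
    have ha := halone
    rw [aloneOk, hgrow] at ha
    have := List.all_eq_true.1 ha _ (List.mem_range.2 (rho a b c u x0).2)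
    rw [hS _ hmem] at this
    simp only [Bool.not_true, Bool.false_or, Bool.or_eq_true, Bool.not_eq_true',
      Nat.beq_eq] at this
    rcases this with e' | e'
    · exact Fin.ext e'
    · exfalso
      rw [← Bool.not_eq_true, List.all_eq_true] at e'
      refine e' fun w hw => ?_
      rw [chainOk, Bool.and_eq_true, Bool.and_eq_true, Bool.and_eq_true] at hrest
      have hw' := List.all_eq_true.1 hrest.1.1.2 w hw
      simp only [Bool.and_eq_true, List.all_eq_true, Nat.blt_eq, Nat.beq_eq] at hw'
      rw [Nat.beq_eq, ← img_spec hw'.1, ← rho_mW (a := a) (b := b) (c := c), ← map_inv]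
      refine congrArg Fin.val ?_
      have hc := (hcomm w hw).inv_right
      rw [← Equiv.Perm.mul_apply, ← map_mul, ← hc.eq, map_mul, Equiv.Perm.mul_apply]
      congr 1
      refine Fin.ext ?_
      rw [map_inv, rho_mW, img_spec hw'.1]
      exact hw'.2 _ List.mem_cons_self
  · exact hu i e

/-- An element of fifth power one that commutes with y and its conjugate by x is trivial. -/
theorem five_trivial (h : XYZRels a b c) {u : Mg a b c} (h5 : u ^ 5 = 1)
    (hb : Commute u (mB a b c)) (hab : Commute u ((mA a b c)⁻¹ * mB a b c * mA a b c)) : u = 1 := by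
  haveI := m_finite h
  obtain ⟨hlen, hy, hyx⟩ := zero_checks
  simp only [fix0, Bool.and_eq_true, List.all_eq_true, Nat.blt_eq] at hy hyx
  have hcC : ∀ m ∈ fixOf (rho a b c) [0], Commute u m := by
    intro m hm
    rw [fix_zero h] at hm
    have hle : Subgroup.closure {mB a b c, (mA a b c)⁻¹ * mB a b c * mA a b c} ≤
        Subgroup.centralizer {u} := by
      rw [Subgroup.closure_le]
      rintro m (rfl | rfl) <;> rw [SetLike.mem_coe, Subgroup.mem_centralizer_singleton_iff]
      exacts [hb.eq.symm, hab.eq.symm]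
    exact (Subgroup.mem_centralizer_singleton_iff.1 (hle hm)).symm
  -- the first point
  have h0 : u ∈ fixOf (rho a b c) [0] := by
    set σ := rho a b c u with hσ
    have hσ5 : σ ^ 5 = 1 := by rw [hσ, ← map_pow, h5, map_one]
    let x0 : Fin 1408 := ⟨0, by decide⟩
    let F : Finset (Fin 1408) := Finset.univ.filter fun i =>
      img [2] i.1 = i.1 ∧ img [1, 2, 0] i.1 = i.1
    have hF4 : F.card ≤ 4 := by
      refine le_trans ?_ hlen
      rw [← List.toFinset_card_of_nodup ((List.nodup_range).filter _), ← Finset.card_map Fin.valEmbedding]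
      refine Finset.card_le_card fun i hi => ?_
      obtain ⟨j, hj, rfl⟩ := Finset.mem_map.1 hi
      simp only [F, Finset.mem_filter] at hj
      simp [hj.2.1, hj.2.2, j.2]
    have hinv : ∀ i ∈ F, σ i ∈ F := by
      intro i hi
      simp only [F, Finset.mem_filter, Finset.mem_univ, true_and] at hi ⊢
      have key : ∀ w, (∀ g ∈ w, g < 6) → Commute u (mW a b c w) → img w i.1 = i.1 →
          img w (σ i).1 = (σ i).1 := by
        intro w hw hc hi'
        rw [← img_spec hw, ← rho_mW (a := a) (b := b) (c := c), ← map_inv, hσ,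
          ← Equiv.Perm.mul_apply, ← map_mul, ← hc.inv_right.eq, map_mul, Equiv.Perm.mul_apply]
        refine congrArg (fun j => ((rho a b c u) j).1) (Fin.ext ?_)
        rw [map_inv, rho_mW, img_spec hw]
        exact hi'
      refine ⟨key [2] hy.1 ?_ hi.1, key [1, 2, 0] hyx.1 ?_ hi.2⟩
      · simpa [mW, evalW, elt] using hb
      · simpa [mW, evalW, elt, mul_assoc] using hab
    have hx0 : x0 ∈ F := by
      simp only [F, Finset.mem_filter, Finset.mem_univ, true_and]
      exact ⟨Nat.beq_eq.mp hy.2, Nat.beq_eq.mp hyx.2⟩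
    intro p hp
    rw [List.mem_singleton] at hp
    obtain rfl : p = x0 := Fin.ext hp
    by_contra hne
    have hper : Function.minimalPeriod σ x0 = 5 := by
      haveI : Fact (Nat.Prime 5) := ⟨by norm_num⟩
      refine Function.minimalPeriod_eq_prime ?_ hne
      show (⇑σ)^[5] x0 = x0
      rw [← Equiv.Perm.coe_pow, hσ5]
      rfl
    have hall : ∀ k, (⇑σ)^[k] x0 ∈ F := by
      intro k
      induction k with
      | zero => exact hx0
      | succ k ih => rw [Function.iterate_succ_apply']; exact hinv _ ih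
    have himg : (Finset.range 5).image (fun k => σ^[k] x0) ⊆ F := by
      intro y hy
      obtain ⟨k, -, rfl⟩ := Finset.mem_image.1 hy
      exact hall k
    have h5c : ((Finset.range 5).image fun k => σ^[k] x0).card = 5 := by
      rw [Finset.card_image_of_injOn, Finset.card_range]
      intro i hi j hj e
      simp only [Finset.coe_range, Set.mem_Iio] at hi hj
      exact Function.iterate_injOn_Iio_minimalPeriod (by rw [hper]; exact hi) (by rw [hper]; exact hj) e
    have := Finset.card_le_card himg
    omega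
  obtain ⟨c0, s0, s1, s2, s3, s4⟩ := split_checks
  obtain ⟨a0, a1, a2, a3⟩ := alone_checks
  have hcard0 : Nat.card (fixOf (rho a b c) [0]) ≤ 126000 := by
    obtain ⟨h1, -, -, h4, -⟩ := chain_checks
    simp only [chainOk, Bool.and_eq_true] at h1
    have hupp := chain_bound (mA a b c) (mB a b c) (mC a b c) (rho a b c) rfl rfl rfl ⊤
      (fixed := []) (Ls := [topLevel])
      (by simp only [chainOk, Bool.and_eq_true]; exact ⟨h1.1, trivial⟩)
      (fun _ _ w _ => Subgroup.mem_top _)
    rw [show chainSize [topLevel] = 1408 from by rw [chainSize, chainSize, h4],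
      show chainPts [] [topLevel] = [0] from rfl, top_inf_eq, top_inf_eq] at hupp
    have htot := Subgroup.card_le_card_group (fixOf (rho a b c) [])
    rw [m_card h] at htot
    omega
  have gens_comm : ∀ {fixed : List ℕ} {L : Level} {Ls : List Level}, 0 ∈ fixed →
      chainOk fixed (L :: Ls) = true → ∀ w ∈ L.gens, Commute u (mW a b c w) := by
    intro fixed L Ls h0m hc w hw
    rw [chainOk, Bool.and_eq_true, Bool.and_eq_true, Bool.and_eq_true] at hc
    have := List.all_eq_true.1 hc.1.1.2 w hw
    simp only [Bool.and_eq_true, List.all_eq_true, Nat.blt_eq, Nat.beq_eq] at this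
    have hm : (mW a b c w)⁻¹ ∈ fixOf (rho a b c) [0] := by
      intro p hp
      rw [List.mem_singleton] at hp
      rw [map_inv, rho_mW]
      exact Fin.ext (by rw [img_spec this.1, hp]; exact this.2 0 h0m)
    simpa using (hcC _ hm).inv_right
  have r0 := (Bool.and_eq_true _ _).mp c0
  obtain ⟨u1, n1, c1⟩ := level_step h c0 hcard0 s0 a0 h0 (gens_comm (by simp) r0.2)
  have r1 := (Bool.and_eq_true _ _).mp c1
  obtain ⟨u2, n2, c2⟩ := level_step h c1 n1 rfl a1 u1 (gens_comm (by simp) r1.2)
  have r2 := (Bool.and_eq_true _ _).mp c2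
  obtain ⟨u3, n3, c3⟩ := level_step h c2 n2 rfl a2 u2 (gens_comm (by simp) r2.2)
  have r3 := (Bool.and_eq_true _ _).mp c3
  obtain ⟨u4, n4, -⟩ := level_step h c3 n3 rfl a3 u3 (gens_comm (by simp) r3.2)
  rw [s4] at n4
  set B := fixOf (rho a b c) (cLevel3.pt :: cLevel2.pt :: cLevel1.pt :: cLevel0.pt :: [0])
  have hd : orderOf (⟨u, u4⟩ : B) ∣ Nat.card B := orderOf_dvd_natCard _
  rw [Subgroup.orderOf_mk] at hd
  have hd5 : orderOf u ∣ 5 := orderOf_dvd_of_pow_eq_one h5
  have hle := Nat.le_of_dvd Nat.card_pos hd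
  rcases (Nat.dvd_prime (by norm_num : Nat.Prime 5)).1 hd5 with e | e
  · exact orderOf_eq_one_iff.1 e
  · omega

end CfsgLib.HNIndex
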