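import Cfsg.Agent.Lib.HNIndex.IndexEq

/-!
# The order of the presented Harada–Norton group
-/

set_option autoImplicit false

namespace CfsgLib.HNIndex

open CfsgLib.HNxyz

/-- The triples over the presented group. -/
abbrev hM : Type := Mg hnCtx.a hnCtx.b hnCtx.c

/-- The projection. -/
noncomputable abbrev hpr : hM →* Cfsg.Spor.HN := pr hnCtx.a hnCtx.b hnCtx.c

theorem ker_phi {m : hM} (h : (mData hnCtx.rels).φ m = 1) :
    m = 1 ∨ m = (mData hnCtx.rels).a * (mData hnCtx.rels).a := by
  obtain ⟨h2, hmem⟩ := (mData hnCtx.rels).ker_eq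
  set D := mData hnCtx.rels with hD
  let u : D.σ.ker := ⟨⟨D.a * D.a, D.ker_le_N hmem⟩, D.mem_ker_σ.2 hmem⟩
  let v : D.σ.ker := ⟨⟨m, D.ker_le_N h⟩, D.mem_ker_σ.2 h⟩
  by_contra hne
  push Not at hne
  have hu : u ≠ 1 := fun e => D.sq_ne (congrArg (fun w : D.σ.ker => w.1.1) e)
  have hv : v ≠ 1 := fun e => hne.1 (congrArg (fun w : D.σ.ker => w.1.1) e)
  have huv : v ≠ u := fun e => hne.2 (congrArg (fun w : D.σ.ker => w.1.1) e)
  haveI := m_finite hnCtx.rels
  have h3 : ({v, u, 1} : Set D.σ.ker).ncard = 3 := by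
    rw [Set.ncard_eq_three]
    exact ⟨v, u, 1, huv, hv, hu, rfl⟩
  have := Set.ncard_le_card ({v, u, 1} : Set D.σ.ker)
  omega

/-- A homomorphism from the triples that moves the central involution is injective. -/
theorem inj_of_sq {H : Type*} [Group H] (f : hM →* H)
    (h : f ((mData hnCtx.rels).a * (mData hnCtx.rels).a) ≠ 1) : Function.Injective f := by
  refine (mData hnCtx.rels).injective f h ?_
  rw [eq_bot_iff]
  intro m hm
  obtain ⟨h1, h2⟩ := Subgroup.mem_inf.1 hm
  rcases ker_phi (MonoidHom.mem_ker.1 h1) with e | e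
  · exact e ▸ one_mem _
  · exact absurd (e ▸ MonoidHom.mem_ker.1 h2) h

theorem hpr_inj : Function.Injective hpr := inj_of_sq hpr x_sq_ne

theorem hpr_range : hpr.range = hnSub := by
  rw [MonoidHom.range_eq_map, ← (mData hnCtx.rels).top, MonoidHom.map_closure,
    Set.image_insert_eq, Set.image_insert_eq, Set.image_singleton]
  rfl

theorem hnSub_card : Nat.card hnSub = 177408000 := by
  rw [← hpr_range, ← Nat.card_congr (MonoidHom.ofInjective hpr_inj).toEquiv]
  exact m_card hnCtx.rels

theorem hn_card : Nat.card Cfsg.Spor.HN = 273030912000000 := by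
  rw [← hnSub.index_mul_card, index_eq, hnSub_card]

end CfsgLib.HNIndex
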