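import Cfsg.Prelude.Def_Sporadic
import Cfsg.Agent.Lib.HNIndex.Order
import Cfsg.Agent.Lib.HNIndex.Fixed

/-!
# The presented Harada–Norton group is simple
-/

set_option autoImplicit false
set_option maxRecDepth 20000

namespace CfsgLib.HNIndex

open CfsgLib.HNxyz Subgroup
open Cfsg.Spor (HN)
open scoped Pointwise

local notation "ga" => hnCtx.a
local notation "gb" => hnCtx.b
local notation "gc" => hnCtx.c
local notation "gt" => hnCtx.t

theorem top_of_gens {N : Subgroup Cfsg.Spor.HN} (ha : ga ∈ N) (hb : gb ∈ N) (hc : gc ∈ N)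
    (ht : gt ∈ N) : N = ⊤ := by
  rw [eq_top_iff, ← hn_gen, Subgroup.closure_le]
  rintro g (rfl | rfl | rfl | rfl)
  exacts [ha, hb, hc, ht]

theorem rel_ten : gc * (((gb ^ 3 * ga * gb * ga * gb)⁻¹ * gc * (gb ^ 3 * ga * gb * ga * gb)) * ga) ^ 3 = 1 :=
  hn_rel (r := HN.z * (((((HN.y ^ 3) * HN.x * HN.y * HN.x * HN.y)⁻¹ * HN.z *
    ((HN.y ^ 3) * HN.x * HN.y * HN.x * HN.y)) * HN.x) ^ 3)) (by simp [HN.extra])

variable (N : Subgroup Cfsg.Spor.HN) [hNn : N.Normal]

/-- A normal subgroup containing the square of x is everything. -/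
theorem top_of_sq (h : ga * ga ∈ N) : N = ⊤ := by
  set q := QuotientGroup.mk' N with hq
  have hmem : ∀ g, q g = 1 → g ∈ N := fun g e => (QuotientGroup.eq_one_iff g).1 e
  have ha2 : q ga * q ga = 1 := by rw [← map_mul]; exact (QuotientGroup.eq_one_iff _).2 h
  have hz2 : q gc * q gc = 1 := by rw [← map_mul, show gc * gc = 1 from z_sq hnCtx.rels, map_one]
  have ht5 : q gt ^ 5 = 1 := by rw [← map_pow, hnCtx.t_five, map_one]
  have ht2 : q gt * q gt = 1 := by
    have := congrArg q hnCtx.t_turn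
    rw [map_mul, map_mul, map_mul, ha2, mul_one] at this
    exact this
  have ht : q gt = 1 := by
    calc q gt = (q gt * q gt) * (q gt * q gt) * q gt := by rw [ht2, one_mul, one_mul]
      _ = q gt ^ 5 := by simp only [pow_succ, pow_zero, one_mul, mul_assoc]
      _ = 1 := ht5
  have hz : q gc = 1 := by
    have := congrArg q hnCtx.zt_three
    rw [map_pow, map_mul, ht, mul_one, map_one] at this
    calc q gc = q gc * q gc * q gc := by rw [hz2, one_mul]
      _ = q gc ^ 3 := by simp only [pow_succ, pow_zero, one_mul]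
      _ = 1 := this
  have ha : q ga = 1 := by
    have := congrArg q rel_ten
    simp only [map_mul, map_pow, map_inv, hz, one_mul, mul_one, inv_mul_cancel, map_one] at this
    have e : q ga ^ 3 = 1 := by simpa using this
    calc q ga = q ga * q ga * q ga := by rw [ha2, one_mul]
      _ = q ga ^ 3 := by simp only [pow_succ, pow_zero, one_mul]
      _ = 1 := e
  obtain ⟨-, hb, -⟩ := Data.relations_abelian (hnCtx.rels.map q) (by rw [ha]; exact Commute.one_left _)
  exact top_of_gens (hmem _ ha) (hmem _ hb) (hmem _ hz) (hmem _ ht)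

theorem sq_proj : hpr ((mData hnCtx.rels).a * (mData hnCtx.rels).a) = ga * ga := rfl

theorem inter_bot (h : ga * ga ∉ N) {g : Cfsg.Spor.HN} (hg : g ∈ N) (hH : g ∈ hnSub) : g = 1 := by
  have hinj := inj_of_sq ((QuotientGroup.mk' N).comp hpr) (by
    rw [MonoidHom.comp_apply, sq_proj]
    exact fun e => h ((QuotientGroup.eq_one_iff _).1 e))
  rw [← hpr_range] at hH
  obtain ⟨m, rfl⟩ := hH
  have : m = 1 := hinj (by
    rw [map_one, MonoidHom.comp_apply]
    exact (QuotientGroup.eq_one_iff _).2 hg)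
  rw [this, map_one]

/-- A normal subgroup meeting the point stabiliser trivially together with it is not everything. -/
theorem sup_ne_top (h : ga * ga ∉ N) : N ⊔ hnSub ≠ ⊤ := by
  intro htop
  obtain ⟨n, hn, s, hs, e⟩ := mem_sup_of_normal_left.1 (htop ▸ mem_top gt : gt ∈ N ⊔ hnSub)
  set f := (QuotientGroup.mk' N).comp hpr with hf
  have hinj : Function.Injective f := inj_of_sq f (by
    rw [hf, MonoidHom.comp_apply, sq_proj]
    exact fun e => h ((QuotientGroup.eq_one_iff _).1 e))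
  rw [← hpr_range] at hs
  obtain ⟨u, rfl⟩ := hs
  have hu : f u = QuotientGroup.mk' N gt := by
    rw [← e, map_mul, (QuotientGroup.eq_one_iff n).2 hn |> fun (h : QuotientGroup.mk' N n = 1) => h,
      one_mul]
    rfl
  have h5 : u ^ 5 = 1 := hinj (by rw [map_pow, hu, ← map_pow, hnCtx.t_five, map_one, map_one])
  have hb : Commute u (mB ga gb gc) := hinj (by
    rw [map_mul, map_mul, hu]
    show QuotientGroup.mk' N gt * QuotientGroup.mk' N gb = QuotientGroup.mk' N gb * QuotientGroup.mk' N gt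
    rw [← map_mul, ← map_mul, hnCtx.tb.eq])
  have hab : Commute u ((mA ga gb gc)⁻¹ * mB ga gb gc * mA ga gb gc) := hinj (by
    rw [map_mul f u, map_mul f _ u, hu, show f ((mA ga gb gc)⁻¹ * mB ga gb gc * mA ga gb gc) =
      QuotientGroup.mk' N (ga⁻¹ * gb * ga) from rfl, ← map_mul, ← map_mul, hnCtx.tab.eq])
  have hu1 := five_trivial hnCtx.rels h5 hb hab
  rw [hu1, map_one] at e
  have ht : gt ∈ N := by rw [← e, mul_one]; exact hn
  have hz : gc ∈ N := by
    have hq := congrArg (QuotientGroup.mk' N) hnCtx.zt_three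
    rw [map_pow, map_mul, show QuotientGroup.mk' N gt = 1 from (QuotientGroup.eq_one_iff _).2 ht,
      mul_one, map_one, ← map_pow] at hq
    have h3 : gc ^ 3 ∈ N := (QuotientGroup.eq_one_iff _).1 hq
    rwa [show gc ^ 3 = gc * gc * gc from by simp only [pow_succ, pow_zero, one_mul],
      show gc * gc = 1 from z_sq hnCtx.rels, one_mul] at h3
  exact z_ne_one (inter_bot N h hz (Subgroup.subset_closure (Or.inr (Or.inr rfl))))

local notation "P0" => (hnCtx.p0)

/-- A proper normal subgroup fixes the point. -/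
theorem eq_bot_of_proper (h : ga * ga ∉ N) : N = ⊥ := by
  haveI := hn_finite
  by_contra hne
  let B : Set (Cfsg.Spor.HN ⧸ hnSub) := Set.range fun n : N => n.1 • P0
  have hfix : ∀ g : Cfsg.Spor.HN, g • P0 = P0 → g ∈ hnSub := by
    intro g hg
    have h' : g • ((1 : Cfsg.Spor.HN) : Cfsg.Spor.HN ⧸ hnSub) =
        ((1 : Cfsg.Spor.HN) : Cfsg.Spor.HN ⧸ hnSub) := hg
    rw [MulAction.Quotient.smul_coe, QuotientGroup.eq, smul_eq_mul, mul_one, mul_one] at h'
    exact inv_mem_iff.1 h'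
  have hfix' : ∀ g ∈ hnSub, g • P0 = P0 := by
    intro g hg
    show g • ((1 : Cfsg.Spor.HN) : Cfsg.Spor.HN ⧸ hnSub) = ((1 : Cfsg.Spor.HN) : Cfsg.Spor.HN ⧸ hnSub)
    rw [MulAction.Quotient.smul_coe, QuotientGroup.eq, smul_eq_mul, mul_one, mul_one]
    exact inv_mem hg
  -- the image of the point stays in the orbit of N exactly on the product
  have hblock : ∀ g : Cfsg.Spor.HN, g • P0 ∈ B → g ∈ N ⊔ hnSub := by
    rintro g ⟨⟨n, hn⟩, e⟩
    have : n⁻¹ * g ∈ hnSub := hfix _ (by rw [mul_smul, inv_smul_eq_iff]; exact e.symm)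
    have := mul_mem (mem_sup_left hn : n ∈ N ⊔ hnSub) (mem_sup_right this : n⁻¹ * g ∈ N ⊔ hnSub)
    rwa [mul_inv_cancel_left] at this
  have hmove : ∀ g : Cfsg.Spor.HN, ∀ q ∈ B, g • q ∈ B → g • P0 ∈ B := by
    rintro g _ ⟨⟨n, hn⟩, rfl⟩ ⟨⟨n', hn'⟩, e⟩
    refine ⟨⟨g * n⁻¹ * g⁻¹ * n', mul_mem (hNn.conj_mem _ (inv_mem hn) g) hn'⟩, ?_⟩
    show (g * n⁻¹ * g⁻¹ * n') • P0 = g • P0
    rw [mul_smul, show n' • P0 = g • n • P0 from e, smul_smul, smul_smul]
    congr 1
    group
  have hH : ∀ j, vert hnCtx j ∈ B → orbSet hnCtx (vert hnCtx j) ⊆ B := by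
    intro j ⟨⟨n, hn⟩, e⟩ q hq
    obtain ⟨m, rfl⟩ := hq
    refine ⟨⟨hpr m * n * (hpr m)⁻¹, hNn.conj_mem _ hn _⟩, ?_⟩
    show (hpr m * n * (hpr m)⁻¹) • P0 = hpr m • vert hnCtx j
    rw [← e, mul_smul, mul_smul, hfix' _ (inv_mem ((SetLike.ext_iff.1 hpr_range (hpr m)).1 ⟨m, rfl⟩))]
  have horb : ∀ q ∈ B, ∀ j, q ∈ orbSet hnCtx (vert hnCtx j) → vert hnCtx j ∈ B := by
    rintro q ⟨⟨n, hn⟩, e⟩ j ⟨m, rfl⟩
    refine ⟨⟨(hpr m)⁻¹ * n * hpr m, by simpa using hNn.conj_mem _ hn (hpr m)⁻¹⟩, ?_⟩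
    show ((hpr m)⁻¹ * n * hpr m) • P0 = vert hnCtx j
    rw [mul_smul, mul_smul, hfix' _ ((SetLike.ext_iff.1 hpr_range (hpr m)).1 ⟨m, rfl⟩), inv_smul_eq_iff]
    exact e
  -- only the fifth orbit
  have honly : ∀ j < 9, j ≠ 0 → j ≠ 5 → vert hnCtx j ∉ B := by
    intro j hj h0 h5 hjB
    have hd : (deg.getD j []).getD j 0 ≠ 0 := by
      interval_cases j <;> first | omega | decide
    rw [deg_eq hj hj] at hd
    obtain ⟨c, hc⟩ := Finset.card_ne_zero.1 hd
    rw [Finset.mem_filter, Finset.mem_range] at hc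
    have hnb : nb hnCtx (vert hnCtx j) c ∈ B := hH j hjB (by
      have := nb_target hnCtx hj hc.1
      rw [hc.2] at this
      exact this ▸ self_mem hnCtx _)
    set g := (hnCtx.W (tw c))⁻¹ * gt * hnCtx.W (tw c) with hg
    have hgB : g • vert hnCtx j ∈ B := by
      rw [hg, mul_smul, mul_smul]
      exact hnb
    have hgS := hblock g (hmove g _ hjB hgB)
    have hW : hnCtx.W (tw c) ∈ N ⊔ hnSub :=
      mem_sup_right ((SetLike.ext_iff.1 hpr_range _).1 ⟨mW ga gb gc (tw c), pr_mW _⟩)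
    have ht : gt ∈ N ⊔ hnSub := by
      have := mul_mem (mul_mem hW hgS) (inv_mem hW)
      rwa [hg, mul_assoc (hnCtx.W (tw c))⁻¹, mul_inv_cancel_left, mul_inv_cancel_right] at this
    exact sup_ne_top N h (top_of_gens (mem_sup_right (Subgroup.subset_closure (Or.inl rfl)))
      (mem_sup_right (Subgroup.subset_closure (Or.inr (Or.inl rfl))))
      (mem_sup_right (Subgroup.subset_closure (Or.inr (Or.inr rfl)))) ht)
  have hzero : ∀ q ∈ orbSet hnCtx (vert hnCtx 0), q = P0 := fun q hq => orb_zero hnCtx hq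
  obtain ⟨n, hn, hn1⟩ := (ne_bot_iff_exists_ne_one.1 hne) |> fun ⟨⟨n, hn⟩, h1⟩ =>
    (⟨n, hn, fun e => h1 (Subtype.ext e)⟩ : ∃ n, n ∈ N ∧ n ≠ 1)
  have h5B : vert hnCtx 5 ∈ B := by
    obtain ⟨j, hj, hq⟩ := mem_orb hnCtx hn_gen (n • P0)
    have hjB := horb _ ⟨⟨n, hn⟩, rfl⟩ j hq
    rcases eq_or_ne j 0 with rfl | h0
    · exact absurd (inter_bot N h hn (hfix n (hzero _ hq))) hn1
    · rcases eq_or_ne j 5 with rfl | h5
      · exact hjB
      · exact absurd hjB (honly j hj h0 h5)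
  have hB : B = {P0} ∪ orbSet hnCtx (vert hnCtx 5) := by
    ext q
    constructor
    · intro hqB
      obtain ⟨j, hj, hq⟩ := mem_orb hnCtx hn_gen q
      have hjB := horb q hqB j hq
      rcases eq_or_ne j 0 with rfl | h0
      · exact Or.inl (hzero q hq)
      · rcases eq_or_ne j 5 with rfl | h5
        · exact Or.inr hq
        · exact absurd hjB (honly j hj h0 h5)
    · rintro (rfl | hq)
      · exact ⟨1, one_smul _ _⟩
      · exact hH 5 h5B hq
  have hBcard : B.ncard = Nat.card N := by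
    refine Set.ncard_range_of_injective fun u v e => ?_
    have := inter_bot N h (mul_mem (inv_mem u.2) v.2) (hfix _ (by
      rw [mul_smul, inv_smul_eq_iff]; exact e.symm))
    exact Subtype.ext (inv_mul_eq_one.1 this)
  have hcard5 : (orbSet hnCtx (vert hnCtx 5)).ncard = 2200 := by
    have h0 : (orbSet hnCtx (vert hnCtx 0)).ncard = 1 :=
      le_antisymm (orb0 hnCtx) ((Set.ncard_pos (orbSet_finite hnCtx _)).2 ⟨_, self_mem hnCtx _⟩)
    have e01 := balance hnCtx t_not_fix (j := 0) (k := 1) (by norm_num) (by norm_num)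
    have e15 := balance hnCtx t_not_fix (j := 1) (k := 5) (by norm_num) (by norm_num)
    simp only [deg, List.getD_cons_succ, List.getD_cons_zero] at e01 e15
    omega
  have hnot : P0 ∉ orbSet hnCtx (vert hnCtx 5) := fun hm =>
    absurd (vert_inj hnCtx t_not_fix (by norm_num : 0 < 9) (by norm_num : 5 < 9) (orbSet_eq hnCtx hm))
      (by norm_num)
  rw [hB, Set.singleton_union, Set.ncard_insert_of_notMem hnot (orbSet_finite hnCtx _), hcard5] at hBcard
  have hd : Nat.card hnSub * Nat.card N ∣ Nat.card Cfsg.Spor.HN := by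
    rw [card_eq_card_quotient_mul_card_subgroup N]
    refine mul_dvd_mul_right ?_ _
    have hinj : Function.Injective ((QuotientGroup.mk' N).comp hnSub.subtype) := by
      rw [← MonoidHom.ker_eq_bot_iff, eq_bot_iff]
      intro s hs
      rw [mem_bot]
      exact Subtype.ext (inter_bot N h ((QuotientGroup.eq_one_iff _).1 hs) s.2)
    exact card_dvd_of_injective _ hinj
  rw [hn_card, hnSub_card, ← hBcard] at hd
  revert hd
  decide +kernel

omit N hNn in
/-- The presented Harada–Norton group is simple of the right order. -/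
theorem hn_isHN : Cfsg.IsHN Cfsg.Spor.HN := by
  haveI : Nontrivial Cfsg.Spor.HN := ⟨_, _, z_ne_one⟩
  refine ⟨⟨fun N hN => ?_⟩, hn_card⟩
  haveI := hN
  by_cases h : ga * ga ∈ N
  · exact Or.inr (top_of_sq N h)
  · exact Or.inl (eq_bot_of_proper N h)

end CfsgLib.HNIndex
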