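import Cfsg.Agent.Lib.HNIndex.Grow

/-!
# The chain of the model group (generated)
-/

set_option autoImplicit false

namespace CfsgLib.HNIndex

/-- The letters of the stabiliser of the first point. -/
def cBlock : ℕ → List ℕ
  | 0 => [2]
  | 1 => [3]
  | 2 => [1, 2, 0]
  | _ => [1, 3, 0]

/-- A word in these letters. -/
def cWord (s : List ℕ) : List ℕ := (s.map cBlock).flatten

/-- The level at the point 2. -/
def cLevel0 : Level where
  pt := 2
  gens := [cWord [0], cWord [2]]
  rows := [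
    (2, 0), (2, 1), (7, 0), (7, 1), (46, 1), (78, 0), (78, 1), (48, 0), (48, 1), (81, 0), (81, 1),
    (77, 0), (77, 1), (278, 0), (278, 1), (82, 0), (82, 1), (41, 0), (41, 1), (79, 1), (91, 0),
    (91, 1), (314, 0), (190, 1), (83, 0), (1053, 0), (40, 0), (40, 1), (106, 0), (183, 0),
    (122, 0), (84, 1), (128, 1), (37, 1), (965, 0), (965, 1), (604, 0), (123, 0), (123, 1),
    (182, 0), (89, 0), (958, 0), (139, 0), (139, 1), (959, 1), (138, 0), (138, 1), (805, 0),
    (847, 1)]

/-- The level at the point 7. -/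
def cLevel1 : Level where
  pt := 7
  gens := [cWord [1, 2, 1], cWord [2, 0, 3, 1]]
  rows := [
    (7, 0), (7, 1), (47, 0), (84, 0), (84, 1), (79, 0), (82, 0), (82, 1), (138, 0), (138, 1),
    (90, 0), (90, 1), (128, 0), (128, 1), (1054, 0), (959, 0), (959, 1), (958, 0), (89, 0),
    (89, 1), (70, 1), (36, 0), (36, 1), (88, 0), (1053, 0), (123, 0), (91, 0), (81, 1), (78, 0),
    (78, 1), (182, 0), (182, 1), (965, 1), (77, 0), (77, 1), (122, 0), (46, 0), (314, 0),
    (124, 1), (14, 0), (190, 0)]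

/-- The level at the point 9. -/
def cLevel2 : Level where
  pt := 9
  gens := [cWord [0, 3, 3, 0, 2], cWord [1, 3, 0, 0, 3], cWord [2, 0, 2, 0]]
  rows := [
    (9, 0), (9, 1), (187, 0), (134, 0), (276, 1)]

/-- The level at the point 10. -/
def cLevel3 : Level where
  pt := 10
  gens := [cWord [2, 1, 3, 0, 2, 1, 3, 0], cWord [2, 0, 2, 0]]
  rows := [
    (10, 0), (725, 1), (133, 0), (168, 1)]

/-- The level at the point 8. -/
def cLevel4 : Level where
  pt := 8
  gens := [cWord [2, 0, 2, 0]]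
  rows := [
    (8, 0)]

/-- Tree rows of the first level. -/
def topRows0 : List (ℕ × ℕ) := [
    (0, 0), (0, 1), (0, 4), (4, 0), (4, 4), (1, 4), (2, 2), (2, 3), (5, 4), (45, 2), (45, 3),
    (3, 2), (3, 3), (7, 0), (7, 1), (7, 2), (7, 4), (14, 0), (14, 1), (14, 3), (14, 4), (6, 2),
    (6, 3), (44, 0), (44, 1), (44, 2), (44, 4), (80, 0), (80, 1), (80, 3), (80, 4), (13, 2),
    (13, 4), (50, 3), (50, 4), (103, 2), (103, 4), (8, 2), (8, 4), (78, 0), (78, 1), (78, 2),
    (78, 4), (184, 2), (184, 3), (102, 4), (9, 4), (79, 0), (79, 1), (79, 4), (243, 2), (243, 3),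
    (49, 2), (49, 4), (159, 3), (159, 4), (46, 2), (46, 4), (12, 2), (12, 4), (43, 0), (43, 1),
    (43, 2), (43, 4), (368, 2), (368, 3), (47, 4), (15, 4), (241, 0), (241, 1), (241, 4),
    (341, 2), (341, 3), (115, 2), (115, 4), (332, 2), (332, 3), (117, 4), (286, 2), (286, 3),
    (101, 4), (233, 2), (10, 4), (185, 2), (118, 2), (118, 3), (118, 4), (187, 2), (187, 3),
    (187, 4), (77, 0), (77, 1), (77, 4), (1176, 2), (1176, 3), (196, 0), (196, 1), (196, 2),
    (196, 4), (206, 3), (206, 4), (273, 3), (242, 3), (204, 3), (204, 4), (192, 3), (192, 4),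
    (1179, 2), (402, 2), (402, 4), (244, 0), (244, 1), (244, 3), (244, 4), (104, 2), (104, 4),
    (186, 2), (186, 3), (172, 4), (272, 2), (272, 3), (48, 4), (270, 2), (11, 4), (280, 2),
    (81, 2), (81, 3), (81, 4), (173, 2), (173, 3), (173, 4), (42, 0), (42, 1), (42, 4), (789, 2),
    (789, 3), (579, 0), (579, 1), (579, 2), (579, 4), (428, 3), (428, 4), (271, 3), (340, 3),
    (318, 3), (318, 4), (240, 3), (240, 4), (795, 2), (785, 2), (785, 4), (342, 0), (342, 1),
    (342, 3), (342, 4), (116, 4), (832, 2), (832, 3), (370, 2), (370, 4), (207, 3), (207, 4),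
    (426, 2), (285, 2), (285, 4), (287, 3), (287, 4), (114, 2), (114, 3), (143, 0), (143, 1),
    (143, 2), (143, 4), (51, 2), (51, 3), (27, 2), (27, 4), (119, 0), (119, 1), (119, 2),
    (119, 4), (205, 4), (1177, 2), (1177, 3), (188, 2), (188, 4), (274, 4), (1020, 2), (1020, 3),
    (76, 2), (76, 3), (76, 4), (94, 2), (94, 3), (94, 4), (54, 2), (54, 3), (1178, 0), (1178, 1),
    (1178, 4)]

/-- Tree rows of the first level. -/
def topRows1 : List (ℕ × ℕ) := [
    (727, 0), (727, 1), (727, 3), (727, 4), (793, 2), (793, 3), (793, 4), (197, 2), (197, 3),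
    (197, 4), (1048, 0), (1048, 1), (1048, 2), (1048, 4), (917, 2), (917, 3), (279, 0), (279, 1),
    (279, 4), (806, 3), (787, 0), (787, 1), (787, 3), (281, 3), (281, 4), (121, 0), (121, 1),
    (121, 4), (575, 3), (191, 4), (1241, 3), (1180, 0), (1180, 1), (1180, 4), (433, 0), (433, 1),
    (433, 2), (433, 4), (1091, 3), (1091, 4), (199, 3), (199, 4), (773, 0), (773, 1), (773, 4),
    (420, 2), (420, 3), (105, 4), (1018, 2), (1018, 3), (749, 2), (749, 4), (377, 3), (377, 4),
    (668, 2), (702, 2), (702, 4), (200, 3), (200, 4), (160, 2), (160, 3), (62, 0), (62, 1),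
    (62, 2), (62, 4), (16, 2), (16, 3), (150, 2), (150, 4), (82, 0), (82, 1), (82, 2), (82, 4),
    (399, 4), (790, 2), (790, 3), (174, 2), (174, 4), (275, 4), (849, 2), (849, 3), (41, 2),
    (41, 3), (41, 4), (171, 2), (171, 3), (171, 4), (19, 2), (19, 3), (794, 0), (794, 1),
    (794, 4), (788, 0), (788, 1), (788, 3), (788, 4), (371, 2), (371, 3), (371, 4), (578, 2),
    (578, 3), (578, 4), (580, 0), (580, 1), (580, 2), (580, 4), (485, 2), (485, 3), (429, 0),
    (429, 1), (429, 4), (954, 3), (645, 0), (645, 1), (645, 3), (430, 3), (430, 4), (84, 0),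
    (84, 1), (84, 4), (796, 3), (176, 4), (962, 3), (797, 0), (797, 1), (797, 4), (786, 0),
    (786, 1), (786, 2), (786, 4), (373, 3), (373, 4), (343, 3), (343, 4), (374, 0), (374, 1),
    (374, 4), (784, 2), (784, 3), (163, 2), (163, 3), (868, 4), (423, 3), (423, 4), (646, 2),
    (646, 4), (1007, 2), (1007, 3), (208, 4), (425, 4), (284, 2), (284, 4), (619, 4), (288, 2),
    (288, 3), (113, 2), (113, 4), (326, 3), (326, 4), (28, 4), (140, 4), (144, 0), (144, 1),
    (144, 4), (34, 2), (52, 4), (322, 4), (26, 4), (136, 2), (193, 2), (193, 3), (193, 4),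
    (278, 2), (278, 3), (278, 4), (120, 0), (120, 1), (120, 4), (232, 2), (232, 3), (525, 2),
    (525, 3), (1267, 0), (1267, 1), (1267, 4), (576, 4), (189, 4), (1097, 2), (1097, 3), (445, 2),
    (445, 3), (1021, 4), (987, 4), (75, 0), (75, 1), (75, 4), (181, 0), (181, 1), (181, 4),
    (110, 2)]

/-- Tree rows of the first level. -/
def topRows2 : List (ℕ × ℕ) := [
    (110, 3), (92, 4), (93, 4), (55, 2), (55, 3), (323, 0), (323, 1), (323, 4), (53, 0), (53, 1),
    (53, 4), (885, 2), (885, 3), (885, 4), (1017, 2), (1017, 3), (1017, 4), (517, 2), (517, 3),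
    (64, 4), (726, 4), (1119, 2), (1119, 3), (1166, 0), (1166, 1), (1166, 2), (1166, 4), (792, 4),
    (558, 2), (247, 2), (247, 4), (198, 4), (1038, 2), (722, 3), (722, 4), (919, 3), (919, 4),
    (337, 0), (337, 1), (337, 4), (1128, 2), (1128, 3), (535, 0), (535, 1), (535, 2), (535, 4),
    (918, 1), (918, 3), (153, 4), (65, 4), (889, 3), (807, 0), (807, 1), (807, 3), (753, 0),
    (753, 1), (753, 4), (268, 4), (840, 3), (129, 2), (129, 3), (129, 4), (122, 2), (122, 3),
    (122, 4), (339, 3), (574, 0), (574, 1), (574, 4), (711, 3), (1002, 4), (1181, 4), (380, 2),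
    (700, 4), (834, 4), (933, 2), (1098, 0), (1098, 1), (1098, 4), (934, 3), (245, 4), (1216, 3),
    (202, 2), (202, 4), (1092, 2), (1092, 4), (519, 2), (519, 3), (419, 1), (419, 2), (421, 0),
    (421, 1), (421, 3), (421, 4), (831, 4), (665, 3), (750, 2), (750, 4), (1262, 2), (378, 4),
    (701, 2), (701, 4), (201, 4), (703, 3), (161, 4), (325, 4), (151, 4), (63, 4), (61, 0),
    (61, 1), (61, 4), (157, 2), (17, 4), (319, 4), (149, 4), (69, 2), (333, 2), (333, 3),
    (333, 4), (315, 2), (315, 3), (315, 4), (83, 0), (83, 1), (83, 4), (570, 2), (570, 3),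
    (1031, 0), (1031, 1), (1031, 4), (791, 4), (175, 4), (398, 2), (398, 3), (850, 4), (848, 4),
    (40, 0), (40, 1), (40, 4), (128, 0), (128, 1), (128, 4), (164, 2), (164, 3), (170, 4),
    (331, 4), (20, 2), (20, 3), (320, 4), (18, 4), (818, 2), (818, 3), (818, 4), (869, 2),
    (869, 3), (869, 4), (1197, 2), (1197, 3), (932, 4), (530, 2), (530, 3), (736, 0), (736, 1),
    (736, 2), (736, 4), (372, 4), (860, 2), (346, 2), (346, 4), (577, 4), (484, 2), (581, 3),
    (581, 4), (647, 3), (647, 4), (744, 0), (744, 1), (744, 4), (589, 2), (589, 3), (861, 0),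
    (861, 1), (861, 2), (861, 4), (486, 3), (141, 4), (30, 4), (859, 3), (953, 0), (953, 1),
    (953, 3), (644, 0), (644, 1), (644, 4), (366, 4), (959, 3), (95, 2), (95, 3), (95, 4), (85, 2)]

/-- Tree rows of the first level. -/
def topRows3 : List (ℕ × ℕ) := [
    (85, 3), (85, 4), (1063, 3), (819, 0), (819, 1), (819, 4), (239, 3), (877, 4), (210, 2),
    (283, 4), (1073, 4), (1359, 2), (403, 0), (403, 1), (403, 4), (1388, 3), (344, 4), (891, 3),
    (618, 2), (618, 4), (375, 2), (375, 4), (1056, 2), (1056, 3), (783, 2), (528, 0), (528, 1),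
    (528, 3), (528, 4), (636, 2), (636, 3), (424, 4), (867, 3), (237, 4), (632, 2), (632, 3),
    (1006, 2), (1006, 4), (492, 3), (925, 2), (620, 4), (1237, 2), (594, 2), (594, 3), (663, 3),
    (663, 4), (145, 2), (145, 3), (145, 4), (25, 2), (25, 3), (25, 4), (295, 2), (295, 3),
    (35, 0), (35, 1), (35, 4), (258, 2), (258, 3), (135, 4), (194, 0), (194, 1), (194, 4),
    (1032, 0), (1032, 1), (1032, 4), (996, 2), (996, 3), (314, 4), (124, 4), (313, 2), (313, 3),
    (1090, 4), (190, 4), (231, 0), (231, 1), (231, 2), (833, 3), (833, 4), (468, 2), (476, 3),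
    (1309, 2), (1309, 3), (1309, 4), (1210, 2), (1210, 3), (1210, 4), (1382, 2), (1382, 3),
    (904, 2), (1136, 3), (1136, 4), (446, 2), (446, 4), (444, 3), (444, 4), (910, 2), (910, 3),
    (844, 2), (74, 2), (74, 3), (74, 4), (91, 2), (91, 3), (91, 4), (920, 2), (100, 2), (100, 3),
    (100, 4), (183, 2), (183, 3), (183, 4), (1093, 3), (109, 0), (109, 1), (109, 4), (227, 0),
    (227, 1), (227, 4), (605, 2), (203, 3), (56, 4), (328, 4), (304, 3), (469, 3), (1233, 3),
    (306, 2), (452, 2), (661, 2), (1188, 0), (1188, 1), (1188, 4), (884, 0), (884, 1), (884, 4),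
    (510, 2), (510, 3), (1016, 4), (1209, 4), (1346, 2), (1346, 3), (516, 4), (1326, 4),
    (1365, 2), (488, 3), (409, 3), (409, 4), (1155, 3), (1155, 4), (1167, 0), (1167, 1),
    (1167, 4), (1139, 3), (557, 0), (557, 1), (557, 2), (246, 4), (248, 3), (1037, 2), (721, 0),
    (721, 1), (721, 3), (514, 3), (1201, 3), (1144, 3), (752, 2), (752, 4), (338, 2), (338, 4),
    (1344, 3), (1129, 0), (1129, 1), (1129, 2), (1129, 4), (1127, 3), (302, 3), (1158, 3),
    (534, 0), (534, 1), (534, 2), (534, 4), (536, 2), (536, 3), (379, 3), (888, 3), (890, 0),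
    (890, 1), (890, 4), (808, 0), (808, 1), (808, 4), (709, 2), (709, 3), (709, 4), (269, 2),
    (269, 3), (269, 4), (297, 2), (297, 3), (217, 2)]

/-- Tree rows of the first level. -/
def topRows4 : List (ℕ × ℕ) := [
    (217, 3), (723, 4), (130, 0), (130, 1), (195, 0), (195, 1), (195, 4), (719, 3), (123, 4),
    (236, 4), (712, 3), (1272, 0), (1272, 1), (1272, 3), (1001, 3), (1001, 4), (1022, 2),
    (1022, 3), (1022, 4), (1151, 3), (415, 3), (381, 2), (496, 2), (1345, 2), (1403, 2), (406, 4),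
    (1039, 2), (1039, 4), (935, 0), (935, 1), (1217, 3), (732, 2), (1299, 2), (518, 2), (520, 0),
    (520, 1), (520, 3), (418, 2), (1118, 2), (1292, 2), (422, 2), (830, 2), (830, 3), (751, 4),
    (513, 2), (513, 3), (1261, 2), (1261, 4), (1106, 3), (1135, 4), (1288, 2), (969, 2), (969, 3),
    (1147, 3), (1147, 4), (60, 2), (60, 3), (60, 4), (148, 2), (148, 3), (148, 4), (438, 2),
    (158, 0), (158, 1), (158, 4), (356, 2), (70, 4), (334, 0), (334, 1), (334, 4), (177, 0),
    (177, 1), (177, 4), (1089, 2), (1089, 3), (316, 4), (87, 4), (450, 2), (450, 3), (369, 4),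
    (1066, 4), (571, 0), (571, 1), (571, 2), (1072, 3), (1072, 4), (1329, 2), (1329, 3),
    (1329, 4), (872, 2), (872, 3), (872, 4), (1227, 2), (1227, 3), (397, 2), (621, 3), (621, 4),
    (1396, 2), (1396, 3), (39, 2), (39, 3), (39, 4), (169, 2), (169, 3), (169, 4), (648, 2),
    (330, 2), (330, 3), (330, 4), (134, 2), (134, 3), (134, 4), (376, 3), (165, 0), (165, 1),
    (165, 4), (225, 0), (225, 1), (225, 4), (1047, 2), (617, 3), (21, 4), (393, 4), (927, 3),
    (290, 2), (817, 0), (817, 1), (817, 4), (966, 0), (966, 1), (966, 4), (635, 2), (635, 3),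
    (870, 4), (871, 4), (1114, 2), (1114, 3), (1196, 4), (1336, 4), (1109, 2), (531, 3), (857, 3),
    (857, 4), (697, 3), (697, 4), (737, 0), (737, 1), (737, 4), (626, 3), (1034, 0), (1034, 1),
    (1034, 2), (345, 4), (347, 3), (942, 2), (582, 0), (582, 1), (582, 3), (1067, 3), (843, 3),
    (631, 3), (238, 2), (238, 4), (770, 2), (770, 4), (1354, 3), (590, 0), (590, 1), (590, 2),
    (590, 4), (588, 3), (1303, 0), (1303, 1), (1303, 2), (1303, 4), (483, 2), (483, 3), (209, 3),
    (493, 3), (768, 0), (768, 1), (768, 4), (952, 0), (952, 1), (952, 4), (477, 2), (477, 3),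
    (477, 4), (367, 2), (367, 3), (367, 4), (387, 3), (705, 3), (958, 4), (96, 0), (96, 1),
    (1055, 0), (1055, 1), (1055, 4), (584, 3)]

/-- Tree rows of the first level. -/
def topRows5 : List (ℕ × ℕ) := [
    (86, 4), (317, 4), (841, 3), (1062, 0), (1062, 1), (1062, 3), (1029, 3), (1029, 4), (878, 2),
    (878, 3), (878, 4), (691, 3), (961, 3), (211, 2), (1319, 2), (1337, 2), (1360, 2), (738, 4),
    (404, 2), (404, 4), (1362, 0), (1362, 1), (892, 3), (654, 2), (1164, 2), (1242, 2), (1057, 0),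
    (1057, 1), (1057, 3), (524, 2), (461, 2), (1117, 4), (515, 4), (1103, 3), (1080, 3),
    (1060, 2), (633, 3), (643, 3), (660, 2), (1081, 2), (547, 2), (593, 3), (564, 2), (267, 0),
    (267, 1), (267, 3), (267, 4), (257, 2), (689, 3), (689, 4), (296, 2), (294, 0), (294, 1),
    (294, 4), (36, 4), (98, 4), (809, 2), (259, 4), (1014, 2), (234, 4), (400, 4), (277, 2),
    (125, 2), (678, 3), (997, 0), (997, 1), (997, 2), (995, 3), (568, 3), (312, 2), (731, 3),
    (905, 2), (684, 2), (230, 0), (230, 1), (230, 2), (360, 2), (360, 3), (470, 2), (1310, 0),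
    (1310, 1), (1310, 4), (1308, 0), (1308, 1), (1211, 4), (1221, 0), (1221, 1), (1221, 2),
    (309, 2), (1086, 2), (1086, 3), (460, 2), (886, 2), (498, 3), (911, 2), (180, 0), (180, 1),
    (180, 3), (180, 4), (939, 2), (939, 3), (90, 3), (90, 4), (921, 2), (921, 3), (938, 2),
    (802, 2), (802, 4), (742, 2), (604, 2), (604, 4), (1134, 2), (652, 3), (108, 3), (108, 4),
    (57, 3), (57, 4), (214, 2), (214, 3), (329, 2), (226, 2), (763, 2), (763, 3), (606, 2),
    (772, 3), (657, 2), (657, 3), (255, 2), (255, 3), (303, 3), (639, 3), (1234, 0), (1234, 1),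
    (1234, 4), (704, 4), (1265, 4), (613, 4), (301, 2), (1282, 4), (883, 4), (1246, 3), (511, 2),
    (509, 3), (1157, 2), (1293, 3), (1347, 2), (554, 3), (1334, 2), (1372, 3), (1364, 2),
    (1364, 4), (489, 0), (489, 1), (779, 0), (779, 1), (410, 3), (1154, 3), (1203, 4), (1005, 4),
    (913, 2), (1138, 3), (412, 2), (1274, 3), (713, 2), (720, 2), (679, 2), (1343, 2), (1033, 2),
    (1279, 2), (552, 1), (1130, 4), (1270, 3), (1270, 4), (1208, 2), (1208, 4), (980, 4),
    (1357, 4), (916, 4), (1189, 4), (533, 4), (537, 2), (1102, 3), (1248, 3), (1248, 4),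
    (1107, 3), (1107, 4), (1174, 2), (1174, 4), (250, 2), (250, 4), (1214, 3), (754, 0), (754, 1),
    (754, 2), (754, 4), (1052, 2), (1052, 4), (931, 0), (931, 1), (931, 4)]

/-- Tree rows of the first level. -/
def topRows6 : List (ℕ × ℕ) := [
    (1250, 4), (968, 3), (235, 4), (401, 4), (1313, 0), (1313, 1), (1313, 3), (456, 2), (839, 3),
    (1000, 0), (1000, 1), (1000, 4), (1366, 4), (1152, 3), (414, 3), (382, 0), (382, 1), (495, 2),
    (495, 4), (1332, 1), (553, 0), (553, 2), (521, 4), (434, 4), (357, 4), (437, 4), (361, 2),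
    (829, 4), (1116, 4), (1271, 2), (455, 3), (1131, 3), (569, 2), (365, 3), (355, 2), (566, 3),
    (439, 2), (132, 4), (71, 4), (614, 2), (1182, 2), (335, 4), (1053, 4), (1088, 0), (1088, 1),
    (1088, 2), (1163, 3), (449, 2), (546, 3), (474, 2), (1065, 2), (677, 0), (677, 1), (677, 2),
    (1342, 2), (1328, 0), (1328, 1), (1328, 4), (1330, 0), (1330, 1), (873, 4), (896, 0),
    (896, 1), (896, 2), (396, 2), (262, 2), (1392, 2), (127, 4), (776, 2), (800, 4), (718, 2),
    (718, 3), (607, 2), (1044, 4), (963, 4), (616, 2), (1045, 3), (166, 3), (166, 4), (22, 3),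
    (22, 4), (224, 2), (392, 2), (321, 2), (491, 3), (937, 2), (653, 3), (384, 2), (353, 3),
    (928, 0), (928, 1), (928, 4), (291, 4), (634, 2), (1123, 3), (1115, 2), (1113, 3), (1108, 4),
    (858, 0), (858, 1), (826, 3), (696, 3), (853, 4), (1339, 4), (694, 2), (625, 3), (1229, 2),
    (1069, 3), (842, 2), (583, 2), (562, 2), (599, 2), (591, 4), (1059, 4), (866, 2), (866, 4),
    (946, 4), (820, 4), (941, 4), (482, 3), (978, 4), (494, 4), (767, 2), (767, 4), (349, 2),
    (349, 4), (882, 3), (478, 2), (458, 2), (1043, 3), (336, 4), (1054, 4), (1200, 0), (1200, 1),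
    (1200, 3), (876, 3), (1402, 0), (1402, 1), (1402, 4), (1260, 4), (692, 3), (960, 3),
    (1353, 4), (1243, 2), (1296, 4), (782, 4), (462, 2), (1304, 2), (1304, 4), (1071, 3),
    (548, 2), (550, 4), (263, 2), (688, 4), (266, 4), (771, 4), (544, 3), (499, 3), (801, 4),
    (126, 4), (364, 3), (364, 4), (1149, 0), (1149, 1), (567, 4), (964, 4), (950, 4), (179, 4),
    (89, 4), (1050, 4), (957, 4), (799, 4), (651, 4), (391, 2), (764, 3), (1238, 4), (734, 4),
    (656, 2), (254, 3), (300, 0), (300, 1), (1405, 4), (1404, 4), (1324, 2), (490, 2), (1137, 0),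
    (1137, 1), (686, 4), (664, 3), (538, 2), (756, 0), (756, 1), (1173, 0), (1173, 1), (755, 4),
    (1120, 4), (598, 4), (603, 2), (1350, 2), (383, 3)]

/-- Tree rows of the first level. -/
def topRows7 : List (ℕ × ℕ) := [
    (1082, 3), (362, 0), (362, 1), (481, 0), (481, 1), (463, 0), (463, 1)]

/-- The first level. -/
def topLevel : Level where
  pt := 0
  gens := [[0], [1], [2], [3], [4], [5]]
  rows := topRows0 ++ topRows1 ++ topRows2 ++ topRows3 ++ topRows4 ++ topRows5 ++ topRows6 ++ topRows7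

/-- The chain of the stabiliser of the first point. -/
def cChain : List Level := [cLevel0, cLevel1, cLevel2, cLevel3, cLevel4]

end CfsgLib.HNIndex
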