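import Cfsg.Agent.Lib.HNIndex.Items4

/-!
# Derived equations (generated)
-/

set_option autoImplicit false
set_option linter.style.longLine false

namespace CfsgLib.HNIndex

variable {G X : Type} [Group G] [MulAction G X] (C : Ctx G X)

theorem h48522 :
    C.T (v8 C) [0, 0] (v6 C) [4, 3, 0] :=
  C.flip (h48521 C) _ _
    (by decide +kernel) (by decide +kernel)

theorem h48523 :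
    C.S (v6 C) [3, 1, 2, 0, 2, 1, 3, 0, 3, 1, 2, 0, 2, 2, 1, 2, 0, 2, 2, 1, 3, 3, 0, 2, 1, 2, 2, 2, 0, 3, 3, 1, 2, 0, 3, 3, 1, 3, 0, 3] :=
  C.stInv (h39342 C) _ (by decide +kernel)

theorem h48524 :
    C.T (v6 C) [4, 3, 1] (v8 C) [1, 2, 0, 2, 1, 2, 0, 2, 2, 1, 3, 3, 0, 3, 1, 2, 2, 2, 0, 2, 1, 2, 0, 3, 1, 2, 2, 0, 3, 1, 2, 2, 0, 3, 1, 3, 3, 0, 3, 1, 3, 0, 3, 3, 1, 3, 3, 0, 3, 3, 1, 2, 2, 0, 2, 2] :=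
  C.conv (h48521 C) (h48523 C) _ _
    (by decide +kernel) (by decide +kernel)

theorem h48525 :
    C.E (v8 C) [1, 2, 0, 2, 1, 2, 0, 2, 2, 1, 3, 3, 0, 3, 1, 2, 2, 2, 0, 2, 1, 2, 0, 3, 1, 2, 2, 0, 3, 1, 2, 2, 0, 3, 1, 3, 3, 0, 3, 1, 3, 0, 3, 3, 1, 3, 3, 0, 3, 3, 1, 2, 2, 0, 2, 2] (v8 C) [] :=
  C.sameSrc (h48524 C) (h48521 C)

theorem h48526 :
    C.S (v6 C) [2, 2, 1, 3, 3, 0, 2, 1, 2, 2, 0, 3, 3, 1, 2, 0] :=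
  C.stInv (h39345 C) _ (by decide +kernel)

theorem h48527 :
    C.T (v6 C) [4, 3, 1] (v8 C) [1, 2, 0, 3, 1, 3, 0, 2, 1, 2, 0, 3, 1, 3, 3, 0, 2, 2, 1, 3, 3, 0, 3, 1, 2, 2, 0, 3] :=
  C.conv (h48521 C) (h48526 C) _ _
    (by decide +kernel) (by decide +kernel)

theorem h48528 :
    C.E (v8 C) [1, 2, 0, 3, 1, 3, 0, 2, 1, 2, 0, 3, 1, 3, 3, 0, 2, 2, 1, 3, 3, 0, 3, 1, 2, 2, 0, 3] (v8 C) [] :=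
  C.sameSrc (h48527 C) (h48521 C)

theorem h48529 :
    C.S (v8 C) [1, 2, 0, 2, 1, 2, 0, 2, 1, 2, 0, 3, 1, 3, 0, 2, 1, 2, 0, 3, 1, 3, 0, 3, 1, 2, 2, 0, 3, 1, 3, 3, 0, 3, 1, 3, 0, 3, 3, 1, 3, 3, 0, 3, 3, 1, 2, 2, 0, 2, 2] :=
  C.stEq (h48525 C) _ (by decide +kernel)

theorem h49763 :
    C.S (v8 C) [1, 2, 0, 3, 1, 3, 0, 2, 1, 2, 0, 3, 1, 3, 0, 2, 1, 3, 0, 3, 1, 2, 2, 0, 3] :=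
  C.stEq (h48528 C) _ (by decide +kernel)

theorem h51475 :
    C.T (v6 C) [4, 3, 1] (v8 C) [] :=
  C.conv (h48521 C) (h39163 C) _ _
    (by decide +kernel) (by decide +kernel)

theorem h51476 :
    C.T (v6 C) [0, 4, 3, 0] (v6 C) [1, 2, 2, 0, 3, 3, 1, 2, 2, 2, 0, 2, 2, 1, 2, 0, 2, 1, 2, 0, 2, 2, 2, 1, 2, 0, 2, 0, 4, 2, 2, 0, 2, 0, 2, 0] :=
  C.conv (h41033 C) (h39163 C) _ _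
    (by decide +kernel) (by decide +kernel)

theorem h51477 :
    C.T (v6 C) [1, 2, 2, 0, 3, 3, 1, 2, 2, 2, 0, 2, 2, 1, 2, 0, 2, 1, 2, 0, 2, 2, 2, 1, 2, 0, 2, 0, 4, 2, 2, 0, 2, 0, 2, 1] (v6 C) [0, 4, 3, 1] :=
  C.flip (h51476 C) _ _
    (by decide +kernel) (by decide +kernel)

theorem h51478 :
    C.T (v6 C) [2, 1, 3, 3, 0, 3, 1, 2, 2, 2, 0, 2, 1, 2, 0, 3, 1, 2, 2, 0, 2, 2, 1, 3, 3, 0, 2, 1, 2, 0, 2, 1, 2, 0, 2, 2, 2, 1, 2, 0, 2, 4, 2, 2, 0, 2, 0, 2, 0] (v8 C) [1, 2, 0, 2, 1, 2, 2, 0, 2, 1, 3, 0, 3, 1, 2, 0, 2, 2, 1, 2, 0, 2, 2, 1, 3, 3, 0, 2, 1, 2, 0, 3, 3, 1, 3, 3, 0, 3, 3, 1, 2, 2, 0, 2, 2] :=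
  C.conv (h48521 C) (h39335 C) _ _
    (by decide +kernel) (by decide +kernel)

theorem h51479 :
    C.T (v8 C) [1, 2, 0, 2, 1, 2, 2, 0, 2, 1, 3, 0, 3, 1, 2, 0, 2, 2, 1, 2, 0, 2, 2, 1, 3, 3, 0, 2, 1, 2, 0, 3, 3, 1, 3, 3, 0, 3, 3, 1, 2, 2, 0, 2, 2, 0, 0] (v6 C) [2, 1, 3, 3, 0, 3, 1, 2, 2, 2, 0, 2, 1, 2, 0, 3, 1, 2, 2, 0, 2, 2, 1, 3, 3, 0, 2, 1, 2, 0, 2, 1, 2, 0, 2, 2, 2, 1, 2, 0, 2, 4, 2, 2, 0, 2, 0, 2, 1] :=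
  C.flip (h51478 C) _ _
    (by decide +kernel) (by decide +kernel)

theorem h51480 :
    C.E (v8 C) [] (v8 C) [1, 2, 0, 2, 1, 2, 2, 0, 2, 1, 3, 0, 3, 1, 2, 0, 2, 2, 1, 2, 0, 2, 2, 1, 3, 3, 0, 2, 1, 2, 0, 3, 3, 1, 3, 3, 0, 3, 3, 1, 2, 2, 0, 2, 2, 0, 0] :=
  C.closeE (A := [none]) (B := [none, some [1], some [0, 0], none, some [0, 0, 0]])
    (C.pT (h51475 C)
    (C.pNil (v8 C) []))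
    (C.pT (h51479 C)
    (C.pH [1] [1, 2, 2, 0, 3, 3, 1, 2, 2, 2, 0, 2, 2, 1, 2, 0, 2, 1, 2, 0, 2, 2, 2, 1, 2, 0, 2, 0, 4, 2, 2, 0, 2, 0, 2, 0] (by decide +kernel)
    (C.pH [0, 0] [1, 2, 2, 0, 3, 3, 1, 2, 2, 2, 0, 2, 2, 1, 2, 0, 2, 1, 2, 0, 2, 2, 2, 1, 2, 0, 2, 0, 4, 2, 2, 0, 2, 0, 2, 1] (by decide +kernel)
    (C.pT (h51477 C)
    (C.pH [0, 0, 0] [4, 3, 1] (by decide +kernel)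
    (C.pNil (v6 C) [4, 3, 1])))))) C.relTwo

theorem h51481 :
    C.S (v8 C) [1, 2, 0, 2, 1, 2, 2, 0, 2, 1, 3, 0, 3, 1, 2, 0, 2, 2, 1, 2, 0, 2, 2, 1, 3, 3, 0, 2, 1, 2, 0, 3, 3, 1, 3, 3, 0, 3, 3, 1, 2, 2, 0, 2, 2, 0, 0] :=
  C.stEq (h51480 C) _ (by decide +kernel)

theorem h51482 :
    C.S (v8 C) [] :=
  C.stOne _

theorem h51483 :
    C.S (v8 C) [1, 2, 0, 2, 1, 2, 2, 0, 2, 1, 3, 0, 3, 1, 2, 0, 2, 2, 1, 2, 0, 2, 2, 1, 3, 3, 0, 2, 1, 2, 0, 3, 3, 1, 3, 3, 0, 3, 3, 1, 2, 2, 0, 2, 2, 0, 0] :=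
  C.stMul (h51482 C) (h51481 C) _
    (by decide +kernel)

theorem h53049 :
    C.S (v8 C) [1, 2, 0, 2, 1, 2, 2, 0, 2, 1, 3, 0, 3, 1, 2, 0, 2, 2, 1, 2, 0, 2, 2, 1, 3, 3, 0, 2, 1, 2, 0, 3, 3, 1, 3, 3, 0, 3, 3, 1, 2, 2, 0, 2, 2, 0, 0] :=
  C.stInv (h51483 C) _ (by decide +kernel)

theorem h53050 :
    C.T (v8 C) [] (v6 C) [1, 2, 0, 2, 1, 2, 2, 0, 2, 1, 3, 0, 3, 1, 2, 0, 2, 2, 1, 2, 0, 2, 2, 1, 3, 3, 0, 2, 1, 2, 0, 3, 3, 1, 3, 3, 0, 3, 3, 1, 2, 2, 0, 2, 2, 4, 3, 0] :=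
  C.conv (h48522 C) (h53049 C) _ _
    (by decide +kernel) (by decide +kernel)

theorem h53057 :
    C.T (v6 C) [4, 3, 1] (v8 C) [] :=
  C.conv (h48521 C) (h39163 C) _ _
    (by decide +kernel) (by decide +kernel)

theorem h53058 :
    C.T (v6 C) [3, 0] (v6 C) [1, 2, 0, 2, 1, 2, 0, 2, 1, 2, 2, 0, 3, 3, 1, 2, 2, 2, 0, 2, 1, 2, 2, 0, 3, 3, 3, 1, 2, 2, 0, 3, 1, 3, 3, 0, 3, 1, 3, 0, 3, 1, 2, 0, 2, 1, 2, 0, 2, 1] :=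
  C.conv (h39119 C) (h39163 C) _ _
    (by decide +kernel) (by decide +kernel)

theorem h53059 :
    C.T (v6 C) [1, 2, 0, 2, 1, 2, 0, 2, 1, 2, 2, 0, 3, 3, 1, 2, 2, 2, 0, 2, 1, 2, 2, 0, 3, 3, 3, 1, 2, 2, 0, 3, 1, 3, 3, 0, 3, 1, 3, 0, 3, 1, 2, 0, 2, 1, 2, 0, 2, 0] (v6 C) [3, 1] :=
  C.flip (h53058 C) _ _
    (by decide +kernel) (by decide +kernel)

theorem h53060 :
    C.T (v6 C) [1, 2, 0, 2, 1, 2, 0, 2, 1, 2, 2, 0, 3, 3, 1, 2, 2, 2, 0, 2, 1, 2, 2, 0, 3, 3, 3, 1, 2, 2, 0, 3, 1, 3, 3, 0, 3, 1, 3, 0, 3, 1, 2, 0, 3, 4, 2, 2, 0, 2, 0, 2, 0] (v8 C) [3, 1, 3, 0, 2, 2, 1, 3, 3, 0, 3, 1, 2, 2, 0, 3] :=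
  C.conv (h48521 C) (h39335 C) _ _
    (by decide +kernel) (by decide +kernel)

theorem h53061 :
    C.T (v8 C) [3, 1, 3, 0, 2, 2, 1, 3, 3, 0, 3, 1, 2, 2, 0, 3, 0, 0] (v6 C) [1, 2, 0, 2, 1, 2, 0, 2, 1, 2, 2, 0, 3, 3, 1, 2, 2, 2, 0, 2, 1, 2, 2, 0, 3, 3, 3, 1, 2, 2, 0, 3, 1, 3, 3, 0, 3, 1, 3, 0, 3, 1, 2, 0, 3, 4, 2, 2, 0, 2, 0, 2, 1] :=
  C.flip (h53060 C) _ _
    (by decide +kernel) (by decide +kernel)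

theorem h53062 :
    C.E (v8 C) [4] (v8 C) [3, 1, 3, 0, 2, 2, 1, 3, 3, 0, 3, 1, 2, 2, 0, 3, 0, 0] :=
  C.closeE (A := [none, some [4]]) (B := [none, some [4], none, some [4]])
    (C.pT (h53057 C)
    (C.pH [4] [4] (by decide +kernel)
    (C.pNil (v8 C) [4])))
    (C.pT (h53061 C)
    (C.pH [4] [1, 2, 0, 2, 1, 2, 0, 2, 1, 2, 2, 0, 3, 3, 1, 2, 2, 2, 0, 2, 1, 2, 2, 0, 3, 3, 3, 1, 2, 2, 0, 3, 1, 3, 3, 0, 3, 1, 3, 0, 3, 1, 2, 0, 2, 1, 2, 0, 2, 0] (by decide +kernel)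
    (C.pT (h53059 C)
    (C.pH [4] [4, 3, 1] (by decide +kernel)
    (C.pNil (v6 C) [4, 3, 1]))))) C.relOne

theorem h53063 :
    C.S (v8 C) [3, 1, 3, 0, 2, 2, 1, 3, 3, 0, 3, 1, 2, 2, 0, 3, 0, 0, 4] :=
  C.stEq (h53062 C) _ (by decide +kernel)

theorem h54564 :
    C.T (v6 C) [0, 4, 3, 1] (v6 C) [1, 2, 0, 2, 2, 2, 1, 3, 3, 0, 2, 2, 1, 3, 0, 3, 1, 3, 3, 0, 0, 4, 2, 2, 2, 0, 3, 1, 2, 4] :=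
  C.conv (h41006 C) (h39163 C) _ _
    (by decide +kernel) (by decide +kernel)

theorem h54565 :
    C.T (v6 C) [1, 2, 0, 2, 2, 2, 1, 3, 3, 0, 2, 2, 1, 3, 0, 3, 1, 3, 3, 0, 0, 4, 2, 2, 2, 0, 3, 1, 2, 4] (v8 C) [1, 2, 0, 2, 1, 2, 0, 2, 2, 1, 3, 3, 0, 3, 1, 2, 2, 2, 0, 2, 1, 2, 0, 3, 1, 2, 2, 0, 3, 1, 3, 3, 0, 3, 3, 1, 2, 2, 0, 2, 2] :=
  C.conv (h48521 C) (h39339 C) _ _
    (by decide +kernel) (by decide +kernel)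

theorem h54566 :
    C.T (v6 C) [4, 3, 1] (v8 C) [] :=
  C.conv (h48521 C) (h39163 C) _ _
    (by decide +kernel) (by decide +kernel)

theorem h54567 :
    C.T (v8 C) [0, 0] (v6 C) [4, 3, 0] :=
  C.flip (h54566 C) _ _
    (by decide +kernel) (by decide +kernel)

theorem h54568 :
    C.E (v8 C) [1, 2, 0, 2, 1, 2, 0, 2, 1, 2, 2, 0, 3, 3, 1, 2, 2, 2, 0, 2, 1, 2, 2, 0, 3, 3, 1, 3, 0, 2, 2, 1, 3, 0, 3, 3, 1, 3, 3, 0, 3, 3, 1, 2, 2, 0, 2, 2, 0] (v8 C) [0, 0] :=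
  C.closeE (A := [none, none, some [1], some [0, 0]]) (B := [none, some [0, 0, 0]])
    (C.pT (h54564 C)
    (C.pT (h54565 C)
    (C.pH [1] [1, 2, 0, 2, 1, 2, 0, 2, 1, 2, 2, 0, 3, 3, 1, 2, 2, 2, 0, 2, 1, 2, 2, 0, 3, 3, 1, 3, 0, 2, 2, 1, 3, 0, 3, 3, 1, 3, 3, 0, 3, 3, 1, 2, 2, 0, 2, 2, 1] (by decide +kernel)
    (C.pH [0, 0] [1, 2, 0, 2, 1, 2, 0, 2, 1, 2, 2, 0, 3, 3, 1, 2, 2, 2, 0, 2, 1, 2, 2, 0, 3, 3, 1, 3, 0, 2, 2, 1, 3, 0, 3, 3, 1, 3, 3, 0, 3, 3, 1, 2, 2, 0, 2, 2, 0] (by decide +kernel)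
    (C.pNil (v8 C) [1, 2, 0, 2, 1, 2, 0, 2, 1, 2, 2, 0, 3, 3, 1, 2, 2, 2, 0, 2, 1, 2, 2, 0, 3, 3, 1, 3, 0, 2, 2, 1, 3, 0, 3, 3, 1, 3, 3, 0, 3, 3, 1, 2, 2, 0, 2, 2, 0])))))
    (C.pT (h54567 C)
    (C.pH [0, 0, 0] [0, 4, 3, 1] (by decide +kernel)
    (C.pNil (v6 C) [0, 4, 3, 1]))) C.relTwo

theorem h54569 :
    C.S (v8 C) [1, 2, 0, 2, 1, 2, 0, 2, 2, 1, 3, 3, 0, 3, 1, 2, 2, 2, 0, 2, 1, 2, 0, 3, 1, 2, 2, 0, 3, 1, 3, 3, 0, 3, 3, 1, 2, 2, 0, 2, 2, 0] :=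
  C.stEq (h54568 C) _ (by decide +kernel)

theorem h56023 :
    C.T (v6 C) [2, 1, 3, 3, 0, 3, 1, 2, 2, 2, 0, 2, 1, 2, 0, 3, 1, 2, 2, 2, 2, 0, 2, 2, 2, 1, 3, 3, 0, 2, 2, 2, 1, 2, 0, 3, 1, 3, 4, 3, 4, 3, 4, 3, 4] (v6 C) [3, 1, 2, 0, 2, 1, 3, 0, 3, 1, 2, 0, 2, 2, 1, 3, 0, 3, 3, 3, 1, 3, 0, 2, 0, 4, 2, 2, 0, 4, 2, 0] :=
  C.conv (h40981 C) (h40663 C) _ _
    (by decide +kernel) (by decide +kernel)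

theorem h56024 :
    C.T (v6 C) [1, 2, 0, 3, 1, 3, 0, 2, 1, 2, 0, 3, 1, 3, 3, 0, 2, 2, 1, 3, 0, 3, 3, 1, 3, 3, 0, 3, 3, 1, 2, 2, 0, 2, 2, 2, 2, 2, 1, 3, 0, 3, 3, 1, 3, 0, 4, 2, 2, 0, 2, 0, 2, 0] (v8 C) [1, 2, 2, 0, 3, 3, 1, 2, 2, 2, 0, 2, 2, 1, 2, 0, 2, 1, 2, 0, 3, 1, 3, 0, 3, 1, 2, 0, 2, 2] :=
  C.conv (h48521 C) (h39335 C) _ _
    (by decide +kernel) (by decide +kernel)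

theorem h56025 :
    C.T (v6 C) [2, 1, 3, 3, 0, 3, 1, 2, 2, 2, 0, 2, 1, 2, 0, 3, 1, 2, 0, 2, 2, 1, 3, 0, 3, 1, 2, 0, 3, 1, 2, 2, 2, 0, 4, 2, 2, 0, 2, 0, 3, 0, 2] (v8 C) [1, 2, 0, 2, 1, 2, 0, 2, 1, 3, 0, 3, 1, 2, 2, 0, 3, 3, 1, 3, 3, 0, 3, 3, 1, 3, 0, 2, 1, 3, 0] :=
  C.conv (h48521 C) (h39331 C) _ _
    (by decide +kernel) (by decide +kernel)

theorem h56026 :
    C.T (v8 C) [1, 2, 0, 2, 1, 2, 0, 2, 1, 3, 0, 3, 1, 2, 2, 0, 3, 3, 1, 3, 3, 0, 3, 3, 1, 3, 0, 2, 1, 3, 0, 0, 0] (v6 C) [2, 1, 3, 3, 0, 3, 1, 2, 2, 2, 0, 2, 1, 2, 0, 3, 1, 2, 0, 2, 2, 1, 3, 0, 3, 1, 2, 0, 3, 1, 2, 2, 2, 0, 4, 2, 2, 0, 2, 0, 3, 1, 2] :=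
  C.flip (h56025 C) _ _
    (by decide +kernel) (by decide +kernel)

theorem h56027 :
    C.E (v8 C) [1, 2, 2, 0, 3, 3, 1, 2, 2, 2, 0, 2, 2, 1, 2, 0, 2, 1, 2, 0, 3, 1, 3, 0, 3, 1, 2, 0, 3, 4, 2, 2, 2] (v8 C) [1, 2, 0, 2, 1, 2, 0, 2, 1, 3, 0, 3, 1, 2, 2, 0, 3, 3, 1, 3, 3, 0, 3, 3, 1, 3, 0, 2, 1, 3, 0, 0, 0] :=
  C.closeE (A := [none, some [4], none, some [4]]) (B := [none, some [4]])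
    (C.pT (h56023 C)
    (C.pH [4] [1, 2, 0, 3, 1, 3, 0, 2, 1, 2, 0, 3, 1, 3, 3, 0, 2, 2, 1, 3, 0, 3, 3, 1, 3, 3, 0, 3, 3, 1, 2, 2, 0, 2, 2, 2, 2, 2, 1, 3, 0, 3, 3, 1, 3, 0, 4, 2, 2, 0, 2, 0, 2, 0] (by decide +kernel)
    (C.pT (h56024 C)
    (C.pH [4] [1, 2, 2, 0, 3, 3, 1, 2, 2, 2, 0, 2, 2, 1, 2, 0, 2, 1, 2, 0, 3, 1, 3, 0, 3, 1, 2, 0, 3, 4, 2, 2, 2] (by decide +kernel)
    (C.pNil (v8 C) [1, 2, 2, 0, 3, 3, 1, 2, 2, 2, 0, 2, 2, 1, 2, 0, 2, 1, 2, 0, 3, 1, 3, 0, 3, 1, 2, 0, 3, 4, 2, 2, 2])))))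
    (C.pT (h56026 C)
    (C.pH [4] [2, 1, 3, 3, 0, 3, 1, 2, 2, 2, 0, 2, 1, 2, 0, 3, 1, 2, 2, 2, 2, 0, 2, 2, 2, 1, 3, 3, 0, 2, 2, 2, 1, 2, 0, 3, 1, 3, 4, 3, 4, 3, 4, 3, 4] (by decide +kernel)
    (C.pNil (v6 C) [2, 1, 3, 3, 0, 3, 1, 2, 2, 2, 0, 2, 1, 2, 0, 3, 1, 2, 2, 2, 2, 0, 2, 2, 2, 1, 3, 3, 0, 2, 2, 2, 1, 2, 0, 3, 1, 3, 4, 3, 4, 3, 4, 3, 4]))) C.relOne

theorem h56028 :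
    C.S (v8 C) [1, 2, 0, 2, 1, 2, 2, 0, 2, 1, 3, 0, 3, 1, 2, 0, 2, 2, 2, 2, 1, 3, 0, 3, 1, 2, 2, 2, 0, 3, 1, 2, 2, 0, 3, 3, 1, 2, 2, 0, 2, 2, 0, 4, 3, 3, 1] :=
  C.stEq (h56027 C) _ (by decide +kernel)

theorem h56029 :
    C.S (v8 C) [] :=
  C.stOne _

theorem h56030 :
    C.S (v8 C) [1, 2, 0, 2, 1, 2, 2, 0, 2, 1, 3, 0, 3, 1, 2, 0, 2, 2, 1, 2, 0, 2, 2, 1, 3, 3, 0, 2, 1, 2, 0, 3, 3, 1, 3, 3, 0, 3, 3, 1, 2, 2, 0, 2, 2, 0, 0] :=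
  C.stMul (h56029 C) (h51481 C) _
    (by decide +kernel)

theorem h57460 :
    C.T (v8 C) [2, 2, 2, 1, 2, 0, 3, 0, 0] (v6 C) [2, 2, 2, 1, 2, 0, 3, 4, 3, 0] :=
  C.conv (h53050 C) (h56030 C) _ _
    (by decide +kernel) (by decide +kernel)

theorem h57461 :
    C.T (v6 C) [2, 2, 2, 1, 2, 0, 3, 4, 3, 1] (v8 C) [2, 2, 2, 1, 2, 0, 3] :=
  C.flip (h57460 C) _ _
    (by decide +kernel) (by decide +kernel)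

theorem h57462 :
    C.T (v6 C) [1, 2, 0, 2, 1, 2, 0, 2, 1, 2, 0, 3, 1, 3, 0, 2, 1, 2, 0, 3, 1, 3, 0, 3, 1, 2, 2, 0, 3, 1, 3, 3, 0, 3, 1, 3, 0, 3, 1, 2, 2, 0, 2, 1, 2, 2, 2, 0, 0, 4, 2, 2, 2, 0, 3, 1, 2, 4] (v8 C) [1, 2, 2, 0, 3, 3, 1, 2, 2, 2, 0, 2, 2, 1, 2, 0, 2, 2, 1, 2, 2, 0, 2, 1, 2, 2, 0, 2, 2, 2, 2, 2, 1, 2, 0, 3] :=
  C.conv (h48521 C) (h39339 C) _ _
    (by decide +kernel) (by decide +kernel)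

theorem h57463 :
    C.T (v8 C) [1, 2, 2, 0, 3, 3, 1, 2, 2, 2, 0, 2, 2, 1, 2, 0, 2, 2, 1, 2, 2, 0, 2, 1, 2, 2, 0, 2, 2, 2, 2, 2, 1, 2, 0, 3, 0, 0] (v6 C) [1, 2, 0, 2, 1, 2, 0, 2, 1, 2, 0, 3, 1, 3, 0, 2, 1, 2, 0, 3, 1, 3, 0, 3, 1, 2, 2, 0, 3, 1, 3, 3, 0, 3, 1, 3, 0, 3, 1, 2, 2, 0, 2, 1, 2, 2, 2, 0, 0, 4, 2, 2, 2, 0, 3, 0, 2, 4] :=
  C.flip (h57462 C) _ _
    (by decide +kernel) (by decide +kernel)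

theorem h57464 :
    C.T (v8 C) [4, 2, 2, 2, 0, 2, 1, 3] (v8 C) [1, 2, 2, 0, 3, 3, 1, 2, 2, 2, 0, 2, 2, 1, 2, 0, 2, 2, 1, 2, 2, 0, 2, 1, 2, 2, 0, 2, 2, 4, 2, 2, 2, 0, 2, 0, 3] :=
  C.closeT (A := []) (B := [some [4], none, some [4], none, some [4]])
    (C.pNil (v8 C) [4, 2, 2, 2, 0, 2, 1, 3])
    (C.pH [4] [1, 2, 2, 0, 3, 3, 1, 2, 2, 2, 0, 2, 2, 1, 2, 0, 2, 2, 1, 2, 2, 0, 2, 1, 2, 2, 0, 2, 2, 2, 2, 2, 1, 2, 0, 3, 0, 0] (by decide +kernel)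
    (C.pT (h57463 C)
    (C.pH [4] [2, 2, 2, 1, 2, 0, 3, 4, 3, 1] (by decide +kernel)
    (C.pT (h57461 C)
    (C.pH [4] [4, 2, 2, 2, 0, 2, 1, 3] (by decide +kernel)
    (C.pNil (v8 C) [4, 2, 2, 2, 0, 2, 1, 3])))))) C.relOne

theorem h57475 :
    C.S (v1 C) [] :=
  C.stOne _

theorem h57476 :
    C.S (v1 C) [1, 2, 0, 3, 1, 3, 0, 2, 1, 2, 0, 3, 1, 3, 0, 2, 2, 1, 3, 3, 0, 2, 1, 2, 0, 3, 1, 2, 2, 0, 2, 2, 2, 1, 2, 0, 2, 2, 2, 1, 2, 0, 2] :=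
  C.stMul (h57475 C) (h1432 C) _
    (by decide +kernel)

theorem h57477 :
    C.S (v1 C) [2, 1, 3, 3, 0, 3, 1, 2, 2, 2, 0, 2, 1, 2, 0, 3, 1, 2, 0, 2, 2, 1, 3, 3, 0, 3, 1, 2, 2, 0, 3, 1, 3, 0, 2, 2, 2, 1, 2, 0, 2, 2, 2, 1, 2, 0, 2, 2, 1, 2, 0] :=
  C.stMul (h57475 C) (h2458 C) _
    (by decide +kernel)

theorem h57478 :
    C.S (v1 C) [1, 2, 0, 2, 1, 2, 0, 2, 1, 2, 2, 0, 3, 3, 1, 2, 2, 2, 0, 2, 1, 2, 2, 0, 3, 3, 3, 1, 2, 2, 0, 3, 1, 3, 3, 0, 3, 1, 3, 0, 2, 2, 1, 3, 3, 3, 0, 2, 1, 2, 0] :=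
  C.stMul (h57476 C) (h2458 C) _
    (by decide +kernel)

theorem h57479 :
    C.S (v1 C) [2, 1, 3, 3, 0, 3, 1, 2, 2, 2, 0, 2, 1, 2, 0, 3, 1, 2, 2, 0, 3, 1, 2, 2, 0, 3, 1, 3, 3, 0, 3, 1, 3, 0, 2, 1, 2, 2, 0, 2, 1, 3, 0, 3, 3, 1, 3, 0, 2, 2, 2, 1, 2, 0, 2, 2, 1, 2, 0] :=
  C.stMul (h57477 C) (h1432 C) _
    (by decide +kernel)

theorem h57480 :
    C.S (v1 C) [3, 1, 3, 0, 2, 2, 1, 3, 0, 2, 1, 2, 0, 2, 2, 1, 3, 0, 2, 2, 1, 2, 0, 3, 1, 3, 0, 2] :=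
  C.stInv (h57477 C) _ (by decide +kernel)

theorem h57481 :
    C.S (v1 C) [1, 2, 0, 3, 1, 3, 0, 2, 1, 2, 0, 3, 1, 3, 0, 2, 2, 1, 3, 3, 0, 2, 1, 2, 0, 3, 1, 3, 3, 0, 3, 3, 1, 2, 0, 3] :=
  C.stMul (h57479 C) (h57480 C) _
    (by decide +kernel)

theorem h57482 :
    C.S (v1 C) [] :=
  C.stOne _

theorem h57483 :
    C.S (v1 C) [1, 2, 0, 3, 1, 3, 0, 2, 1, 2, 0, 3, 1, 3, 0, 2, 2, 1, 3, 3, 0, 2, 1, 2, 0, 3, 1, 3, 3, 0, 3, 3, 1, 2, 0, 3] :=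
  C.stMul (h57482 C) (h57481 C) _
    (by decide +kernel)

theorem h57484 :
    C.S (v1 C) [1, 2, 2, 0, 3, 3, 1, 2, 2, 2, 0, 2, 1, 2, 2, 0, 3, 1, 3, 0, 3, 1, 2, 2, 2, 0, 3, 3, 1, 2, 2, 2, 2, 0] :=
  C.stMul (h57477 C) (h2458 C) _
    (by decide +kernel)

theorem h57486 :
    C.S (v1 C) [1, 2, 0, 2, 1, 2, 0, 2, 1, 2, 2, 0, 3, 3, 1, 2, 2, 2, 0, 2, 2, 1, 2, 0, 3, 1, 2, 2, 2, 0, 2, 2, 2, 1, 2, 0] :=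
  C.stMul (h57478 C) (h2458 C) _
    (by decide +kernel)

theorem h57487 :
    C.S (v1 C) [1, 2, 0, 3, 1, 3, 0, 2, 1, 2, 0, 3, 1, 3, 0, 2, 2, 1, 3, 3, 0, 2, 1, 2, 0, 3, 1, 2, 2, 0, 2, 1, 2, 0, 2, 2] :=
  C.stMul (h57484 C) (h1432 C) _
    (by decide +kernel)

theorem h57488 :
    C.S (v1 C) [1, 2, 0, 2, 1, 2, 2, 0, 2, 1, 3, 0, 3, 1, 2, 0, 2, 2, 2, 2, 1, 3, 3, 0, 3, 1, 2, 2, 0, 3, 3, 1, 2, 2, 0, 2, 2, 1, 3, 0, 3, 3, 1, 3, 0, 2, 1, 2, 0, 3] :=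
  C.stMul (h57484 C) (h2458 C) _
    (by decide +kernel)

theorem h57491 :
    C.S (v1 C) [1, 2, 0, 2, 1, 2, 0, 2, 2, 1, 3, 3, 0, 3, 1, 2, 2, 2, 0, 2, 1, 2, 0, 3, 1, 2, 2, 2, 2, 2, 0, 2, 2, 2, 2, 1, 3, 0, 3] :=
  C.stMul (h57486 C) (h2458 C) _
    (by decide +kernel)

theorem h57492 :
    C.S (v1 C) [1, 2, 2, 0, 3, 3, 1, 2, 2, 2, 0, 2, 1, 2, 2, 0, 3, 3, 1, 3, 0, 2, 2, 1, 3, 0, 2, 1, 3, 0, 2, 1, 2, 0, 2, 1, 3, 0, 3, 1, 2, 2, 0] :=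
  C.stMul (h57487 C) (h2458 C) _
    (by decide +kernel)

theorem h57494 :
    C.S (v1 C) [1, 2, 2, 0, 3, 3, 1, 2, 2, 2, 0, 2, 1, 2, 2, 0, 3, 3, 1, 3, 0, 2, 2, 1, 3, 0, 3, 1, 2, 2, 0, 2, 2, 1, 3, 0, 2, 2, 2, 1, 3, 0, 3, 3, 1, 3, 0] :=
  C.stMul (h57488 C) (h2458 C) _
    (by decide +kernel)

theorem h57498 :
    C.S (v1 C) [1, 2, 0, 2, 1, 2, 0, 2, 1, 2, 0, 3, 1, 3, 0, 2, 1, 2, 0, 3, 1, 3, 0, 2, 2, 1, 3, 3, 0, 2, 1, 2, 0, 2, 1, 2, 2, 0, 2, 1, 3, 0, 3, 3, 1, 3, 0, 2, 2, 2, 1, 3, 0, 3, 3, 1, 3, 0] :=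
  C.stMul (h57491 C) (h1432 C) _
    (by decide +kernel)

theorem h57499 :
    C.S (v1 C) [1, 2, 0, 2, 1, 2, 2, 0, 2, 1, 3, 0, 3, 1, 2, 0, 2, 2, 2, 2, 1, 3, 3, 0, 3, 1, 2, 2, 0, 3, 3, 1, 2, 2, 0, 2, 2, 1, 3, 0, 3, 3, 1, 3, 0, 2, 1, 2, 0, 3] :=
  C.stInv (h57494 C) _ (by decide +kernel)

theorem h57500 :
    C.S (v1 C) [1, 2, 0, 2, 1, 2, 0, 2, 1, 2, 0, 3, 1, 3, 0, 2, 1, 2, 0, 3, 1, 3, 0, 2, 2, 1, 3, 3, 0, 2, 1, 2, 0, 2, 1, 3, 0, 2, 2, 1, 3, 0, 2] :=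
  C.stMul (h57498 C) (h57499 C) _
    (by decide +kernel)

theorem h57501 :
    C.S (v1 C) [1, 2, 0, 2, 1, 2, 0, 2, 1, 2, 0, 3, 1, 3, 0, 2, 1, 2, 0, 3, 1, 3, 0, 2, 2, 1, 3, 3, 0, 2, 1, 2, 0, 2, 1, 3, 0, 2, 2, 1, 3, 0, 2] :=
  C.stMul (h57482 C) (h57500 C) _
    (by decide +kernel)

theorem h57502 :
    C.S (v1 C) [1, 2, 0, 2, 2, 2, 1, 3, 0, 3, 1, 2, 2, 2, 0, 2] :=
  C.stMul (h57483 C) (h57500 C) _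
    (by decide +kernel)

theorem h57503 :
    C.S (v1 C) [2, 1, 3, 3, 0, 3, 1, 2, 2, 2, 0, 2, 1, 2, 0, 3, 1, 2, 0, 2, 2, 1, 3, 3, 0, 3, 1, 2, 0, 2, 1, 2, 0, 2, 1, 3, 0, 3] :=
  C.stMul (h57501 C) (h57481 C) _
    (by decide +kernel)

theorem h57504 :
    C.S (v1 C) [3, 1, 3, 0, 2, 2, 1, 3, 0, 3, 1, 2, 2, 0, 2, 2, 2, 1, 3, 3, 0, 2] :=
  C.stMul (h57502 C) (h57481 C) _
    (by decide +kernel)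

theorem h57506 :
    C.S (v1 C) [1, 2, 0, 3, 1, 3, 0, 2, 1, 2, 0, 3, 1, 3, 0, 2, 2, 1, 3, 3, 0, 2, 1, 2, 0, 2, 1, 3, 0, 2, 2, 1, 3, 0, 2, 2, 2, 1, 2, 0, 3, 1, 3, 0] :=
  C.stMul (h57492 C) (h1432 C) _
    (by decide +kernel)

theorem h57507 :
    C.S (v1 C) [1, 2, 0, 2, 1, 2, 0, 2, 1, 2, 0, 3, 1, 3, 0, 2, 1, 2, 0, 3, 1, 3, 0, 2, 2, 1, 3, 3, 0, 2, 1, 2, 0, 3, 1, 2, 2, 0, 2, 2, 2, 1, 3, 3, 0, 2, 2, 2, 1, 2, 0, 3, 1, 3, 0] :=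
  C.stMul (h57492 C) (h2458 C) _
    (by decide +kernel)

theorem h57508 :
    C.S (v1 C) [1, 2, 0, 2, 1, 2, 0, 2, 2, 1, 3, 3, 0, 3, 1, 2, 2, 2, 0, 2, 1, 2, 0, 3, 1, 2, 2, 0, 3, 1, 2, 2, 0, 3, 1, 3, 3, 0, 3, 1, 3, 0, 2, 1, 2, 0, 2, 2, 2, 1, 2, 2, 0, 3, 3, 3, 1, 3, 0, 3] :=
  C.stInv (h57506 C) _ (by decide +kernel)

theorem h57509 :
    C.S (v1 C) [1, 2, 0, 3, 1, 3, 0, 2, 1, 2, 0, 3, 1, 3, 0, 2, 2, 1, 3, 3, 0, 2, 1, 2, 0, 2, 1, 3, 0, 2, 2, 1, 3, 0, 2] :=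
  C.stMul (h57507 C) (h57508 C) _
    (by decide +kernel)

theorem h57510 :
    C.S (v1 C) [1, 2, 0, 2, 1, 2, 0, 2, 1, 2, 0, 3, 1, 3, 0, 2, 1, 2, 0, 3, 1, 3, 0, 2, 2, 1, 3, 3, 0, 2, 1, 2, 0, 2, 1, 3, 0, 2, 2, 1, 3, 0, 2] :=
  C.stInv (h57501 C) _ (by decide +kernel)

theorem h57511 :
    C.S (v1 C) [1, 2, 0, 2, 1, 2, 0, 2] :=
  C.stMul (h57509 C) (h57510 C) _
    (by decide +kernel)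

theorem h57512 :
    C.S (v1 C) [] :=
  C.stOne _

theorem h57513 :
    C.S (v1 C) [1, 2, 0, 2, 1, 2, 0, 2] :=
  C.stMul (h57512 C) (h57511 C) _
    (by decide +kernel)

theorem h57514 :
    C.S (v1 C) [1, 2, 0, 2, 1, 2, 0, 2, 1, 2, 2, 0, 3, 3, 1, 2, 2, 2, 0, 2, 1, 2, 2, 0, 3, 1, 3, 0, 3, 1, 2, 2, 2, 0, 2, 2, 2, 1, 2, 2, 0, 3] :=
  C.stMul (h57483 C) (h57511 C) _
    (by decide +kernel)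

theorem h57515 :
    C.S (v1 C) [1, 2, 0, 2, 1, 2, 0, 2, 1, 2, 2, 0, 3, 3, 1, 2, 2, 2, 0, 2, 1, 2, 2, 0, 3, 1, 3, 0, 3, 1, 2, 0, 2, 1, 2, 0, 2, 1, 3, 0, 3] :=
  C.stMul (h57501 C) (h57511 C) _
    (by decide +kernel)

theorem h57516 :
    C.S (v1 C) [1, 2, 0, 2, 2, 2, 1, 3, 0, 3, 1, 2, 2, 2, 0, 2] :=
  C.stInv (h57503 C) _ (by decide +kernel)

theorem h57517 :
    C.S (v1 C) [3, 1, 3, 0, 2, 2, 1, 3, 0] :=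
  C.stMul (h57515 C) (h57516 C) _
    (by decide +kernel)

theorem h57518 :
    C.S (v1 C) [] :=
  C.stOne _

theorem h57519 :
    C.S (v1 C) [3, 1, 3, 0, 2, 2, 1, 3, 0] :=
  C.stMul (h57518 C) (h57517 C) _
    (by decide +kernel)

theorem h57546 :
    C.S (v1 C) [1, 2, 0, 2, 1, 2, 0, 2, 1, 2, 2, 0, 3, 3, 1, 2, 2, 2, 0, 2, 1, 2, 2, 0, 3, 3, 1, 3, 0, 2, 2, 1, 3, 0, 2, 1, 2, 0, 2, 2, 2, 1, 2, 2, 0, 3] :=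
  C.stMul (h57504 C) (h4010 C) _
    (by decide +kernel)

theorem h57547 :
    C.S (v1 C) [1, 2, 0, 2, 1, 2, 0, 2, 1, 2, 0, 3, 1, 3, 0, 2, 1, 2, 0, 3, 1, 3, 0, 2, 2, 1, 3, 3, 0, 2, 1, 2, 0, 3, 1, 3, 3, 0, 3, 3, 1, 2, 0, 3] :=
  C.stInv (h57514 C) _ (by decide +kernel)

theorem h57548 :
    C.S (v1 C) [3, 1, 2, 0, 2, 1, 3, 0, 3, 1, 2, 0, 2, 2, 2, 2, 1, 3, 3, 0, 3, 1, 2, 2, 0, 3] :=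
  C.stMul (h57546 C) (h57547 C) _
    (by decide +kernel)

theorem h57549 :
    C.S (v1 C) [3, 1, 2, 0, 2, 1, 3, 0, 3, 1, 2, 0, 2, 2, 2, 2, 1, 3, 3, 0, 3, 1, 2, 2, 0, 3] :=
  C.stMul (h57512 C) (h57548 C) _
    (by decide +kernel)

theorem h57550 :
    C.S (v1 C) [1, 2, 0, 2, 1, 2, 2, 0, 2, 1, 3, 0, 3, 1, 2, 0, 2, 2, 2, 2, 1, 3, 3, 0, 3, 1, 2, 2, 0, 3] :=
  C.stMul (h57513 C) (h57548 C) _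
    (by decide +kernel)

theorem h57552 :
    C.S (v1 C) [1, 2, 0, 2, 1, 2, 0, 2, 2, 1, 3, 3, 0, 3, 1, 2, 2, 2, 0, 2, 1, 2, 0, 3, 1, 2, 2, 0, 3, 1, 2, 2, 0, 3, 1, 3, 3, 0, 3, 1, 3, 0] :=
  C.stMul (h57550 C) (h57517 C) _
    (by decide +kernel)

theorem h57553 :
    C.S (v1 C) [3, 1, 2, 0, 2, 1, 3, 0, 3, 1, 2, 0, 2, 2, 2, 2, 1, 3, 3, 0, 3, 1, 2, 2, 0, 3] :=
  C.stInv (h57549 C) _ (by decide +kernel)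

theorem h57554 :
    C.S (v1 C) [1, 2, 0, 2, 1, 2, 0, 2, 1, 2, 2, 0, 3, 3, 1, 2, 2, 2, 0, 2, 1, 2, 2, 0, 3, 3, 3, 1, 2, 2, 0, 3, 1, 3, 3, 0, 3, 1, 3, 0] :=
  C.stMul (h57552 C) (h57553 C) _
    (by decide +kernel)

theorem h57556 :
    C.S (v1 C) [1, 2, 0, 3, 1, 3, 0, 2, 1, 2, 0, 3, 1, 3, 3, 0, 2, 2, 1, 3, 0] :=
  C.stMul (h57519 C) (h57554 C) _
    (by decide +kernel)

theorem h57557 :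
    C.S (v1 C) [1, 2, 0, 3, 1, 3, 0, 2, 1, 2, 0, 3, 1, 3, 0, 2, 2, 1, 3, 3, 0, 2, 1, 2, 0] :=
  C.stInv (h57519 C) _ (by decide +kernel)

theorem h57558 :
    C.S (v1 C) [1, 2, 0, 3, 1, 3, 0, 2, 1, 2, 0, 3, 1, 3, 0, 2] :=
  C.stMul (h57556 C) (h57557 C) _
    (by decide +kernel)

theorem h57603 :
    C.S (v2 C) [] :=
  C.stOne _

theorem h57604 :
    C.S (v2 C) [3, 1, 2, 0, 2, 1, 3, 0, 3, 1, 2, 0, 2, 2, 1, 2, 0, 3, 1, 2, 2, 0, 3, 1, 3, 3, 0, 3, 1, 3, 0, 2, 2, 1, 3, 0, 3, 1, 2, 0, 3, 3, 1, 2, 0, 2] :=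
  C.stMul (h57603 C) (h5582 C) _
    (by decide +kernel)

theorem h57605 :
    C.S (v2 C) [2, 1, 3, 3, 0, 3, 1, 2, 2, 2, 0, 2, 1, 2, 0, 3, 1, 2, 0, 2, 2, 1, 3, 3, 0, 3, 1, 2, 2, 2, 0, 3, 1, 3, 0, 2, 2, 2, 1, 2, 0, 2, 2, 1, 2, 0, 2] :=
  C.stMul (h57604 C) (h5582 C) _
    (by decide +kernel)

theorem h57606 :
    C.S (v2 C) [1, 2, 0, 2, 1, 2, 0, 2, 2, 1, 3, 3, 0, 3, 1, 2, 2, 2, 0, 2, 1, 2, 0, 3, 1, 2, 2, 0, 2, 1, 3, 0, 3, 1, 2, 2, 0, 3, 3, 3, 1, 3, 3, 0, 3, 3, 1, 2, 2, 0, 2, 2, 1, 3, 3, 0] :=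
  C.stMul (h57605 C) (h5582 C) _
    (by decide +kernel)

theorem h57607 :
    C.S (v2 C) [1, 2, 0, 2, 1, 2, 0, 2, 2, 1, 3, 3, 0, 3, 1, 2, 2, 2, 0, 2, 1, 2, 0, 3, 1, 2, 2, 0, 2, 2, 1, 3, 3, 0, 2, 1, 2, 0, 3, 1, 3, 3, 0, 3, 3, 1, 2, 0, 3, 3, 3, 1, 3, 0, 2, 1, 2, 0, 3, 3] :=
  C.stMul (h57606 C) (h5582 C) _
    (by decide +kernel)

theorem h57608 :
    C.S (v2 C) [1, 2, 0, 2, 1, 2, 2, 0, 2, 1, 3, 0, 3, 1, 2, 0, 2, 2, 2, 2, 1, 3, 3, 0, 3, 1, 2, 2, 0, 3, 3, 3, 1, 3, 3, 0, 3, 3, 1, 2, 2, 0, 2, 2, 2, 2, 1, 2, 0, 2] :=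
  C.stMul (h57607 C) (h5582 C) _
    (by decide +kernel)

theorem h57609 :
    C.S (v2 C) [1, 2, 0, 2, 1, 2, 2, 0, 2, 1, 3, 0, 3, 1, 2, 0, 2, 2, 1, 2, 0, 2, 2, 2, 1, 2, 2, 0, 3, 3, 1, 3, 3, 3, 0] :=
  C.stMul (h57608 C) (h5582 C) _
    (by decide +kernel)

theorem h57610 :
    C.S (v2 C) [1, 2, 0, 3, 1, 3, 0, 2, 1, 2, 0, 3, 1, 3, 3, 0, 2, 2, 1, 3, 3, 0, 3, 1, 2, 2, 2, 0, 2, 2, 1, 3, 0, 2, 2, 2, 1, 2, 0, 2, 2, 1, 2, 0] :=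
  C.stMul (h57609 C) (h5582 C) _
    (by decide +kernel)

theorem h57614 :
    C.S (v2 C) [1, 2, 0, 2, 1, 2, 0, 2, 1, 2, 2, 0, 3, 3, 1, 2, 2, 2, 0, 2, 1, 2, 2, 0, 3, 3, 1, 3, 0, 2, 2, 1, 3, 3, 0, 3, 1, 2, 2, 0, 3, 1, 2, 2, 0] :=
  C.stMul (h57604 C) (h6928 C) _
    (by decide +kernel)

theorem h57620 :
    C.S (v2 C) [2, 1, 3, 3, 0, 2, 1, 2, 0, 3, 1, 3, 3, 0, 3, 3, 1, 3, 0, 2, 1, 2, 0, 2, 2, 2, 1, 2, 0, 3, 3] :=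
  C.stMul (h57610 C) (h6928 C) _
    (by decide +kernel)

theorem h57625 :
    C.S (v2 C) [1, 2, 0, 3, 1, 3, 0, 2, 1, 2, 0, 3, 1, 3, 0, 2, 2, 1, 3, 3, 0, 2, 1, 2, 0, 3, 1, 3, 3, 0, 3, 3, 1, 3, 0, 2, 1, 2, 0, 2, 2, 2, 1, 2, 0, 3, 3] :=
  C.stMul (h57614 C) (h5582 C) _
    (by decide +kernel)

theorem h57626 :
    C.S (v2 C) [2, 1, 3, 3, 0, 2, 1, 2, 0, 3, 1, 3, 3, 0, 3, 3, 1, 3, 0, 2, 1, 2, 0, 2, 2, 2, 1, 2, 0, 3, 3] :=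
  C.stInv (h57620 C) _ (by decide +kernel)

theorem h57627 :
    C.S (v2 C) [1, 2, 0, 3, 1, 3, 0, 2, 1, 2, 0, 3, 1, 3, 0, 2] :=
  C.stMul (h57625 C) (h57626 C) _
    (by decide +kernel)

theorem h57628 :
    C.S (v2 C) [] :=
  C.stOne _

theorem h57633 :
    C.S (v2 C) [1, 2, 0, 2, 1, 2, 0, 2, 1, 2, 0, 3, 1, 3, 0, 2, 1, 2, 0, 3, 1, 3, 3, 0, 2, 2, 1, 3, 3, 0, 3, 1, 2, 2, 0, 3, 3, 1, 3, 3, 0, 3, 3, 1, 3, 0, 2, 1, 2, 0, 2, 2, 2, 1, 2, 0, 2, 2] :=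
  C.stInv (h57604 C) _ (by decide +kernel)

theorem h57634 :
    C.S (v2 C) [3, 1, 2, 0, 2, 1, 3, 0, 3, 1, 2, 0, 2, 2, 2, 2, 1, 3, 3, 0, 3, 1, 2, 2, 2, 2, 0, 2, 1, 3, 0, 3, 3, 1, 3, 0] :=
  C.stMul (h8466 C) (h57633 C) _
    (by decide +kernel)

theorem h57635 :
    C.S (v2 C) [3, 1, 2, 0, 2, 1, 3, 0, 3, 1, 2, 0, 2, 2, 2, 2, 1, 3, 3, 0, 3, 1, 2, 2, 2, 2, 0, 2, 1, 3, 0, 3, 3, 1, 3, 0] :=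
  C.stMul (h57628 C) (h57634 C) _
    (by decide +kernel)

theorem h57637 :
    C.S (v2 C) [2, 1, 3, 3, 0, 2, 1, 2, 0, 2, 1, 3, 3, 3, 0, 3] :=
  C.stMul (h57635 C) (h57627 C) _
    (by decide +kernel)

theorem h57638 :
    C.S (v2 C) [1, 2, 0, 2, 1, 2, 0, 2, 1, 2, 2, 0, 3, 3, 1, 2, 2, 2, 0, 2, 1, 2, 2, 0, 3, 3, 3, 1, 2, 2, 0, 3, 1, 3, 3, 0, 3, 1, 3, 0, 2, 1, 2, 2, 0, 2, 1, 3, 0, 3, 1, 2, 0, 2] :=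
  C.stMul (h57635 C) (h57634 C) _
    (by decide +kernel)

theorem h57639 :
    C.S (v2 C) [2, 1, 3, 3, 0, 2, 1, 2, 0, 2, 1, 3, 3, 3, 0, 3] :=
  C.stInv (h57637 C) _ (by decide +kernel)

theorem h57640 :
    C.S (v2 C) [1, 2, 0, 2, 1, 2, 2, 0, 2, 1, 3, 0, 3, 1, 2, 0, 2, 2, 1, 2, 0, 3, 1, 2, 2, 0, 3, 1, 3, 3, 0, 3, 1, 3, 0, 2, 1, 2, 2, 0, 2, 1, 3, 0, 3, 1, 2, 0, 2] :=
  C.stMul (h57638 C) (h57639 C) _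
    (by decide +kernel)

theorem h57668 :
    C.S (v3 C) [] :=
  C.stOne _

theorem h57669 :
    C.S (v3 C) [2, 1, 3, 3, 0, 3, 1, 2, 2, 2, 0, 2, 1, 2, 0, 3, 1, 2, 2, 0, 3, 1, 2, 2, 0, 3, 1, 3, 3, 0, 3, 1, 3, 0, 2, 1, 2, 0, 3, 3, 1, 2, 0] :=
  C.stMul (h57668 C) (h10101 C) _
    (by decide +kernel)

theorem h57670 :
    C.S (v3 C) [1, 2, 0, 2, 1, 2, 2, 0, 2, 1, 3, 0, 3, 1, 2, 0, 2, 2, 1, 2, 0, 2, 1, 3, 0, 3, 1, 2, 2, 0, 3, 3, 1, 3, 3, 0, 3, 3, 1, 3, 0, 2, 1, 2, 0] :=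
  C.stMul (h57669 C) (h10101 C) _
    (by decide +kernel)

theorem h57671 :
    C.S (v3 C) [2, 1, 3, 3, 0, 3, 1, 2, 2, 2, 0, 2, 1, 2, 0, 3, 1, 2, 2, 2, 2, 0, 2, 2, 1, 3, 0] :=
  C.stMul (h57670 C) (h10101 C) _
    (by decide +kernel)

theorem h57672 :
    C.S (v3 C) [1, 2, 2, 0, 3, 3, 1, 2, 2, 2, 0, 2, 2, 1, 2, 0, 2, 1, 3, 0, 2, 2, 1, 3, 0, 2] :=
  C.stMul (h57668 C) (h11335 C) _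
    (by decide +kernel)

theorem h57675 :
    C.S (v3 C) [2, 1, 2, 2, 0, 3, 1, 2, 2, 0, 3, 3] :=
  C.stMul (h57671 C) (h11335 C) _
    (by decide +kernel)

theorem h57676 :
    C.S (v3 C) [1, 2, 0, 2, 1, 2, 0, 2, 2, 2, 2, 1, 2, 2, 2, 0, 3, 3, 3] :=
  C.stMul (h57672 C) (h10101 C) _
    (by decide +kernel)

theorem h57679 :
    C.S (v3 C) [1, 2, 0, 2, 1, 2, 2, 0, 2, 1, 3, 0, 3, 1, 2, 0, 2, 2, 1, 2, 0, 2, 1, 3, 0, 3, 1, 2, 2, 2, 2, 0, 2, 1, 3, 0, 3, 1, 2, 0, 2] :=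
  C.stMul (h57675 C) (h10101 C) _
    (by decide +kernel)

theorem h57680 :
    C.S (v3 C) [3, 1, 2, 0, 2, 1, 3, 0, 3, 1, 2, 0, 2, 2, 1, 2, 0, 3, 1, 2, 2, 0, 3, 1, 3, 3, 0, 3, 1, 3, 0, 2, 1, 3, 0, 2, 2, 1, 3, 0, 2] :=
  C.stMul (h57676 C) (h10101 C) _
    (by decide +kernel)

theorem h57681 :
    C.S (v3 C) [1, 2, 2, 0, 3, 3, 1, 2, 2, 2, 0, 2, 2, 1, 2, 0, 2, 1, 3, 0, 2, 2, 1, 3, 0, 2] :=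
  C.stInv (h57672 C) _ (by decide +kernel)

theorem h57682 :
    C.S (v3 C) [2, 1, 3, 3, 0, 3, 1, 2, 2, 2, 0, 2, 1, 2, 0, 3, 1, 2, 0, 2, 2, 1, 3, 0] :=
  C.stMul (h57680 C) (h57681 C) _
    (by decide +kernel)

theorem h57683 :
    C.S (v3 C) [] :=
  C.stOne _

theorem h57686 :
    C.S (v3 C) [3, 1, 2, 0, 2, 1, 3, 0, 3, 1, 2, 0, 2, 2, 1, 2, 0, 3, 1, 2, 2, 0, 3, 1, 3, 3, 0, 3, 1, 3, 0, 2, 1, 2, 2, 0, 2, 1, 3, 0, 3, 1, 2, 0, 2] :=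
  C.stMul (h57669 C) (h13041 C) _
    (by decide +kernel)

theorem h57687 :
    C.S (v3 C) [1, 2, 0, 2, 1, 2, 2, 0, 2, 1, 3, 0, 3, 1, 2, 0, 2, 2, 1, 2, 0, 2, 1, 3, 0, 3, 1, 2, 2, 2, 2, 0, 2, 1, 3, 0, 3, 1, 2, 0, 2] :=
  C.stInv (h57679 C) _ (by decide +kernel)

theorem h57688 :
    C.S (v3 C) [1, 2, 0, 2, 1, 2, 0, 2, 2, 1, 3, 3, 0, 3, 1, 2, 2, 2, 0, 2, 1, 2, 0, 3, 1, 2, 0, 2, 2, 1, 3, 0] :=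
  C.stMul (h57686 C) (h57687 C) _
    (by decide +kernel)

theorem h57689 :
    C.S (v3 C) [1, 2, 0, 2, 1, 2, 0, 2, 2, 1, 3, 3, 0, 3, 1, 2, 2, 2, 0, 2, 1, 2, 0, 3, 1, 2, 0, 2, 2, 1, 3, 0] :=
  C.stMul (h57683 C) (h57688 C) _
    (by decide +kernel)

theorem h57691 :
    C.S (v3 C) [1, 2, 0, 2, 1, 2, 0, 2] :=
  C.stMul (h57689 C) (h57682 C) _
    (by decide +kernel)

theorem h57692 :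
    C.S (v3 C) [1, 2, 0, 2, 1, 2, 2, 0, 2, 1, 3, 0, 3, 1, 2, 0, 2, 2, 1, 2, 0, 2, 1, 3, 0, 3, 1, 2, 2, 0, 3] :=
  C.stMul (h57689 C) (h57688 C) _
    (by decide +kernel)

theorem h57693 :
    C.S (v3 C) [1, 2, 0, 2, 1, 2, 0, 2] :=
  C.stInv (h57691 C) _ (by decide +kernel)

theorem h57694 :
    C.S (v3 C) [1, 2, 0, 2, 1, 2, 2, 0, 2, 1, 3, 0, 3, 1, 2, 0, 2, 2, 1, 2, 0, 3, 1, 2, 2, 0, 3, 1, 3, 3, 0, 3, 1, 3, 0] :=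
  C.stMul (h57692 C) (h57693 C) _
    (by decide +kernel)

theorem h57828 :
    C.S (v4 C) [] :=
  C.stOne _

theorem h57831 :
    C.S (v4 C) [] :=
  C.stOne _

theorem h57836 :
    C.S (v4 C) [3, 1, 3, 0, 2, 2, 1, 3, 0, 3, 1, 2, 0, 3] :=
  C.stMul (h57831 C) (h22194 C) _
    (by decide +kernel)

theorem h57838 :
    C.S (v4 C) [1, 2, 0, 2, 1, 2, 0, 2, 1, 2, 2, 0, 3, 3, 1, 2, 2, 2, 0, 2, 1, 2, 2, 0, 3, 3, 1, 2, 0, 3] :=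
  C.stMul (h57836 C) (h20600 C) _
    (by decide +kernel)

theorem h57839 :
    C.S (v4 C) [1, 2, 2, 0, 3, 3, 1, 2, 2, 0] :=
  C.stInv (h57836 C) _ (by decide +kernel)

theorem h57840 :
    C.S (v4 C) [1, 2, 2, 0, 3, 3, 1, 2, 2, 2, 0, 2, 2, 1, 2, 0] :=
  C.stMul (h57838 C) (h57839 C) _
    (by decide +kernel)

theorem h57869 :
    C.S (v4 C) [0, 0, 4] :=
  C.stMul (h57828 C) (h23965 C) _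
    (by decide +kernel)

theorem h57875 :
    C.S (v4 C) [1, 2, 0, 2, 2, 2, 1, 3, 0, 3, 3, 1, 3, 3, 0, 3, 3, 1, 2, 2, 0, 2, 2, 2, 2, 2, 1, 2, 0, 2, 2, 1, 2, 0, 0, 4, 2, 0, 4, 2, 4] :=
  C.stMul (h57869 C) (h19566 C) _
    (by decide +kernel)

theorem h57876 :
    C.S (v4 C) [0, 0, 4] :=
  C.stInv (h57869 C) _ (by decide +kernel)

theorem h57877 :
    C.S (v4 C) [1, 2, 0, 2, 2, 2, 1, 3, 0, 3, 3, 1, 3, 3, 0, 3, 3, 1, 2, 2, 0, 2, 2, 2, 2, 2, 1, 2, 0, 2, 2, 1, 2, 0, 0, 4, 2, 1, 4, 2] :=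
  C.stMul (h57875 C) (h57876 C) _
    (by decide +kernel)

theorem h58030 :
    C.S (v5 C) [] :=
  C.stOne _

theorem h58031 :
    C.S (v5 C) [1, 2, 0, 2, 1, 2, 0, 2, 1, 2, 2, 0, 3, 3, 1, 2, 2, 2, 0, 2, 1, 2, 2, 0, 3, 3, 1, 3, 0, 2, 2, 1, 3, 0, 2, 1, 2, 2, 0, 2, 1, 3, 0, 3, 3, 1, 3, 0] :=
  C.stMul (h58030 C) (h25692 C) _
    (by decide +kernel)

theorem h58032 :
    C.S (v5 C) [1, 2, 0, 3, 1, 3, 0, 2, 1, 2, 0, 3, 1, 3, 0, 2, 1, 3, 0, 3, 1, 2, 2, 0, 2, 1, 2, 2, 0, 3, 3, 1, 2, 2, 0, 2, 2] :=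
  C.stMul (h58030 C) (h26718 C) _
    (by decide +kernel)

theorem h58033 :
    C.S (v5 C) [1, 2, 0, 2, 1, 2, 0, 2, 1, 2, 2, 0, 3, 3, 1, 2, 2, 2, 0, 2, 1, 2, 2, 0, 3, 3, 3, 1, 2, 2, 0, 3, 1, 3, 3, 0, 3, 1, 3, 0, 2, 2, 1, 2, 2, 0, 3, 3, 1, 3, 3, 0, 3, 3] :=
  C.stMul (h58031 C) (h26718 C) _
    (by decide +kernel)

theorem h58035 :
    C.S (v5 C) [3, 1, 2, 0, 2, 1, 3, 0, 3, 1, 2, 0, 2, 2, 1, 2, 0, 3, 1, 2, 2, 0, 3, 1, 3, 3, 0, 3, 1, 3, 0, 2, 1, 2, 2, 0, 2, 1, 3, 0, 3, 1, 2, 0, 2] :=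
  C.stMul (h58032 C) (h26718 C) _
    (by decide +kernel)

theorem h58036 :
    C.S (v5 C) [1, 2, 0, 3, 1, 3, 0, 2, 1, 2, 0, 3, 1, 3, 0, 3, 1, 2, 2, 0, 3, 1, 3, 3, 0, 3, 1, 3, 0, 3, 1, 2, 2, 0, 2, 2, 2, 1, 2, 0, 2] :=
  C.stMul (h58033 C) (h25692 C) _
    (by decide +kernel)

theorem h58037 :
    C.S (v5 C) [1, 2, 2, 0, 3, 3, 1, 2, 2, 2, 0, 2, 1, 2, 2, 0, 3, 1, 3, 0, 3, 1, 2, 2, 0, 3] :=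
  C.stMul (h58033 C) (h26718 C) _
    (by decide +kernel)

theorem h58038 :
    C.S (v5 C) [] :=
  C.stInv (h58030 C) _ (by decide +kernel)

theorem h58039 :
    C.S (v5 C) [1, 2, 2, 0, 3, 3, 1, 2, 2, 2, 0, 2, 1, 2, 2, 0, 3, 1, 3, 0, 3, 1, 2, 2, 0, 3] :=
  C.stMul (h58037 C) (h58038 C) _
    (by decide +kernel)

theorem h58040 :
    C.S (v5 C) [] :=
  C.stOne _

theorem h58041 :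
    C.S (v5 C) [1, 2, 2, 0, 3, 3, 1, 2, 2, 2, 0, 2, 1, 2, 2, 0, 3, 1, 3, 0, 3, 1, 2, 2, 0, 3] :=
  C.stMul (h58040 C) (h58039 C) _
    (by decide +kernel)

theorem h58044 :
    C.S (v5 C) [1, 2, 0, 2, 1, 2, 0, 2, 2, 1, 3, 3, 0, 3, 1, 2, 2, 2, 0, 2, 1, 2, 0, 3, 1, 2, 2, 0, 2, 2, 1, 3, 3, 0, 2, 1, 2, 0, 2, 1, 2, 2, 0, 2] :=
  C.stMul (h58036 C) (h26718 C) _
    (by decide +kernel)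

theorem h58047 :
    C.S (v5 C) [2, 1, 3, 3, 0, 2, 1, 2, 0, 2, 1, 2, 0, 3, 1, 3, 0, 3, 1, 2, 0, 3] :=
  C.stMul (h58030 C) (h28393 C) _
    (by decide +kernel)

theorem h58049 :
    C.S (v5 C) [1, 2, 0, 2, 1, 2, 0, 3, 1, 2, 2, 0, 3, 1, 3, 3, 0, 3, 1, 3, 0, 2, 2, 1, 2, 2, 0, 3, 3, 1, 3, 3, 0, 3, 3] :=
  C.stMul (h58032 C) (h28393 C) _
    (by decide +kernel)

theorem h58050 :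
    C.S (v5 C) [3, 1, 3, 0, 2, 2, 1, 3, 3, 0, 3, 1, 2, 2, 0, 3, 3, 1, 2, 2, 0, 2, 2, 2, 1, 2, 0, 2] :=
  C.stInv (h58033 C) _ (by decide +kernel)

theorem h58051 :
    C.S (v5 C) [1, 2, 0, 2, 1, 2, 0, 2, 2, 1, 3, 3, 0, 3, 1, 2, 2, 2, 0, 2, 1, 2, 0, 3, 1, 2, 2, 0, 2] :=
  C.stMul (h58049 C) (h58050 C) _
    (by decide +kernel)

theorem h58052 :
    C.S (v5 C) [1, 2, 0, 2, 1, 2, 0, 2, 2, 1, 3, 3, 0, 3, 1, 2, 2, 2, 0, 2, 1, 2, 0, 3, 1, 2, 2, 0, 2] :=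
  C.stMul (h58040 C) (h58051 C) _
    (by decide +kernel)

theorem h58053 :
    C.S (v5 C) [2, 1, 3, 3, 0, 3, 1, 2, 2, 2, 0, 2, 1, 2, 0, 3, 1, 2, 0, 2, 2, 1, 3, 3, 0, 3, 1, 2, 2, 0, 3] :=
  C.stMul (h58041 C) (h58051 C) _
    (by decide +kernel)

theorem h58054 :
    C.S (v5 C) [1, 2, 0, 2, 1, 2, 0, 2, 1, 2, 0, 3, 1, 3, 0, 2, 1, 2, 0, 3, 1, 3, 0, 2, 1, 3, 0, 3, 1, 2, 2, 0, 3] :=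
  C.stMul (h58052 C) (h58039 C) _
    (by decide +kernel)

theorem h58055 :
    C.S (v5 C) [1, 2, 0, 2, 2, 2, 1, 3, 0] :=
  C.stMul (h58053 C) (h58039 C) _
    (by decide +kernel)

theorem h58056 :
    C.S (v5 C) [1, 2, 0, 2, 1, 2, 0, 2, 1, 2, 0, 3, 1, 3, 0, 2, 1, 2, 0, 3, 1, 3, 0, 2, 1, 3, 0, 3, 1, 2, 2, 0, 3] :=
  C.stInv (h58053 C) _ (by decide +kernel)

theorem h58057 :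
    C.S (v5 C) [1, 2, 0, 2, 1, 2, 2, 0, 2, 1, 3, 0, 3, 1, 2, 0, 2, 2, 1, 2, 0, 3, 1, 2, 2, 0, 3, 1, 3, 3, 0, 3, 1, 3, 0] :=
  C.stMul (h58055 C) (h58056 C) _
    (by decide +kernel)

theorem h58058 :
    C.S (v5 C) [] :=
  C.stOne _

theorem h58061 :
    C.S (v5 C) [1, 2, 0, 2, 1, 2, 0, 2, 1, 2, 2, 0, 3, 3, 1, 2, 2, 2, 0, 2, 2, 1, 2, 2, 2, 0, 3, 3, 1, 2, 0, 3, 3, 1, 3, 0] :=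
  C.stMul (h58035 C) (h28393 C) _
    (by decide +kernel)

theorem h58064 :
    C.S (v5 C) [1, 2, 2, 0, 3, 3, 1, 2, 2, 2, 0, 2, 2, 1, 2, 0, 2, 1, 3, 0, 2, 1, 2, 0, 2, 1, 3, 0, 3] :=
  C.stMul (h58044 C) (h28393 C) _
    (by decide +kernel)

theorem h58072 :
    C.S (v5 C) [1, 2, 2, 0, 3, 3, 1, 2, 2, 2, 0, 2, 1, 2, 2, 0, 3, 1, 3, 0, 3, 1, 2, 2, 2, 0, 3, 1, 3, 3, 0, 3, 1, 3, 0, 3] :=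
  C.stMul (h58061 C) (h25692 C) _
    (by decide +kernel)

theorem h58076 :
    C.S (v5 C) [3, 1, 2, 0, 2, 1, 3, 0, 3, 1, 2, 0, 2, 2, 1, 2, 0, 2, 2, 1, 3, 3, 0, 2, 1, 2, 0, 2, 1, 3, 0, 2, 1, 2, 0, 2, 1, 3, 0, 3] :=
  C.stMul (h58064 C) (h25692 C) _
    (by decide +kernel)

theorem h58077 :
    C.S (v5 C) [1, 2, 2, 0, 3, 3, 1, 2, 2, 2, 0, 2, 1, 2, 2, 2, 0, 3, 1, 3, 0, 3, 1, 2, 0, 3] :=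
  C.stInv (h58064 C) _ (by decide +kernel)

theorem h58078 :
    C.S (v5 C) [1, 2, 0, 2, 1, 2, 2, 0, 2, 1, 3, 0, 3, 1, 2, 0, 2, 2, 1, 2, 0, 2] :=
  C.stMul (h58076 C) (h58077 C) _
    (by decide +kernel)

theorem h58079 :
    C.S (v5 C) [2, 1, 3, 3, 0, 3, 1, 2, 2, 2, 0, 2, 1, 2, 0, 3, 1, 2, 0, 2, 2, 1, 3, 3, 0, 3, 1, 2, 2, 0, 3] :=
  C.stInv (h58054 C) _ (by decide +kernel)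

theorem h58080 :
    C.S (v5 C) [1, 2, 0, 3, 1, 3, 0, 2, 1, 2, 0, 3, 1, 3, 3, 0, 2, 2, 1, 3, 3, 0, 3, 1, 2, 2, 0, 3] :=
  C.stMul (h58078 C) (h58079 C) _
    (by decide +kernel)

theorem h58081 :
    C.S (v5 C) [1, 2, 0, 3, 1, 3, 0, 2, 1, 2, 0, 3, 1, 3, 3, 0, 2, 2, 1, 3, 3, 0, 3, 1, 2, 2, 0, 3] :=
  C.stMul (h58058 C) (h58080 C) _
    (by decide +kernel)

theorem h58083 :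
    C.S (v5 C) [3, 1, 3, 0, 2, 2, 1, 3, 3, 0, 3, 1, 2, 2, 0, 3] :=
  C.stMul (h58081 C) (h58057 C) _
    (by decide +kernel)

theorem h58084 :
    C.S (v5 C) [1, 2, 0, 3, 1, 3, 0, 2, 1, 2, 0, 3, 1, 3, 0, 2, 1, 3, 0, 3, 1, 2, 2, 0, 3] :=
  C.stInv (h58081 C) _ (by decide +kernel)

theorem h58085 :
    C.S (v5 C) [1, 2, 0, 3, 1, 3, 0, 2, 1, 2, 0, 3, 1, 3, 0, 2] :=
  C.stMul (h58083 C) (h58084 C) _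
    (by decide +kernel)

theorem h58098 :
    C.S (v5 C) [1, 2, 2, 0, 3, 3, 1, 2, 2, 2, 0, 2, 1, 2, 2, 0, 3, 3, 1, 3, 0, 2, 2, 1, 3, 0, 2, 1, 2, 0, 3, 3, 1, 2, 0] :=
  C.stMul (h58072 C) (h26718 C) _
    (by decide +kernel)

theorem h58240 :
    C.S (v5 C) [2, 1, 3, 3, 0, 3, 1, 2, 2, 2, 0, 2, 1, 2, 0, 3, 1, 2, 2, 0, 2, 2, 1, 3, 0, 2, 1, 2, 0, 2, 1, 3, 0, 4, 3, 0, 4, 3, 3, 0, 3] :=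
  C.stMul (h58047 C) (h33096 C) _
    (by decide +kernel)

theorem h58241 :
    C.S (v5 C) [1, 2, 0, 2, 1, 2, 0, 2, 1, 2, 2, 0, 3, 3, 1, 2, 2, 2, 0, 2, 1, 2, 2, 0, 3, 3, 3, 1, 2, 2, 0, 3, 1, 3, 3, 0, 3, 1, 3, 0, 2, 1, 2, 0, 3, 1, 3, 0] :=
  C.stInv (h58098 C) _ (by decide +kernel)

theorem h58242 :
    C.S (v5 C) [2, 1, 3, 3, 0, 2, 1, 2, 0, 2, 1, 2, 0, 2, 2, 2, 1, 2, 0, 2, 2, 4, 3, 4, 2] :=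
  C.stMul (h58240 C) (h58241 C) _
    (by decide +kernel)

theorem h58243 :
    C.S (v5 C) [1, 2, 2, 0, 3, 3, 1, 2, 2, 2, 0, 2, 1, 2, 2, 0, 3, 1, 3, 0, 3, 1, 2, 2, 0, 3] :=
  C.stInv (h58041 C) _ (by decide +kernel)

theorem h58244 :
    C.S (v5 C) [1, 2, 2, 0, 3, 3, 1, 2, 2, 2, 0, 2, 2, 1, 2, 0, 2, 1, 2, 0, 2, 2, 2, 1, 2, 0, 2, 2, 4, 3, 4, 2] :=
  C.stMul (h58242 C) (h58243 C) _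
    (by decide +kernel)

theorem h58743 :
    C.S (v6 C) [] :=
  C.stOne _

theorem h58744 :
    C.S (v6 C) [1, 2, 0, 2, 1, 2, 0, 2, 1, 3, 0, 3, 1, 2, 2, 0, 2, 2, 1, 2, 2, 2, 0, 3, 3, 3] :=
  C.stMul (h58743 C) (h34583 C) _
    (by decide +kernel)

theorem h58745 :
    C.S (v6 C) [1, 2, 0, 3, 1, 3, 0, 2, 1, 2, 0, 3, 1, 3, 0, 2, 1, 3, 0, 2, 2, 2, 1, 2, 0] :=
  C.stMul (h58744 C) (h34583 C) _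
    (by decide +kernel)

theorem h58746 :
    C.S (v6 C) [1, 2, 0, 2, 1, 2, 2, 0, 2, 1, 3, 0, 3, 1, 2, 0, 2, 2, 2, 2, 1, 3, 0, 3, 1, 2, 2, 2, 0] :=
  C.stMul (h58743 C) (h35617 C) _
    (by decide +kernel)

theorem h58748 :
    C.S (v6 C) [1, 2, 0, 2, 1, 2, 0, 2, 2, 1, 3, 3, 0, 2, 1, 2, 0, 2, 2, 1, 3, 0, 3, 1, 2, 2, 0, 3] :=
  C.stMul (h58745 C) (h35617 C) _
    (by decide +kernel)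

theorem h58749 :
    C.S (v6 C) [3, 1, 2, 0, 2, 1, 3, 0, 3, 1, 2, 0, 2, 2, 1, 2, 0, 2, 1, 3, 0, 3, 1, 2, 2, 0, 3, 1, 3, 0, 2, 2, 2, 1, 2, 0, 3] :=
  C.stMul (h58746 C) (h34583 C) _
    (by decide +kernel)

theorem h58751 :
    C.S (v6 C) [1, 2, 2, 0, 3, 3, 1, 2, 2, 2, 0, 2, 1, 2, 2, 0, 3, 1, 3, 0, 3, 1, 2, 2, 2, 0, 2, 2, 2, 1, 2, 0] :=
  C.stMul (h58748 C) (h34583 C) _
    (by decide +kernel)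

theorem h58753 :
    C.S (v6 C) [1, 2, 0, 3, 1, 3, 0, 2, 1, 2, 0, 3, 1, 3, 0, 2, 1, 3, 0, 2, 2, 1, 3, 0, 3] :=
  C.stMul (h58749 C) (h35617 C) _
    (by decide +kernel)

theorem h58754 :
    C.S (v6 C) [1, 2, 2, 0, 3, 3, 1, 2, 2, 2, 0, 2, 1, 2, 2, 0, 3, 1, 3, 0, 3, 1, 2, 2, 2, 0, 2, 2, 2, 1, 2, 0] :=
  C.stInv (h58751 C) _ (by decide +kernel)

theorem h58755 :
    C.S (v6 C) [3, 1, 2, 0, 2, 1, 3, 0, 3, 1, 2, 0, 2, 2, 2, 2, 1, 3, 0, 2, 1, 2, 2, 0, 3, 1, 2, 2, 0, 3, 3, 3] :=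
  C.stMul (h58753 C) (h58754 C) _
    (by decide +kernel)

theorem h58756 :
    C.S (v6 C) [] :=
  C.stOne _

theorem h58757 :
    C.S (v6 C) [3, 1, 2, 0, 2, 1, 3, 0, 3, 1, 2, 0, 2, 2, 2, 2, 1, 3, 0, 2, 1, 2, 2, 0, 3, 1, 2, 2, 0, 3, 3, 3] :=
  C.stMul (h58756 C) (h58755 C) _
    (by decide +kernel)

theorem h58763 :
    C.S (v6 C) [3, 1, 2, 0, 2, 1, 3, 0, 3, 1, 2, 0, 2, 2, 1, 2, 0, 2, 1, 3, 0, 3, 1, 2, 2, 0, 3, 1, 3, 0, 3, 3, 1, 2, 0, 3, 3, 1, 2, 2, 0, 3] :=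
  C.stMul (h58746 C) (h37323 C) _
    (by decide +kernel)

theorem h58764 :
    C.S (v6 C) [1, 2, 0, 3, 1, 3, 0, 2, 1, 2, 0, 3, 1, 3, 0, 2, 1, 3, 0, 2, 2, 2, 1, 2, 0] :=
  C.stInv (h58744 C) _ (by decide +kernel)

theorem h58765 :
    C.S (v6 C) [1, 2, 0, 2, 2, 2, 1, 3, 0, 2, 1, 2, 2, 0, 3, 1, 2, 2, 0, 3, 3, 3] :=
  C.stMul (h58763 C) (h58764 C) _
    (by decide +kernel)

theorem h58766 :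
    C.S (v6 C) [3, 1, 2, 0, 2, 1, 3, 0, 3, 1, 2, 0, 2, 2, 2, 2, 1, 3, 0, 2, 1, 2, 2, 0, 3, 1, 2, 2, 0, 3, 3, 3] :=
  C.stInv (h58757 C) _ (by decide +kernel)

theorem h58767 :
    C.S (v6 C) [1, 2, 0, 3, 1, 3, 0, 2, 1, 2, 0, 3, 1, 3, 0, 2] :=
  C.stMul (h58765 C) (h58766 C) _
    (by decide +kernel)

theorem h58815 :
    C.S (v7 C) [] :=
  C.stOne _

theorem h58816 :
    C.S (v7 C) [1, 2, 0, 2, 2, 2, 1, 3, 0, 3, 1, 3, 3, 0, 3, 3, 1, 2, 0, 3, 1, 2, 2, 0, 2] :=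
  C.stMul (h58815 C) (h41082 C) _
    (by decide +kernel)

theorem h58817 :
    C.S (v7 C) [1, 2, 0, 2, 2, 2, 1, 3, 0, 3, 1, 3, 3, 0, 3, 3, 1, 2, 0, 3, 1, 2, 2, 0, 2] :=
  C.stInv (h58816 C) _ (by decide +kernel)

theorem h58818 :
    C.S (v7 C) [3, 1, 2, 0, 2, 1, 3, 0, 3, 1, 2, 0, 2, 2, 1, 2, 0, 2, 2, 1, 3, 3, 0, 2, 1, 2, 0, 3, 1, 2, 2, 0, 2, 1, 2, 0] :=
  C.stMul (h42108 C) (h58817 C) _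
    (by decide +kernel)

theorem h59139 :
    C.S (v8 C) [] :=
  C.stOne _

theorem h59140 :
    C.S (v8 C) [1, 2, 0, 2, 1, 2, 0, 2, 1, 2, 0, 3, 1, 3, 0, 2, 1, 2, 0, 3, 1, 3, 0, 3, 1, 2, 2, 0, 3, 1, 3, 3, 0, 3, 1, 3, 0, 3, 3, 1, 3, 3, 0, 3, 3, 1, 2, 2, 0, 2, 2] :=
  C.stMul (h59139 C) (h48529 C) _
    (by decide +kernel)

theorem h59141 :
    C.S (v8 C) [1, 2, 0, 3, 1, 3, 0, 2, 1, 2, 0, 3, 1, 3, 0, 2] :=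
  C.stMul (h59140 C) (h48529 C) _
    (by decide +kernel)

theorem h59142 :
    C.S (v8 C) [] :=
  C.stInv (h59139 C) _ (by decide +kernel)

theorem h59143 :
    C.S (v8 C) [1, 2, 0, 3, 1, 3, 0, 2, 1, 2, 0, 3, 1, 3, 0, 2] :=
  C.stMul (h59141 C) (h59142 C) _
    (by decide +kernel)

theorem h59144 :
    C.S (v8 C) [] :=
  C.stOne _

theorem h59146 :
    C.S (v8 C) [1, 2, 0, 3, 1, 3, 0, 2, 1, 2, 0, 3, 1, 3, 0, 2, 1, 3, 0, 3, 1, 2, 2, 0, 3] :=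
  C.stMul (h59144 C) (h49763 C) _
    (by decide +kernel)

theorem h59148 :
    C.S (v8 C) [1, 2, 0, 3, 1, 3, 0, 2, 1, 2, 0, 3, 1, 3, 3, 0, 2, 2, 1, 3, 0] :=
  C.stMul (h59146 C) (h59143 C) _
    (by decide +kernel)

theorem h59149 :
    C.S (v8 C) [1, 2, 0, 3, 1, 3, 0, 2, 1, 2, 0, 3, 1, 3, 3, 0, 2, 2, 1, 3, 3, 0, 3, 1, 2, 2, 0, 3] :=
  C.stInv (h59146 C) _ (by decide +kernel)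

theorem h59150 :
    C.S (v8 C) [1, 2, 0, 2, 1, 2, 2, 0, 2, 1, 3, 0, 3, 1, 2, 0, 2, 2, 1, 2, 0, 3, 1, 2, 2, 0, 3, 1, 3, 3, 0, 3, 1, 3, 0] :=
  C.stMul (h59148 C) (h59149 C) _
    (by decide +kernel)

theorem h59157 :
    C.S (v8 C) [3, 1, 3, 0, 2, 2, 1, 3, 3, 0, 3, 1, 2, 2, 0, 3, 0, 0, 4] :=
  C.stMul (h59139 C) (h53063 C) _
    (by decide +kernel)

theorem h59169 :
    C.S (v8 C) [1, 2, 0, 2, 1, 2, 2, 0, 2, 1, 3, 0, 3, 1, 2, 0, 2, 2, 2, 2, 1, 3, 0, 3, 1, 2, 2, 2, 0, 3, 1, 2, 2, 0, 3, 3, 1, 2, 2, 0, 2, 2, 0, 4, 3, 3, 1] :=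
  C.stMul (h59139 C) (h56028 C) _
    (by decide +kernel)

theorem h59173 :
    C.S (v8 C) [3, 1, 2, 0, 2, 1, 3, 0, 3, 1, 2, 0, 2, 2, 1, 2, 0, 2, 2, 1, 3, 3, 0, 2, 1, 2, 0, 2, 2, 1, 3, 0, 3, 1, 2, 2, 0, 2, 1, 3, 0, 2, 1, 2, 2, 0, 2, 2, 0, 4, 2, 2, 0, 2, 2, 4] :=
  C.stMul (h59157 C) (h56028 C) _
    (by decide +kernel)

theorem h59185 :
    C.S (v8 C) [1, 2, 0, 3, 1, 3, 0, 2, 1, 2, 0, 3, 1, 3, 3, 0, 2, 2, 1, 3, 3, 0, 3, 1, 2, 2, 0, 3, 1, 3, 0, 3, 3, 0, 4, 2, 2, 1, 2] :=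
  C.stMul (h59169 C) (h48529 C) _
    (by decide +kernel)

theorem h59211 :
    C.S (v8 C) [1, 2, 0, 3, 1, 3, 0, 2, 1, 2, 0, 3, 1, 3, 0, 2, 2, 2, 1, 3, 0, 3, 1, 2, 2, 0, 2, 2, 2, 1, 3, 0, 2, 0, 4, 2, 2, 0, 2, 0, 2, 0, 4] :=
  C.stMul (h59173 C) (h51481 C) _
    (by decide +kernel)

theorem h59285 :
    C.S (v8 C) [1, 3, 0, 3, 1, 2, 2, 0, 3, 3, 1, 2, 0, 2, 2, 1, 2, 0, 2, 2, 1, 2, 0, 4, 2, 2, 0, 2, 0, 3, 0] :=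
  C.stMul (h59185 C) (h54569 C) _
    (by decide +kernel)

theorem h59397 :
    C.S (v8 C) [3, 1, 3, 0, 2, 2, 1, 3, 3, 0, 3, 3, 0, 4, 2, 0, 4, 2, 4, 2, 4] :=
  C.stMul (h59211 C) (h49763 C) _
    (by decide +kernel)

theorem h59590 :
    C.S (v8 C) [1, 2, 0, 2, 1, 2, 0, 2, 1, 2, 2, 0, 3, 3, 1, 2, 2, 2, 0, 2, 1, 2, 2, 0, 3, 3, 1, 3, 0, 2, 2, 1, 3, 0, 2, 1, 2, 2, 0, 2, 1, 3, 0, 3, 1, 2, 0, 2, 2, 2, 2, 1, 2, 0, 2, 2, 1, 2, 0, 2, 4, 2, 4, 2, 4, 2, 1, 3, 4] :=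
  C.stMul (h59285 C) (h56028 C) _
    (by decide +kernel)

theorem h59591 :
    C.S (v8 C) [2, 1, 3, 3, 0, 3, 1, 2, 2, 2, 0, 2, 1, 2, 0, 3, 1, 2, 0, 2, 2, 1, 3, 0, 3, 3, 1, 3, 3, 0, 3, 3, 1, 2, 2, 0, 2, 2, 2, 2, 2, 1, 2, 0, 3, 3, 4, 2, 2, 0, 2, 0, 2, 4] :=
  C.stInv (h59397 C) _ (by decide +kernel)

theorem h59592 :
    C.S (v8 C) [1, 2, 2, 0, 3, 3, 1, 2, 2, 2, 0, 2, 2, 1, 2, 0, 2, 1, 2, 0, 2, 2, 2, 1, 2, 0, 2, 2, 4, 3, 4, 2] :=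
  C.stMul (h59590 C) (h59591 C) _
    (by decide +kernel)

end CfsgLib.HNIndex
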