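import Cfsg.Agent.Lib.HNIndex.Verts

/-!
# Closed unions of orbits
-/

set_option autoImplicit false

namespace CfsgLib.HNIndex

open CfsgLib.HNxyz

theorem img_append : ∀ (u v : List ℕ) (i : ℕ), img (u ++ v) i = img v (img u i)
  | [], _, _ => rfl
  | g :: u, v, i => by rw [List.cons_append, img, img_append u v, img]

theorem invW_lt {w : List ℕ} (h : ∀ g ∈ w, g < 6) : ∀ g ∈ invW w, g < 6 := by
  intro g hg
  obtain ⟨x, hx, rfl⟩ := List.mem_map.1 hg
  exact xor_lt (h x (List.mem_reverse.1 hx))

theorem img_invW : ∀ {w : List ℕ}, (∀ g ∈ w, g < 6) → ∀ {i : ℕ}, i < 1408 →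
    img (invW w) (img w i) = i
  | [], _, _, _ => rfl
  | g :: w, h, i, hi => by
    have hg := h g List.mem_cons_self
    have e : invW (g :: w) = invW w ++ [g ^^^ 1] := by simp [invW]
    rw [e, img_append]
    show stepL (g ^^^ 1) (img (invW w) (img w (stepL g i))) = i
    rw [img_invW (fun a ha => h a (List.mem_cons_of_mem _ ha)) (stepL_lt hg hi).1]
    exact (stepL_lt hg hi).2

theorem and_lt {w : List ℕ} (h : (w.all fun g => Nat.blt g 6) = true) : ∀ g ∈ w, g < 6 := by
  simpa [List.all_eq_true] using h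

variable {G X : Type} [Group G] [MulAction G X] (C : Ctx G X)

/-- The union of the orbits of the vertices. -/
def inU (q : X) : Prop := ∃ j < 9, ∃ w : List ℕ, (∀ g ∈ w, g < 6) ∧ C.W w • vert C j = q

/-- All images under t of the points in one direction lie in the union. -/
def Good (p : X) (c : ℕ) : Prop :=
  ∀ w : List ℕ, (∀ g ∈ w, g < 6) → img w 0 = c → inU C (C.t • C.W w • p)

theorem good_seed {p : X} {u v : List ℕ} {j : ℕ} (hj : j < 9) (h : C.T p u (vert C j) v) (r : ℕ)
    (e : ((u.all fun g => Nat.blt g 6) && (v.all fun g => Nat.blt g 6) && Nat.beq (img u 0) r) = true) :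
    Good C p r := by
  simp only [Bool.and_eq_true, Nat.beq_eq] at e
  obtain ⟨⟨hu, hv⟩, hr⟩ := e
  intro w hw hwr
  have hu' := and_lt hu
  have hn : fix0 (w ++ invW u) = true := by
    simp only [fix0, Bool.and_eq_true, List.all_eq_true, Nat.blt_eq, Nat.beq_eq]
    refine ⟨fun g hg => ?_, ?_⟩
    · rcases List.mem_append.1 hg with hg | hg
      exacts [hw g hg, invW_lt hu' g hg]
    · rw [img_append, hwr, ← hr, img_invW hu' (by decide)]
  refine ⟨j, hj, w ++ invW u ++ v, fun g hg => ?_, ?_⟩
  · rcases List.mem_append.1 hg with hg | hg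
    · rcases List.mem_append.1 hg with hg | hg
      exacts [hw g hg, invW_lt hu' g hg]
    · exact and_lt hv g hg
  · have key : C.W w = C.W (w ++ invW u) * C.W u := by
      rw [C.W_append, C.W_invW (invW_lt hu'), inv_mul_cancel_right]
    rw [C.W_append, mul_smul, ← (h : C.t • C.W u • p = C.W v • vert C j), key, mul_smul,
      ← mul_smul, (C.commute_fix0 hn).eq.symm, mul_smul]

theorem good_all {p : X} {seeds : List ℕ} {gens : List (List ℕ)} {rows : List (ℕ × ℕ)}
    (hseed : ∀ r ∈ seeds, Good C p r)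
    (hgen : ∀ g ∈ gens, C.S p g)
    (h6 : (gens.all fun g => g.all fun x => Nat.blt x 6) = true)
    (hlt : (seeds.all fun r => Nat.blt r 1408) = true)
    (hgrow : grow gens rows (seedSet seeds 0) = some (2 ^ 1408 - 1)) :
    ∀ w : List ℕ, (∀ g ∈ w, g < 6) → inU C (C.t • C.W w • p) := by
  let P : ℕ → Prop := fun c => c < 1408 ∧ Good C p c
  have hP : ∀ g ∈ gens, ∀ c, P c → P (img g c) := by
    intro g hg c ⟨hc, hgood⟩
    have hg6 := and_lt (List.all_eq_true.1 h6 g hg)
    refine ⟨img_lt hg6 hc, fun w hw hwc => ?_⟩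
    have h1 := hgood (w ++ invW g) (fun x hx => by
      rcases List.mem_append.1 hx with hx | hx
      exacts [hw x hx, invW_lt hg6 x hx]) (by rw [img_append, hwc, img_invW hg6 hc])
    rwa [C.W_append, C.W_invW (invW_lt hg6), mul_smul,
      inv_smul_eq_iff.2 (hgen g hg).symm] at h1
  obtain ⟨hall, -⟩ := grow_spec hP hgrow (fun i hi => by
    rcases seedSet_mem hi with hi | hi
    · exact ⟨Nat.blt_eq.mp (List.all_eq_true.1 hlt i hi), hseed i hi⟩
    · simp at hi)
  intro w hw
  refine (hall (img w 0) ?_).2 w hw rfl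
  rw [Nat.testBit_two_pow_sub_one, decide_eq_true_eq]
  exact img_lt hw (by decide)

theorem inU_letter {q : X} (h : inU C q) {g : ℕ} (hg : g < 6) : inU C (C.W [g] • q) := by
  obtain ⟨j, hj, w, hw, rfl⟩ := h
  refine ⟨j, hj, g :: w, fun x hx => ?_, ?_⟩
  · rcases List.mem_cons.1 hx with rfl | hx
    exacts [hg, hw x hx]
  · rw [← mul_smul, ← C.W_append]
    rfl

/-- The union is everything reached from the given point. -/
theorem inU_all (hgen : Subgroup.closure {C.a, C.b, C.c, C.t} = ⊤)
    (ht : ∀ j < 9, ∀ w : List ℕ, (∀ g ∈ w, g < 6) → inU C (C.t • C.W w • vert C j)) :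
    ∀ g : G, inU C (g • C.p0) := by
  have h0 : inU C C.p0 := ⟨0, by decide, [], by simp, by simp [Ctx.W, evalW_nil, vert, v0]⟩
  have htu : ∀ q, inU C q → inU C (C.t • q) := by
    rintro q ⟨j, hj, w, hw, rfl⟩
    exact ht j hj w hw
  intro g
  suffices h : ∀ q, inU C q → inU C (g • q) from h _ h0
  have htinv : ∀ q, inU C q → inU C (C.t⁻¹ • q) := fun q hq => by
    rw [show C.t⁻¹ = C.t * C.t * C.t * C.t from inv_eq_of_mul_eq_one_right (by
      rw [← C.t_five]; simp only [pow_succ, pow_zero, one_mul, mul_assoc])]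
    simp only [mul_smul]
    exact htu _ (htu _ (htu _ (htu _ hq)))
  induction (hgen.symm ▸ Subgroup.mem_top g : g ∈ Subgroup.closure {C.a, C.b, C.c, C.t})
    using Subgroup.closure_induction'' with
  | mem x hx =>
    intro q hq
    rcases hx with rfl | rfl | rfl | rfl
    · simpa [Ctx.W, evalW, elt] using inU_letter C hq (g := 0) (by decide)
    · simpa [Ctx.W, evalW, elt] using inU_letter C hq (g := 2) (by decide)
    · simpa [Ctx.W, evalW, elt] using inU_letter C hq (g := 4) (by decide)
    · exact htu q hq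
  | inv_mem x hx =>
    intro q hq
    rcases hx with rfl | rfl | rfl | rfl
    · simpa [Ctx.W, evalW, elt] using inU_letter C hq (g := 1) (by decide)
    · simpa [Ctx.W, evalW, elt] using inU_letter C hq (g := 3) (by decide)
    · simpa [Ctx.W, evalW, elt] using inU_letter C hq (g := 5) (by decide)
    · exact htinv q hq
  | one => intro q hq; rwa [one_smul]
  | mul x y _ _ ex ey => intro q hq; rw [mul_smul]; exact ex _ (ey _ hq)

/-- The words of a point stabiliser. -/
noncomputable def stabOf (p : X) : Subgroup (Mg C.a C.b C.c) :=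
  (MulAction.stabilizer G p).comap (pr C.a C.b C.c)

theorem mem_stabOf {p : X} {w : List ℕ} (h : C.S p w) : mW C.a C.b C.c w ∈ stabOf C p := by
  show pr C.a C.b C.c (mW C.a C.b C.c w) • p = p
  rw [pr_mW]
  exact h

/-- The points reached from a point by the group generated by x, y, z. -/
def orbSet (p : X) : Set X := Set.range fun m : Mg C.a C.b C.c => pr C.a C.b C.c m • p

theorem mem_orbSet {p : X} {w : List ℕ} : C.W w • p ∈ orbSet C p :=
  ⟨mW C.a C.b C.c w, by simp [pr_mW, Ctx.W]⟩

theorem orbSet_finite (p : X) : (orbSet C p).Finite := by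
  haveI := m_finite C.rels
  exact Set.finite_range _

/-- The orbit of a point has at most 177408000 divided by a chain bound many elements. -/
theorem orbit_bound (p : X) {Ls : List Level} (h : chainOk [] Ls = true)
    (hS : ∀ L ∈ Ls, ∀ w ∈ L.gens, C.S p w) :
    (orbSet C p).ncard * chainSize Ls ≤ 177408000 := by
  haveI := m_finite C.rels
  set K := stabOf C p with hK
  have hb := chain_bound (mA C.a C.b C.c) (mB C.a C.b C.c) (mC C.a C.b C.c) (rho C.a C.b C.c)
    rfl rfl rfl K h (fun L hL w hw => mem_stabOf C (hS L hL w hw))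
  have hle : Nat.card ↥(K ⊓ fixOf (rho C.a C.b C.c) []) ≤ Nat.card K :=
    Subgroup.card_le_of_le inf_le_left
  have hpos : 0 < Nat.card ↥(K ⊓ fixOf (rho C.a C.b C.c) (chainPts [] Ls)) := Nat.card_pos
  have hsize : chainSize Ls ≤ Nat.card K :=
    (Nat.le_mul_of_pos_right _ hpos).trans (hb.trans hle)
  have hwell : ∀ m m' : Mg C.a C.b C.c, m⁻¹ * m' ∈ K →
      pr C.a C.b C.c m • p = pr C.a C.b C.c m' • p := by
    intro m m' hm
    have hm' : pr C.a C.b C.c (m⁻¹ * m') • p = p := hm
    rwa [map_mul, map_inv, mul_smul, inv_smul_eq_iff, eq_comm] at hm'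
  have hcard : (orbSet C p).ncard ≤ K.index := by
    rw [← Nat.card_coe_set_eq, Subgroup.index]
    refine Nat.card_le_card_of_surjective
      (fun q : Mg C.a C.b C.c ⧸ K => (⟨pr C.a C.b C.c q.out • p, ⟨q.out, rfl⟩⟩ : orbSet C p)) ?_
    rintro ⟨_, m, rfl⟩
    refine ⟨(m : Mg C.a C.b C.c ⧸ K), Subtype.ext (hwell _ _ ?_)⟩
    exact QuotientGroup.eq.1 (QuotientGroup.out_eq' _)
  calc (orbSet C p).ncard * chainSize Ls ≤ K.index * Nat.card K := Nat.mul_le_mul hcard hsize
    _ = 177408000 := by rw [Subgroup.index_mul_card, m_card C.rels]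

end CfsgLib.HNIndex
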