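import Cfsg.Agent.Lib.HNIndex.Target

/-!
# The nine orbits are distinct and have the sizes of the table

The numbers of directions from one orbit into another separate the orbits, and double counting then
gives the sizes.
-/

set_option autoImplicit false
set_option maxRecDepth 100000

namespace CfsgLib.HNIndex

open CfsgLib.HNxyz

theorem top_cover : ((grow topLevel.gens topLevel.rows (2 ^ 0)).map fun m =>
    Nat.beq m (2 ^ 1408 - 1)) = some true := by
  decide +kernel

theorem exists_word {c : ℕ} (hc : c < 1408) : ∃ w : List ℕ, (∀ g ∈ w, g < 6) ∧ img w 0 = c := by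
  obtain ⟨m, hm, hb⟩ := Option.map_eq_some_iff.1 top_cover
  rw [Nat.beq_eq] at hb
  let P : ℕ → Prop := fun c => ∃ w : List ℕ, (∀ g ∈ w, g < 6) ∧ img w 0 = c
  have hP : ∀ u ∈ topLevel.gens, ∀ p, P p → P (img u p) := by
    rintro u hu p ⟨w, hw, rfl⟩
    refine ⟨w ++ u, fun g hg => ?_, img_append _ _ _⟩
    rcases List.mem_append.1 hg with hg | hg
    · exact hw g hg
    · have h6 : ∀ u ∈ topLevel.gens, ∀ g ∈ u, g < 6 := by decide
      exact h6 u hu g hg
  refine (grow_spec hP hm fun i hi => ?_).1 c ?_
  · rw [Nat.testBit_two_pow, decide_eq_true_eq] at hi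
    exact ⟨[], by simp, hi⟩
  · rw [hb, Nat.testBit_two_pow_sub_one, decide_eq_true_eq]
    exact hc

/-- A word reaching a coset. -/
noncomputable def tw (c : ℕ) : List ℕ :=
  if h : c < 1408 then Classical.choose (exists_word h) else []

theorem tw_spec {c : ℕ} (hc : c < 1408) : (∀ g ∈ tw c, g < 6) ∧ img (tw c) 0 = c := by
  rw [tw, dif_pos hc]
  exact Classical.choose_spec (exists_word hc)

variable {G X : Type} [Group G] [MulAction G X] (C : Ctx G X)

/-- The neighbour of a point in a direction. -/
noncomputable def nb (p : X) (c : ℕ) : X := (C.W (tw c))⁻¹ • C.t • C.W (tw c) • p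

theorem nb_eq (p : X) {c : ℕ} {w : List ℕ} (hw : ∀ g ∈ w, g < 6) (hwc : img w 0 = c) :
    nb C p c = (C.W w)⁻¹ • C.t • C.W w • p := by
  have hc : c < 1408 := hwc ▸ img_lt hw (by decide)
  obtain ⟨hu, huc⟩ := tw_spec hc
  set u := tw c with hudef
  have hn : fix0 (w ++ invW u) = true := by
    simp only [fix0, Bool.and_eq_true, List.all_eq_true, Nat.blt_eq, Nat.beq_eq]
    refine ⟨fun g hg => ?_, ?_⟩
    · rcases List.mem_append.1 hg with hg | hg
      exacts [hw g hg, invW_lt hu g hg]
    · rw [img_append, hwc, ← huc, img_invW hu (by decide)]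
  have key : C.W w = C.W (w ++ invW u) * C.W u := by
    rw [C.W_append, C.W_invW (invW_lt hu), inv_mul_cancel_right]
  show (C.W u)⁻¹ • C.t • C.W u • p = _
  rw [key]
  simp only [← mul_smul]
  have h := (C.commute_fix0 hn).eq
  congr 1
  calc (C.W u)⁻¹ * (C.t * C.W u)
      = (C.W u)⁻¹ * ((C.W (w ++ invW u))⁻¹ * (C.W (w ++ invW u) * C.t) * C.W u) := by group
    _ = (C.W (w ++ invW u) * C.W u)⁻¹ * (C.t * (C.W (w ++ invW u) * C.W u)) := by rw [← h]; group

theorem nb_smul (p : X) {g : List ℕ} (hg : ∀ x ∈ g, x < 6) {c : ℕ} (hc : c < 1408) :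
    nb C (C.W g • p) c = C.W g • nb C p (img g c) := by
  obtain ⟨hu, huc⟩ := tw_spec hc
  rw [nb_eq C p (w := tw c ++ g) (fun x hx => by
      rcases List.mem_append.1 hx with hx | hx
      exacts [hu x hx, hg x hx]) (by rw [img_append, huc]), C.W_append]
  simp only [nb, ← mul_smul]
  congr 1
  group

theorem sq_central : ∀ {w : List ℕ}, (∀ g ∈ w, g < 6) → Commute (C.a * C.a) (C.W w)
  | [], _ => by simp [Ctx.W, evalW_nil]
  | g :: w, h => by
    have hg := h g List.mem_cons_self
    rw [show C.W (g :: w) = C.W [g] * C.W w from C.W_append [g] w]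
    refine Commute.mul_right ?_ (sq_central fun x hx => h x (List.mem_cons_of_mem _ hx))
    have ha : Commute (C.a * C.a) C.a := (Commute.refl _).mul_left (Commute.refl _)
    have hb : Commute (C.a * C.a) C.b := sq_comm_y C.rels
    have hc : Commute (C.a * C.a) C.c := sq_comm_z C.rels
    interval_cases g <;> simp only [Ctx.W, evalW, List.map_cons, List.map_nil, List.prod_cons,
      List.prod_nil, mul_one, elt]
    exacts [ha, ha.inv_right, hb, hb.inv_right, hc, hc.inv_right]

theorem nb_back (p : X) {c : ℕ} (hc : c < 1408) : nb C (nb C p c) (img [0, 0] c) = p := by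
  obtain ⟨hu, huc⟩ := tw_spec hc
  rw [nb_eq C _ (w := tw c ++ [0, 0]) (fun x hx => by
      rcases List.mem_append.1 hx with hx | hx
      · exact hu x hx
      · simp at hx; omega) (by rw [img_append, huc]), C.W_append]
  simp only [nb, ← mul_smul]
  have h2 : C.W [0, 0] = C.a * C.a := by simp [Ctx.W, evalW, elt]
  have e : (C.W (tw c) * C.W [0, 0])⁻¹ * (C.t * (C.W (tw c) * C.W [0, 0] *
      ((C.W (tw c))⁻¹ * (C.t * C.W (tw c))))) = 1 := by
    rw [h2, ← (sq_central C hu).eq]
    calc (C.a * C.a * C.W (tw c))⁻¹ * (C.t * (C.a * C.a * C.W (tw c) *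
          ((C.W (tw c))⁻¹ * (C.t * C.W (tw c)))))
        = (C.W (tw c))⁻¹ * (C.a * C.a)⁻¹ * (C.t * (C.a * C.a) * C.t) * C.W (tw c) := by group
      _ = 1 := by rw [C.t_turn]; group
  rw [e, one_smul]

theorem word_of_mem : ∀ m : Mg C.a C.b C.c,
    ∃ w : List ℕ, (∀ g ∈ w, g < 6) ∧ C.W w = pr C.a C.b C.c m := by
  rintro ⟨m, hm⟩
  show ∃ w : List ℕ, (∀ g ∈ w, g < 6) ∧ C.W w = m.1
  induction hm using Subgroup.closure_induction with
  | mem x hx =>
    rcases hx with rfl | rfl | rfl
    exacts [⟨[0], by simp, by simp [Ctx.W, evalW, elt]⟩, ⟨[2], by simp, by simp [Ctx.W, evalW, elt]⟩,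
      ⟨[4], by simp, by simp [Ctx.W, evalW, elt]⟩]
  | one => exact ⟨[], by simp, by simp [Ctx.W, evalW_nil]⟩
  | mul x y _ _ ex ey =>
    obtain ⟨u, hu, eu⟩ := ex
    obtain ⟨v, hv, ev⟩ := ey
    refine ⟨u ++ v, fun g hg => ?_, by rw [C.W_append, eu, ev]; rfl⟩
    rcases List.mem_append.1 hg with hg | hg
    exacts [hu g hg, hv g hg]
  | inv x _ ex =>
    obtain ⟨u, hu, eu⟩ := ex
    exact ⟨invW u, invW_lt hu, by rw [C.W_invW (invW_lt hu), eu]; rfl⟩

theorem orbSet_iff {p q : X} :
    q ∈ orbSet C p ↔ ∃ w : List ℕ, (∀ g ∈ w, g < 6) ∧ C.W w • p = q := by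
  constructor
  · rintro ⟨m, rfl⟩
    obtain ⟨w, hw, e⟩ := word_of_mem C m
    exact ⟨w, hw, by rw [e]⟩
  · rintro ⟨w, -, rfl⟩
    exact mem_orbSet C

theorem orbSet_eq {p q : X} (h : q ∈ orbSet C p) : orbSet C q = orbSet C p := by
  obtain ⟨m, rfl⟩ := h
  ext r
  constructor
  · rintro ⟨n, rfl⟩
    exact ⟨n * m, by simp [map_mul, mul_smul]⟩
  · rintro ⟨n, rfl⟩
    exact ⟨n * m⁻¹, by simp [map_mul, mul_smul]⟩

theorem self_mem (p : X) : p ∈ orbSet C p := ⟨1, by simp⟩

theorem nb_target {i c : ℕ} (hi : i < 9) (hc : c < 1408) :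
    orbSet C (nb C (vert C i) c) = orbSet C (vert C (tgt i c)) := by
  obtain ⟨hu, huc⟩ := tw_spec hc
  have h := tgt_spec C i hi c hc (tw c) hu huc
  rw [← orbSet_eq C h]
  refine (orbSet_eq C ?_).symm.trans rfl |>.symm
  exact orbSet_iff C |>.2 ⟨invW (tw c), invW_lt hu, by
    rw [C.W_invW (invW_lt hu)]; rfl⟩

/-- The least vertex in the same orbit. -/
noncomputable def least (i : ℕ) : ℕ :=
  Nat.find (⟨i, rfl⟩ : ∃ k, orbSet C (vert C k) = orbSet C (vert C i))

theorem least_spec (i : ℕ) : orbSet C (vert C (least C i)) = orbSet C (vert C i) :=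
  Nat.find_spec (⟨i, rfl⟩ : ∃ k, orbSet C (vert C k) = orbSet C (vert C i))

theorem least_le (i : ℕ) : least C i ≤ i := Nat.find_le rfl

theorem least_congr {i j : ℕ} (h : orbSet C (vert C i) = orbSet C (vert C j)) :
    least C i = least C j := by
  unfold least
  exact Nat.find_congr' (by intro k; rw [h])

theorem tgt_lt : ∀ i < 9, ∀ c, tgt i c < 9 := by
  intro i hi c
  interval_cases i <;> simp only [tgt] <;> (repeat' split) <;> decide

theorem deg_eq {i k : ℕ} (hi : i < 9) (hk : k < 9) :
    (deg.getD i []).getD k 0 = ((Finset.range 1408).filter fun c => tgt i c = k).card := by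
  have h := List.all_eq_true.1 (List.all_eq_true.1 tgt_checks i (List.mem_range.2 hi)) k
    (List.mem_range.2 hk)
  rw [Nat.beq_eq, List.countP_eq_length_filter] at h
  rw [← h, ← List.toFinset_card_of_nodup ((List.nodup_range).filter _)]
  congr 1
  ext c
  simp

/-- The number of directions from a vertex into the orbit of a vertex. -/
noncomputable def cnt (i m : ℕ) : ℕ :=
  ((Finset.range 1408).filter fun c => least C (tgt i c) = least C m).card

theorem count_congr {i j m : ℕ} (hi : i < 9) (hj : j < 9)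
    (h : orbSet C (vert C i) = orbSet C (vert C j)) : cnt C i m = cnt C j m := by
  obtain ⟨g, hg, hgv⟩ := (orbSet_iff C).1 (h ▸ self_mem C (vert C i))
  refine Finset.card_nbij (fun c => img g c) (fun c hc => ?_) (fun c hc c' hc' e => ?_) fun c hc => ?_
  · simp only [Finset.mem_coe, Finset.mem_filter, Finset.mem_range] at hc ⊢
    refine ⟨img_lt hg hc.1, ?_⟩
    rw [← hc.2]
    refine least_congr C ?_
    rw [← nb_target C hj (img_lt hg hc.1), ← nb_target C hi hc.1, ← hgv, nb_smul C _ hg hc.1]
    exact (orbSet_eq C (mem_orbSet C)).symm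
  · simp only [Finset.mem_coe, Finset.mem_filter, Finset.mem_range] at hc hc'
    rw [← img_invW hg hc.1, show img g c = img g c' from e, img_invW hg hc'.1]
  · simp only [Finset.mem_coe, Finset.mem_filter, Finset.mem_range] at hc
    have hgi := invW_lt hg
    have hback : img g (img (invW g) c) = c := by
      have := img_invW hgi hc.1
      rwa [show invW (invW g) = g from by
        simp only [invW, List.map_reverse, List.reverse_reverse, List.map_map]
        refine (List.map_congr_left fun x hx => ?_).trans (List.map_id g)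
        exact xor_xor (hg x hx)] at this
    refine ⟨img (invW g) c, ?_, hback⟩
    simp only [Finset.mem_coe, Finset.mem_filter, Finset.mem_range]
    refine ⟨img_lt hgi hc.1, ?_⟩
    rw [← hc.2]
    refine least_congr C ?_
    rw [← nb_target C hi (img_lt hgi hc.1), ← nb_target C hj hc.1, ← hgv,
      nb_smul C _ hg (img_lt hgi hc.1), hback]
    exact orbSet_eq C (mem_orbSet C)

/-- A vertex shares its orbit with no other vertex. -/
def Iso (j : ℕ) : Prop := ∀ k < 9, orbSet C (vert C k) = orbSet C (vert C j) → k = j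

theorem least_inj {i j : ℕ} (h : least C i = least C j) :
    orbSet C (vert C i) = orbSet C (vert C j) := by
  rw [← least_spec C i, h, least_spec C j]

theorem cnt_iso {i m : ℕ} (hi : i < 9) (hm : m < 9) (h : Iso C m) :
    cnt C i m = (deg.getD i []).getD m 0 := by
  rw [deg_eq hi hm, cnt]
  congr 1
  refine Finset.filter_congr fun c _ => ⟨fun e => h _ (tgt_lt i hi c) (least_inj C e), fun e => by rw [e]⟩

theorem iso_of_col {j m : ℕ} (hj : j < 9) (hm : m < 9) (h : Iso C m) (done : List ℕ)
    (hd : ∀ k ∈ done, Iso C k)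
    (e : ((List.range 9).all fun k =>
      !Nat.beq ((deg.getD k []).getD m 0) ((deg.getD j []).getD m 0) || Nat.beq k j || done.contains k) = true) :
    Iso C j := by
  intro k hk hkj
  have := count_congr C (m := m) hk hj hkj
  rw [cnt_iso C hk hm h, cnt_iso C hj hm h] at this
  have he := List.all_eq_true.1 e k (List.mem_range.2 hk)
  simp only [Bool.or_eq_true, Bool.not_eq_true'] at he
  rcases he with (he | he) | he
  · rw [this] at he
    simp at he
  · exact Nat.beq_eq.mp he
  · exact (hd k (List.contains_iff_mem.1 he) j hj hkj.symm).symm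

theorem orb_zero {q : X} (h : q ∈ orbSet C (vert C 0)) : q = C.p0 := by
  obtain ⟨m, rfl⟩ := h
  exact fixed_p0 C m

theorem vert_one : vert C 1 = C.t • C.p0 := by
  simp [vert, v1, v0, Ctx.W, evalW_nil]

theorem into_one {k : ℕ} (hk : k < 9) (h : orbSet C (vert C k) = orbSet C (vert C 0)) {m : ℕ}
    (hm : m < 9) (hd : (deg.getD k []).getD m 0 ≠ 0) :
    orbSet C (vert C m) = orbSet C (vert C 1) := by
  rw [deg_eq hk hm] at hd
  obtain ⟨c, hc⟩ := Finset.card_ne_zero.1 hd
  rw [Finset.mem_filter, Finset.mem_range] at hc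
  have hv : vert C k = C.p0 := orb_zero C (h ▸ self_mem C _)
  rw [← hc.2, ← nb_target C hk hc.1, hv, nb]
  refine orbSet_eq C ((orbSet_iff C).2 ⟨invW (tw c), invW_lt (tw_spec hc.1).1, ?_⟩)
  have hfix : C.W (tw c) • C.p0 = C.p0 := by
    refine C.stRoot ?_
    rw [List.all_eq_true]
    exact fun g hg => Nat.ble_eq.mpr ((tw_spec hc.1).1 g hg)
  rw [C.W_invW (invW_lt (tw_spec hc.1).1), hfix, vert_one]

theorem iso_zero (hne : C.t • C.p0 ≠ C.p0) : Iso C 0 := by
  have h10 : orbSet C (vert C 1) ≠ orbSet C (vert C 0) := fun e =>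
    hne (by rw [← vert_one]; exact orb_zero C (e ▸ self_mem C _))
  have hself : ∀ k < 9, k ≠ 5 → orbSet C (vert C k) = orbSet C (vert C 0) → k = 0 := by
    intro k hk h5 h
    by_contra h0
    have hcase : (deg.getD k []).getD k 0 ≠ 0 := by
      interval_cases k <;> first | omega | decide
    exact h10 ((into_one C hk h hk hcase).symm.trans h)
  intro k hk h
  by_cases h5 : k = 5
  · subst h5
    exfalso
    have h31 := into_one C hk h (m := 3) (by norm_num) (by decide)
    have hc := count_congr C (m := 0) (by norm_num : 3 < 9) (by norm_num : 1 < 9) h31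
    have hz : ∀ i < 9, cnt C i 0 = (deg.getD i []).getD 0 0 + (deg.getD i []).getD 5 0 := by
      intro i hi
      rw [deg_eq hi (by norm_num), deg_eq hi (by norm_num), ← Finset.card_union_of_disjoint, cnt]
      · congr 1
        ext c
        simp only [Finset.mem_filter, Finset.mem_union, Finset.mem_range]
        constructor
        · rintro ⟨hc, e⟩
          by_cases e5 : tgt i c = 5
          · exact Or.inr ⟨hc, e5⟩
          · exact Or.inl ⟨hc, hself _ (tgt_lt i hi c) e5 (least_inj C e)⟩
        · rintro (⟨hc, e⟩ | ⟨hc, e⟩)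
          · exact ⟨hc, by rw [e]⟩
          · exact ⟨hc, by rw [e]; exact least_congr C h⟩
      · rw [Finset.disjoint_filter]
        intro c _ e e'
        omega
    rw [hz 3 (by norm_num), hz 1 (by norm_num)] at hc
    simp [deg] at hc
  · exact hself k hk h5 h

theorem vert_inj (hne : C.t • C.p0 ≠ C.p0) {i j : ℕ} (hi : i < 9) (hj : j < 9)
    (h : orbSet C (vert C i) = orbSet C (vert C j)) : i = j := by
  have i0 := iso_zero C hne
  have i1 : Iso C 1 := iso_of_col C (m := 0) (by norm_num) (by norm_num) i0 [] (by simp) (by decide +kernel)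
  have col1 : ∀ j, j < 9 → ((List.range 9).all fun k =>
      !Nat.beq ((deg.getD k []).getD 1 0) ((deg.getD j []).getD 1 0) || Nat.beq k j ||
        ([] : List ℕ).contains k) = true → Iso C j :=
    fun j hj e => iso_of_col C (m := 1) hj (by norm_num) i1 [] (by simp) e
  have i2 := col1 2 (by norm_num) (by decide +kernel)
  have i3 := col1 3 (by norm_num) (by decide +kernel)
  have i4 := col1 4 (by norm_num) (by decide +kernel)
  have i5 := col1 5 (by norm_num) (by decide +kernel)
  have i6 : Iso C 6 := iso_of_col C (m := 4) (by norm_num) (by norm_num) i4 [0, 1, 2, 3, 4, 5]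
    (by simp [i0, i1, i2, i3, i4, i5]) (by decide +kernel)
  have i7 : Iso C 7 := iso_of_col C (m := 2) (by norm_num) (by norm_num) i2 [] (by simp) (by decide +kernel)
  have all : ∀ k < 8, Iso C k := by
    intro k hk
    interval_cases k <;> assumption
  by_cases hj8 : j < 8
  · exact all j hj8 i hi h
  · by_cases hi8 : i < 8
    · exact (all i hi8 j hj h.symm).symm
    · omega

/-- Double counting the edges between two orbits. -/
theorem balance (hne : C.t • C.p0 ≠ C.p0) {j k : ℕ} (hj : j < 9) (hk : k < 9) :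
    (orbSet C (vert C j)).ncard * (deg.getD j []).getD k 0 =
      (orbSet C (vert C k)).ncard * (deg.getD k []).getD j 0 := by
  classical
  have cnt : ∀ {j k : ℕ}, j < 9 → k < 9 → ∀ p ∈ orbSet C (vert C j),
      ((Finset.range 1408).filter fun c => nb C p c ∈ orbSet C (vert C k)).card =
        (deg.getD j []).getD k 0 := by
    intro j k hj hk p hp
    rw [deg_eq hj hk]
    obtain ⟨g, hg, rfl⟩ := (orbSet_iff C).1 hp
    have key : ∀ c < 1408, (nb C (C.W g • vert C j) c ∈ orbSet C (vert C k) ↔ tgt j (img g c) = k) := by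
      intro c hc
      rw [nb_smul C _ hg hc]
      have e := (orbSet_eq C (mem_orbSet C (p := nb C (vert C j) (img g c)) (w := g))).trans
        (nb_target C hj (img_lt hg hc))
      constructor
      · intro hm
        refine vert_inj C hne (tgt_lt j hj _) hk ?_
        rw [← e, orbSet_eq C hm]
      · intro ht
        rw [← ht, ← e]
        exact self_mem C _
    refine Finset.card_nbij (fun c => img g c) (fun c hc => ?_) (fun c hc c' hc' e => ?_) fun c hc => ?_
    · simp only [Finset.mem_coe, Finset.mem_filter, Finset.mem_range] at hc ⊢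
      exact ⟨img_lt hg hc.1, (key c hc.1).1 hc.2⟩
    · simp only [Finset.mem_coe, Finset.mem_filter, Finset.mem_range] at hc hc'
      rw [← img_invW hg hc.1, show img g c = img g c' from e, img_invW hg hc'.1]
    · simp only [Finset.mem_coe, Finset.mem_filter, Finset.mem_range] at hc
      have hgi := invW_lt hg
      have hback : img g (img (invW g) c) = c := by
        have := img_invW hgi hc.1
        rwa [show invW (invW g) = g from by
          simp only [invW, List.map_reverse, List.reverse_reverse, List.map_map]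
          refine (List.map_congr_left fun x hx => ?_).trans (List.map_id g)
          exact xor_xor (hg x hx)] at this
      refine ⟨img (invW g) c, ?_, hback⟩
      simp only [Finset.mem_coe, Finset.mem_filter, Finset.mem_range]
      exact ⟨img_lt hgi hc.1, (key _ (img_lt hgi hc.1)).2 (by rw [hback]; exact hc.2)⟩
  let T : ℕ → ℕ → Finset (X × ℕ) := fun j k =>
    ((orbSet_finite C (vert C j)).toFinset ×ˢ Finset.range 1408).filter fun e =>
      nb C e.1 e.2 ∈ orbSet C (vert C k)
  have hT : ∀ {j k : ℕ}, j < 9 → k < 9 →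
      (T j k).card = (orbSet C (vert C j)).ncard * (deg.getD j []).getD k 0 := by
    intro j k hj hk
    rw [Finset.card_filter, Finset.sum_product, Set.ncard_eq_toFinset_card _ (orbSet_finite C _)]
    simp only [← Finset.card_filter]
    exact Finset.sum_const_nat fun p hp => cnt hj hk p ((Set.Finite.mem_toFinset _).1 hp)
  rw [← hT hj hk, ← hT hk hj]
  have xx : ∀ c < 1408, img [0, 0] c < 1408 ∧ img [0, 0] (img [0, 0] c) = c := by
    have h : ((List.range 1408).all fun c => Nat.blt (img [0, 0] c) 1408 &&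
        Nat.beq (img [0, 0] (img [0, 0] c)) c) = true := by decide +kernel
    intro c hc
    have := List.all_eq_true.1 h c (List.mem_range.2 hc)
    simpa [Nat.blt_eq, Nat.beq_eq] using this
  have step : ∀ j k, ∀ e ∈ T j k, (nb C e.1 e.2, img [0, 0] e.2) ∈ T k j ∧
      (nb C (nb C e.1 e.2) (img [0, 0] e.2), img [0, 0] (img [0, 0] e.2)) = e := by
    intro j k e he
    simp only [T, Finset.mem_filter, Finset.mem_product, Set.Finite.mem_toFinset,
      Finset.mem_range] at he ⊢
    obtain ⟨⟨hp, hc⟩, hq⟩ := he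
    rw [nb_back C _ hc, (xx e.2 hc).2]
    exact ⟨⟨⟨hq, (xx e.2 hc).1⟩, hp⟩, rfl⟩
  exact Finset.card_nbij' (fun e => (nb C e.1 e.2, img [0, 0] e.2))
    (fun e => (nb C e.1 e.2, img [0, 0] e.2)) (fun e he => (step j k e he).1)
    (fun e he => (step k j e he).1) (fun e he => (step j k e he).2) (fun e he => (step k j e he).2)

/-- The number of points is 1539000. -/
theorem card_eq_table [MulAction.IsPretransitive G X]
    (hgen : Subgroup.closure {C.a, C.b, C.c, C.t} = ⊤) (hne : C.t • C.p0 ≠ C.p0) :
    Nat.card X = 1539000 := by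
  have h0 : (orbSet C (vert C 0)).ncard = 1 := by
    refine le_antisymm (orb0 C) ((Set.ncard_pos (orbSet_finite C _)).2 ⟨_, self_mem C _⟩)
  have e01 := balance C hne (j := 0) (k := 1) (by norm_num) (by norm_num)
  have e12 := balance C hne (j := 1) (k := 2) (by norm_num) (by norm_num)
  have e13 := balance C hne (j := 1) (k := 3) (by norm_num) (by norm_num)
  have e14 := balance C hne (j := 1) (k := 4) (by norm_num) (by norm_num)
  have e15 := balance C hne (j := 1) (k := 5) (by norm_num) (by norm_num)
  have e26 := balance C hne (j := 2) (k := 6) (by norm_num) (by norm_num)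
  have e27 := balance C hne (j := 2) (k := 7) (by norm_num) (by norm_num)
  have e68 := balance C hne (j := 6) (k := 8) (by norm_num) (by norm_num)
  simp only [deg, List.getD_cons_succ, List.getD_cons_zero] at e01 e12 e13 e14 e15 e26 e27 e68
  obtain ⟨hfin, -⟩ := card_le_table C hgen
  have hu : (Set.univ : Set X) = ⋃ j ∈ ((Finset.range 9 : Finset ℕ) : Set ℕ), orbSet C (vert C j) := by
    ext q
    simpa using mem_orb C hgen q
  rw [← Set.ncard_univ, hu, Set.Finite.ncard_biUnion (Finset.finite_toSet _)
    (fun j _ => orbSet_finite C _) ?_, finsum_mem_coe_finset]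
  · simp only [Finset.sum_range_succ, Finset.sum_range_zero]
    omega
  · intro i hi j hj hij
    rw [Finset.mem_coe, Finset.mem_range] at hi hj
    rw [Function.onFun, Set.disjoint_left]
    exact fun q hqi hqj => hij (vert_inj C hne hi hj ((orbSet_eq C hqi).symm.trans (orbSet_eq C hqj)))

end CfsgLib.HNIndex
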