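import Cfsg.Agent.Lib.HNIndex.Model
import Cfsg.Agent.Lib.HNIndex.ChainData

/-!
# Reading equations of words from six points
-/

set_option autoImplicit false
set_option maxRecDepth 100000

namespace CfsgLib.HNIndex

open CfsgLib.HNxyz

/-- The six points. -/
def base : List ℕ := [8, 10, 9, 7, 2, 0]

theorem chain_checks : chainOk [] (topLevel :: cChain) = true ∧
    chainSize (topLevel :: cChain) = 177408000 ∧ chainSize cChain = 126000 ∧
    topLevel.rows.length = 1407 ∧ chainPts [] (topLevel :: cChain) = base := by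
  decide +kernel

/-- Two words have the same image of each of the six points. -/
def same (u v : List ℕ) : Bool :=
  (u.all fun g => Nat.blt g 6) && (v.all fun g => Nat.blt g 6) &&
    base.all fun p => Nat.beq (img u p) (img v p)

/-- A word fixes the first point. -/
def fix0 (n : List ℕ) : Bool := (n.all fun g => Nat.blt g 6) && Nat.beq (img n 0) 0

variable {G : Type} [Group G] {a b c : G}

theorem base_lt : ∀ p ∈ base, p < 1408 := by decide

theorem fix_base (h : XYZRels a b c) : fixOf (rho a b c) base = ⊥ := by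
  haveI := m_finite h
  obtain ⟨h1, h2, -, -, h5⟩ := chain_checks
  have := chain_bound (mA a b c) (mB a b c) (mC a b c) (rho a b c) rfl rfl rfl ⊤ h1
    (fun _ _ w _ => Subgroup.mem_top _)
  rw [h2, h5, top_inf_eq, top_inf_eq] at this
  have h0 := Subgroup.card_le_card_group (fixOf (rho a b c) [])
  rw [m_card h] at h0
  have hpos : 0 < Nat.card (fixOf (rho a b c) base) := Nat.card_pos
  exact Subgroup.card_eq_one.1 (by omega)

theorem mW_eq (h : XYZRels a b c) {u v : List ℕ} (e : same u v = true) :
    mW a b c u = mW a b c v := by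
  simp only [same, Bool.and_eq_true, List.all_eq_true, Nat.blt_eq, Nat.beq_eq] at e
  obtain ⟨⟨hu, hv⟩, hp⟩ := e
  have hm : mW a b c v * (mW a b c u)⁻¹ ∈ fixOf (rho a b c) base := by
    intro p hp'
    rw [map_mul, map_inv, rho_mW, rho_mW, Equiv.Perm.mul_apply]
    have : (evalW (elt qx qy qz) u)⁻¹ p = (evalW (elt qx qy qz) v)⁻¹ p :=
      Fin.ext (by rw [img_spec hu, img_spec hv, hp p.1 hp'])
    rw [this]; simp
  rw [fix_base h, Subgroup.mem_bot, mul_inv_eq_one] at hm
  exact hm.symm

theorem eq_of_same (h : XYZRels a b c) {u v : List ℕ} (e : same u v = true) :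
    evalW (elt a b c) u = evalW (elt a b c) v := by
  rw [← pr_mW, ← pr_mW, mW_eq h e]

theorem evalW_append {M : Type*} [Group M] (e : ℕ → M) (u v : List ℕ) :
    evalW e (u ++ v) = evalW e u * evalW e v := by
  simp [evalW]

/-- The stabiliser of the first point is generated by y and its conjugate by x. -/
theorem fix_zero (h : XYZRels a b c) : fixOf (rho a b c) [0] =
    Subgroup.closure {mB a b c, (mA a b c)⁻¹ * mB a b c * mA a b c} := by
  haveI := m_finite h
  set C := Subgroup.closure {mB a b c, (mA a b c)⁻¹ * mB a b c * mA a b c} with hC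
  have hle : C ≤ fixOf (rho a b c) [0] := by
    rw [hC, Subgroup.closure_le]
    have e1 : rho a b c (mB a b c) = (evalW (elt qx qy qz) [3])⁻¹ := by
      rw [show evalW (elt qx qy qz) [3] = qy⁻¹ from by simp [evalW, elt], inv_inv]; rfl
    have e2 : rho a b c ((mA a b c)⁻¹ * mB a b c * mA a b c) = (evalW (elt qx qy qz) [1, 3, 0])⁻¹ := by
      rw [show evalW (elt qx qy qz) [1, 3, 0] = qx⁻¹ * qy⁻¹ * qx from by
        simp [evalW, elt, mul_assoc], map_mul, map_mul, map_inv]
      simp only [mul_inv_rev, inv_inv, mul_assoc]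
      rfl
    have d1 : fix0 [3] = true ∧ fix0 [1, 3, 0] = true := by decide +kernel
    simp only [fix0, Bool.and_eq_true, List.all_eq_true, Nat.blt_eq, Nat.beq_eq] at d1
    rintro m (rfl | rfl) p hp
    · rw [List.mem_singleton] at hp
      rw [e1]
      exact Fin.ext (by rw [img_spec d1.1.1, hp, d1.1.2])
    · rw [List.mem_singleton] at hp
      rw [e2]
      exact Fin.ext (by rw [img_spec d1.2.1, hp, d1.2.2])
  obtain ⟨h1, h2, h3, h4, -⟩ := chain_checks
  simp only [chainOk, Bool.and_eq_true] at h1
  obtain ⟨⟨⟨hp, hg⟩, hrow⟩, hrest⟩ := h1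
  have hcl : ∀ s : List ℕ, evalW (elt (mA a b c) (mB a b c) (mC a b c)) (cWord s) ∈ C := by
    intro s
    induction s with
    | nil => exact one_mem _
    | cons k s ih =>
      rw [show cWord (k :: s) = cBlock k ++ cWord s from rfl, evalW_append]
      refine mul_mem ?_ ih
      have hy : mB a b c ∈ C := Subgroup.subset_closure (Or.inl rfl)
      have hyx : (mA a b c)⁻¹ * mB a b c * mA a b c ∈ C := Subgroup.subset_closure (Or.inr rfl)
      match k with
      | 0 => simpa [cBlock, evalW, elt] using hy
      | 1 => simpa [cBlock, evalW, elt] using inv_mem hy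
      | 2 => simpa [cBlock, evalW, elt, mul_assoc] using hyx
      | n + 3 => simpa [cBlock, evalW, elt, mul_assoc] using inv_mem hyx
  have hlow := chain_bound (mA a b c) (mB a b c) (mC a b c) (rho a b c) rfl rfl rfl C
    (fixed := [0]) (Ls := cChain) hrest (by
      intro L hL w hw
      simp only [cChain, List.mem_cons, List.not_mem_nil, or_false] at hL
      rcases hL with rfl | rfl | rfl | rfl | rfl <;>
        simp only [cLevel0, cLevel1, cLevel2, cLevel3, cLevel4, List.mem_cons, List.not_mem_nil,
          or_false] at hw <;>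
        (repeat' rcases hw with rfl | hw) <;> first | exact hcl _ | exact hw ▸ hcl _)
  have hupp := chain_bound (mA a b c) (mB a b c) (mC a b c) (rho a b c) rfl rfl rfl ⊤
    (fixed := []) (Ls := [topLevel])
    (by simp only [chainOk, Bool.and_eq_true]; exact ⟨⟨⟨hp, hg⟩, hrow⟩, trivial⟩)
    (fun _ _ w _ => Subgroup.mem_top _)
  rw [show chainSize [topLevel] = 1408 from by rw [chainSize, chainSize, h4]] at hupp
  rw [show chainPts [] [topLevel] = [0] from rfl, top_inf_eq, top_inf_eq] at hupp
  rw [h3] at hlow
  rw [inf_eq_left.2 hle] at hlow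
  have hpos : 0 < Nat.card ↥(C ⊓ fixOf (rho a b c) (chainPts [0] cChain)) := Nat.card_pos
  have htot := Subgroup.card_le_card_group (fixOf (rho a b c) [])
  rw [m_card h] at htot
  refine (Subgroup.eq_of_le_of_card_ge hle ?_).symm
  have : 126000 ≤ Nat.card C := le_trans (Nat.le_mul_of_pos_right _ hpos) hlow
  omega

theorem commute_of_fix0 (h : XYZRels a b c) {t : G} (hb : Commute t b)
    (hab : Commute t (a⁻¹ * b * a)) {n : List ℕ} (e : fix0 n = true) :
    Commute t (evalW (elt a b c) n) := by
  simp only [fix0, Bool.and_eq_true, List.all_eq_true, Nat.blt_eq, Nat.beq_eq] at e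
  have hm : (mW a b c n)⁻¹ ∈ fixOf (rho a b c) [0] := by
    intro p hp
    rw [List.mem_singleton] at hp
    rw [map_inv, rho_mW]
    exact Fin.ext (by rw [img_spec e.1, hp, e.2])
  rw [fix_zero h, inv_mem_iff] at hm
  have : Subgroup.closure {mB a b c, (mA a b c)⁻¹ * mB a b c * mA a b c} ≤
      (Subgroup.centralizer {t}).comap (pr a b c) := by
    rw [Subgroup.closure_le]
    rintro m (rfl | rfl) <;> rw [SetLike.mem_coe, Subgroup.mem_comap,
      Subgroup.mem_centralizer_singleton_iff]
    · exact hb.eq.symm
    · exact hab.eq.symm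
  have e2 := this hm
  rw [Subgroup.mem_comap, Subgroup.mem_centralizer_singleton_iff, pr_mW] at e2
  exact e2.symm

end CfsgLib.HNIndex
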