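import Cfsg.Agent.Lib.HNIndex.Perm

/-!
# Growing sets of points and a lower bound for finite groups
-/

set_option autoImplicit false

namespace CfsgLib.HNIndex

open CfsgLib.HNxyz

/-- Add the children to a set of points; a child is the image of a point already present. -/
def grow (gens : List (List ℕ)) : List (ℕ × ℕ) → ℕ → Option ℕ
  | [], m => some m
  | (p, g) :: rows, m =>
    if m.testBit p && Nat.blt g gens.length && !m.testBit (img (gens.getD g []) p) then
      grow gens rows (m ||| 2 ^ img (gens.getD g []) p)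
    else none

/-- The set of the seeds. -/
def seedSet : List ℕ → ℕ → ℕ
  | [], m => m
  | p :: l, m => seedSet l (m ||| 2 ^ p)

theorem seedSet_mem : ∀ {l : List ℕ} {m : ℕ} {i : ℕ}, (seedSet l m).testBit i = true →
    i ∈ l ∨ m.testBit i = true
  | [], _, _, h => Or.inr h
  | p :: l, m, i, h => by
    rcases seedSet_mem (l := l) (m := m ||| 2 ^ p) h with h | h
    · exact Or.inl (List.mem_cons_of_mem _ h)
    · rw [Nat.testBit_or, Bool.or_eq_true] at h
      rcases h with h | h
      · exact Or.inr h
      · rw [Nat.testBit_two_pow, decide_eq_true_eq] at h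
        exact Or.inl (h ▸ List.mem_cons_self)

theorem grow_spec {gens : List (List ℕ)} {P : ℕ → Prop}
    (hP : ∀ w ∈ gens, ∀ p, P p → P (img w p)) :
    ∀ {rows : List (ℕ × ℕ)} {m m' : ℕ}, grow gens rows m = some m' →
      (∀ i, m.testBit i = true → P i) →
      (∀ i, m'.testBit i = true → P i) ∧
      ∀ S : Finset ℕ, (∀ i ∈ S, m.testBit i = true) →
        ∃ S' : Finset ℕ, (∀ i ∈ S', m'.testBit i = true) ∧ S'.card = S.card + rows.length
  | [], m, m', h, hm => by
    obtain rfl : m = m' := Option.some.inj h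
    exact ⟨hm, fun S hS => ⟨S, hS, by simp⟩⟩
  | (p, g) :: rows, m, m', h, hm => by
    rw [grow] at h
    split at h
    next hc =>
      simp only [Bool.and_eq_true, Nat.blt_eq, Bool.not_eq_true'] at hc
      obtain ⟨⟨hp, hg⟩, hnew⟩ := hc
      set q := img (gens.getD g []) p with hq
      have hw : gens.getD g [] ∈ gens := by
        rw [List.getD_eq_getElem _ [] hg]
        exact List.getElem_mem hg
      have hm2 : ∀ i, (m ||| 2 ^ q).testBit i = true → P i := by
        intro i hi
        rw [Nat.testBit_or, Bool.or_eq_true] at hi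
        rcases hi with hi | hi
        · exact hm i hi
        · rw [Nat.testBit_two_pow, decide_eq_true_eq] at hi
          exact hi ▸ hP _ hw p (hm p hp)
      obtain ⟨e1, e2⟩ := grow_spec hP h hm2
      refine ⟨e1, fun S hS => ?_⟩
      obtain ⟨S', hS', hcard⟩ := e2 (insert q S) (by
        intro i hi
        rw [Nat.testBit_or, Bool.or_eq_true]
        rcases Finset.mem_insert.1 hi with rfl | hi
        · exact Or.inr (Nat.testBit_two_pow_self)
        · exact Or.inl (hS i hi))
      refine ⟨S', hS', ?_⟩
      rw [hcard, Finset.card_insert_of_notMem (fun hmem => by rw [hS q hmem] at hnew; exact Bool.noConfusion hnew)]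
      simp only [List.length_cons]
      omega
    next => exact absurd h (by simp)

/-- One level of a stabiliser chain: the point, the generators and the tree of its orbit. -/
structure Level where
  /-- the point -/
  pt : ℕ
  /-- the generators -/
  gens : List (List ℕ)
  /-- the tree -/
  rows : List (ℕ × ℕ)

/-- The check of a chain: the generators fix the points of the levels above. -/
def chainOk : List ℕ → List Level → Bool
  | _, [] => true
  | fixed, L :: Ls =>
    Nat.blt L.pt 1408 &&
    (L.gens.all fun w => (w.all fun g => Nat.blt g 6) && fixed.all fun b => Nat.beq (img w b) b) &&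
    (grow L.gens L.rows (2 ^ L.pt)).isSome &&
    chainOk (L.pt :: fixed) Ls

/-- The bound of a chain. -/
def chainSize : List Level → ℕ
  | [] => 1
  | L :: Ls => (L.rows.length + 1) * chainSize Ls

variable {M : Type*} [Group M]

/-- The pointwise stabiliser of a list of points. -/
def fixOf (ρ : M →* Equiv.Perm (Fin 1408)) (l : List ℕ) : Subgroup M where
  carrier := {m | ∀ b : Fin 1408, b.1 ∈ l → ρ m b = b}
  one_mem' := fun b _ => by rw [map_one]; rfl
  mul_mem' := fun {u v} hu hv b hb => by rw [map_mul, Equiv.Perm.mul_apply, hv b hb, hu b hb]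
  inv_mem' := fun {u} hu b hb => by rw [map_inv, Equiv.Perm.inv_eq_iff_eq, hu b hb]

theorem mem_fixOf {ρ : M →* Equiv.Perm (Fin 1408)} {l : List ℕ} {m : M} :
    m ∈ fixOf ρ l ↔ ∀ b : Fin 1408, b.1 ∈ l → ρ m b = b := Iff.rfl

/-- The bases of a chain, innermost last. -/
def chainPts : List ℕ → List Level → List ℕ
  | fixed, [] => fixed
  | fixed, L :: Ls => chainPts (L.pt :: fixed) Ls

theorem chain_bound [Finite M] (a b c : M) (ρ : M →* Equiv.Perm (Fin 1408))
    (ha : ρ a = qx) (hb : ρ b = qy) (hc : ρ c = qz) (K : Subgroup M) :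
    ∀ {fixed : List ℕ} {Ls : List Level}, chainOk fixed Ls = true →
      (∀ L ∈ Ls, ∀ w ∈ L.gens, evalW (elt a b c) w ∈ K) →
      chainSize Ls * Nat.card ↥(K ⊓ fixOf ρ (chainPts fixed Ls)) ≤ Nat.card ↥(K ⊓ fixOf ρ fixed)
  | fixed, [], _, _ => by simp [chainSize, chainPts]
  | fixed, L :: Ls, h, hK => by
    simp only [chainOk, Bool.and_eq_true, Nat.blt_eq, List.all_eq_true, Nat.beq_eq,
      Option.isSome_iff_exists] at h
    obtain ⟨⟨⟨hpt, hgens⟩, m', hgrow⟩, hrest⟩ := h
    have ih := chain_bound a b c ρ ha hb hc K hrest fun L' hL' => hK L' (List.mem_cons_of_mem _ hL')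
    set A := K ⊓ fixOf ρ fixed with hA
    set B := K ⊓ fixOf ρ (L.pt :: fixed) with hB
    have key : (L.rows.length + 1) * Nat.card B ≤ Nat.card A := by
      let x0 : Fin 1408 := ⟨L.pt, hpt⟩
      let P : ℕ → Prop := fun i => ∃ m ∈ A, (ρ m x0 : ℕ) = i
      have hP : ∀ w ∈ L.gens, ∀ p, P p → P (img w p) := by
        rintro w hw p ⟨m, hm, rfl⟩
        have hw6 := (hgens w hw).1
        have hρ : ∀ i : Fin 1408, (ρ (evalW (elt a b c) w)⁻¹ i : ℕ) = img w i := fun i => by
          rw [map_inv, map_evalW, ha, hb, hc]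
          exact img_spec hw6 i
        have hwA : (evalW (elt a b c) w)⁻¹ ∈ A := by
          refine Subgroup.mem_inf.2 ⟨inv_mem (hK L List.mem_cons_self w hw), ?_⟩
          intro i hi
          exact Fin.ext ((hρ i).trans ((hgens w hw).2 i.1 hi))
        refine ⟨(evalW (elt a b c) w)⁻¹ * m, mul_mem hwA hm, ?_⟩
        rw [map_mul, Equiv.Perm.mul_apply]
        exact hρ _
      obtain ⟨hin, hcount⟩ := grow_spec hP hgrow (fun i hi => by
        rw [Nat.testBit_two_pow, decide_eq_true_eq] at hi
        exact ⟨1, one_mem _, by rw [map_one]; exact hi⟩)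
      obtain ⟨S, hS, hScard⟩ := hcount {L.pt} (fun i hi => by
        rw [Finset.mem_singleton.1 hi]; exact Nat.testBit_two_pow_self)
      rw [Finset.card_singleton, Nat.add_comm] at hScard
      choose f hfA hfv using fun i : S => hin i.1 (hS i.1 i.2)
      let F : S × B → A := fun p => ⟨f p.1 * p.2.1, mul_mem (hfA p.1) (Subgroup.mem_inf.2
        ⟨(Subgroup.mem_inf.1 p.2.2).1, fun i hi => (Subgroup.mem_inf.1 p.2.2).2 i (List.mem_cons_of_mem _ hi)⟩)⟩
      have hF : Function.Injective F := by
        rintro ⟨i, u⟩ ⟨j, v⟩ e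
        have e' : f i * u.1 = f j * v.1 := congrArg Subtype.val e
        have hu : ρ u.1 x0 = x0 := (Subgroup.mem_inf.1 u.2).2 x0 List.mem_cons_self
        have hv : ρ v.1 x0 = x0 := (Subgroup.mem_inf.1 v.2).2 x0 List.mem_cons_self
        have e2 := congrArg (fun m => (ρ m x0 : ℕ)) e'
        simp only [map_mul, Equiv.Perm.mul_apply, hu, hv, hfv] at e2
        obtain rfl : i = j := Subtype.ext e2
        obtain rfl : u = v := Subtype.ext (mul_left_cancel e')
        rfl
      have := Nat.card_le_card_of_injective F hF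
      rwa [Nat.card_prod, Nat.card_eq_fintype_card (α := S), Fintype.card_coe, hScard] at this
    calc chainSize (L :: Ls) * Nat.card ↥(K ⊓ fixOf ρ (chainPts (L.pt :: fixed) Ls))
        = (L.rows.length + 1) * (chainSize Ls * Nat.card ↥(K ⊓ fixOf ρ (chainPts (L.pt :: fixed) Ls))) := by
          rw [chainSize, mul_assoc]
      _ ≤ (L.rows.length + 1) * Nat.card B := Nat.mul_le_mul_left _ ih
      _ ≤ Nat.card A := key

end CfsgLib.HNIndex
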