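import Cfsg.Agent.Lib.HNIndex.Closed
import Cfsg.Agent.Lib.HNxyz.Rep

/-!
# The index of the subgroup generated by x, y, z is at most 1539000
-/

set_option autoImplicit false

namespace CfsgLib.HNIndex

open CfsgLib.HNxyz

section General

variable {G X : Type} [Group G] [MulAction G X] [MulAction.IsPretransitive G X] (C : Ctx G X)

theorem mem_orb (hgen : Subgroup.closure {C.a, C.b, C.c, C.t} = ⊤) (q : X) :
    ∃ j < 9, q ∈ orbSet C (vert C j) := by
  obtain ⟨g, rfl⟩ := MulAction.exists_smul_eq G C.p0 q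
  obtain ⟨j, hj, w, -, e⟩ := inU_all C hgen (closed C) g
  exact ⟨j, hj, e ▸ mem_orbSet C⟩

/-- The set acted on has at most 1539000 points. -/
theorem card_le_table (hgen : Subgroup.closure {C.a, C.b, C.c, C.t} = ⊤) :
    Finite X ∧ Nat.card X ≤ 1539000 := by
  have hu : (Set.univ : Set X) = ⋃ j ∈ Finset.range 9, orbSet C (vert C j) := by
    ext q
    simpa using mem_orb C hgen q
  have hfin : (Set.univ : Set X).Finite := by
    rw [hu]
    exact (Finset.range 9).finite_toSet.biUnion fun j _ => orbSet_finite C _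
  refine ⟨Set.finite_univ_iff.1 hfin, ?_⟩
  rw [← Set.ncard_univ, hu]
  refine (Finset.set_ncard_biUnion_le _ _).trans ?_
  simp only [Finset.sum_range_succ, Finset.sum_range_zero]
  have := orb0 C; have := orb1 C; have := orb2 C; have := orb3 C; have := orb4 C
  have := orb5 C; have := orb6 C; have := orb7 C; have := orb8 C
  omega

end General

open Cfsg.Spor

/-- The generators of the presented group. -/
abbrev hnGen (i : HN.Gen) : Cfsg.Spor.HN := PresentedGroup.of i

/-- The subgroup generated by x, y, z. -/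
abbrev hnSub : Subgroup Cfsg.Spor.HN := Subgroup.closure {hnGen .x, hnGen .y, hnGen .z}

theorem hn_rel {r : FreeGroup HN.Gen} (h : r ∈ HN.extra) : PresentedGroup.mk hnRels r = 1 :=
  PresentedGroup.mk_eq_one_iff.2 (Subgroup.subset_normalClosure (Or.inr h))

/-- The action of the presented group on the cosets. -/
def hnCtx : Ctx Cfsg.Spor.HN (Cfsg.Spor.HN ⧸ hnSub) where
  a := hnGen .x
  b := hnGen .y
  c := hnGen .z
  t := hnGen .t
  p0 := ((1 : Cfsg.Spor.HN) : Cfsg.Spor.HN ⧸ hnSub)
  rels := hn_xyz
  fix_a := by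
    rw [MulAction.Quotient.smul_coe, QuotientGroup.eq, smul_eq_mul, mul_one, mul_one]
    exact inv_mem (Subgroup.subset_closure (Or.inl rfl))
  fix_b := by
    rw [MulAction.Quotient.smul_coe, QuotientGroup.eq, smul_eq_mul, mul_one, mul_one]
    exact inv_mem (Subgroup.subset_closure (Or.inr (Or.inl rfl)))
  fix_c := by
    rw [MulAction.Quotient.smul_coe, QuotientGroup.eq, smul_eq_mul, mul_one, mul_one]
    exact inv_mem (Subgroup.subset_closure (Or.inr (Or.inr rfl)))
  t_five := hn_rel (r := HN.t ^ 5) (by simp [HN.extra])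
  t_conj := hn_rel (r := (HN.x⁻¹ * HN.t * HN.x) * (HN.t ^ 2)) (by simp [HN.extra])
  t_comm := hn_rel (r := HN.t⁻¹ * HN.y⁻¹ * HN.t * HN.y) (by simp [HN.extra])
  zt_three := hn_rel (r := (HN.z * HN.t) ^ 3) (by simp [HN.extra])

theorem hn_gen : Subgroup.closure {hnGen .x, hnGen .y, hnGen .z, hnGen .t} = ⊤ := by
  rw [eq_top_iff, ← PresentedGroup.closure_range_of hnRels, Subgroup.closure_le]
  rintro _ ⟨i, rfl⟩
  refine Subgroup.subset_closure ?_
  cases i <;> simp

theorem index_le : hnSub.FiniteIndex ∧ hnSub.index ≤ 1539000 := by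
  obtain ⟨hf, hc⟩ := card_le_table hnCtx hn_gen
  exact ⟨Subgroup.finiteIndex_of_finite_quotient, hc⟩

theorem hnSub_finite : Finite hnSub := by
  let D : Mg (hnGen .x) (hnGen .y) (hnGen .z) →* Cfsg.Spor.HN := pr _ _ _
  haveI := m_finite hn_xyz
  have h : hnSub = D.range := by
    rw [MonoidHom.range_eq_map, ← (mData hn_xyz).top, MonoidHom.map_closure,
      Set.image_insert_eq, Set.image_insert_eq, Set.image_singleton]
    rfl
  rw [h]
  exact Finite.of_surjective D.rangeRestrict D.rangeRestrict_surjective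

/-- The presented group is finite. -/
theorem hn_finite : Finite Cfsg.Spor.HN := by
  haveI := hnSub_finite
  haveI := (card_le_table hnCtx hn_gen).1
  exact Finite.of_equiv _ (Subgroup.groupEquivQuotientProdSubgroup (s := hnSub)).symm

end CfsgLib.HNIndex
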