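import Cfsg.Agent.Lib.HNIndex.Exact

/-!
# The index of the subgroup generated by x, y, z in the presented Harada–Norton group
-/

set_option autoImplicit false

namespace CfsgLib.HNIndex

open CfsgLib.HNxyz
open Cfsg.Spor (HN)

theorem z_ne_one : hnGen .z ≠ 1 := by
  intro h
  have h9 := hn_xyz [5, 2, 1, 3, 3, 1, 3, 1, 3, 4, 2, 0, 2, 0, 2, 2, 0, 3, 1, 1] (by decide)
  refine x_sq_ne ?_
  simp only [evalW, elt, List.map_cons, List.map_nil, List.prod_cons, List.prod_nil, mul_one] at h9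
  rw [show (PresentedGroup.of HN.Gen.z : Cfsg.Spor.HN) = 1 from h] at h9
  simp only [inv_one, one_mul] at h9
  refine inv_eq_one.1 (Eq.trans ?_ h9)
  group

theorem t_not_fix : hnCtx.t • hnCtx.p0 ≠ hnCtx.p0 := by
  intro h
  have ht : hnGen .t ∈ hnSub := by
    have h' : (hnGen .t) • ((1 : Cfsg.Spor.HN) : Cfsg.Spor.HN ⧸ hnSub) =
        ((1 : Cfsg.Spor.HN) : Cfsg.Spor.HN ⧸ hnSub) := h
    rw [MulAction.Quotient.smul_coe, QuotientGroup.eq, smul_eq_mul, mul_one, mul_one] at h'
    exact inv_mem_iff.1 h'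
  have hcen : hnSub ≤ Subgroup.centralizer {hnCtx.a * hnCtx.a} := by
    refine (Subgroup.closure_le _).2 ?_
    rintro g (rfl | rfl | rfl) <;>
      rw [SetLike.mem_coe, Subgroup.mem_centralizer_singleton_iff]
    · exact (mul_assoc _ _ _).symm
    · exact (sq_comm_y hn_xyz).symm
    · exact (sq_comm_z hn_xyz).symm
  have hc : Commute (hnCtx.a * hnCtx.a) hnCtx.t :=
    (Subgroup.mem_centralizer_singleton_iff.1 (hcen ht)).symm
  have h2 : hnCtx.t * hnCtx.t = 1 := by
    have := hnCtx.t_turn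
    rw [mul_assoc, hc.eq, ← mul_assoc, mul_eq_right] at this
    exact this
  have h1 : hnCtx.t = 1 := by
    have := hnCtx.t_five
    rw [show hnCtx.t ^ 5 = (hnCtx.t * hnCtx.t) * (hnCtx.t * hnCtx.t) * hnCtx.t from by simp only [pow_succ, pow_zero, one_mul, mul_assoc], h2,
      one_mul, one_mul] at this
    exact this
  refine z_ne_one ?_
  have hz := hnCtx.zt_three
  rw [h1, mul_one] at hz
  have hzz : hnCtx.c * hnCtx.c = 1 := z_sq hn_xyz
  rw [show hnCtx.c ^ 3 = hnCtx.c * hnCtx.c * hnCtx.c from by simp only [pow_succ, pow_zero, one_mul], hzz, one_mul] at hz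
  exact hz

theorem index_eq : hnSub.index = 1539000 := card_eq_table hnCtx hn_gen t_not_fix

theorem hnSub_eq :
    (Subgroup.closure ({HN.x, HN.y, HN.z} : Set (FreeGroup HN.Gen))).map
      (PresentedGroup.mk (Cfsg.Spor.coxRelators HN.edges ∪ {r | r ∈ HN.extra})) = hnSub := by
  rw [MonoidHom.map_closure, Set.image_insert_eq, Set.image_insert_eq, Set.image_singleton]
  rfl

end CfsgLib.HNIndex
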