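import Cfsg.Agent.Lib.HNIndex.Verts

/-!
# Derived equations (generated)
-/

set_option autoImplicit false
set_option linter.style.longLine false

namespace CfsgLib.HNIndex

variable {G X : Type} [Group G] [MulAction G X] (C : Ctx G X)

theorem h0 :
    C.S (v0 C) [0] :=
  C.stRoot (by decide +kernel)

theorem h1 :
    C.S (v0 C) [2] :=
  C.stRoot (by decide +kernel)

theorem h2 :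
    C.S (v0 C) [4] :=
  C.stRoot (by decide +kernel)

theorem h3 :
    C.S (v0 C) [] :=
  C.stOne _

theorem h4 :
    C.S (v0 C) [0] :=
  C.stMul (h3 C) (h0 C) _
    (by decide +kernel)

theorem h5 :
    C.S (v0 C) [4] :=
  C.stMul (h3 C) (h2 C) _
    (by decide +kernel)

theorem h6 :
    C.S (v0 C) [0, 0] :=
  C.stMul (h4 C) (h0 C) _
    (by decide +kernel)

theorem h7 :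
    C.S (v0 C) [0, 4] :=
  C.stMul (h4 C) (h2 C) _
    (by decide +kernel)

theorem h8 :
    C.S (v0 C) [1, 4] :=
  C.stMul (h5 C) (h0 C) _
    (by decide +kernel)

theorem h9 :
    C.S (v0 C) [4, 2] :=
  C.stMul (h5 C) (h1 C) _
    (by decide +kernel)

theorem h10 :
    C.S (v0 C) [1] :=
  C.stMul (h6 C) (h0 C) _
    (by decide +kernel)

theorem h11 :
    C.S (v0 C) [0, 0, 4] :=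
  C.stMul (h6 C) (h2 C) _
    (by decide +kernel)

theorem h12 :
    C.S (v0 C) [0, 4, 2] :=
  C.stMul (h7 C) (h1 C) _
    (by decide +kernel)

theorem h13 :
    C.S (v0 C) [1, 4, 2] :=
  C.stMul (h8 C) (h1 C) _
    (by decide +kernel)

theorem h15 :
    C.S (v0 C) [4, 2, 2] :=
  C.stMul (h9 C) (h1 C) _
    (by decide +kernel)

theorem h18 :
    C.S (v0 C) [0, 4, 2, 0] :=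
  C.stMul (h12 C) (h0 C) _
    (by decide +kernel)

theorem h19 :
    C.S (v0 C) [0, 4, 2, 2] :=
  C.stMul (h12 C) (h1 C) _
    (by decide +kernel)

theorem h23 :
    C.S (v0 C) [1, 4, 2, 4] :=
  C.stMul (h13 C) (h2 C) _
    (by decide +kernel)

theorem h27 :
    C.S (v0 C) [4, 2, 2, 2] :=
  C.stMul (h15 C) (h1 C) _
    (by decide +kernel)

theorem h28 :
    C.S (v0 C) [4, 2, 2, 4] :=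
  C.stMul (h15 C) (h2 C) _
    (by decide +kernel)

theorem h35 :
    C.S (v0 C) [0, 4, 2, 0, 4] :=
  C.stMul (h18 C) (h2 C) _
    (by decide +kernel)

theorem h37 :
    C.S (v0 C) [0, 4, 2, 2, 2] :=
  C.stMul (h19 C) (h1 C) _
    (by decide +kernel)

theorem h45 :
    C.S (v0 C) [1, 4, 2, 4, 2] :=
  C.stMul (h23 C) (h1 C) _
    (by decide +kernel)

theorem h53 :
    C.S (v0 C) [4, 2, 2, 2, 4] :=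
  C.stMul (h27 C) (h2 C) _
    (by decide +kernel)

theorem h55 :
    C.S (v0 C) [4, 2, 2, 4, 2] :=
  C.stMul (h28 C) (h1 C) _
    (by decide +kernel)

theorem h67 :
    C.S (v0 C) [0, 4, 2, 0, 4, 2] :=
  C.stMul (h35 C) (h1 C) _
    (by decide +kernel)

theorem h70 :
    C.S (v0 C) [0, 4, 2, 2, 2, 0] :=
  C.stMul (h37 C) (h0 C) _
    (by decide +kernel)

theorem h72 :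
    C.S (v0 C) [0, 4, 2, 2, 2, 4] :=
  C.stMul (h37 C) (h2 C) _
    (by decide +kernel)

theorem h87 :
    C.S (v0 C) [1, 4, 2, 4, 2, 2] :=
  C.stMul (h45 C) (h1 C) _
    (by decide +kernel)

theorem h105 :
    C.S (v0 C) [4, 2, 2, 2, 4, 2] :=
  C.stMul (h53 C) (h1 C) _
    (by decide +kernel)

theorem h107 :
    C.S (v0 C) [4, 2, 2, 4, 2, 0] :=
  C.stMul (h55 C) (h0 C) _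
    (by decide +kernel)

theorem h133 :
    C.S (v0 C) [0, 4, 2, 0, 4, 2, 2] :=
  C.stMul (h67 C) (h1 C) _
    (by decide +kernel)

theorem h139 :
    C.S (v0 C) [0, 4, 2, 2, 2, 0, 2] :=
  C.stMul (h70 C) (h1 C) _
    (by decide +kernel)

theorem h145 :
    C.S (v0 C) [0, 4, 2, 2, 2, 4, 2] :=
  C.stMul (h72 C) (h1 C) _
    (by decide +kernel)

theorem h172 :
    C.S (v0 C) [1, 4, 2, 4, 2, 2, 2] :=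
  C.stMul (h87 C) (h1 C) _
    (by decide +kernel)

theorem h205 :
    C.S (v0 C) [4, 2, 2, 2, 4, 2, 0] :=
  C.stMul (h105 C) (h0 C) _
    (by decide +kernel)

theorem h211 :
    C.S (v0 C) [4, 2, 2, 4, 2, 0, 2] :=
  C.stMul (h107 C) (h1 C) _
    (by decide +kernel)

theorem h258 :
    C.S (v0 C) [0, 4, 2, 0, 4, 2, 2, 0] :=
  C.stMul (h133 C) (h0 C) _
    (by decide +kernel)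

theorem h274 :
    C.S (v0 C) [0, 4, 2, 2, 2, 0, 2, 4] :=
  C.stMul (h139 C) (h2 C) _
    (by decide +kernel)

theorem h281 :
    C.S (v0 C) [3, 1, 2, 0, 2, 1, 3, 0, 3, 1, 2, 0, 2, 2, 1, 2, 0, 2, 2, 1, 2, 0, 3, 1, 3, 0, 3, 1, 2, 0, 2, 2, 4, 2, 2, 1, 3, 4, 3] :=
  C.stMul (h145 C) (h0 C) _
    (by decide +kernel)

theorem h328 :
    C.S (v0 C) [0, 4, 2, 4, 2, 2, 2, 1] :=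
  C.stMul (h172 C) (h0 C) _
    (by decide +kernel)

theorem h390 :
    C.S (v0 C) [1, 2, 0, 2, 1, 2, 0, 2, 1, 2, 2, 0, 3, 3, 1, 2, 2, 2, 2, 2, 0, 0, 4, 2, 2, 0, 3, 4] :=
  C.stMul (h205 C) (h1 C) _
    (by decide +kernel)

theorem h400 :
    C.S (v0 C) [4, 2, 2, 4, 2, 0, 2, 4] :=
  C.stMul (h211 C) (h2 C) _
    (by decide +kernel)

theorem h477 :
    C.S (v0 C) [0, 4, 2, 0, 4, 2, 2, 0, 2] :=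
  C.stMul (h258 C) (h1 C) _
    (by decide +kernel)

theorem h510 :
    C.S (v0 C) [0, 4, 2, 2, 2, 0, 2, 4, 2] :=
  C.stMul (h274 C) (h1 C) _
    (by decide +kernel)

theorem h522 :
    C.S (v0 C) [3, 1, 2, 0, 2, 1, 3, 0, 3, 1, 2, 0, 2, 2, 1, 2, 0, 2, 2, 1, 2, 0, 3, 1, 3, 0, 3, 1, 2, 0, 2, 2, 4, 2, 2, 1, 3, 4] :=
  C.stMul (h281 C) (h1 C) _
    (by decide +kernel)

theorem h603 :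
    C.S (v0 C) [0, 4, 2, 4, 2, 2, 2, 1, 2] :=
  C.stMul (h328 C) (h1 C) _
    (by decide +kernel)

theorem h723 :
    C.S (v0 C) [4, 2, 2, 4, 2, 0, 2, 4, 2] :=
  C.stMul (h400 C) (h1 C) _
    (by decide +kernel)

theorem h826 :
    C.S (v0 C) [1, 2, 0, 2, 1, 2, 2, 0, 2, 1, 3, 0, 3, 1, 2, 0, 2, 2, 1, 2, 0, 2, 1, 3, 0, 3, 1, 2, 2, 0, 2, 1, 2, 2, 0, 3, 3, 1, 3, 3, 0, 2, 1, 2, 0, 2, 2, 1, 2, 0, 2, 0, 4, 2, 2, 2, 0, 4, 3, 1] :=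
  C.stMul (h477 C) (h1 C) _
    (by decide +kernel)

theorem h879 :
    C.S (v0 C) [0, 4, 2, 2, 2, 0, 2, 4, 2, 2] :=
  C.stMul (h510 C) (h1 C) _
    (by decide +kernel)

theorem h986 :
    C.S (v0 C) [0, 4, 2, 4, 2, 2, 2, 1, 2, 2] :=
  C.stMul (h603 C) (h1 C) _
    (by decide +kernel)

theorem h1075 :
    C.S (v0 C) [4, 2, 2, 4, 2, 0, 2, 4, 2, 0] :=
  C.stMul (h723 C) (h0 C) _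
    (by decide +kernel)

theorem h1162 :
    C.S (v0 C) [1, 2, 0, 2, 1, 2, 2, 0, 2, 1, 3, 0, 3, 1, 2, 0, 2, 2, 1, 2, 0, 2, 1, 3, 0, 3, 1, 2, 2, 0, 2, 1, 2, 2, 0, 3, 3, 1, 3, 3, 0, 2, 1, 2, 0, 2, 2, 1, 2, 0, 2, 0, 4, 2, 2, 2, 0, 4, 3, 1, 2] :=
  C.stMul (h826 C) (h1 C) _
    (by decide +kernel)

theorem h1202 :
    C.S (v0 C) [1, 2, 0, 2, 1, 2, 0, 2, 1, 2, 2, 0, 3, 3, 1, 2, 2, 2, 0, 2, 1, 2, 2, 0, 3, 3, 1, 3, 0, 2, 2, 1, 3, 0, 2, 2, 1, 3, 0, 3, 1, 2, 2, 0, 2, 1, 3, 0, 2, 2, 2, 1, 3, 0, 4, 3, 3, 4, 2, 4, 2, 2, 1, 3] :=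
  C.stMul (h879 C) (h2 C) _
    (by decide +kernel)

theorem h1411 :
    C.S (v0 C) [2, 1, 3, 3, 0, 3, 1, 2, 2, 2, 0, 2, 1, 2, 0, 3, 1, 2, 2, 0, 2, 2, 1, 3, 3, 0, 2, 1, 2, 0, 2, 1, 2, 0, 2, 2, 1, 3, 0, 2, 2, 2, 1, 2, 0, 3, 0, 4, 2, 2, 2, 0, 4, 3, 1, 2] :=
  C.stMul (h986 C) (h0 C) _
    (by decide +kernel)

theorem h1412 :
    C.S (v0 C) [2, 2, 2, 1, 2, 2, 2, 2, 0, 4, 3, 0, 4] :=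
  C.stInv (h1162 C) _ (by decide +kernel)

theorem h1413 :
    C.S (v0 C) [1, 2, 0, 3, 1, 3, 0, 2, 1, 2, 0, 3, 1, 3, 0, 2, 2, 1, 3, 3, 0, 2, 1, 2, 0, 3, 1, 2, 2, 0, 2, 2, 2, 1, 2, 0, 2, 2, 2, 1, 2, 0, 2] :=
  C.stMul (h1411 C) (h1412 C) _
    (by decide +kernel)

theorem h1414 :
    C.S (v0 C) [2, 1, 3, 3, 0, 2, 1, 2, 0, 3, 1, 2, 2, 0, 2, 2, 2, 1, 3, 3, 0, 3, 4, 3, 3, 4, 2, 4, 2, 2, 1, 3] :=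
  C.stMul (h1075 C) (h1 C) _
    (by decide +kernel)

theorem h1415 :
    C.S (v0 C) [1, 2, 0, 2, 1, 2, 0, 2, 1, 2, 2, 0, 3, 3, 1, 2, 2, 2, 0, 2, 1, 2, 2, 0, 3, 3, 1, 3, 0, 2, 2, 1, 3, 0, 2, 2, 1, 3, 0, 3, 1, 2, 2, 0, 2, 1, 3, 0, 2, 2, 2, 4, 2, 2, 4, 2, 4] :=
  C.stInv (h1202 C) _ (by decide +kernel)

theorem h1416 :
    C.S (v0 C) [3, 1, 3, 0, 2, 2, 1, 3, 0, 2, 1, 2, 0, 2, 2, 1, 3, 0, 2, 2, 1, 2, 0, 3, 1, 3, 0, 2] :=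
  C.stMul (h1414 C) (h1415 C) _
    (by decide +kernel)

theorem h1417 :
    C.S (v0 C) [1, 2, 0, 2, 1, 2, 0, 2, 2, 2, 1, 3, 0, 3, 1, 2, 2, 0, 2, 2, 2, 4, 2, 2, 1, 3, 4] :=
  C.stMul (h390 C) (h0 C) _
    (by decide +kernel)

theorem h1418 :
    C.S (v0 C) [3, 1, 3, 0, 0, 4, 2, 2, 2, 1, 4] :=
  C.stInv (h522 C) _ (by decide +kernel)

theorem h1419 :
    C.S (v0 C) [3, 1, 3, 0, 2, 2, 1, 3, 0, 2, 1, 3, 0, 2] :=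
  C.stMul (h1417 C) (h1418 C) _
    (by decide +kernel)

theorem h1421 :
    C.T (v0 C) [] (v1 C) [] :=
  C.defn _ _

theorem h1422 :
    C.T (v1 C) [0, 0] (v0 C) [0, 0] :=
  C.flip (h1421 C) _ _
    (by decide +kernel) (by decide +kernel)

theorem h1423 :
    C.S (v0 C) [1, 2, 0, 3, 1, 3, 0, 2, 1, 2, 0, 3, 1, 3, 0, 2, 2, 1, 3, 3, 0, 2, 1, 2, 0, 3, 1, 2, 2, 0, 2, 2, 2, 1, 2, 0, 2, 2, 2, 1, 2, 0, 2] :=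
  C.stInv (h1413 C) _ (by decide +kernel)

theorem h1424 :
    C.T (v0 C) [] (v1 C) [1, 2, 0, 3, 1, 3, 0, 2, 1, 2, 0, 3, 1, 3, 0, 2, 2, 1, 3, 3, 0, 2, 1, 2, 0, 3, 1, 2, 2, 0, 2, 2, 2, 1, 2, 0, 2, 2, 2, 1, 2, 0, 2] :=
  C.conv (h1421 C) (h1423 C) _ _
    (by decide +kernel) (by decide +kernel)

theorem h1425 :
    C.E (v1 C) [1, 2, 0, 3, 1, 3, 0, 2, 1, 2, 0, 3, 1, 3, 0, 2, 2, 1, 3, 3, 0, 2, 1, 2, 0, 3, 1, 2, 2, 0, 2, 2, 2, 1, 2, 0, 2, 2, 2, 1, 2, 0, 2] (v1 C) [] :=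
  C.sameSrc (h1424 C) (h1421 C)

theorem h1426 :
    C.S (v0 C) [2, 1, 3, 3, 0, 3, 1, 2, 2, 2, 0, 2, 1, 2, 0, 3, 1, 2, 0, 2, 2, 1, 3, 3, 0, 3, 1, 2, 2, 0, 3, 1, 3, 0, 2, 2, 2, 1, 2, 0, 2, 2, 2, 1, 2, 0, 2, 2, 1, 2, 0] :=
  C.stInv (h1416 C) _ (by decide +kernel)

theorem h1427 :
    C.T (v0 C) [] (v1 C) [3, 1, 3, 0, 2, 2, 1, 3, 0, 2, 1, 2, 0, 2, 2, 1, 3, 0, 2, 2, 1, 2, 0, 3, 1, 3, 0, 2] :=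
  C.conv (h1421 C) (h1426 C) _ _
    (by decide +kernel) (by decide +kernel)

theorem h1428 :
    C.E (v1 C) [3, 1, 3, 0, 2, 2, 1, 3, 0, 2, 1, 2, 0, 2, 2, 1, 3, 0, 2, 2, 1, 2, 0, 3, 1, 3, 0, 2] (v1 C) [] :=
  C.sameSrc (h1427 C) (h1421 C)

theorem h1429 :
    C.S (v0 C) [1, 3, 0, 3, 1, 2, 0, 2] :=
  C.stInv (h1419 C) _ (by decide +kernel)

theorem h1430 :
    C.T (v0 C) [] (v1 C) [3, 1, 3, 0, 2, 2, 1, 3, 0, 2, 1, 3, 0, 2] :=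
  C.conv (h1421 C) (h1429 C) _ _
    (by decide +kernel) (by decide +kernel)

theorem h1431 :
    C.E (v1 C) [3, 1, 3, 0, 2, 2, 1, 3, 0, 2, 1, 3, 0, 2] (v1 C) [] :=
  C.sameSrc (h1430 C) (h1421 C)

theorem h1432 :
    C.S (v1 C) [1, 2, 0, 3, 1, 3, 0, 2, 1, 2, 0, 3, 1, 3, 0, 2, 2, 1, 3, 3, 0, 2, 1, 2, 0, 3, 1, 2, 2, 0, 2, 2, 2, 1, 2, 0, 2, 2, 2, 1, 2, 0, 2] :=
  C.stEq (h1425 C) _ (by decide +kernel)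

theorem h2458 :
    C.S (v1 C) [2, 1, 3, 3, 0, 3, 1, 2, 2, 2, 0, 2, 1, 2, 0, 3, 1, 2, 0, 2, 2, 1, 3, 3, 0, 3, 1, 2, 2, 0, 3, 1, 3, 0, 2, 2, 2, 1, 2, 0, 2, 2, 2, 1, 2, 0, 2, 2, 1, 2, 0] :=
  C.stEq (h1428 C) _ (by decide +kernel)

theorem h4010 :
    C.S (v1 C) [1, 3, 0, 3, 1, 2, 0, 2] :=
  C.stEq (h1431 C) _ (by decide +kernel)

theorem h4011 :
    C.S (v1 C) [] :=
  C.stOne _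

theorem h4031 :
    C.S (v1 C) [2, 1, 3, 3, 0, 3, 1, 2, 2, 2, 0, 2, 1, 2, 0, 3, 1, 2, 0, 2, 2, 1, 3, 3, 0, 3, 1, 2, 2, 0, 3, 1, 3, 0, 2, 2, 2, 1, 2, 0, 2, 2, 2, 1, 2, 0, 2, 2, 1, 2, 0] :=
  C.stMul (h4011 C) (h2458 C) _
    (by decide +kernel)

theorem h4034 :
    C.S (v1 C) [1, 2, 2, 0, 3, 3, 1, 2, 2, 2, 0, 2, 1, 2, 2, 0, 3, 1, 3, 0, 3, 1, 2, 2, 2, 0, 3, 3, 1, 2, 2, 2, 2, 0] :=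
  C.stMul (h4031 C) (h2458 C) _
    (by decide +kernel)

theorem h4040 :
    C.S (v1 C) [1, 2, 0, 3, 1, 3, 0, 2, 1, 2, 0, 3, 1, 3, 0, 2, 2, 1, 3, 3, 0, 2, 1, 2, 0, 3, 1, 2, 2, 0, 2, 1, 2, 0, 2, 2] :=
  C.stMul (h4034 C) (h1432 C) _
    (by decide +kernel)

theorem h4053 :
    C.S (v1 C) [1, 2, 0, 3, 1, 3, 0, 2, 1, 2, 0, 3, 1, 3, 3, 0, 2, 2, 1, 3, 3, 0, 3, 1, 2, 2, 2, 2, 0, 2, 1, 3, 0, 3, 1, 2, 0, 2, 1, 2, 0] :=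
  C.stMul (h4040 C) (h4010 C) _
    (by decide +kernel)

theorem h4089 :
    C.S (v1 C) [2, 1, 3, 3, 0, 3, 1, 2, 2, 2, 0, 2, 1, 2, 0, 3, 1, 2, 0, 2, 2, 1, 3, 3, 0, 3, 1, 2, 2, 0, 3, 1, 3, 0, 2, 2, 2, 1, 2, 0, 2, 2, 2, 1, 2, 0, 2, 2, 1, 2, 0] :=
  C.stMul (h4011 C) (h2458 C) _
    (by decide +kernel)

theorem h4092 :
    C.S (v1 C) [1, 2, 2, 0, 3, 3, 1, 2, 2, 2, 0, 2, 1, 2, 2, 0, 3, 1, 3, 0, 3, 1, 2, 2, 2, 0, 3, 3, 1, 2, 2, 2, 2, 0] :=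
  C.stMul (h4089 C) (h2458 C) _
    (by decide +kernel)

theorem h4098 :
    C.S (v1 C) [1, 2, 0, 3, 1, 3, 0, 2, 1, 2, 0, 3, 1, 3, 0, 2, 2, 1, 3, 3, 0, 2, 1, 2, 0, 3, 1, 2, 2, 0, 2, 1, 2, 0, 2, 2] :=
  C.stMul (h4092 C) (h1432 C) _
    (by decide +kernel)

theorem h4161 :
    C.S (v1 C) [1, 2, 0, 3, 1, 3, 0, 2, 1, 2, 0, 3, 1, 3, 0, 2, 2, 1, 3, 3, 0, 2, 1, 2, 0, 3, 1, 2, 2, 0, 2, 2, 2, 1, 2, 0, 2, 2, 2, 1, 2, 0, 2] :=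
  C.stMul (h4011 C) (h1432 C) _
    (by decide +kernel)

theorem h4162 :
    C.S (v1 C) [2, 1, 3, 3, 0, 3, 1, 2, 2, 2, 0, 2, 1, 2, 0, 3, 1, 2, 0, 2, 2, 1, 3, 3, 0, 3, 1, 2, 2, 0, 3, 1, 3, 0, 2, 2, 2, 1, 2, 0, 2, 2, 2, 1, 2, 0, 2, 2, 1, 2, 0] :=
  C.stMul (h4011 C) (h2458 C) _
    (by decide +kernel)

theorem h4163 :
    C.S (v1 C) [1, 2, 0, 2, 1, 2, 0, 2, 1, 2, 2, 0, 3, 3, 1, 2, 2, 2, 0, 2, 1, 2, 2, 0, 3, 3, 3, 1, 2, 2, 0, 3, 1, 3, 3, 0, 3, 1, 3, 0, 2, 2, 1, 3, 3, 3, 0, 2, 1, 2, 0] :=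
  C.stMul (h4161 C) (h2458 C) _
    (by decide +kernel)

theorem h4165 :
    C.S (v1 C) [1, 2, 2, 0, 3, 3, 1, 2, 2, 2, 0, 2, 1, 2, 2, 0, 3, 1, 3, 0, 3, 1, 2, 2, 2, 0, 3, 3, 1, 2, 2, 2, 2, 0] :=
  C.stMul (h4162 C) (h2458 C) _
    (by decide +kernel)

theorem h4168 :
    C.S (v1 C) [1, 2, 0, 2, 1, 2, 0, 2, 1, 2, 2, 0, 3, 3, 1, 2, 2, 2, 0, 2, 1, 2, 2, 0, 3, 3, 3, 1, 2, 2, 0, 3, 1, 3, 3, 0, 3, 1, 3, 0, 2, 2, 1, 3, 3, 0, 2] :=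
  C.stMul (h4163 C) (h4010 C) _
    (by decide +kernel)

theorem h4171 :
    C.S (v1 C) [1, 2, 0, 3, 1, 3, 0, 2, 1, 2, 0, 3, 1, 3, 0, 2, 2, 1, 3, 3, 0, 2, 1, 2, 0, 3, 1, 2, 2, 0, 2, 1, 2, 0, 2, 2] :=
  C.stMul (h4165 C) (h1432 C) _
    (by decide +kernel)

theorem h4222 :
    C.S (v1 C) [1, 2, 0, 3, 1, 3, 0, 2, 1, 2, 0, 3, 1, 3, 0, 2, 2, 1, 3, 3, 0, 2, 1, 2, 0, 3, 1, 2, 2, 0, 2, 2, 2, 1, 2, 0, 2, 2, 2, 1, 2, 0, 2] :=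
  C.stMul (h4011 C) (h1432 C) _
    (by decide +kernel)

theorem h4223 :
    C.S (v1 C) [2, 1, 3, 3, 0, 3, 1, 2, 2, 2, 0, 2, 1, 2, 0, 3, 1, 2, 0, 2, 2, 1, 3, 3, 0, 3, 1, 2, 2, 0, 3, 1, 3, 0, 2, 2, 2, 1, 2, 0, 2, 2, 2, 1, 2, 0, 2, 2, 1, 2, 0] :=
  C.stMul (h4011 C) (h2458 C) _
    (by decide +kernel)

theorem h4224 :
    C.S (v1 C) [1, 3, 0, 3, 1, 2, 0, 2] :=
  C.stMul (h4011 C) (h4010 C) _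
    (by decide +kernel)

theorem h4226 :
    C.S (v1 C) [1, 2, 0, 2, 1, 2, 0, 2, 2, 1, 3, 3, 0, 3, 1, 2, 2, 2, 0, 2, 1, 2, 0, 3, 1, 2, 2, 0, 2, 1, 3, 0, 3, 1, 2, 2, 0, 2, 2, 1, 2, 2, 2, 0, 3, 3, 3, 3, 3, 1, 3, 0] :=
  C.stMul (h4222 C) (h4010 C) _
    (by decide +kernel)

theorem h4227 :
    C.S (v1 C) [1, 2, 2, 0, 3, 3, 1, 2, 2, 2, 0, 2, 1, 2, 2, 0, 3, 1, 3, 0, 3, 1, 2, 2, 2, 0, 3, 3, 1, 2, 2, 2, 2, 0] :=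
  C.stMul (h4223 C) (h2458 C) _
    (by decide +kernel)

theorem h4228 :
    C.S (v1 C) [1, 2, 0, 2, 1, 2, 2, 0, 2, 1, 3, 0, 3, 1, 2, 0, 2, 2, 1, 2, 0, 2, 1, 3, 0, 3, 1, 2, 2, 0, 2, 2, 1, 2, 2, 2, 0, 3, 3, 3, 1, 2, 2, 2, 0] :=
  C.stMul (h4223 C) (h4010 C) _
    (by decide +kernel)

theorem h4229 :
    C.S (v1 C) [3, 1, 2, 0, 2, 1, 3, 0, 3, 1, 2, 0, 2, 2, 1, 2, 0, 2, 2, 1, 3, 3, 0, 2, 1, 2, 0, 2, 1, 3, 3, 3, 0, 2, 1, 2, 0, 2] :=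
  C.stMul (h4224 C) (h1432 C) _
    (by decide +kernel)

theorem h4232 :
    C.S (v1 C) [1, 2, 0, 3, 1, 3, 0, 2, 1, 2, 0, 3, 1, 3, 0, 2, 2, 1, 3, 3, 0, 2, 1, 2, 0, 2, 1, 3, 0, 2, 1, 2, 0, 2, 1, 3, 0, 3, 3, 3, 1, 3, 0, 2] :=
  C.stMul (h4226 C) (h1432 C) _
    (by decide +kernel)

theorem h4233 :
    C.S (v1 C) [3, 1, 2, 0, 2, 1, 3, 0, 3, 1, 2, 0, 2, 2, 2, 2, 1, 3, 3, 0, 2, 2, 1, 3, 0, 3, 1, 3, 3, 0, 3] :=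
  C.stMul (h4226 C) (h2458 C) _
    (by decide +kernel)

theorem h4234 :
    C.S (v1 C) [1, 2, 2, 0, 3, 3, 1, 2, 2, 2, 0, 2, 1, 2, 2, 0, 3, 3, 1, 3, 0, 2, 2, 1, 3, 3, 0, 3, 1, 2, 2, 0, 2, 1, 3, 0, 3, 1, 2, 2, 0, 3, 3, 1, 3, 0, 2] :=
  C.stMul (h4226 C) (h4010 C) _
    (by decide +kernel)

theorem h4237 :
    C.S (v1 C) [1, 2, 0, 2, 1, 2, 2, 0, 2, 1, 3, 0, 3, 1, 2, 0, 2, 2, 1, 2, 0, 2, 1, 3, 0, 3, 1, 2, 2, 0, 3, 3, 1, 3, 3, 0, 3, 3, 1, 3, 0, 2, 1, 2, 0, 2, 2, 2] :=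
  C.stMul (h4227 C) (h4010 C) _
    (by decide +kernel)

theorem h4240 :
    C.S (v1 C) [1, 2, 0, 2, 1, 2, 0, 2, 1, 2, 0, 3, 1, 3, 0, 2, 1, 2, 0, 3, 1, 3, 0, 2, 2, 1, 3, 3, 0, 2, 1, 2, 0, 3, 3, 1, 3, 3, 0, 3, 3, 1, 2, 2, 0, 2, 2, 2, 2, 2] :=
  C.stMul (h4228 C) (h4010 C) _
    (by decide +kernel)

theorem h4241 :
    C.S (v1 C) [3, 1, 2, 0, 2, 1, 3, 0, 3, 1, 2, 0, 2, 2, 2, 2, 1, 3, 3, 0, 3, 1, 2, 2, 0, 2, 1, 2, 2, 0, 2, 1, 2, 0, 2, 1, 2, 0] :=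
  C.stMul (h4229 C) (h2458 C) _
    (by decide +kernel)

theorem h4246 :
    C.S (v1 C) [3, 3, 1, 2, 2, 0, 3, 1, 3, 3, 0, 3, 1, 3, 0, 2, 1, 2, 0, 2, 2, 2, 1, 2, 2, 0, 2, 2, 1, 3, 0, 2, 2] :=
  C.stMul (h4232 C) (h2458 C) _
    (by decide +kernel)

theorem h4248 :
    C.S (v1 C) [2, 1, 3, 3, 0, 3, 1, 2, 2, 2, 0, 2, 1, 2, 0, 3, 1, 2, 0, 2, 2, 1, 3, 3, 0, 2, 2, 2, 1, 2, 0, 2, 2, 1, 2, 0, 3, 1, 3, 0, 2, 1, 2, 0] :=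
  C.stMul (h4233 C) (h2458 C) _
    (by decide +kernel)

theorem h4250 :
    C.S (v1 C) [1, 2, 2, 0, 3, 3, 1, 2, 2, 2, 0, 2, 1, 2, 2, 0, 3, 1, 3, 0, 3, 1, 2, 2, 0, 2, 1, 3, 3, 0, 2, 2, 2, 2, 2, 1, 3, 0, 2, 2] :=
  C.stMul (h4234 C) (h2458 C) _
    (by decide +kernel)

theorem h4256 :
    C.S (v1 C) [1, 2, 0, 2, 1, 2, 0, 2, 1, 2, 0, 3, 1, 3, 0, 2, 1, 2, 0, 3, 1, 3, 0, 2, 2, 1, 3, 3, 0, 2, 1, 2, 0, 2, 2, 1, 3, 0, 3, 1, 2, 0, 3, 3, 1, 3, 0, 2, 2, 1, 2, 0, 3, 1, 3, 0, 2] :=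
  C.stMul (h4237 C) (h2458 C) _
    (by decide +kernel)

theorem h4258 :
    C.S (v1 C) [1, 2, 0, 2, 1, 2, 0, 2, 2, 1, 3, 3, 0, 3, 1, 2, 2, 2, 0, 2, 1, 2, 0, 3, 1, 2, 2, 0, 3, 1, 2, 2, 0, 3, 1, 3, 3, 0, 3, 1, 3, 0, 2, 1, 3, 0, 2, 2, 2, 1, 2, 0, 3, 1, 3, 0, 2] :=
  C.stMul (h4240 C) (h2458 C) _
    (by decide +kernel)

theorem h4260 :
    C.S (v1 C) [1, 2, 0, 2, 1, 2, 0, 2, 1, 2, 0, 3, 1, 3, 0, 2, 1, 2, 0, 3, 1, 3, 3, 0, 2, 2, 1, 3, 3, 0, 3, 1, 2, 2, 0, 2, 1, 2, 2, 0, 3, 3, 1, 2, 2, 0, 2, 2, 2, 2, 1, 2, 0] :=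
  C.stMul (h4241 C) (h2458 C) _
    (by decide +kernel)

theorem h4267 :
    C.S (v1 C) [1, 2, 0, 2, 1, 2, 0, 2, 1, 2, 2, 0, 3, 3, 1, 2, 0, 3, 3, 1, 3, 0] :=
  C.stMul (h4256 C) (h2458 C) _
    (by decide +kernel)

theorem h4271 :
    C.S (v1 C) [1, 2, 0, 2, 1, 2, 2, 0, 2, 1, 3, 0, 3, 1, 2, 0, 2, 2, 1, 2, 0, 3, 1, 2, 2, 0, 3, 1, 3, 3, 0, 3, 1, 2, 0, 3, 3, 1, 2, 0, 3, 3, 1, 3, 0, 2, 2, 2, 1, 2, 0, 2, 2, 1, 2, 0] :=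
  C.stMul (h4258 C) (h4010 C) _
    (by decide +kernel)

theorem h4272 :
    C.S (v1 C) [3, 1, 3, 0, 2, 2, 1, 3, 0, 2, 1, 2, 0, 2, 2, 1, 3, 0, 2, 2, 1, 2, 0, 3, 1, 3, 0, 2] :=
  C.stInv (h4223 C) _ (by decide +kernel)

theorem h4273 :
    C.S (v1 C) [1, 2, 0, 2, 1, 2, 2, 0, 2, 1, 3, 0, 3, 1, 2, 0, 2, 2, 1, 2, 0, 3, 1, 2, 2, 0, 3, 1, 3, 3, 0, 3, 1, 3, 0, 2, 1, 2, 2, 0, 2, 1, 3, 0, 3, 1, 2, 0, 2] :=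
  C.stMul (h4271 C) (h4272 C) _
    (by decide +kernel)

theorem h4274 :
    C.S (v1 C) [1, 2, 0, 2, 1, 2, 0, 2, 2, 1, 3, 3, 0, 3, 1, 2, 2, 2, 0, 2, 1, 2, 0, 3, 1, 2, 2, 0, 2, 2, 1, 3, 3, 0, 2, 1, 2, 0, 2, 1, 2, 2, 0, 2, 1, 3, 0, 3, 3, 1, 3, 0, 2, 2, 2] :=
  C.stMul (h4260 C) (h1432 C) _
    (by decide +kernel)

theorem h4275 :
    C.S (v1 C) [1, 3, 0, 3, 1, 2, 2, 2, 2, 0, 2, 2, 2] :=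
  C.stInv (h4250 C) _ (by decide +kernel)

theorem h4276 :
    C.S (v1 C) [1, 2, 0, 3, 1, 3, 0, 2, 1, 2, 0, 3, 1, 3, 3, 0, 2, 2, 1, 3, 0, 2, 1, 3, 0, 2, 2, 2, 2, 1, 3, 0, 3] :=
  C.stMul (h4274 C) (h4275 C) _
    (by decide +kernel)

theorem h4277 :
    C.S (v1 C) [1, 2, 0, 2, 1, 2, 2, 0, 2, 1, 3, 0, 3, 1, 2, 0, 2, 2, 1, 2, 0, 2, 2, 1, 3, 3, 0, 2, 2, 2, 2, 1, 2, 0, 2, 2, 1, 2, 0, 2] :=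
  C.stMul (h4267 C) (h1432 C) _
    (by decide +kernel)

theorem h4278 :
    C.S (v1 C) [1, 2, 0, 2, 1, 2, 0, 2, 1, 3, 0, 3, 1, 2, 2, 0, 3, 3, 1, 2, 2, 2, 0, 2] :=
  C.stInv (h4267 C) _ (by decide +kernel)

theorem h4279 :
    C.S (v1 C) [3, 1, 2, 0, 2, 1, 3, 0, 3, 1, 2, 0, 2, 2, 1, 2, 0, 2, 2, 1, 3, 3, 0, 2, 1, 2, 0, 2, 1, 2, 2, 0, 2, 2, 2, 1, 2, 0] :=
  C.stMul (h4277 C) (h4278 C) _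
    (by decide +kernel)

theorem h4280 :
    C.S (v1 C) [1, 2, 0, 3, 1, 3, 0, 2, 1, 2, 0, 3, 1, 3, 0, 2, 2, 1, 3, 3, 0, 2, 1, 2, 0, 3, 1, 2, 2, 0, 2, 2, 2, 1, 2, 0, 2, 2, 2, 1, 2, 0, 2] :=
  C.stMul (h4011 C) (h1432 C) _
    (by decide +kernel)

theorem h4281 :
    C.S (v1 C) [2, 1, 3, 3, 0, 3, 1, 2, 2, 2, 0, 2, 1, 2, 0, 3, 1, 2, 0, 2, 2, 1, 3, 3, 0, 3, 1, 2, 2, 0, 3, 1, 3, 0, 2, 2, 2, 1, 2, 0, 2, 2, 2, 1, 2, 0, 2, 2, 1, 2, 0] :=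
  C.stMul (h4011 C) (h2458 C) _
    (by decide +kernel)

theorem h4282 :
    C.S (v1 C) [1, 2, 0, 2, 1, 2, 0, 2, 1, 2, 2, 0, 3, 3, 1, 2, 2, 2, 0, 2, 1, 2, 2, 0, 3, 3, 3, 1, 2, 2, 0, 3, 1, 3, 3, 0, 3, 1, 3, 0, 2, 2, 1, 3, 3, 3, 0, 2, 1, 2, 0] :=
  C.stMul (h4280 C) (h2458 C) _
    (by decide +kernel)

theorem h4284 :
    C.S (v1 C) [2, 1, 3, 3, 0, 3, 1, 2, 2, 2, 0, 2, 1, 2, 0, 3, 1, 2, 2, 0, 3, 1, 2, 2, 0, 3, 1, 3, 3, 0, 3, 1, 3, 0, 2, 1, 2, 2, 0, 2, 1, 3, 0, 3, 3, 1, 3, 0, 2, 2, 2, 1, 2, 0, 2, 2, 1, 2, 0] :=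
  C.stMul (h4281 C) (h1432 C) _
    (by decide +kernel)

theorem h4285 :
    C.S (v1 C) [1, 2, 2, 0, 3, 3, 1, 2, 2, 2, 0, 2, 1, 2, 2, 0, 3, 1, 3, 0, 3, 1, 2, 2, 2, 0, 3, 3, 1, 2, 2, 2, 2, 0] :=
  C.stMul (h4281 C) (h2458 C) _
    (by decide +kernel)

theorem h4286 :
    C.S (v1 C) [1, 2, 0, 2, 1, 2, 0, 2, 2, 1, 3, 3, 0, 3, 1, 2, 2, 2, 0, 2, 1, 2, 0, 3, 1, 2, 0, 2, 2, 1, 3, 3, 0, 3, 1, 2, 2, 0, 2, 2, 1, 2, 0, 2, 2, 1, 2, 0, 2] :=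
  C.stMul (h4282 C) (h1432 C) _
    (by decide +kernel)

theorem h4287 :
    C.S (v1 C) [1, 2, 0, 2, 1, 2, 0, 2, 1, 2, 2, 0, 3, 3, 1, 2, 2, 2, 0, 2, 2, 1, 2, 0, 3, 1, 2, 2, 2, 0, 2, 2, 2, 1, 2, 0] :=
  C.stMul (h4282 C) (h2458 C) _
    (by decide +kernel)

theorem h4288 :
    C.S (v1 C) [1, 2, 0, 2, 1, 2, 0, 2, 1, 2, 2, 0, 3, 3, 1, 2, 2, 2, 0, 2, 1, 2, 2, 0, 3, 3, 3, 1, 2, 2, 0, 3, 1, 3, 3, 0, 3, 1, 3, 0, 2, 2, 1, 3, 3, 0, 2] :=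
  C.stMul (h4282 C) (h4010 C) _
    (by decide +kernel)

theorem h4291 :
    C.S (v1 C) [1, 2, 0, 2, 1, 2, 0, 2, 1, 2, 0, 3, 1, 3, 0, 2, 1, 2, 0, 3, 1, 3, 0, 2, 2, 1, 3, 3, 0, 2, 1, 2, 0, 3, 1, 3, 3, 0, 3, 3, 1, 3, 0, 2, 1, 2, 2, 2, 2, 0] :=
  C.stMul (h4284 C) (h2458 C) _
    (by decide +kernel)

theorem h4293 :
    C.S (v1 C) [1, 2, 0, 3, 1, 3, 0, 2, 1, 2, 0, 3, 1, 3, 0, 2, 2, 1, 3, 3, 0, 2, 1, 2, 0, 3, 1, 2, 2, 0, 2, 1, 2, 0, 2, 2] :=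
  C.stMul (h4285 C) (h1432 C) _
    (by decide +kernel)

theorem h4296 :
    C.S (v1 C) [1, 2, 0, 3, 1, 3, 0, 2, 1, 2, 0, 3, 1, 3, 0, 2, 2, 1, 3, 3, 0, 2, 1, 2, 0, 3, 1, 2, 2, 2, 0, 3, 1, 3, 0] :=
  C.stMul (h4286 C) (h2458 C) _
    (by decide +kernel)

theorem h4297 :
    C.S (v1 C) [2, 1, 3, 3, 0, 2, 1, 2, 0, 2, 1, 2, 0, 3, 1, 3, 0, 3, 1, 2, 0, 3, 3, 3, 1, 3, 0, 2, 1, 2, 0] :=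
  C.stMul (h4286 C) (h4010 C) _
    (by decide +kernel)

theorem h4299 :
    C.S (v1 C) [1, 2, 0, 2, 1, 2, 0, 2, 2, 1, 3, 3, 0, 3, 1, 2, 2, 2, 0, 2, 1, 2, 0, 3, 1, 2, 2, 2, 2, 2, 0, 2, 2, 2, 2, 1, 3, 0, 3] :=
  C.stMul (h4287 C) (h2458 C) _
    (by decide +kernel)

theorem h4303 :
    C.S (v1 C) [1, 2, 0, 2, 1, 2, 0, 2, 1, 2, 2, 0, 3, 3, 1, 2, 2, 2, 0, 2, 1, 2, 2, 0, 3, 3, 3, 1, 2, 2, 0, 3, 1, 3, 3, 0, 3, 1, 3, 0, 2, 2, 1, 3, 0, 3, 1, 2, 0, 3, 3, 1, 2, 0, 2] :=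
  C.stMul (h4288 C) (h4010 C) _
    (by decide +kernel)

theorem h4311 :
    C.S (v1 C) [1, 2, 0, 2, 1, 2, 0, 2, 1, 2, 0, 3, 1, 3, 0, 2, 1, 2, 0, 3, 1, 2, 2, 0, 2, 2, 2, 2] :=
  C.stMul (h4291 C) (h4010 C) _
    (by decide +kernel)

theorem h4315 :
    C.S (v1 C) [1, 2, 2, 0, 3, 3, 1, 2, 2, 2, 0, 2, 1, 2, 2, 0, 3, 3, 1, 3, 0, 2, 2, 1, 3, 0, 2, 1, 3, 0, 2, 1, 2, 0, 2, 1, 3, 0, 3, 1, 2, 2, 0] :=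
  C.stMul (h4293 C) (h2458 C) _
    (by decide +kernel)

theorem h4322 :
    C.S (v1 C) [1, 2, 0, 3, 1, 3, 0, 2, 1, 2, 0, 3, 1, 3, 3, 0, 2, 2, 1, 3, 3, 0, 3, 1, 2, 2, 0, 3, 3, 1, 2, 2, 0, 2, 2, 1, 3, 3, 3, 0, 3] :=
  C.stMul (h4296 C) (h2458 C) _
    (by decide +kernel)

theorem h4324 :
    C.S (v1 C) [1, 3, 0, 3, 1, 2, 2, 0, 3, 3, 1, 2, 2, 0, 2, 2, 2, 1, 3, 3, 0, 2, 2, 2, 2, 1, 2, 0, 2, 2, 1, 2, 0, 2] :=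
  C.stMul (h4297 C) (h1432 C) _
    (by decide +kernel)

theorem h4325 :
    C.S (v1 C) [3, 1, 2, 0, 2, 1, 3, 0, 3, 1, 2, 0, 2, 2, 1, 2, 0, 3, 1, 2, 2, 0, 3, 1, 3, 3, 0, 3, 1, 3, 0, 2, 2, 2, 1, 2, 2, 2, 0, 3, 1, 2, 0] :=
  C.stMul (h4297 C) (h2458 C) _
    (by decide +kernel)

theorem h4331 :
    C.S (v1 C) [1, 2, 0, 3, 1, 3, 0, 2, 1, 2, 0, 3, 1, 3, 3, 0, 2, 2, 1, 3, 0, 2, 2, 2, 1, 2, 2, 2, 0, 3, 1, 3, 0] :=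
  C.stMul (h4299 C) (h4010 C) _
    (by decide +kernel)

theorem h4338 :
    C.S (v1 C) [1, 2, 2, 0, 3, 3, 1, 2, 2, 2, 0, 2, 1, 2, 2, 0, 2, 1, 2, 2, 0, 3, 3, 1, 2, 2, 0, 2, 2, 2, 1, 2, 0] :=
  C.stMul (h4303 C) (h1432 C) _
    (by decide +kernel)

theorem h4355 :
    C.S (v1 C) [1, 2, 0, 3, 1, 3, 0, 2, 1, 2, 0, 3, 1, 3, 3, 0, 2, 2, 1, 3, 3, 0, 3, 1, 2, 2, 2, 2, 0, 2, 1, 3, 0, 3, 3, 1, 3, 0, 2, 2, 1, 2, 0, 3, 1, 3, 0, 2] :=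
  C.stMul (h4311 C) (h4010 C) _
    (by decide +kernel)

theorem h4362 :
    C.S (v1 C) [1, 2, 0, 3, 1, 3, 0, 2, 1, 2, 0, 3, 1, 3, 0, 2, 2, 1, 3, 3, 0, 2, 1, 2, 0, 2, 1, 3, 0, 2, 2, 1, 3, 0, 2, 2, 2, 1, 2, 0, 3, 1, 3, 0] :=
  C.stMul (h4315 C) (h1432 C) _
    (by decide +kernel)

theorem h4363 :
    C.S (v1 C) [1, 2, 0, 2, 1, 2, 0, 2, 1, 2, 0, 3, 1, 3, 0, 2, 1, 2, 0, 3, 1, 3, 0, 2, 2, 1, 3, 3, 0, 2, 1, 2, 0, 3, 1, 2, 2, 0, 2, 2, 2, 1, 3, 3, 0, 2, 2, 2, 1, 2, 0, 3, 1, 3, 0] :=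
  C.stMul (h4315 C) (h2458 C) _
    (by decide +kernel)

theorem h4373 :
    C.S (v1 C) [1, 2, 0, 2, 1, 2, 2, 0, 2, 1, 3, 0, 3, 1, 2, 0, 2, 2, 1, 2, 0, 2, 1, 3, 0, 3, 1, 2, 2, 2, 2, 0, 3, 1, 2, 2, 0, 2, 1, 3, 0] :=
  C.stMul (h4322 C) (h1432 C) _
    (by decide +kernel)

theorem h4383 :
    C.S (v1 C) [3, 1, 2, 0, 2, 1, 3, 0, 3, 1, 2, 0, 2, 2, 1, 2, 0, 2, 1, 3, 0, 3, 1, 2, 2, 0, 2, 1, 3, 0, 3, 1, 2, 0] :=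
  C.stMul (h4325 C) (h4010 C) _
    (by decide +kernel)

theorem h4397 :
    C.S (v1 C) [3, 1, 2, 0, 2, 1, 3, 0, 3, 1, 2, 0, 2, 2, 2, 2, 1, 3, 3, 0, 3, 1, 2, 2, 0, 3, 3, 1, 2, 2, 0, 2, 1, 3, 0] :=
  C.stMul (h4331 C) (h2458 C) _
    (by decide +kernel)

theorem h4410 :
    C.S (v1 C) [1, 2, 0, 2, 1, 2, 0, 2, 1, 2, 2, 0, 3, 3, 1, 2, 2, 2, 0, 2, 1, 2, 2, 0, 3, 3, 1, 3, 0, 2, 2, 1, 3, 3, 0, 3, 1, 2, 2, 0, 3, 3, 1, 3, 0] :=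
  C.stMul (h4338 C) (h2458 C) _
    (by decide +kernel)

theorem h4436 :
    C.S (v1 C) [1, 2, 0, 2, 1, 2, 0, 2, 1, 2, 0, 3, 1, 3, 0, 2, 1, 2, 0, 3, 1, 3, 0, 2, 2, 1, 3, 3, 0, 2, 1, 2, 0, 3, 1, 2, 2, 0, 2, 2, 2, 1, 3, 3, 0, 2, 2, 2, 2, 1, 2, 0, 2, 2, 1, 2, 0] :=
  C.stMul (h4355 C) (h4010 C) _
    (by decide +kernel)

theorem h4448 :
    C.S (v1 C) [1, 2, 0, 2, 1, 2, 2, 0, 2, 1, 3, 0, 3, 1, 2, 0, 2, 2, 1, 2, 0, 2, 2, 1, 3, 3, 0, 2, 1, 2, 0, 2, 2, 1, 2, 2, 0, 3, 3, 1, 2, 2, 0, 2, 2, 1, 2, 2, 0, 2, 1, 3, 0] :=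
  C.stMul (h4362 C) (h4010 C) _
    (by decide +kernel)

theorem h4464 :
    C.S (v1 C) [2, 1, 3, 3, 0, 3, 1, 2, 2, 2, 0, 2, 1, 2, 0, 3, 1, 2, 0, 2, 2, 1, 3, 0, 3, 1, 2, 2, 0, 2, 2, 1, 3, 0, 2, 2, 1, 2, 0, 3] :=
  C.stMul (h4373 C) (h4010 C) _
    (by decide +kernel)

theorem h4482 :
    C.S (v1 C) [3, 1, 2, 0, 2, 1, 3, 0, 3, 1, 2, 0, 2, 2, 1, 2, 0, 2, 1, 3, 0, 3, 1, 2, 2, 2, 0, 2, 2, 1, 3, 0, 2, 2, 2, 1, 3, 0, 3, 3] :=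
  C.stMul (h4383 C) (h4010 C) _
    (by decide +kernel)

theorem h4500 :
    C.S (v1 C) [1, 2, 0, 2, 2, 2, 1, 3, 3, 0, 3, 1, 2, 2, 0, 3, 1, 3, 0, 2, 2, 1, 3, 0, 3, 1, 3, 3, 0] :=
  C.stMul (h4397 C) (h1432 C) _
    (by decide +kernel)

theorem h4516 :
    C.S (v1 C) [1, 2, 0, 2, 1, 2, 2, 0, 2, 1, 3, 0, 3, 1, 2, 0, 2, 2, 1, 2, 0, 2, 1, 3, 0, 3, 1, 2, 2, 0, 2, 1, 3, 0, 3, 1, 2, 0, 3, 3, 1, 3, 0, 2, 1, 2, 0] :=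
  C.stMul (h4410 C) (h2458 C) _
    (by decide +kernel)

theorem h4567 :
    C.S (v1 C) [3, 1, 2, 0, 2, 1, 3, 0, 3, 1, 2, 0, 2, 2, 1, 3, 0, 3, 3, 1, 2, 0, 2, 2, 1, 2, 0, 2, 2] :=
  C.stMul (h4464 C) (h2458 C) _
    (by decide +kernel)

theorem h4584 :
    C.S (v1 C) [3, 1, 2, 0, 2, 1, 3, 0, 3, 1, 2, 0, 2, 2, 1, 2, 0, 2, 1, 3, 0, 2, 2, 2, 1, 2, 2, 0] :=
  C.stMul (h4482 C) (h1432 C) _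
    (by decide +kernel)

theorem h4594 :
    C.S (v1 C) [1, 2, 0, 2, 1, 2, 2, 0, 2, 1, 3, 0, 3, 1, 2, 0, 2, 2, 1, 2, 0, 2, 1, 3, 0, 3, 1, 2, 2, 2, 0, 2, 2, 1, 3, 0, 2, 2, 2, 1, 3, 0, 2] :=
  C.stMul (h4500 C) (h2458 C) _
    (by decide +kernel)

theorem h4624 :
    C.S (v1 C) [3, 3, 1, 2, 2, 0, 3, 1, 3, 3, 0, 3, 1, 3, 0, 2, 2, 1, 3, 0, 3, 1, 2, 2, 0, 2, 1, 3, 0, 2, 2, 2, 2, 1, 2, 0, 3, 3] :=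
  C.stMul (h4567 C) (h4010 C) _
    (by decide +kernel)

theorem h4629 :
    C.S (v1 C) [3, 1, 2, 0, 2, 1, 3, 0, 3, 1, 2, 0, 2, 2, 2, 2, 1, 3, 3, 0, 3, 1, 2, 0, 2, 1, 2, 0, 2, 1, 3, 0, 2, 2, 1, 2, 0, 3, 3] :=
  C.stMul (h4584 C) (h2458 C) _
    (by decide +kernel)

theorem h4630 :
    C.S (v1 C) [1, 2, 0, 2, 1, 2, 0, 2, 1, 2, 2, 0, 3, 3, 1, 2, 2, 2, 0, 2, 1, 2, 2, 0, 3, 3, 1, 3, 3, 0, 3, 3, 1, 2, 0, 2, 1, 2, 0, 3, 1, 3, 0, 2, 1, 2, 0] :=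
  C.stInv (h4624 C) _ (by decide +kernel)

theorem h4631 :
    C.S (v1 C) [1, 2, 0, 2, 1, 2, 2, 0, 2, 1, 3, 0, 3, 1, 2, 0, 2, 2, 1, 2, 0, 2, 2, 1, 3, 3, 0, 2, 2, 2, 1, 3, 0, 3] :=
  C.stMul (h4629 C) (h4630 C) _
    (by decide +kernel)

theorem h4632 :
    C.S (v1 C) [3, 1, 3, 0, 2, 2, 1, 3, 3, 0, 3, 1, 2, 2, 0, 3, 1, 2, 2, 0, 3, 3, 1, 2, 0, 3, 3, 1, 3, 0, 2, 2, 2, 1, 2, 0, 2, 2, 1, 2, 0] :=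
  C.stMul (h4436 C) (h1432 C) _
    (by decide +kernel)

theorem h4633 :
    C.S (v1 C) [1, 2, 0, 2, 1, 2, 0, 2, 2, 1, 3, 3, 0, 3, 1, 2, 2, 2, 0, 2, 1, 2, 0, 3, 1, 2, 2, 0, 2, 1, 3, 0, 3, 1, 2, 2, 2, 0, 3, 1, 3, 3, 0, 3, 1, 3, 0, 3, 1, 3, 3, 0, 3] :=
  C.stInv (h4436 C) _ (by decide +kernel)

theorem h4634 :
    C.S (v1 C) [1, 2, 0, 2, 1, 2, 0, 2, 2, 1, 3, 3, 0, 3, 1, 2, 2, 2, 0, 2, 1, 2, 0, 3, 1, 2, 0, 2, 2, 1, 3, 0, 2, 2, 1, 3, 0, 3, 1, 2, 2, 0] :=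
  C.stMul (h4632 C) (h4633 C) _
    (by decide +kernel)

theorem h4635 :
    C.S (v1 C) [1, 2, 0, 2, 1, 2, 0, 2, 1, 2, 2, 0, 3, 3, 1, 2, 2, 2, 0, 2, 1, 2, 2, 2, 2, 0, 2, 2, 2, 1, 2, 0, 3, 1, 3, 0] :=
  C.stMul (h4594 C) (h4010 C) _
    (by decide +kernel)

theorem h4636 :
    C.S (v1 C) [1, 2, 0, 2, 1, 2, 2, 2, 0, 2, 2, 2, 1, 2, 0, 2, 2, 2, 1, 2, 0, 2] :=
  C.stInv (h4363 C) _ (by decide +kernel)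

theorem h4637 :
    C.S (v1 C) [1, 2, 0, 2, 1, 2, 0, 2, 1, 3, 0, 3, 1, 2, 0, 2] :=
  C.stMul (h4635 C) (h4636 C) _
    (by decide +kernel)

theorem h4638 :
    C.S (v1 C) [1, 2, 0, 3, 1, 3, 0, 2, 1, 2, 0, 3, 1, 3, 0, 2, 2, 1, 3, 3, 0, 2, 1, 2, 0, 3, 1, 2, 2, 0, 2, 2, 2, 1, 2, 0, 2, 2, 2, 1, 2, 0, 2] :=
  C.stMul (h4011 C) (h1432 C) _
    (by decide +kernel)

theorem h4639 :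
    C.S (v1 C) [2, 1, 3, 3, 0, 3, 1, 2, 2, 2, 0, 2, 1, 2, 0, 3, 1, 2, 0, 2, 2, 1, 3, 3, 0, 3, 1, 2, 2, 0, 3, 1, 3, 0, 2, 2, 2, 1, 2, 0, 2, 2, 2, 1, 2, 0, 2, 2, 1, 2, 0] :=
  C.stMul (h4011 C) (h2458 C) _
    (by decide +kernel)

theorem h4640 :
    C.S (v1 C) [1, 3, 0, 3, 1, 2, 0, 2] :=
  C.stMul (h4011 C) (h4010 C) _
    (by decide +kernel)

theorem h4641 :
    C.S (v1 C) [1, 2, 0, 2, 1, 2, 0, 2, 1, 2, 2, 0, 3, 3, 1, 2, 2, 2, 0, 2, 1, 2, 2, 0, 3, 3, 3, 1, 2, 2, 0, 3, 1, 3, 3, 0, 3, 1, 3, 0, 2, 2, 1, 3, 3, 3, 0, 2, 1, 2, 0] :=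
  C.stMul (h4638 C) (h2458 C) _
    (by decide +kernel)

theorem h4642 :
    C.S (v1 C) [1, 2, 0, 2, 1, 2, 0, 2, 2, 1, 3, 3, 0, 3, 1, 2, 2, 2, 0, 2, 1, 2, 0, 3, 1, 2, 2, 0, 2, 1, 3, 0, 3, 1, 2, 2, 0, 2, 2, 1, 2, 2, 2, 0, 3, 3, 3, 3, 3, 1, 3, 0] :=
  C.stMul (h4638 C) (h4010 C) _
    (by decide +kernel)

theorem h4643 :
    C.S (v1 C) [2, 1, 3, 3, 0, 3, 1, 2, 2, 2, 0, 2, 1, 2, 0, 3, 1, 2, 2, 0, 3, 1, 2, 2, 0, 3, 1, 3, 3, 0, 3, 1, 3, 0, 2, 1, 2, 2, 0, 2, 1, 3, 0, 3, 3, 1, 3, 0, 2, 2, 2, 1, 2, 0, 2, 2, 1, 2, 0] :=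
  C.stMul (h4639 C) (h1432 C) _
    (by decide +kernel)

theorem h4644 :
    C.S (v1 C) [1, 2, 2, 0, 3, 3, 1, 2, 2, 2, 0, 2, 1, 2, 2, 0, 3, 1, 3, 0, 3, 1, 2, 2, 2, 0, 3, 3, 1, 2, 2, 2, 2, 0] :=
  C.stMul (h4639 C) (h2458 C) _
    (by decide +kernel)

theorem h4646 :
    C.S (v1 C) [1, 2, 0, 2, 1, 2, 0, 2, 1, 2, 2, 0, 3, 3, 1, 2, 2, 2, 0, 2, 1, 2, 0, 2, 2, 2, 2, 1, 2, 0, 2, 2, 1, 2, 0] :=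
  C.stMul (h4640 C) (h2458 C) _
    (by decide +kernel)

theorem h4648 :
    C.S (v1 C) [1, 2, 0, 2, 1, 2, 0, 2, 1, 2, 2, 0, 3, 3, 1, 2, 2, 2, 0, 2, 2, 1, 2, 0, 3, 1, 2, 2, 2, 0, 2, 2, 2, 1, 2, 0] :=
  C.stMul (h4641 C) (h2458 C) _
    (by decide +kernel)

theorem h4649 :
    C.S (v1 C) [1, 2, 0, 2, 1, 2, 0, 2, 1, 2, 2, 0, 3, 3, 1, 2, 2, 2, 0, 2, 1, 2, 2, 0, 3, 3, 3, 1, 2, 2, 0, 3, 1, 3, 3, 0, 3, 1, 3, 0, 2, 2, 1, 3, 3, 0, 2] :=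
  C.stMul (h4641 C) (h4010 C) _
    (by decide +kernel)

theorem h4651 :
    C.S (v1 C) [3, 1, 2, 0, 2, 1, 3, 0, 3, 1, 2, 0, 2, 2, 2, 2, 1, 3, 3, 0, 2, 2, 1, 3, 0, 3, 1, 3, 3, 0, 3] :=
  C.stMul (h4642 C) (h2458 C) _
    (by decide +kernel)

theorem h4654 :
    C.S (v1 C) [3, 1, 3, 0, 2, 2, 1, 3, 0, 2, 2, 1, 3, 0, 3, 1, 2, 0, 3, 3, 1, 2, 2, 0] :=
  C.stMul (h4643 C) (h4010 C) _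
    (by decide +kernel)

theorem h4655 :
    C.S (v1 C) [1, 2, 0, 3, 1, 3, 0, 2, 1, 2, 0, 3, 1, 3, 0, 2, 2, 1, 3, 3, 0, 2, 1, 2, 0, 3, 1, 2, 2, 0, 2, 1, 2, 0, 2, 2] :=
  C.stMul (h4644 C) (h1432 C) _
    (by decide +kernel)

theorem h4658 :
    C.S (v1 C) [1, 2, 0, 2, 1, 2, 0, 2, 2, 1, 3, 3, 0, 3, 1, 2, 2, 2, 0, 2, 1, 2, 0, 3, 1, 2, 2, 0, 2, 2, 1, 3, 3, 0, 2, 2, 2, 1, 3, 0, 2, 2, 1, 2, 0, 2, 2, 1, 2, 0] :=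
  C.stMul (h4646 C) (h1432 C) _
    (by decide +kernel)

theorem h4663 :
    C.S (v1 C) [1, 2, 0, 2, 1, 2, 0, 2, 1, 2, 0, 3, 1, 3, 0, 2, 1, 2, 0, 3, 1, 3, 0, 2, 2, 1, 3, 3, 0, 2, 1, 2, 0, 3, 1, 3, 3, 0, 3, 3, 1, 2, 0, 2, 2] :=
  C.stMul (h4648 C) (h1432 C) _
    (by decide +kernel)

theorem h4665 :
    C.S (v1 C) [3, 1, 3, 0, 2, 2, 1, 3, 3, 0, 3, 1, 2, 2, 0, 3, 3, 1, 3, 3, 0, 3, 3] :=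
  C.stMul (h4649 C) (h1432 C) _
    (by decide +kernel)

theorem h4670 :
    C.S (v1 C) [2, 1, 3, 3, 0, 3, 1, 2, 2, 2, 0, 2, 1, 2, 0, 3, 1, 2, 2, 0, 2, 2, 1, 2, 0, 2, 2, 2, 1, 2, 2, 0, 2, 2, 1, 3, 0] :=
  C.stMul (h4651 C) (h1432 C) _
    (by decide +kernel)

theorem h4677 :
    C.S (v1 C) [1, 2, 0, 2, 1, 2, 2, 0, 2, 1, 3, 0, 3, 1, 2, 0, 2, 2, 2, 2, 1, 3, 0, 2, 1, 2, 0, 3, 3, 1, 2, 0, 2, 2] :=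
  C.stMul (h4654 C) (h1432 C) _
    (by decide +kernel)

theorem h4687 :
    C.S (v1 C) [1, 2, 0, 2, 1, 2, 0, 2, 2, 1, 3, 3, 0, 3, 1, 2, 2, 2, 0, 2, 1, 2, 0, 3, 1, 2, 2, 0, 3, 1, 2, 2, 0, 3, 1, 3, 3, 0, 3, 1, 3, 0, 2, 1, 2, 2, 0, 2, 1, 3, 0, 3, 1, 2, 0, 2, 1, 2, 2, 2, 0] :=
  C.stMul (h4658 C) (h2458 C) _
    (by decide +kernel)

theorem h4697 :
    C.S (v1 C) [1, 2, 0, 2, 1, 2, 0, 2, 1, 2, 0, 3, 1, 3, 0, 2, 1, 2, 0, 3, 1, 3, 0, 2, 2, 1, 3, 3, 0, 2, 1, 2, 0, 2, 1, 2, 0, 2, 2, 1, 3, 0, 2, 2, 1, 2, 0, 3, 1, 3, 0, 2] :=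
  C.stMul (h4663 C) (h2458 C) _
    (by decide +kernel)

theorem h4698 :
    C.S (v1 C) [1, 2, 0, 2, 1, 2, 2, 0, 2, 1, 3, 0, 3, 1, 2, 0, 2, 2, 2, 2, 1, 3, 3, 0, 3, 1, 2, 2, 0, 2, 1, 2, 0, 3, 1, 3, 0, 2] :=
  C.stMul (h4663 C) (h4010 C) _
    (by decide +kernel)

theorem h4702 :
    C.S (v1 C) [1, 2, 0, 2, 1, 2, 2, 0, 2, 1, 3, 0, 3, 1, 2, 0, 2, 2, 1, 2, 0, 2, 2, 1, 3, 3, 0, 2, 1, 2, 0, 3, 1, 2, 2, 2, 0, 2, 2, 2, 1, 2, 0, 3, 1, 3, 0, 2, 2] :=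
  C.stMul (h4665 C) (h2458 C) _
    (by decide +kernel)

theorem h4728 :
    C.S (v1 C) [1, 2, 0, 2, 1, 2, 2, 0, 2, 1, 3, 0, 3, 1, 2, 0, 2, 2, 1, 2, 0, 2, 1, 3, 0, 3, 1, 2, 2, 0, 2, 1, 3, 3, 0, 2, 2, 1, 2, 0] :=
  C.stMul (h4677 C) (h4010 C) _
    (by decide +kernel)

theorem h4743 :
    C.S (v1 C) [2, 1, 3, 3, 0, 2, 1, 2, 0, 2, 1, 3, 0, 2, 1, 2, 0, 2, 1, 3, 0, 3, 3, 3, 1, 3, 0, 2, 1, 2, 0, 3] :=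
  C.stMul (h4687 C) (h2458 C) _
    (by decide +kernel)

theorem h4744 :
    C.S (v1 C) [1, 2, 2, 0, 3, 3, 1, 2, 2, 2, 0, 2, 1, 2, 2, 0, 3, 3, 1, 3, 0, 2, 2, 1, 3, 3, 0, 3, 1, 2, 2, 2, 0, 3, 1, 3, 0, 3, 1, 2, 0, 2, 2] :=
  C.stMul (h4687 C) (h4010 C) _
    (by decide +kernel)

theorem h4763 :
    C.S (v1 C) [1, 2, 0, 2, 2, 2, 1, 3, 0] :=
  C.stMul (h4697 C) (h2458 C) _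
    (by decide +kernel)

theorem h4765 :
    C.S (v1 C) [1, 2, 0, 2, 1, 2, 0, 2, 1, 2, 0, 3, 1, 3, 0, 2, 1, 2, 0, 3, 1, 3, 0, 2, 1, 3, 0, 3, 1, 2, 2, 0, 3, 3, 1, 3, 3, 0, 3, 3, 1, 3, 0, 2, 1, 2, 0] :=
  C.stMul (h4698 C) (h2458 C) _
    (by decide +kernel)

theorem h4776 :
    C.S (v1 C) [3, 1, 3, 0, 2, 2, 1, 2, 0, 3, 3, 1, 2, 0, 3, 3, 1, 3, 3, 0] :=
  C.stMul (h4702 C) (h2458 C) _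
    (by decide +kernel)

theorem h4837 :
    C.S (v1 C) [1, 2, 2, 0, 3, 3, 1, 2, 2, 2, 0, 2, 1, 2, 2, 0, 3, 3, 1, 3, 3, 0, 3, 3, 1, 3, 0, 2, 1, 2, 0, 2, 2, 2, 1, 3, 0, 3, 3, 1, 3, 0] :=
  C.stMul (h4743 C) (h4010 C) _
    (by decide +kernel)

theorem h4838 :
    C.S (v1 C) [1, 2, 2, 0, 3, 3, 1, 2, 2, 2, 0, 2, 1, 2, 2, 0, 3, 1, 3, 0, 3, 1, 2, 2, 0, 3, 1, 3, 0, 3, 3, 1, 2, 0, 3, 3, 1, 2, 2, 0, 2, 2, 1, 2, 0] :=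
  C.stMul (h4744 C) (h1432 C) _
    (by decide +kernel)

theorem h4862 :
    C.S (v1 C) [1, 2, 2, 0, 3, 3, 1, 2, 2, 2, 0, 2, 1, 2, 2, 0, 3, 1, 3, 0, 3, 1, 2, 2, 0, 3, 1, 3, 0, 2, 2, 2, 1, 2, 0, 2, 2, 2, 1, 2, 0, 2, 2, 1, 2, 0] :=
  C.stMul (h4763 C) (h2458 C) _
    (by decide +kernel)

theorem h4865 :
    C.S (v1 C) [2, 1, 3, 3, 0, 2, 1, 2, 0, 2, 1, 2, 0, 3, 1, 3, 3, 0, 3, 1, 3, 0, 2, 1, 2, 0, 2] :=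
  C.stMul (h4765 C) (h1432 C) _
    (by decide +kernel)

theorem h4866 :
    C.S (v1 C) [1, 2, 0, 2, 1, 2, 0, 2, 2, 1, 3, 3, 0, 3, 1, 2, 2, 2, 0, 2, 1, 2, 0, 3, 1, 2, 2, 0, 3, 1, 2, 2, 0, 3, 1, 3, 3, 0, 3, 1, 3, 3, 0, 3, 3, 1, 3, 0, 2, 2, 2, 1, 2, 0, 2, 2, 1, 2, 0] :=
  C.stMul (h4765 C) (h2458 C) _
    (by decide +kernel)

theorem h4927 :
    C.S (v1 C) [1, 2, 0, 2, 1, 2, 0, 2, 1, 2, 2, 0, 3, 3, 1, 2, 2, 2, 0, 2, 1, 2, 2, 0, 3, 3, 3, 1, 2, 2, 0, 3, 1, 3, 3, 0, 3, 1, 3, 0, 2, 1, 2, 0, 2, 2, 2, 1, 2, 0, 3, 1, 3, 0, 2, 1, 2, 0, 3] :=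
  C.stMul (h4837 C) (h4010 C) _
    (by decide +kernel)

theorem h4928 :
    C.S (v1 C) [1, 2, 0, 2, 1, 2, 0, 2, 2, 1, 3, 3, 0, 3, 1, 2, 2, 2, 0, 2, 1, 2, 0, 3, 1, 2, 0, 2, 2, 1, 2, 0, 3, 3, 1, 2, 0, 3, 3, 1, 3, 0, 2, 2, 2, 1, 3, 0, 3] :=
  C.stMul (h4838 C) (h2458 C) _
    (by decide +kernel)

theorem h4952 :
    C.S (v1 C) [1, 2, 2, 0, 3, 3, 1, 2, 2, 2, 0, 2, 1, 2, 2, 2, 0, 3, 1, 2, 2, 0] :=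
  C.stMul (h4866 C) (h2458 C) _
    (by decide +kernel)

theorem h4987 :
    C.S (v1 C) [1, 2, 0, 2, 1, 2, 2, 0, 2, 1, 3, 0, 3, 1, 2, 0, 2, 2, 1, 2, 0, 2, 2, 1, 3, 3, 0, 2, 1, 2, 0, 2, 1, 2, 2, 0, 2, 1, 3, 0, 3, 1, 2, 0, 3, 1, 3, 0, 2, 1, 2, 0] :=
  C.stMul (h4865 C) (h2458 C) _
    (by decide +kernel)

theorem h4988 :
    C.S (v1 C) [1, 2, 0, 2, 1, 2, 0, 3, 1, 2, 2, 0, 3, 1, 3, 3, 0, 3, 1, 3, 0, 2, 2, 1, 3, 3, 0, 2, 1, 2, 2, 0, 3, 3, 1, 2, 0, 3, 3, 1, 3, 0] :=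
  C.stInv (h4670 C) _ (by decide +kernel)

theorem h4989 :
    C.S (v1 C) [3, 1, 3, 0, 2, 2, 1, 3, 3, 0, 3, 1, 2, 2, 2, 0, 3, 3, 1, 2, 0, 2, 2, 2] :=
  C.stMul (h4987 C) (h4988 C) _
    (by decide +kernel)

theorem h4990 :
    C.S (v1 C) [1, 2, 0, 2, 1, 2, 2, 0, 2, 1, 3, 0, 3, 1, 2, 0, 2, 2, 1, 2, 0, 3, 1, 2, 2, 0, 3, 1, 3, 3, 0, 3, 1, 3, 0, 3, 1, 2, 2, 2, 0, 2, 2, 2] :=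
  C.stMul (h4728 C) (h4010 C) _
    (by decide +kernel)

theorem h4991 :
    C.S (v1 C) [2, 1, 3, 3, 0, 3, 1, 2, 2, 2, 0, 2, 1, 2, 0, 3, 1, 2, 0, 2, 2, 1, 3, 3, 0, 3, 1, 2, 2, 0, 3, 3, 3, 1, 3, 3, 0, 3, 3, 1, 2, 2, 0, 2, 2, 2, 2, 1, 2, 2, 0] :=
  C.stInv (h4655 C) _ (by decide +kernel)

theorem h4992 :
    C.S (v1 C) [1, 2, 0, 2, 1, 2, 0, 2, 2, 1, 3, 3, 0, 3, 1, 2, 2, 2, 0, 2, 1, 2, 0, 3, 1, 2, 0, 2, 2, 1, 3, 0, 2, 2, 1, 3, 0, 3, 1, 2, 2, 0] :=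
  C.stMul (h4990 C) (h4991 C) _
    (by decide +kernel)

theorem h4993 :
    C.S (v1 C) [1, 2, 0, 2, 1, 2, 0, 2, 2, 1, 3, 3, 0, 3, 1, 2, 2, 2, 0, 2, 1, 2, 0, 3, 1, 2, 2, 0, 2, 1, 3, 0, 3, 1, 2, 2, 0, 2, 1, 2, 2, 0, 3, 3, 1, 3, 3, 0, 3, 3, 3, 3, 1, 3, 0, 2, 1, 2, 0, 3] :=
  C.stMul (h4952 C) (h2458 C) _
    (by decide +kernel)

theorem h4994 :
    C.S (v1 C) [1, 2, 0, 2, 1, 2, 0, 2, 1, 2, 0, 3, 1, 3, 0, 2, 1, 2, 0, 3, 1, 3, 3, 0, 2, 2, 1, 3, 3, 0, 3, 1, 2, 2, 2, 2, 0, 2, 1, 3, 0, 3, 3, 1, 3, 0, 2, 2, 2, 1, 2, 0, 2, 2, 1, 2, 0, 2] :=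
  C.stInv (h4927 C) _ (by decide +kernel)

theorem h4995 :
    C.S (v1 C) [1, 3, 0, 3, 3, 1, 3, 0] :=
  C.stMul (h4993 C) (h4994 C) _
    (by decide +kernel)

theorem h4996 :
    C.S (v1 C) [1, 2, 0, 3, 1, 3, 0, 2, 1, 2, 0, 3, 1, 3, 0, 2, 2, 1, 3, 3, 0, 2, 1, 2, 0, 3, 1, 2, 2, 0, 2, 2, 2, 1, 2, 0, 2, 2, 2, 1, 2, 0, 2] :=
  C.stMul (h4011 C) (h1432 C) _
    (by decide +kernel)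

theorem h4997 :
    C.S (v1 C) [2, 1, 3, 3, 0, 3, 1, 2, 2, 2, 0, 2, 1, 2, 0, 3, 1, 2, 0, 2, 2, 1, 3, 3, 0, 3, 1, 2, 2, 0, 3, 1, 3, 0, 2, 2, 2, 1, 2, 0, 2, 2, 2, 1, 2, 0, 2, 2, 1, 2, 0] :=
  C.stMul (h4011 C) (h2458 C) _
    (by decide +kernel)

theorem h4998 :
    C.S (v1 C) [1, 3, 0, 3, 1, 2, 0, 2] :=
  C.stMul (h4011 C) (h4010 C) _
    (by decide +kernel)

theorem h4999 :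
    C.S (v1 C) [1, 2, 0, 2, 1, 2, 0, 2, 1, 2, 2, 0, 3, 3, 1, 2, 2, 2, 0, 2, 1, 2, 2, 0, 3, 3, 3, 1, 2, 2, 0, 3, 1, 3, 3, 0, 3, 1, 3, 0, 2, 2, 1, 3, 3, 3, 0, 2, 1, 2, 0] :=
  C.stMul (h4996 C) (h2458 C) _
    (by decide +kernel)

theorem h5000 :
    C.S (v1 C) [1, 2, 0, 2, 1, 2, 0, 2, 2, 1, 3, 3, 0, 3, 1, 2, 2, 2, 0, 2, 1, 2, 0, 3, 1, 2, 2, 0, 2, 1, 3, 0, 3, 1, 2, 2, 0, 2, 2, 1, 2, 2, 2, 0, 3, 3, 3, 3, 3, 1, 3, 0] :=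
  C.stMul (h4996 C) (h4010 C) _
    (by decide +kernel)

theorem h5001 :
    C.S (v1 C) [2, 1, 3, 3, 0, 3, 1, 2, 2, 2, 0, 2, 1, 2, 0, 3, 1, 2, 2, 0, 3, 1, 2, 2, 0, 3, 1, 3, 3, 0, 3, 1, 3, 0, 2, 1, 2, 2, 0, 2, 1, 3, 0, 3, 3, 1, 3, 0, 2, 2, 2, 1, 2, 0, 2, 2, 1, 2, 0] :=
  C.stMul (h4997 C) (h1432 C) _
    (by decide +kernel)

theorem h5002 :
    C.S (v1 C) [1, 2, 2, 0, 3, 3, 1, 2, 2, 2, 0, 2, 1, 2, 2, 0, 3, 1, 3, 0, 3, 1, 2, 2, 2, 0, 3, 3, 1, 2, 2, 2, 2, 0] :=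
  C.stMul (h4997 C) (h2458 C) _
    (by decide +kernel)

theorem h5003 :
    C.S (v1 C) [1, 2, 0, 2, 1, 2, 2, 0, 2, 1, 3, 0, 3, 1, 2, 0, 2, 2, 1, 2, 0, 2, 1, 3, 0, 3, 1, 2, 2, 0, 2, 2, 1, 2, 2, 2, 0, 3, 3, 3, 1, 2, 2, 2, 0] :=
  C.stMul (h4997 C) (h4010 C) _
    (by decide +kernel)

theorem h5006 :
    C.S (v1 C) [1, 2, 0, 2, 1, 2, 2, 0, 2, 1, 3, 0, 3, 1, 2, 0, 2, 2, 1, 2, 0, 3, 1, 2, 2, 0, 3, 1, 3, 3, 0, 3, 1, 3, 0] :=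
  C.stMul (h4998 C) (h4010 C) _
    (by decide +kernel)

theorem h5008 :
    C.S (v1 C) [1, 2, 0, 2, 1, 2, 0, 2, 1, 2, 2, 0, 3, 3, 1, 2, 2, 2, 0, 2, 2, 1, 2, 0, 3, 1, 2, 2, 2, 0, 2, 2, 2, 1, 2, 0] :=
  C.stMul (h4999 C) (h2458 C) _
    (by decide +kernel)

theorem h5011 :
    C.S (v1 C) [1, 2, 2, 0, 3, 3, 1, 2, 2, 2, 0, 2, 1, 2, 2, 0, 3, 3, 1, 3, 0, 2, 2, 1, 3, 3, 0, 3, 1, 2, 2, 0, 2, 1, 3, 0, 3, 1, 2, 2, 0, 3, 3, 1, 3, 0, 2] :=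
  C.stMul (h5000 C) (h4010 C) _
    (by decide +kernel)

theorem h5012 :
    C.S (v1 C) [1, 2, 0, 2, 1, 2, 0, 2, 1, 2, 0, 3, 1, 3, 0, 2, 1, 2, 0, 3, 1, 3, 0, 2, 2, 1, 3, 3, 0, 2, 1, 2, 0, 3, 1, 3, 3, 0, 3, 3, 1, 3, 0, 2, 1, 2, 2, 2, 2, 0] :=
  C.stMul (h5001 C) (h2458 C) _
    (by decide +kernel)

theorem h5016 :
    C.S (v1 C) [1, 2, 0, 2, 1, 2, 2, 0, 2, 1, 3, 0, 3, 1, 2, 0, 2, 2, 1, 2, 0, 2, 1, 3, 0, 3, 1, 2, 2, 0, 3, 3, 1, 3, 3, 0, 3, 3, 1, 3, 0, 2, 1, 2, 0, 2, 2, 2] :=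
  C.stMul (h5002 C) (h4010 C) _
    (by decide +kernel)

theorem h5018 :
    C.S (v1 C) [1, 2, 0, 2, 1, 2, 0, 2, 1, 3, 0, 3, 1, 2, 2, 0, 2, 1, 2, 2, 0, 3, 3, 1, 2, 0, 2, 1, 2, 0, 3] :=
  C.stMul (h5003 C) (h2458 C) _
    (by decide +kernel)

theorem h5025 :
    C.S (v1 C) [1, 2, 0, 2, 2, 2, 1, 3, 3, 0, 2, 2, 2, 1, 2, 0, 2, 2, 2, 1, 2, 0, 2, 2, 1, 2, 0] :=
  C.stMul (h5006 C) (h2458 C) _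
    (by decide +kernel)

theorem h5031 :
    C.S (v1 C) [1, 2, 0, 2, 1, 2, 0, 2, 1, 2, 2, 0, 3, 3, 1, 2, 2, 2, 0, 2, 1, 2, 2, 0, 3, 3, 3, 1, 2, 2, 0, 3, 1, 3, 3, 0, 3, 1, 3, 3, 0, 3, 3, 1, 2, 0, 3, 3, 1, 2, 0] :=
  C.stMul (h5008 C) (h4010 C) _
    (by decide +kernel)

theorem h5038 :
    C.S (v1 C) [1, 2, 0, 3, 1, 3, 0, 2, 1, 2, 0, 3, 1, 3, 0, 2, 2, 1, 3, 3, 0, 2, 1, 2, 0, 3, 1, 2, 2, 0, 2, 2, 2, 1, 2, 0, 2, 2, 2, 2, 1, 2, 0] :=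
  C.stMul (h5011 C) (h4010 C) _
    (by decide +kernel)

theorem h5041 :
    C.S (v1 C) [1, 2, 0, 2, 1, 2, 0, 2, 1, 2, 0, 3, 1, 3, 0, 2, 1, 2, 0, 3, 1, 2, 2, 0, 2, 2, 2, 2] :=
  C.stMul (h5012 C) (h4010 C) _
    (by decide +kernel)

theorem h5050 :
    C.S (v1 C) [1, 2, 0, 2, 1, 2, 0, 2, 1, 2, 0, 3, 1, 3, 0, 2, 1, 2, 0, 3, 1, 3, 0, 2, 2, 1, 3, 3, 0, 2, 1, 2, 0, 2, 2, 1, 3, 0, 3, 1, 2, 0, 3, 3, 1, 3, 0, 2, 2, 1, 2, 0, 3, 1, 3, 0, 2] :=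
  C.stMul (h5016 C) (h2458 C) _
    (by decide +kernel)

theorem h5051 :
    C.S (v1 C) [3, 1, 3, 0, 2, 2, 1, 3, 3, 0, 3, 1, 2, 2, 0, 3, 3, 1, 3, 3, 0, 3, 3, 1, 3, 0, 2, 1, 2, 0, 2, 2, 1, 2, 0, 3, 1, 3, 0, 2] :=
  C.stMul (h5016 C) (h4010 C) _
    (by decide +kernel)

theorem h5055 :
    C.S (v1 C) [1, 2, 0, 2, 1, 2, 2, 0, 2, 1, 3, 0, 3, 1, 2, 0, 2, 2, 1, 2, 0, 2, 1, 3, 0, 3, 1, 2, 2, 0, 2, 1, 3, 0, 3, 1, 2, 2, 0, 2, 2, 2, 1, 3, 0, 3, 3, 1, 3, 0] :=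
  C.stMul (h5018 C) (h2458 C) _
    (by decide +kernel)

theorem h5070 :
    C.S (v1 C) [2, 1, 3, 3, 0, 3, 1, 2, 2, 2, 0, 2, 1, 2, 0, 3, 1, 2, 2, 0, 3, 1, 2, 2, 0, 3, 1, 3, 3, 0, 3, 1, 3, 0, 2, 1, 2, 0, 3, 3, 1, 2, 2, 2, 2, 0] :=
  C.stMul (h5025 C) (h2458 C) _
    (by decide +kernel)

theorem h5071 :
    C.S (v1 C) [1, 2, 0, 2, 1, 2, 0, 2, 2, 2, 2, 1, 2, 2, 2, 0, 3, 3, 3, 1, 2, 2, 2, 0] :=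
  C.stMul (h5025 C) (h4010 C) _
    (by decide +kernel)

theorem h5086 :
    C.S (v1 C) [2, 1, 3, 3, 0, 3, 1, 2, 2, 2, 0, 2, 1, 2, 0, 3, 1, 2, 2, 0, 2, 2, 1, 3, 3, 0, 2, 1, 2, 0, 3, 1, 2, 2, 2, 0, 2, 2, 2, 2, 1, 2, 0, 2, 2, 1, 2, 0, 2] :=
  C.stMul (h5031 C) (h2458 C) _
    (by decide +kernel)

theorem h5103 :
    C.S (v1 C) [2, 1, 3, 3, 0, 3, 1, 2, 2, 2, 0, 2, 1, 2, 0, 3, 1, 2, 0, 2, 2, 1, 3, 3, 0, 3, 1, 2, 2, 0, 3, 1, 2, 2, 0, 3, 3, 1, 2, 0, 3, 3, 1, 3, 0, 2, 2, 1, 2, 0, 2] :=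
  C.stMul (h5038 C) (h2458 C) _
    (by decide +kernel)

theorem h5109 :
    C.S (v1 C) [1, 2, 0, 3, 1, 3, 0, 2, 1, 2, 0, 3, 1, 3, 3, 0, 2, 2, 1, 3, 3, 0, 3, 1, 2, 2, 2, 2, 0, 2, 1, 3, 0, 3, 3, 1, 3, 0, 2, 2, 1, 2, 0, 3, 1, 3, 0, 2] :=
  C.stMul (h5041 C) (h4010 C) _
    (by decide +kernel)

theorem h5128 :
    C.S (v1 C) [2, 1, 3, 3, 0, 3, 1, 2, 2, 2, 0, 2, 1, 2, 0, 3, 1, 2, 2, 0, 2, 2, 1, 3, 3, 0, 2, 1, 2, 0, 3, 1, 2, 2, 0, 2, 2, 2, 1, 3, 3, 0, 2, 2, 2, 1, 2, 0, 3, 1, 3, 0, 2, 1, 2, 0] :=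
  C.stMul (h5050 C) (h1432 C) _
    (by decide +kernel)

theorem h5131 :
    C.S (v1 C) [1, 2, 0, 2, 1, 2, 0, 2, 2, 1, 3, 3, 0, 3, 1, 2, 2, 2, 0, 2, 1, 2, 0, 3, 1, 2, 0, 2, 2, 1, 3, 0, 2, 2, 1, 3, 3, 0, 2, 2] :=
  C.stMul (h5051 C) (h2458 C) _
    (by decide +kernel)

theorem h5137 :
    C.S (v1 C) [3, 3, 1, 2, 2, 0, 3, 1, 3, 3, 0, 3, 1, 3, 0, 3, 1, 2, 2, 0, 2, 2, 2, 1, 3, 3, 0, 2, 2, 2, 2, 1, 3, 0, 3] :=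
  C.stMul (h5055 C) (h1432 C) _
    (by decide +kernel)

theorem h5159 :
    C.S (v1 C) [1, 2, 0, 3, 1, 3, 0, 2, 1, 2, 0, 3, 1, 3, 3, 0, 2, 2, 1, 3, 3, 0, 3, 1, 2, 2, 0, 3, 3, 1, 2, 2, 0, 2, 1, 2, 0, 2, 2] :=
  C.stMul (h5070 C) (h1432 C) _
    (by decide +kernel)

theorem h5191 :
    C.S (v1 C) [1, 2, 0, 3, 1, 3, 0, 2, 1, 2, 0, 3, 1, 3, 3, 0, 2, 2, 1, 3, 0, 2, 2, 1, 3, 0, 3, 1, 2, 0, 3, 3, 1, 3, 0, 3, 3, 1, 3, 0, 2, 1, 2, 0] :=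
  C.stMul (h5086 C) (h1432 C) _
    (by decide +kernel)

theorem h5220 :
    C.S (v1 C) [1, 2, 0, 3, 1, 3, 0, 2, 1, 2, 0, 3, 1, 3, 0, 2, 2, 1, 3, 3, 0, 2, 1, 2, 0, 3, 1, 3, 3, 0, 3, 3, 1, 3, 0, 2, 1, 2, 0, 3, 3, 1, 3, 0] :=
  C.stMul (h5103 C) (h4010 C) _
    (by decide +kernel)

theorem h5230 :
    C.S (v1 C) [1, 2, 0, 2, 1, 2, 2, 0, 2, 1, 3, 0, 3, 1, 2, 0, 2, 2, 2, 2, 1, 3, 3, 0, 3, 3, 1, 2, 0, 3, 3, 1, 2, 2, 0] :=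
  C.stMul (h5109 C) (h2458 C) _
    (by decide +kernel)

theorem h5259 :
    C.S (v1 C) [2, 1, 3, 3, 0, 3, 1, 2, 2, 2, 0, 2, 1, 2, 0, 3, 1, 2, 2, 0, 2, 2, 1, 3, 3, 0, 2, 1, 2, 0, 3, 1, 2, 2, 0, 2, 2, 2, 1, 3, 3, 0, 2, 2, 2, 1, 2, 0] :=
  C.stMul (h5128 C) (h4010 C) _
    (by decide +kernel)

theorem h5263 :
    C.S (v1 C) [1, 2, 0, 2, 1, 2, 2, 0, 2, 1, 3, 0, 3, 1, 2, 0, 2, 2, 1, 2, 0, 2, 2, 1, 2, 0, 3, 3, 1, 2, 0, 2, 2, 1, 2, 0, 2] :=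
  C.stMul (h5131 C) (h1432 C) _
    (by decide +kernel)

theorem h5305 :
    C.S (v1 C) [1, 2, 0, 2, 1, 2, 0, 3, 1, 2, 2, 0, 3, 1, 3, 3, 0, 3, 1, 3, 0, 2, 1, 3, 0, 2, 1, 2, 0, 2, 1, 3, 0, 3, 1, 2, 2, 0] :=
  C.stMul (h5159 C) (h2458 C) _
    (by decide +kernel)

theorem h5374 :
    C.S (v1 C) [3, 1, 2, 0, 2, 1, 3, 0, 3, 1, 2, 0, 2, 2, 2, 2, 1, 3, 0, 2, 2, 1, 2, 2, 0, 3, 3, 1, 3, 3, 0, 3, 3, 3, 3, 1, 3, 0, 2] :=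
  C.stMul (h5220 C) (h1432 C) _
    (by decide +kernel)

theorem h5416 :
    C.S (v1 C) [1, 2, 0, 2, 1, 2, 2, 0, 2, 1, 3, 0, 3, 1, 2, 0, 2, 2, 1, 2, 0, 2, 2, 1, 3, 3, 0, 2, 1, 2, 0, 3, 1, 2, 2, 0, 2, 2, 2, 1, 3, 3, 0, 2, 1, 3, 0] :=
  C.stMul (h5259 C) (h4010 C) _
    (by decide +kernel)

end CfsgLib.HNIndex
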