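import Cfsg.Agent.Lib.HNIndex.Items0

/-!
# Derived equations (generated)
-/

set_option autoImplicit false
set_option linter.style.longLine false

namespace CfsgLib.HNIndex

variable {G X : Type} [Group G] [MulAction G X] (C : Ctx G X)

theorem h5450 :
    C.S (v1 C) [2, 1, 3, 3, 0, 3, 1, 2, 2, 2, 0, 2, 1, 2, 0, 3, 1, 2, 2, 0, 2, 2, 1, 2, 2, 0, 2, 1, 3, 0, 3, 1, 2, 0, 2, 2] :=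
  C.stMul (h5305 C) (h4010 C) _
    (by decide +kernel)

theorem h5499 :
    C.S (v1 C) [1, 2, 0, 3, 1, 3, 0, 2, 1, 2, 0, 3, 1, 2, 2, 0, 3, 1, 2, 2, 0, 3, 3, 3, 3, 1, 3, 0, 2, 1, 2, 0] :=
  C.stMul (h5263 C) (h2458 C) _
    (by decide +kernel)

theorem h5500 :
    C.S (v1 C) [1, 2, 0, 2, 1, 2, 0, 2, 1, 2, 2, 0, 3, 3, 1, 2, 2, 2, 0, 2, 1, 2, 2, 0, 2, 1, 2, 2, 0, 2, 1, 3, 3, 0, 2, 1, 2, 0, 3] :=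
  C.stInv (h5416 C) _ (by decide +kernel)

theorem h5501 :
    C.S (v1 C) [1, 2, 0, 2, 1, 2, 0, 2, 1, 2, 0, 3, 1, 3, 0, 2, 1, 2, 0, 3, 1, 3, 0, 2, 1, 3, 0, 3, 1, 2, 2, 0, 3, 3, 3, 1, 3, 3, 0, 3, 3, 1, 2, 2, 0, 2, 2, 2, 1, 2, 0] :=
  C.stMul (h5499 C) (h5500 C) _
    (by decide +kernel)

theorem h5502 :
    C.S (v1 C) [1, 2, 0, 2, 1, 2, 2, 0, 2, 1, 3, 0, 3, 1, 2, 0, 2, 2, 1, 2, 0, 2, 1, 3, 0, 3, 1, 2, 2, 0, 3, 3, 1, 3, 3, 0, 3, 3, 1, 3, 0, 2, 1, 2, 0, 2, 2, 2, 1, 3, 0, 2, 2] :=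
  C.stMul (h5374 C) (h2458 C) _
    (by decide +kernel)

theorem h5503 :
    C.S (v1 C) [3, 1, 2, 0, 2, 1, 3, 0, 3, 1, 2, 0, 2, 2, 1, 2, 0, 2, 2, 1, 3, 3, 0, 2, 1, 2, 0, 2, 2, 1, 2, 2, 0, 2, 1, 2, 0, 2, 1, 2, 0, 3] :=
  C.stInv (h5191 C) _ (by decide +kernel)

theorem h5504 :
    C.S (v1 C) [1, 2, 0, 2, 1, 2, 0, 2, 2, 1, 3, 3, 0, 3, 1, 2, 2, 2, 0, 2, 1, 2, 0, 3, 1, 2, 2, 0, 2, 1, 3, 0, 3, 1, 2, 2, 2, 0, 2, 2, 2, 1, 2, 2, 0, 3, 1, 3, 0] :=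
  C.stMul (h5502 C) (h5503 C) _
    (by decide +kernel)

theorem h5505 :
    C.S (v1 C) [3, 1, 2, 0, 2, 1, 3, 0, 3, 1, 2, 0, 2, 2, 1, 2, 0, 2, 1, 3, 0, 3, 1, 2, 2, 2, 2, 0, 2, 1, 3, 0, 3, 3] :=
  C.stMul (h5450 C) (h2458 C) _
    (by decide +kernel)

theorem h5506 :
    C.S (v1 C) [1, 2, 0, 2, 1, 2, 0, 2, 2, 2, 2, 1, 2, 2, 2, 0, 3, 3, 3, 1, 2, 2, 2, 0] :=
  C.stInv (h5071 C) _ (by decide +kernel)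

theorem h5507 :
    C.S (v1 C) [1, 2, 0, 3, 1, 3, 0, 2, 1, 2, 0, 3, 1, 3, 3, 0, 2, 2, 1, 3, 3, 0, 2, 2, 1, 3, 0, 2, 2, 1, 3, 0] :=
  C.stMul (h5505 C) (h5506 C) _
    (by decide +kernel)

theorem h5517 :
    C.T (v0 C) [] (v1 C) [] :=
  C.conv (h1421 C) (h3 C) _ _
    (by decide +kernel) (by decide +kernel)

theorem h5518 :
    C.T (v0 C) [1] (v1 C) [] :=
  C.conv (h1421 C) (h10 C) _ _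
    (by decide +kernel) (by decide +kernel)

theorem h5519 :
    C.T (v1 C) [0, 0] (v0 C) [0] :=
  C.flip (h5518 C) _ _
    (by decide +kernel) (by decide +kernel)

theorem h5520 :
    C.T (v1 C) [] (v1 C) [0] :=
  C.closeT (A := [none]) (B := [some [1], some [0, 0], none, some [0, 0, 0]])
    (C.pT (h5517 C)
    (C.pNil (v1 C) []))
    (C.pH [1] [] (by decide +kernel)
    (C.pH [0, 0] [0, 0] (by decide +kernel)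
    (C.pT (h5519 C)
    (C.pH [0, 0, 0] [] (by decide +kernel)
    (C.pNil (v0 C) []))))) C.relTwo

theorem h5521 :
    C.T (v1 C) [1] (v1 C) [0, 0] :=
  C.flip (h5520 C) _ _
    (by decide +kernel) (by decide +kernel)

theorem h5540 :
    C.T (v0 C) [] (v1 C) [] :=
  C.conv (h1421 C) (h3 C) _ _
    (by decide +kernel) (by decide +kernel)

theorem h5541 :
    C.T (v0 C) [0, 0, 4] (v1 C) [] :=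
  C.conv (h1421 C) (h11 C) _ _
    (by decide +kernel) (by decide +kernel)

theorem h5542 :
    C.T (v1 C) [0, 0] (v0 C) [4] :=
  C.flip (h5541 C) _ _
    (by decide +kernel) (by decide +kernel)

theorem h5543 :
    C.T (v1 C) [4] (v1 C) [0, 0, 4] :=
  C.closeT (A := [none, some [4]]) (B := [some [4], none, some [4]])
    (C.pT (h5540 C)
    (C.pH [4] [4] (by decide +kernel)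
    (C.pNil (v1 C) [4])))
    (C.pH [4] [0, 0] (by decide +kernel)
    (C.pT (h5542 C)
    (C.pH [4] [] (by decide +kernel)
    (C.pNil (v0 C) [])))) C.relOne

theorem h5555 :
    C.T (v1 C) [] (v1 C) [0] :=
  C.conv (h5520 C) (h4011 C) _ _
    (by decide +kernel) (by decide +kernel)

theorem h5556 :
    C.T (v1 C) [1] (v1 C) [0, 0] :=
  C.conv (h5521 C) (h4011 C) _ _
    (by decide +kernel) (by decide +kernel)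

theorem h5557 :
    C.T (v1 C) [] (v1 C) [0] :=
  C.flip (h5556 C) _ _
    (by decide +kernel) (by decide +kernel)

theorem h5558 :
    C.T (v1 C) [0] (v1 C) [1] :=
  C.closeT (A := [none]) (B := [some [1], some [0, 0], none, some [0, 0, 0]])
    (C.pT (h5555 C)
    (C.pNil (v1 C) [0]))
    (C.pH [1] [0, 0] (by decide +kernel)
    (C.pH [0, 0] [] (by decide +kernel)
    (C.pT (h5557 C)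
    (C.pH [0, 0, 0] [] (by decide +kernel)
    (C.pNil (v1 C) []))))) C.relTwo

theorem h5571 :
    C.T (v1 C) [0, 4, 2, 4, 3, 3, 0, 4] (v2 C) [] :=
  C.defn _ _

theorem h5572 :
    C.T (v2 C) [0, 0] (v1 C) [0, 4, 2, 4, 3, 3, 1, 4] :=
  C.flip (h5571 C) _ _
    (by decide +kernel) (by decide +kernel)

theorem h5573 :
    C.S (v1 C) [3, 1, 2, 0, 2, 1, 3, 0, 3, 1, 2, 0, 2, 2, 1, 2, 0, 3, 1, 2, 2, 0, 3, 1, 3, 3, 0, 3, 1, 3, 0, 3, 1, 2, 2, 0, 2, 2, 2, 1, 3, 3, 0, 2, 2, 2, 1, 2, 0, 3, 1, 3, 0, 2, 2] :=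
  C.stInv (h5501 C) _ (by decide +kernel)

theorem h5574 :
    C.T (v1 C) [0, 4, 2, 4, 3, 3, 0, 4] (v2 C) [1, 2, 0, 2, 1, 2, 0, 2, 1, 2, 0, 3, 1, 3, 0, 2, 1, 2, 0, 3, 1, 3, 3, 0, 2, 2, 1, 3, 3, 0, 3, 1, 2, 2, 0, 3, 3, 1, 3, 3, 0, 3, 3, 1, 3, 0, 2, 1, 2, 0, 2, 2, 2, 1, 2, 0, 2, 2] :=
  C.conv (h5571 C) (h5573 C) _ _
    (by decide +kernel) (by decide +kernel)

theorem h5575 :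
    C.E (v2 C) [1, 2, 0, 2, 1, 2, 0, 2, 1, 2, 0, 3, 1, 3, 0, 2, 1, 2, 0, 3, 1, 3, 3, 0, 2, 2, 1, 3, 3, 0, 3, 1, 2, 2, 0, 3, 3, 1, 3, 3, 0, 3, 3, 1, 3, 0, 2, 1, 2, 0, 2, 2, 2, 1, 2, 0, 2, 2] (v2 C) [] :=
  C.sameSrc (h5574 C) (h5571 C)

theorem h5576 :
    C.S (v1 C) [1, 2, 0, 2, 1, 2, 0, 2, 2, 1, 3, 3, 0, 3, 1, 2, 2, 2, 0, 2, 1, 2, 0, 3, 1, 2, 0, 2, 2, 1, 3, 0, 2, 1, 2, 0, 3, 3, 1, 2, 0, 2, 2, 2, 1, 2, 0, 2, 2, 1, 2, 0] :=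
  C.stInv (h5504 C) _ (by decide +kernel)

theorem h5577 :
    C.T (v1 C) [0, 4, 2, 4, 3, 3, 0, 4] (v2 C) [3, 1, 2, 0, 2, 1, 3, 0, 3, 1, 2, 0, 2, 2, 1, 2, 0, 2, 2, 1, 3, 3, 0, 2, 1, 2, 0, 2, 1, 2, 0, 2, 2, 1, 3, 0, 3, 3, 1, 3, 0, 2, 1, 2, 0] :=
  C.conv (h5571 C) (h5576 C) _ _
    (by decide +kernel) (by decide +kernel)

theorem h5578 :
    C.E (v2 C) [3, 1, 2, 0, 2, 1, 3, 0, 3, 1, 2, 0, 2, 2, 1, 2, 0, 2, 2, 1, 3, 3, 0, 2, 1, 2, 0, 2, 1, 2, 0, 2, 2, 1, 3, 0, 3, 3, 1, 3, 0, 2, 1, 2, 0] (v2 C) [] :=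
  C.sameSrc (h5577 C) (h5571 C)

theorem h5579 :
    C.S (v1 C) [3, 1, 2, 0, 2, 1, 3, 0, 3, 1, 2, 0, 2, 2, 1, 2, 0, 2, 2, 1, 3, 3, 0, 2, 1, 2, 0, 2, 1, 2, 0, 3, 1, 3, 0, 3, 3, 1, 3, 0, 2] :=
  C.stInv (h5507 C) _ (by decide +kernel)

theorem h5580 :
    C.T (v1 C) [0, 4, 2, 4, 3, 3, 0, 4] (v2 C) [2, 1, 3, 3, 0, 2, 1, 2, 0, 3, 1, 2, 2, 0, 2, 1, 2, 0, 2, 2, 2, 1, 2, 0, 2, 2, 1, 2, 0] :=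
  C.conv (h5571 C) (h5579 C) _ _
    (by decide +kernel) (by decide +kernel)

theorem h5581 :
    C.E (v2 C) [2, 1, 3, 3, 0, 2, 1, 2, 0, 3, 1, 2, 2, 0, 2, 1, 2, 0, 2, 2, 2, 1, 2, 0, 2, 2, 1, 2, 0] (v2 C) [] :=
  C.sameSrc (h5580 C) (h5571 C)

theorem h5582 :
    C.S (v2 C) [3, 1, 2, 0, 2, 1, 3, 0, 3, 1, 2, 0, 2, 2, 1, 2, 0, 3, 1, 2, 2, 0, 3, 1, 3, 3, 0, 3, 1, 3, 0, 2, 2, 1, 3, 0, 3, 1, 2, 0, 3, 3, 1, 2, 0, 2] :=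
  C.stEq (h5575 C) _ (by decide +kernel)

theorem h6928 :
    C.S (v2 C) [1, 2, 0, 2, 1, 2, 0, 3, 1, 2, 2, 0, 3, 1, 3, 3, 0, 3, 1, 3, 0, 3, 1, 3, 3, 0, 3, 3, 1, 2, 0, 2, 2, 1, 2, 0] :=
  C.stEq (h5578 C) _ (by decide +kernel)

theorem h8466 :
    C.S (v2 C) [1, 2, 0, 2, 1, 2, 2, 0, 2, 1, 3, 0, 3, 1, 2, 0, 2, 2, 2, 2, 1, 3, 3, 0, 3, 1, 2, 2, 0, 3, 3, 1, 3, 3, 0, 3, 3, 1, 3, 0, 2, 1, 2, 2, 2, 0, 2] :=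
  C.stEq (h5581 C) _ (by decide +kernel)

theorem h8467 :
    C.S (v2 C) [] :=
  C.stOne _

theorem h8594 :
    C.S (v2 C) [3, 1, 2, 0, 2, 1, 3, 0, 3, 1, 2, 0, 2, 2, 1, 2, 0, 3, 1, 2, 2, 0, 3, 1, 3, 3, 0, 3, 1, 3, 0, 2, 2, 1, 3, 0, 3, 1, 2, 0, 3, 3, 1, 2, 0, 2] :=
  C.stMul (h8467 C) (h5582 C) _
    (by decide +kernel)

theorem h8596 :
    C.S (v2 C) [1, 2, 0, 2, 1, 2, 2, 0, 2, 1, 3, 0, 3, 1, 2, 0, 2, 2, 2, 2, 1, 3, 3, 0, 3, 1, 2, 2, 0, 3, 3, 1, 3, 3, 0, 3, 3, 1, 3, 0, 2, 1, 2, 2, 2, 0, 2] :=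
  C.stMul (h8467 C) (h8466 C) _
    (by decide +kernel)

theorem h8599 :
    C.S (v2 C) [2, 1, 3, 3, 0, 3, 1, 2, 2, 2, 0, 2, 1, 2, 0, 3, 1, 2, 2, 0, 2, 2, 2, 2, 1, 2, 2, 2, 0, 3, 3, 3, 3, 3, 1, 3, 0, 2, 1, 2, 0, 3, 3] :=
  C.stMul (h8594 C) (h8466 C) _
    (by decide +kernel)

theorem h8602 :
    C.S (v2 C) [1, 2, 0, 2, 1, 2, 0, 2, 2, 1, 3, 3, 0, 2, 1, 2, 0, 2, 1, 3, 3, 3, 0, 3, 1, 2, 2, 0] :=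
  C.stMul (h8596 C) (h6928 C) _
    (by decide +kernel)

theorem h8604 :
    C.S (v2 C) [2, 1, 3, 3, 0, 2, 1, 2, 0, 2, 1, 2, 2, 0, 2, 1, 3, 0, 3, 3, 1, 3, 0, 2, 2, 1, 2, 0, 2] :=
  C.stMul (h8599 C) (h5582 C) _
    (by decide +kernel)

theorem h8608 :
    C.S (v2 C) [3, 1, 2, 0, 2, 1, 3, 0, 3, 1, 2, 0, 2, 2, 2, 2, 1, 3, 0, 2, 2, 1, 3, 0, 3, 1, 2, 0, 3, 3, 1, 3, 0, 2, 2, 2, 1, 2, 0, 3, 3] :=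
  C.stMul (h8602 C) (h5582 C) _
    (by decide +kernel)

theorem h8654 :
    C.S (v2 C) [3, 1, 2, 0, 2, 1, 3, 0, 3, 1, 2, 0, 2, 2, 1, 2, 0, 3, 1, 2, 2, 0, 3, 1, 3, 3, 0, 3, 1, 3, 0, 2, 2, 1, 3, 0, 3, 1, 2, 0, 3, 3, 1, 2, 0, 2] :=
  C.stMul (h8467 C) (h5582 C) _
    (by decide +kernel)

theorem h8655 :
    C.S (v2 C) [1, 2, 0, 2, 1, 2, 0, 3, 1, 2, 2, 0, 3, 1, 3, 3, 0, 3, 1, 3, 0, 3, 1, 3, 3, 0, 3, 3, 1, 2, 0, 2, 2, 1, 2, 0] :=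
  C.stMul (h8467 C) (h6928 C) _
    (by decide +kernel)

theorem h8659 :
    C.S (v2 C) [2, 1, 3, 3, 0, 3, 1, 2, 2, 2, 0, 2, 1, 2, 0, 3, 1, 2, 2, 0, 2, 2, 2, 2, 1, 2, 2, 2, 0, 3, 3, 3, 3, 3, 1, 3, 0, 2, 1, 2, 0, 3, 3] :=
  C.stMul (h8654 C) (h8466 C) _
    (by decide +kernel)

theorem h8660 :
    C.S (v2 C) [1, 2, 0, 2, 1, 2, 0, 2, 1, 2, 2, 0, 3, 3, 1, 2, 2, 2, 0, 2, 2, 1, 2, 0, 2, 1, 3, 3, 3, 0, 2, 1, 2, 0, 3, 1, 3, 0, 2] :=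
  C.stMul (h8655 C) (h8466 C) _
    (by decide +kernel)

theorem h8664 :
    C.S (v2 C) [2, 1, 3, 3, 0, 2, 1, 2, 0, 2, 1, 2, 2, 0, 2, 1, 3, 0, 3, 3, 1, 3, 0, 2, 2, 1, 2, 0, 2] :=
  C.stMul (h8659 C) (h5582 C) _
    (by decide +kernel)

theorem h8665 :
    C.S (v2 C) [3, 1, 2, 0, 2, 1, 3, 0, 3, 1, 2, 0, 2, 2, 2, 2, 1, 3, 0, 2, 1, 3, 3, 3, 0, 3, 3, 3, 1, 3, 0, 2, 1, 2, 0, 3] :=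
  C.stMul (h8660 C) (h5582 C) _
    (by decide +kernel)

theorem h8684 :
    C.S (v2 C) [3, 1, 2, 0, 2, 1, 3, 0, 3, 1, 2, 0, 2, 2, 1, 2, 0, 3, 1, 2, 2, 0, 3, 1, 3, 3, 0, 3, 1, 3, 0, 2, 2, 1, 3, 0, 3, 1, 2, 0, 3, 3, 1, 2, 0, 2] :=
  C.stMul (h8467 C) (h5582 C) _
    (by decide +kernel)

theorem h8687 :
    C.S (v2 C) [2, 1, 3, 3, 0, 3, 1, 2, 2, 2, 0, 2, 1, 2, 0, 3, 1, 2, 0, 2, 2, 1, 3, 3, 0, 3, 1, 2, 2, 2, 0, 3, 1, 3, 0, 2, 2, 2, 1, 2, 0, 2, 2, 1, 2, 0, 2] :=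
  C.stMul (h8684 C) (h5582 C) _
    (by decide +kernel)

theorem h9058 :
    C.S (v2 C) [3, 1, 2, 0, 2, 1, 3, 0, 3, 1, 2, 0, 2, 2, 1, 2, 0, 3, 1, 2, 2, 0, 3, 1, 3, 3, 0, 3, 1, 3, 0, 2, 2, 1, 3, 0, 3, 1, 2, 0, 3, 3, 1, 2, 0, 2] :=
  C.stMul (h8467 C) (h5582 C) _
    (by decide +kernel)

theorem h9063 :
    C.S (v2 C) [2, 1, 3, 3, 0, 3, 1, 2, 2, 2, 0, 2, 1, 2, 0, 3, 1, 2, 2, 0, 2, 2, 2, 2, 1, 2, 2, 2, 0, 3, 3, 3, 3, 3, 1, 3, 0, 2, 1, 2, 0, 3, 3] :=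
  C.stMul (h9058 C) (h8466 C) _
    (by decide +kernel)

theorem h9074 :
    C.S (v2 C) [2, 1, 3, 3, 0, 2, 1, 2, 0, 2, 1, 2, 2, 0, 2, 1, 3, 0, 3, 3, 1, 3, 0, 2, 2, 1, 2, 0, 2] :=
  C.stMul (h9063 C) (h5582 C) _
    (by decide +kernel)

theorem h10045 :
    C.T (v1 C) [0, 4, 2, 4, 3, 3, 0, 4] (v2 C) [] :=
  C.conv (h5571 C) (h4011 C) _ _
    (by decide +kernel) (by decide +kernel)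

theorem h10046 :
    C.T (v1 C) [4, 2, 4, 3, 3, 0, 4] (v2 C) [1, 2, 0, 2, 1, 2, 0, 2, 1, 2, 2, 0, 3, 3, 1, 2, 2, 2, 0, 2, 1, 2, 2, 0, 3, 3, 3, 1, 2, 2, 0, 3, 1, 3, 3, 0, 3, 1, 3, 3, 0, 3, 3, 1, 2, 0, 3, 3, 1, 2, 2, 2, 2, 0, 2, 2] :=
  C.conv (h5571 C) (h5137 C) _ _
    (by decide +kernel) (by decide +kernel)

theorem h10047 :
    C.T (v2 C) [1, 2, 0, 2, 1, 2, 0, 2, 1, 2, 2, 0, 3, 3, 1, 2, 2, 2, 0, 2, 1, 2, 2, 0, 3, 3, 3, 1, 2, 2, 0, 3, 1, 3, 3, 0, 3, 1, 3, 3, 0, 3, 3, 1, 2, 0, 3, 3, 1, 2, 2, 2, 2, 0, 2, 2, 0, 0] (v1 C) [4, 2, 4, 3, 3, 1, 4] :=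
  C.flip (h10046 C) _ _
    (by decide +kernel) (by decide +kernel)

theorem h10048 :
    C.T (v2 C) [] (v2 C) [1, 2, 0, 2, 1, 2, 0, 2, 1, 2, 2, 0, 3, 3, 1, 2, 2, 2, 0, 2, 1, 2, 2, 0, 3, 1, 3, 0, 3, 1, 2, 2, 0, 2, 1, 3, 0, 3, 1, 2, 2, 0, 2, 2, 1, 2, 2, 0, 0] :=
  C.closeT (A := [none]) (B := [some [1], some [0, 0], none, some [0, 0, 0]])
    (C.pT (h10045 C)
    (C.pNil (v2 C) []))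
    (C.pH [1] [1, 2, 0, 2, 1, 2, 0, 2, 1, 2, 2, 0, 3, 3, 1, 2, 2, 2, 0, 2, 1, 2, 2, 0, 3, 3, 3, 1, 2, 2, 0, 3, 1, 3, 3, 0, 3, 1, 3, 3, 0, 3, 3, 1, 2, 0, 3, 3, 1, 2, 2, 2, 2, 0, 2, 2] (by decide +kernel)
    (C.pH [0, 0] [1, 2, 0, 2, 1, 2, 0, 2, 1, 2, 2, 0, 3, 3, 1, 2, 2, 2, 0, 2, 1, 2, 2, 0, 3, 3, 3, 1, 2, 2, 0, 3, 1, 3, 3, 0, 3, 1, 3, 3, 0, 3, 3, 1, 2, 0, 3, 3, 1, 2, 2, 2, 2, 0, 2, 2, 0, 0] (by decide +kernel)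
    (C.pT (h10047 C)
    (C.pH [0, 0, 0] [0, 4, 2, 4, 3, 3, 0, 4] (by decide +kernel)
    (C.pNil (v1 C) [0, 4, 2, 4, 3, 3, 0, 4]))))) C.relTwo

theorem h10049 :
    C.T (v2 C) [1, 2, 0, 2, 1, 2, 0, 2, 1, 2, 2, 0, 3, 3, 1, 2, 2, 2, 0, 2, 1, 2, 2, 0, 3, 1, 3, 0, 3, 1, 2, 2, 0, 2, 1, 3, 0, 3, 1, 2, 2, 0, 2, 2, 1, 2, 2] (v2 C) [0, 0] :=
  C.flip (h10048 C) _ _
    (by decide +kernel) (by decide +kernel)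

theorem h10059 :
    C.S (v2 C) [] :=
  C.stInv (h8467 C) _ (by decide +kernel)

theorem h10060 :
    C.T (v2 C) [1] (v2 C) [3, 1, 2, 0, 2, 1, 3, 0, 3, 1, 2, 0, 2, 2, 1, 2, 0, 2, 1, 3, 0, 3, 3, 1, 3, 3, 3, 0, 3, 1, 2, 0, 0, 0] :=
  C.conv (h10049 C) (h10059 C) _ _
    (by decide +kernel) (by decide +kernel)

theorem h10070 :
    C.T (v2 C) [] (v2 C) [1, 2, 0, 2, 1, 2, 0, 2, 1, 2, 2, 0, 3, 3, 1, 2, 2, 2, 0, 2, 1, 2, 2, 0, 3, 1, 3, 0, 3, 1, 2, 2, 0, 2, 1, 3, 0, 3, 1, 2, 2, 0, 2, 2, 1, 2, 2, 0, 0] :=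
  C.conv (h10048 C) (h8467 C) _ _
    (by decide +kernel) (by decide +kernel)

theorem h10071 :
    C.T (v2 C) [1] (v2 C) [3, 1, 2, 0, 2, 1, 3, 0, 3, 1, 2, 0, 2, 2, 1, 2, 0, 2, 1, 3, 0, 3, 3, 1, 3, 3, 3, 0, 3, 1, 2, 0, 0, 0] :=
  C.conv (h10060 C) (h8467 C) _ _
    (by decide +kernel) (by decide +kernel)

theorem h10072 :
    C.T (v2 C) [3, 1, 2, 0, 2, 1, 3, 0, 3, 1, 2, 0, 2, 2, 1, 2, 0, 2, 1, 3, 0, 3, 3, 1, 3, 3, 3, 0, 3, 1, 2, 0] (v2 C) [0] :=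
  C.flip (h10071 C) _ _
    (by decide +kernel) (by decide +kernel)

theorem h10073 :
    C.T (v2 C) [1, 2, 0, 2, 1, 2, 0, 2, 1, 2, 2, 0, 3, 3, 1, 2, 2, 2, 0, 2, 1, 2, 2, 0, 3, 1, 3, 0, 3, 1, 2, 2, 0, 2, 1, 3, 0, 3, 1, 2, 2, 0, 2, 2, 1, 2, 2, 0, 0] (v2 C) [1, 2, 0, 2, 1, 2, 0, 2, 2, 1, 3, 3, 0, 2, 2, 2, 2, 1, 2, 0, 3, 3, 1, 3, 0, 2, 1] :=
  C.closeT (A := [none]) (B := [some [1], some [0, 0], none, some [0, 0, 0]])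
    (C.pT (h10070 C)
    (C.pNil (v2 C) [1, 2, 0, 2, 1, 2, 0, 2, 1, 2, 2, 0, 3, 3, 1, 2, 2, 2, 0, 2, 1, 2, 2, 0, 3, 1, 3, 0, 3, 1, 2, 2, 0, 2, 1, 3, 0, 3, 1, 2, 2, 0, 2, 2, 1, 2, 2, 0, 0]))
    (C.pH [1] [3, 1, 2, 0, 2, 1, 3, 0, 3, 1, 2, 0, 2, 2, 1, 2, 0, 2, 1, 3, 0, 3, 3, 1, 3, 3, 3, 0, 3, 1, 2, 0, 0, 0] (by decide +kernel)
    (C.pH [0, 0] [3, 1, 2, 0, 2, 1, 3, 0, 3, 1, 2, 0, 2, 2, 1, 2, 0, 2, 1, 3, 0, 3, 3, 1, 3, 3, 3, 0, 3, 1, 2, 0] (by decide +kernel)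
    (C.pT (h10072 C)
    (C.pH [0, 0, 0] [] (by decide +kernel)
    (C.pNil (v2 C) []))))) C.relTwo

theorem h10075 :
    C.S (v2 C) [] :=
  C.stInv (h8467 C) _ (by decide +kernel)

theorem h10076 :
    C.T (v2 C) [0] (v2 C) [1, 2, 0, 3, 1, 3, 0, 2, 1, 2, 0, 3, 1, 3, 3, 0, 2, 2, 1, 3, 3, 0, 3, 1, 2, 2, 2, 2, 0, 2, 1, 3, 0, 3, 1, 2, 0, 2, 2, 2, 1, 2, 0, 3, 1, 3, 0, 2, 1] :=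
  C.conv (h10073 C) (h10075 C) _ _
    (by decide +kernel) (by decide +kernel)

theorem h10090 :
    C.T (v1 C) [0, 4, 2, 1, 2, 4] (v3 C) [] :=
  C.defn _ _

theorem h10091 :
    C.T (v3 C) [0, 0] (v1 C) [0, 4, 2, 0, 2, 4] :=
  C.flip (h10090 C) _ _
    (by decide +kernel) (by decide +kernel)

theorem h10092 :
    C.S (v1 C) [1, 2, 0, 2, 1, 2, 0, 2, 2, 1, 3, 3, 0, 3, 1, 2, 2, 2, 0, 2, 1, 2, 0, 3, 1, 2, 0, 2, 2, 1, 3, 3, 0, 3, 1, 2, 2, 0, 3, 3, 1, 2, 2, 2, 0, 3, 1, 2, 2, 0, 3, 3] :=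
  C.stInv (h4631 C) _ (by decide +kernel)

theorem h10093 :
    C.T (v1 C) [0, 4, 2, 1, 2, 4] (v3 C) [2, 1, 3, 3, 0, 3, 1, 2, 2, 2, 0, 2, 1, 2, 0, 3, 1, 2, 2, 2, 2, 0, 2, 2, 1, 3, 0] :=
  C.conv (h10090 C) (h10092 C) _ _
    (by decide +kernel) (by decide +kernel)

theorem h10094 :
    C.E (v3 C) [2, 1, 3, 3, 0, 3, 1, 2, 2, 2, 0, 2, 1, 2, 0, 3, 1, 2, 2, 2, 2, 0, 2, 2, 1, 3, 0] (v3 C) [] :=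
  C.sameSrc (h10093 C) (h10090 C)

theorem h10095 :
    C.S (v1 C) [1, 2, 0, 2, 1, 2, 0, 2, 2, 1, 3, 3, 0, 3, 1, 2, 2, 2, 0, 2, 1, 2, 0, 3, 1, 2, 0, 2, 2, 1, 3, 0, 2, 2, 1, 3, 0, 3, 1, 2, 2, 0] :=
  C.stInv (h4634 C) _ (by decide +kernel)

theorem h10096 :
    C.T (v1 C) [0, 4, 2, 1, 2, 4] (v3 C) [1, 2, 2, 0, 3, 3, 1, 2, 2, 2, 0, 2, 2, 1, 2, 0, 2, 1, 3, 0, 2, 2, 1, 3, 0, 2] :=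
  C.conv (h10090 C) (h10095 C) _ _
    (by decide +kernel) (by decide +kernel)

theorem h10097 :
    C.E (v3 C) [1, 2, 2, 0, 3, 3, 1, 2, 2, 2, 0, 2, 2, 1, 2, 0, 2, 1, 3, 0, 2, 2, 1, 3, 0, 2] (v3 C) [] :=
  C.sameSrc (h10096 C) (h10090 C)

theorem h10098 :
    C.S (v1 C) [1, 2, 0, 2, 1, 2, 2, 0, 2, 1, 3, 0, 3, 1, 2, 0, 2, 2, 1, 2, 0, 3, 1, 2, 2, 0, 3, 1, 3, 3, 0, 3, 1, 3, 3, 0, 3, 3, 1, 3, 0] :=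
  C.stInv (h4637 C) _ (by decide +kernel)

theorem h10099 :
    C.T (v1 C) [0, 4, 2, 1, 2, 4] (v3 C) [3, 1, 3, 3, 0, 3] :=
  C.conv (h10090 C) (h10098 C) _ _
    (by decide +kernel) (by decide +kernel)

theorem h10100 :
    C.E (v3 C) [3, 1, 3, 3, 0, 3] (v3 C) [] :=
  C.sameSrc (h10099 C) (h10090 C)

theorem h10101 :
    C.S (v3 C) [2, 1, 3, 3, 0, 3, 1, 2, 2, 2, 0, 2, 1, 2, 0, 3, 1, 2, 2, 0, 3, 1, 2, 2, 0, 3, 1, 3, 3, 0, 3, 1, 3, 0, 2, 1, 2, 0, 3, 3, 1, 2, 0] :=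
  C.stEq (h10094 C) _ (by decide +kernel)

theorem h11335 :
    C.S (v3 C) [1, 2, 2, 0, 3, 3, 1, 2, 2, 2, 0, 2, 2, 1, 2, 0, 2, 1, 3, 0, 2, 2, 1, 3, 0, 2] :=
  C.stEq (h10097 C) _ (by decide +kernel)

theorem h13041 :
    C.S (v3 C) [2, 1, 2, 2, 0, 2] :=
  C.stEq (h10100 C) _ (by decide +kernel)

theorem h14750 :
    C.T (v1 C) [0, 4, 2, 1, 2, 4] (v3 C) [] :=
  C.conv (h10090 C) (h4011 C) _ _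
    (by decide +kernel) (by decide +kernel)

theorem h14751 :
    C.T (v1 C) [1, 2, 0, 2, 4] (v1 C) [1, 2, 0, 2, 0, 0, 4] :=
  C.conv (h5543 C) (h4011 C) _ _
    (by decide +kernel) (by decide +kernel)

theorem h14752 :
    C.T (v1 C) [1, 2, 0, 2, 4] (v1 C) [1, 2, 0, 2, 0, 0, 4] :=
  C.flip (h14751 C) _ _
    (by decide +kernel) (by decide +kernel)

theorem h14753 :
    C.T (v1 C) [0, 4, 2, 1, 2, 4] (v3 C) [] :=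
  C.conv (h10090 C) (h4011 C) _ _
    (by decide +kernel) (by decide +kernel)

theorem h14754 :
    C.T (v3 C) [0, 0] (v1 C) [0, 4, 2, 0, 2, 4] :=
  C.flip (h14753 C) _ _
    (by decide +kernel) (by decide +kernel)

theorem h14755 :
    C.E (v3 C) [4] (v3 C) [0, 0] :=
  C.closeE (A := [none, some [4]]) (B := [none, some [4], none, some [4]])
    (C.pT (h14750 C)
    (C.pH [4] [4] (by decide +kernel)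
    (C.pNil (v3 C) [4])))
    (C.pT (h14754 C)
    (C.pH [4] [1, 2, 0, 2, 4] (by decide +kernel)
    (C.pT (h14752 C)
    (C.pH [4] [0, 4, 2, 1, 2, 4] (by decide +kernel)
    (C.pNil (v1 C) [0, 4, 2, 1, 2, 4]))))) C.relOne

theorem h14756 :
    C.S (v3 C) [0, 0, 4] :=
  C.stEq (h14755 C) _ (by decide +kernel)

theorem h14757 :
    C.S (v3 C) [] :=
  C.stOne _

theorem h14775 :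
    C.S (v3 C) [0, 0, 4] :=
  C.stMul (h14757 C) (h14756 C) _
    (by decide +kernel)

theorem h14782 :
    C.S (v3 C) [0, 0, 4] :=
  C.stMul (h14757 C) (h14756 C) _
    (by decide +kernel)

theorem h14792 :
    C.S (v3 C) [2, 1, 3, 3, 0, 3, 1, 2, 2, 2, 0, 2, 1, 2, 0, 3, 1, 2, 2, 0, 3, 1, 2, 2, 0, 3, 1, 3, 3, 0, 3, 1, 3, 0, 2, 1, 2, 0, 3, 3, 1, 2, 0] :=
  C.stMul (h14757 C) (h10101 C) _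
    (by decide +kernel)

theorem h14793 :
    C.S (v3 C) [1, 2, 2, 0, 3, 3, 1, 2, 2, 2, 0, 2, 2, 1, 2, 0, 2, 1, 3, 0, 2, 2, 1, 3, 0, 2] :=
  C.stMul (h14757 C) (h11335 C) _
    (by decide +kernel)

theorem h14794 :
    C.S (v3 C) [2, 1, 2, 2, 0, 2] :=
  C.stMul (h14757 C) (h13041 C) _
    (by decide +kernel)

theorem h14797 :
    C.S (v3 C) [3, 1, 3, 0, 2, 2, 1, 3, 3, 0, 3, 1, 2, 2, 2, 0, 3, 1, 3, 0, 3, 1, 2, 0, 3] :=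
  C.stMul (h14792 C) (h11335 C) _
    (by decide +kernel)

theorem h14800 :
    C.S (v3 C) [1, 2, 0, 2, 1, 2, 0, 2, 2, 2, 2, 1, 2, 2, 2, 0, 3, 3, 3] :=
  C.stMul (h14793 C) (h10101 C) _
    (by decide +kernel)

theorem h14803 :
    C.S (v3 C) [1, 2, 0, 3, 1, 3, 0, 2, 1, 2, 0, 3, 1, 3, 3, 0, 2, 2, 1, 3, 3, 0, 3, 1, 2, 2, 0, 3, 3, 3, 1, 3, 3, 0, 3, 3, 1, 2, 2, 0, 2, 2] :=
  C.stMul (h14794 C) (h10101 C) _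
    (by decide +kernel)

theorem h14810 :
    C.S (v3 C) [1, 2, 0, 2, 1, 2, 2, 0, 2, 1, 3, 0, 3, 1, 2, 0, 2, 2, 1, 2, 0, 3, 1, 2, 2, 0, 3, 1, 3, 3, 0, 3, 1, 3, 0, 2, 2, 1, 3, 0, 3, 1, 2, 0, 3, 3, 1, 3, 0] :=
  C.stMul (h14797 C) (h10101 C) _
    (by decide +kernel)

theorem h14815 :
    C.S (v3 C) [2, 2, 1, 3, 3, 0, 2, 2] :=
  C.stMul (h14800 C) (h13041 C) _
    (by decide +kernel)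

theorem h14837 :
    C.S (v3 C) [3, 1, 2, 0, 2, 1, 3, 0, 3, 1, 2, 0, 2, 2, 1, 2, 0, 3, 1, 2, 2, 0, 3, 1, 3, 3, 0, 3, 1, 3, 3, 0, 3, 3, 1, 2, 0, 3, 3, 1, 2, 2, 0] :=
  C.stMul (h14815 C) (h10101 C) _
    (by decide +kernel)

theorem h14856 :
    C.S (v3 C) [3, 1, 2, 0, 2, 1, 3, 0, 3, 1, 2, 0, 2, 2, 1, 2, 0, 3, 1, 2, 2, 0, 3, 1, 3, 3, 0, 3, 1, 3, 3, 0, 3, 3, 1, 2, 0, 3, 3, 1, 2, 2, 0, 0, 0, 4] :=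
  C.stMul (h14837 C) (h14756 C) _
    (by decide +kernel)

theorem h14871 :
    C.S (v3 C) [2, 1, 2, 2, 0, 2] :=
  C.stMul (h14757 C) (h13041 C) _
    (by decide +kernel)

theorem h14879 :
    C.S (v3 C) [1, 2, 0, 3, 1, 3, 0, 2, 1, 2, 0, 3, 1, 3, 3, 0, 2, 2, 1, 3, 3, 0, 3, 1, 2, 2, 0, 3, 3, 3, 1, 3, 3, 0, 3, 3, 1, 2, 2, 0, 2, 2] :=
  C.stMul (h14871 C) (h10101 C) _
    (by decide +kernel)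

theorem h16156 :
    C.S (v3 C) [2, 1, 2, 2, 0, 2] :=
  C.stMul (h14757 C) (h13041 C) _
    (by decide +kernel)

theorem h16167 :
    C.S (v3 C) [1, 2, 0, 2, 2, 2, 1, 3, 3, 0, 3, 1, 2, 2, 2, 0, 2, 2, 2, 1, 2, 0, 2] :=
  C.stMul (h16156 C) (h13041 C) _
    (by decide +kernel)

theorem h16187 :
    C.S (v3 C) [3, 1, 2, 0, 2, 1, 3, 0, 3, 1, 2, 0, 2, 2, 1, 2, 0, 3, 1, 2, 2, 0, 3, 1, 3, 3, 0, 3, 1, 3, 0, 3, 1, 2, 2, 0, 2, 2, 2, 1, 3, 3, 0, 2] :=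
  C.stMul (h16167 C) (h11335 C) _
    (by decide +kernel)

theorem h16210 :
    C.S (v3 C) [3, 1, 2, 0, 2, 1, 3, 0, 3, 1, 2, 0, 2, 2, 1, 2, 0, 2, 2, 1, 3, 3, 0, 2, 1, 2, 0, 2, 1, 2, 0, 2, 2, 2, 1, 2, 2, 0, 3] :=
  C.stMul (h16187 C) (h13041 C) _
    (by decide +kernel)

theorem h16308 :
    C.S (v3 C) [0, 0, 4] :=
  C.stInv (h14775 C) _ (by decide +kernel)

theorem h16309 :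
    C.T (v3 C) [4] (v1 C) [0, 4, 2, 0, 2, 4] :=
  C.conv (h10091 C) (h16308 C) _ _
    (by decide +kernel) (by decide +kernel)

theorem h16316 :
    C.T (v1 C) [1, 2, 2, 0, 3, 3, 1, 2, 2, 2, 0, 2, 2, 1, 2, 0, 2, 1, 2, 2, 0, 2, 1, 3, 0, 3, 3, 1, 3, 0, 2, 2, 2, 1, 3, 0, 3, 3, 1, 3, 0, 0, 4, 2, 4, 2, 0, 2, 2, 4, 2] (v2 C) [1, 2, 0, 2, 1, 2, 0, 2, 2, 1, 3, 3, 0, 3, 1, 2, 2, 2, 0, 2, 1, 2, 0, 3, 1, 2, 0, 2, 2, 1, 3, 3, 0, 3, 1, 2, 2, 0, 3, 3, 1, 3, 3, 0, 3, 3, 1, 2, 0, 3, 1, 2, 2, 2, 0] :=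
  C.conv (h5571 C) (h5230 C) _ _
    (by decide +kernel) (by decide +kernel)

theorem h16317 :
    C.T (v1 C) [1, 2, 0, 2, 2, 2, 1, 3, 3, 0, 3, 1, 2, 2, 0, 3, 3, 1, 2, 2, 0, 2, 2, 1, 2, 0, 2, 1, 2, 0, 4, 2, 2, 4, 2, 1] (v3 C) [1, 2, 0, 2, 1, 2, 0, 2, 2, 1, 3, 3, 0, 3, 1, 2, 2, 2, 0, 2, 1, 2, 0, 3, 1, 2, 2, 0, 2, 2, 1, 2, 0, 3, 1, 3, 3, 0, 3, 1, 3, 0, 2, 1, 2, 0, 3, 1, 3, 0, 2, 1, 2, 0] :=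
  C.conv (h10090 C) (h4324 C) _ _
    (by decide +kernel) (by decide +kernel)

theorem h16318 :
    C.T (v3 C) [1, 2, 0, 2, 1, 2, 0, 2, 2, 1, 3, 3, 0, 3, 1, 2, 2, 2, 0, 2, 1, 2, 0, 3, 1, 2, 2, 0, 2, 2, 1, 2, 0, 3, 1, 3, 3, 0, 3, 1, 3, 0, 2, 1, 2, 0, 3, 1, 3, 0, 2, 1, 2, 0, 0, 0] (v1 C) [1, 2, 0, 2, 2, 2, 1, 3, 3, 0, 3, 1, 2, 2, 0, 3, 3, 1, 2, 2, 0, 2, 2, 1, 2, 0, 2, 1, 2, 0, 4, 2, 2, 4, 2, 0] :=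
  C.flip (h16317 C) _ _
    (by decide +kernel) (by decide +kernel)

theorem h16319 :
    C.T (v2 C) [1, 2, 0, 2, 1, 2, 0, 2, 2, 1, 3, 3, 0, 3, 1, 2, 2, 2, 0, 2, 1, 2, 0, 3, 1, 2, 0, 2, 2, 1, 3, 3, 0, 3, 1, 2, 2, 0, 3, 3, 1, 3, 3, 0, 3, 3, 1, 2, 0, 3, 0, 4, 2, 2, 2, 0] (v3 C) [1, 2, 0, 2, 1, 2, 2, 0, 2, 1, 3, 0, 3, 1, 2, 0, 2, 2, 1, 2, 0, 3, 1, 2, 2, 0, 3, 1, 3, 3, 0, 3, 1, 3, 3, 0, 2, 2, 1, 3, 0, 2, 2, 1, 2, 0, 2, 2, 1, 2, 0, 0, 4, 2, 2, 0, 4, 3, 4] :=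
  C.closeT (A := [none, some [4]]) (B := [some [4], none, some [4]])
    (C.pT (h16316 C)
    (C.pH [4] [1, 2, 0, 2, 1, 2, 0, 2, 2, 1, 3, 3, 0, 3, 1, 2, 2, 2, 0, 2, 1, 2, 0, 3, 1, 2, 0, 2, 2, 1, 3, 3, 0, 3, 1, 2, 2, 0, 3, 3, 1, 3, 3, 0, 3, 3, 1, 2, 0, 3, 0, 4, 2, 2, 2, 0] (by decide +kernel)
    (C.pNil (v2 C) [1, 2, 0, 2, 1, 2, 0, 2, 2, 1, 3, 3, 0, 3, 1, 2, 2, 2, 0, 2, 1, 2, 0, 3, 1, 2, 0, 2, 2, 1, 3, 3, 0, 3, 1, 2, 2, 0, 3, 3, 1, 3, 3, 0, 3, 3, 1, 2, 0, 3, 0, 4, 2, 2, 2, 0])))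
    (C.pH [4] [1, 2, 0, 2, 1, 2, 0, 2, 2, 1, 3, 3, 0, 3, 1, 2, 2, 2, 0, 2, 1, 2, 0, 3, 1, 2, 2, 0, 2, 2, 1, 2, 0, 3, 1, 3, 3, 0, 3, 1, 3, 0, 2, 1, 2, 0, 3, 1, 3, 0, 2, 1, 2, 0, 0, 0] (by decide +kernel)
    (C.pT (h16318 C)
    (C.pH [4] [1, 2, 2, 0, 3, 3, 1, 2, 2, 2, 0, 2, 2, 1, 2, 0, 2, 1, 2, 2, 0, 2, 1, 3, 0, 3, 3, 1, 3, 0, 2, 2, 2, 1, 3, 0, 3, 3, 1, 3, 0, 0, 4, 2, 4, 2, 0, 2, 2, 4, 2] (by decide +kernel)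
    (C.pNil (v1 C) [1, 2, 2, 0, 3, 3, 1, 2, 2, 2, 0, 2, 2, 1, 2, 0, 2, 1, 2, 2, 0, 2, 1, 3, 0, 3, 3, 1, 3, 0, 2, 2, 2, 1, 3, 0, 3, 3, 1, 3, 0, 0, 4, 2, 4, 2, 0, 2, 2, 4, 2])))) C.relOne

theorem h16320 :
    C.T (v3 C) [1, 2, 0, 2, 1, 2, 2, 0, 2, 1, 3, 0, 3, 1, 2, 0, 2, 2, 1, 2, 0, 3, 1, 2, 2, 0, 3, 1, 3, 3, 0, 3, 1, 3, 3, 0, 2, 2, 1, 3, 0, 2, 2, 1, 2, 0, 2, 2, 1, 2, 0, 0, 4, 2, 2, 1, 4, 3, 4] (v2 C) [1, 2, 0, 2, 1, 2, 0, 2, 2, 1, 3, 3, 0, 3, 1, 2, 2, 2, 0, 2, 1, 2, 0, 3, 1, 2, 0, 2, 2, 1, 3, 3, 0, 3, 1, 2, 2, 0, 3, 3, 1, 3, 3, 0, 3, 3, 1, 2, 0, 3, 0, 4, 2, 2, 2, 1] :=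
  C.flip (h16319 C) _ _
    (by decide +kernel) (by decide +kernel)

theorem h16321 :
    C.S (v2 C) [1, 2, 0, 2, 1, 2, 0, 2, 2, 1, 3, 3, 0, 3, 1, 2, 2, 2, 0, 2, 1, 2, 0, 3, 1, 2, 2, 0, 3, 1, 2, 2, 0, 3, 1, 3, 3, 0, 3, 1, 3, 0, 2, 1, 3, 0, 2, 1, 2, 0, 2, 1, 3, 0, 2, 2, 1, 2, 0, 2, 2, 1, 2, 0] :=
  C.stInv (h8604 C) _ (by decide +kernel)

theorem h16322 :
    C.T (v2 C) [4, 2] (v3 C) [2, 1, 3, 3, 0, 3, 1, 2, 2, 2, 0, 2, 1, 2, 0, 3, 1, 2, 2, 0, 2, 2, 1, 3, 3, 0, 2, 1, 2, 0, 3, 1, 2, 2, 0, 2, 2, 1, 3, 0, 2, 2, 2, 1, 2, 0, 2, 2, 1, 2, 0, 0, 4, 2, 2, 0, 4, 3, 4] :=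
  C.conv (h16319 C) (h16321 C) _ _
    (by decide +kernel) (by decide +kernel)

theorem h16329 :
    C.S (v3 C) [1, 2, 0, 2, 1, 2, 2, 0, 2, 1, 3, 0, 3, 1, 2, 0, 2, 2, 1, 2, 0, 2, 1, 3, 0, 3, 1, 2, 2, 0, 2, 1, 3, 0, 3, 1, 2, 0, 3, 3, 1, 3, 0] :=
  C.stInv (h14810 C) _ (by decide +kernel)

theorem h16330 :
    C.T (v3 C) [4, 2] (v2 C) [1, 2, 0, 2, 1, 2, 2, 0, 2, 1, 3, 0, 3, 1, 2, 0, 2, 2, 2, 2, 1, 3, 0, 2, 1, 2, 0, 3, 3, 1, 2, 0, 0, 4, 2, 2, 2, 1] :=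
  C.conv (h16320 C) (h16329 C) _ _
    (by decide +kernel) (by decide +kernel)

theorem h16337 :
    C.T (v2 C) [1, 2, 2, 2, 0, 4, 2] (v3 C) [1, 2, 0, 2, 1, 2, 0, 2, 1, 3, 0, 3, 1, 2, 2, 0, 3, 1, 3, 0, 2, 2, 1, 3, 0, 3, 3, 3, 1, 3, 0, 0, 4, 2, 2, 0, 4, 3, 4] :=
  C.conv (h16322 C) (h8467 C) _ _
    (by decide +kernel) (by decide +kernel)

theorem h16338 :
    C.T (v3 C) [1, 2, 0, 2, 1, 2, 0, 2, 1, 3, 0, 3, 1, 2, 2, 0, 3, 1, 3, 0, 2, 2, 1, 3, 0, 3, 3, 3, 1, 3, 0, 0, 4, 2, 2, 1, 4, 3, 4] (v2 C) [1, 2, 2, 2, 0, 0, 0, 4, 2] :=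
  C.flip (h16337 C) _ _
    (by decide +kernel) (by decide +kernel)

theorem h16339 :
    C.T (v3 C) [3, 1, 2, 0, 2, 1, 3, 0, 3, 1, 2, 0, 2, 2, 2, 2, 1, 3, 3, 0, 3, 1, 3, 0, 2, 2, 1, 3, 0, 3, 3, 1, 3, 0, 4, 2, 4, 2, 4, 2, 4, 2] (v2 C) [2, 1, 3, 3, 0, 3, 1, 2, 2, 2, 0, 2, 1, 2, 0, 3, 1, 2, 2, 0, 3, 1, 2, 2, 0, 3, 1, 3, 3, 0, 3, 1, 3, 0, 2, 1, 2, 0, 2, 2, 1, 3, 0, 2, 2, 2, 1, 3, 0, 3, 3, 1, 3, 0, 0, 4, 2, 2, 2, 1] :=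
  C.conv (h16330 C) (h14856 C) _ _
    (by decide +kernel) (by decide +kernel)

theorem h16340 :
    C.T (v2 C) [2, 1, 3, 3, 0, 3, 1, 2, 2, 2, 0, 2, 1, 2, 0, 3, 1, 2, 2, 0, 3, 1, 2, 2, 0, 3, 1, 3, 3, 0, 3, 1, 3, 0, 2, 1, 2, 0, 2, 2, 1, 3, 0, 2, 2, 2, 1, 3, 0, 3, 3, 1, 3, 0, 0, 4, 2, 2, 2, 0] (v3 C) [1, 2, 0, 2, 1, 2, 2, 0, 2, 1, 3, 0, 3, 1, 2, 0, 2, 2, 1, 2, 0, 2, 1, 3, 0, 3, 1, 2, 2, 0, 3, 1, 2, 2, 0, 3, 3, 1, 2, 0, 3, 3, 1, 3, 0, 2, 2, 2, 1, 2, 0, 2, 2, 1, 2, 0, 4, 3, 3, 0, 3, 1, 2, 4] :=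
  C.flip (h16339 C) _ _
    (by decide +kernel) (by decide +kernel)

theorem h16341 :
    C.T (v2 C) [0, 4, 2, 2, 2, 1, 4, 2] (v2 C) [1, 2, 0, 2, 1, 2, 0, 2, 1, 2, 2, 0, 3, 3, 1, 2, 2, 2, 0, 2, 2, 1, 2, 0, 2, 2, 1, 3, 0, 3, 1, 2, 2, 0, 2, 2, 1, 2, 0, 3, 1, 3, 0, 2, 1, 2, 0, 4, 3, 0, 4, 3, 1] :=
  C.closeT (A := []) (B := [some [4], none, some [4], none, some [4]])
    (C.pNil (v2 C) [0, 4, 2, 2, 2, 1, 4, 2])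
    (C.pH [4] [2, 1, 3, 3, 0, 3, 1, 2, 2, 2, 0, 2, 1, 2, 0, 3, 1, 2, 2, 0, 3, 1, 2, 2, 0, 3, 1, 3, 3, 0, 3, 1, 3, 0, 2, 1, 2, 0, 2, 2, 1, 3, 0, 2, 2, 2, 1, 3, 0, 3, 3, 1, 3, 0, 0, 4, 2, 2, 2, 0] (by decide +kernel)
    (C.pT (h16340 C)
    (C.pH [4] [1, 2, 0, 2, 1, 2, 0, 2, 1, 3, 0, 3, 1, 2, 2, 0, 3, 1, 3, 0, 2, 2, 1, 3, 0, 3, 3, 3, 1, 3, 0, 0, 4, 2, 2, 1, 4, 3, 4] (by decide +kernel)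
    (C.pT (h16338 C)
    (C.pH [4] [0, 4, 2, 2, 2, 1, 4, 2] (by decide +kernel)
    (C.pNil (v2 C) [0, 4, 2, 2, 2, 1, 4, 2])))))) C.relOne

theorem h16349 :
    C.T (v2 C) [3, 1, 3, 0, 2, 2, 1, 2, 0, 3, 3, 1, 2, 0, 3, 3, 4, 2, 0, 4, 2, 1, 4] (v3 C) [1, 2, 0, 3, 1, 3, 0, 2, 1, 2, 0, 3, 1, 3, 3, 0, 2, 2, 1, 3, 3, 0, 3, 1, 2, 2, 0, 3, 1, 3, 0, 2, 2, 1, 3, 0, 3, 1, 3, 3, 0, 3, 1, 2, 0, 0, 4, 2, 2, 0, 4, 3, 4] :=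
  C.conv (h16322 C) (h8608 C) _ _
    (by decide +kernel) (by decide +kernel)

theorem h16350 :
    C.T (v2 C) [3, 1, 3, 0, 2, 2, 1, 2, 0, 3, 3, 1, 2, 0, 3, 3, 1, 3, 0, 3, 0, 4, 3, 0, 4, 3] (v2 C) [2, 1, 3, 3, 0, 3, 1, 2, 2, 2, 0, 2, 1, 2, 0, 3, 1, 2, 0, 2, 2, 1, 3, 3, 0, 3, 1, 2, 2, 0, 2, 1, 3, 0, 3, 1, 2, 2, 0, 2, 1, 3, 0, 3, 1, 3, 0, 2, 1, 2, 0, 3, 3, 4, 3, 0, 4, 3, 1] :=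
  C.conv (h16341 C) (h9074 C) _ _
    (by decide +kernel) (by decide +kernel)

theorem h16351 :
    C.T (v2 C) [2, 1, 3, 3, 0, 3, 1, 2, 2, 2, 0, 2, 1, 2, 0, 3, 1, 2, 0, 2, 2, 1, 3, 3, 0, 3, 1, 2, 2, 0, 2, 1, 3, 0, 3, 1, 2, 2, 0, 2, 1, 3, 0, 3, 1, 3, 0, 2, 1, 2, 0, 3, 3, 4, 3, 0, 4, 3, 0] (v2 C) [3, 1, 3, 0, 2, 2, 1, 2, 0, 3, 3, 1, 2, 0, 3, 3, 1, 3, 0, 3, 0, 4, 3, 1, 4, 3] :=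
  C.flip (h16350 C) _ _
    (by decide +kernel) (by decide +kernel)

theorem h16352 :
    C.T (v3 C) [1, 2, 0, 2, 1, 2, 0, 2, 1, 2, 2, 0, 3, 3, 1, 2, 2, 2, 0, 2, 1, 2, 2, 0, 3, 3, 1, 3, 0, 2, 2, 1, 3, 0, 2, 1, 3, 0, 2, 1, 2, 0, 2, 1, 3, 0, 3, 1, 2, 0, 4, 2, 0, 4, 2, 2, 0, 3, 3] (v2 C) [1, 2, 0, 2, 1, 2, 0, 2, 1, 2, 0, 3, 1, 3, 0, 2, 1, 2, 0, 3, 1, 3, 0, 2, 2, 1, 3, 3, 0, 2, 1, 2, 0, 2, 1, 2, 0, 3, 1, 3, 0, 3, 3, 1, 3, 0, 2, 1, 2, 0, 3, 3, 4, 2, 0, 2] :=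
  C.closeT (A := [none, some [4]]) (B := [some [4], none, some [4]])
    (C.pT (h16349 C)
    (C.pH [4] [1, 2, 0, 2, 1, 2, 0, 2, 1, 2, 2, 0, 3, 3, 1, 2, 2, 2, 0, 2, 1, 2, 2, 0, 3, 3, 1, 3, 0, 2, 2, 1, 3, 0, 2, 1, 3, 0, 2, 1, 2, 0, 2, 1, 3, 0, 3, 1, 2, 0, 4, 2, 0, 4, 2, 2, 0, 3, 3] (by decide +kernel)
    (C.pNil (v3 C) [1, 2, 0, 2, 1, 2, 0, 2, 1, 2, 2, 0, 3, 3, 1, 2, 2, 2, 0, 2, 1, 2, 2, 0, 3, 3, 1, 3, 0, 2, 2, 1, 3, 0, 2, 1, 3, 0, 2, 1, 2, 0, 2, 1, 3, 0, 3, 1, 2, 0, 4, 2, 0, 4, 2, 2, 0, 3, 3])))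
    (C.pH [4] [2, 1, 3, 3, 0, 3, 1, 2, 2, 2, 0, 2, 1, 2, 0, 3, 1, 2, 0, 2, 2, 1, 3, 3, 0, 3, 1, 2, 2, 0, 2, 1, 3, 0, 3, 1, 2, 2, 0, 2, 1, 3, 0, 3, 1, 3, 0, 2, 1, 2, 0, 3, 3, 4, 3, 0, 4, 3, 0] (by decide +kernel)
    (C.pT (h16351 C)
    (C.pH [4] [3, 1, 3, 0, 2, 2, 1, 2, 0, 3, 3, 1, 2, 0, 3, 3, 4, 2, 0, 4, 2, 1, 4] (by decide +kernel)
    (C.pNil (v2 C) [3, 1, 3, 0, 2, 2, 1, 2, 0, 3, 3, 1, 2, 0, 3, 3, 4, 2, 0, 4, 2, 1, 4])))) C.relOne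

theorem h16353 :
    C.T (v2 C) [1, 2, 0, 2, 1, 2, 0, 2, 1, 2, 0, 3, 1, 3, 0, 2, 1, 2, 0, 3, 1, 3, 0, 2, 2, 1, 3, 3, 0, 2, 1, 2, 0, 2, 1, 2, 0, 3, 1, 3, 0, 3, 3, 1, 3, 0, 2, 1, 2, 0, 3, 3, 4, 2, 1, 2] (v3 C) [1, 2, 0, 2, 1, 2, 0, 2, 1, 2, 2, 0, 3, 3, 1, 2, 2, 2, 0, 2, 1, 2, 2, 0, 3, 3, 1, 3, 0, 2, 2, 1, 3, 0, 2, 1, 3, 0, 2, 1, 2, 0, 2, 1, 3, 0, 3, 1, 2, 0, 4, 2, 0, 4, 2, 2, 1, 3, 3] :=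
  C.flip (h16352 C) _ _
    (by decide +kernel) (by decide +kernel)

theorem h16354 :
    C.S (v3 C) [3, 1, 3, 0, 2, 2, 1, 3, 3, 0, 3, 1, 2, 2, 2, 0, 2, 2, 2, 1, 2, 0, 2] :=
  C.stInv (h16210 C) _ (by decide +kernel)

theorem h16355 :
    C.T (v3 C) [0, 4, 2, 4, 3, 3, 0] (v2 C) [3, 1, 3, 0, 2, 2, 1, 3, 0, 2, 1, 2, 0, 3, 1, 3, 0, 3, 1, 2, 0, 3, 3, 3, 1, 3, 0, 2, 1, 2, 0, 3, 3, 4, 2, 0, 2] :=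
  C.conv (h16352 C) (h16354 C) _ _
    (by decide +kernel) (by decide +kernel)

theorem h16362 :
    C.S (v2 C) [1, 2, 0, 2, 1, 2, 0, 2, 2, 1, 3, 3, 0, 3, 1, 2, 2, 2, 0, 2, 1, 2, 0, 3, 1, 2, 2, 0, 3, 1, 2, 2, 0, 3, 1, 3, 3, 0, 3, 1, 3, 0, 2, 1, 3, 0, 2, 1, 2, 0, 2, 1, 3, 0, 2, 2, 1, 2, 0, 2, 2, 1, 2, 0] :=
  C.stInv (h8664 C) _ (by decide +kernel)

theorem h16363 :
    C.T (v2 C) [4, 3, 1] (v3 C) [3, 1, 2, 0, 2, 1, 3, 0, 3, 1, 2, 0, 2, 2, 1, 2, 0, 2, 2, 1, 2, 2, 0, 2, 1, 3, 0, 3, 1, 2, 0, 4, 2, 0, 4, 2, 2, 1, 3, 3] :=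
  C.conv (h16353 C) (h16362 C) _ _
    (by decide +kernel) (by decide +kernel)

theorem h16370 :
    C.T (v3 C) [4] (v1 C) [0, 4, 2, 0, 2, 4] :=
  C.conv (h16309 C) (h14757 C) _ _
    (by decide +kernel) (by decide +kernel)

theorem h16371 :
    C.T (v1 C) [0, 4, 2, 0, 2, 4] (v3 C) [1, 2, 2, 0, 3, 3, 1, 2, 2, 2, 0, 2, 1, 2, 2, 0, 3, 1, 3, 0, 2, 2] :=
  C.conv (h10090 C) (h4516 C) _ _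
    (by decide +kernel) (by decide +kernel)

theorem h16372 :
    C.T (v3 C) [3, 1, 3, 0, 2, 2, 1, 3, 0, 3, 1, 2, 2, 0, 2, 1, 2, 0, 2, 1, 2, 0, 0] (v3 C) [0, 4] :=
  C.closeT (A := [none, none, some [1], some [0, 0]]) (B := [some [0, 0, 0]])
    (C.pT (h16370 C)
    (C.pT (h16371 C)
    (C.pH [1] [3, 1, 3, 0, 2, 2, 1, 3, 0, 3, 1, 2, 2, 0, 2, 1, 2, 0, 2, 1, 2] (by decide +kernel)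
    (C.pH [0, 0] [3, 1, 3, 0, 2, 2, 1, 3, 0, 3, 1, 2, 2, 0, 2, 1, 2, 0, 2, 1, 2, 0, 0] (by decide +kernel)
    (C.pNil (v3 C) [3, 1, 3, 0, 2, 2, 1, 3, 0, 3, 1, 2, 2, 0, 2, 1, 2, 0, 2, 1, 2, 0, 0])))))
    (C.pH [0, 0, 0] [4] (by decide +kernel)
    (C.pNil (v3 C) [4])) C.relTwo

theorem h16374 :
    C.S (v3 C) [0, 0, 4] :=
  C.stInv (h14782 C) _ (by decide +kernel)

theorem h16375 :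
    C.T (v3 C) [1, 4] (v3 C) [2, 1, 3, 3, 0, 2, 1, 2, 0, 2, 1, 2, 0, 2, 2, 1, 3, 0, 2, 1, 2, 0, 0, 4] :=
  C.conv (h16372 C) (h16374 C) _ _
    (by decide +kernel) (by decide +kernel)

theorem h16386 :
    C.T (v3 C) [0, 4, 2, 0] (v2 C) [1, 2, 0, 2, 1, 2, 0, 2, 1, 2, 2, 0, 3, 3, 1, 2, 2, 2, 0, 2, 1, 2, 2, 0, 3, 3, 1, 3, 0, 2, 2, 1, 3, 3, 0, 3, 1, 2, 2, 0, 3, 1, 2, 2, 0, 3, 3, 1, 2, 0, 3, 3, 1, 3, 0, 0, 4, 2, 2, 2, 1] :=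
  C.conv (h16330 C) (h14803 C) _ _
    (by decide +kernel) (by decide +kernel)

theorem h16387 :
    C.T (v2 C) [1, 2, 0, 2, 1, 2, 0, 2, 1, 2, 2, 0, 3, 3, 1, 2, 2, 2, 0, 2, 1, 2, 2, 0, 3, 3, 1, 3, 0, 2, 2, 1, 3, 3, 0, 3, 1, 2, 2, 0, 3, 1, 2, 2, 0, 3, 3, 1, 2, 0, 3, 3, 1, 3, 0, 0, 4, 2, 2, 2, 0] (v3 C) [0, 4, 2, 1] :=
  C.flip (h16386 C) _ _
    (by decide +kernel) (by decide +kernel)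

theorem h16388 :
    C.T (v2 C) [1, 2, 0, 2, 1, 2, 0, 2, 1, 2, 0, 3, 1, 3, 0, 2, 1, 2, 0, 3, 1, 3, 3, 0, 2, 2, 1, 3, 3, 0, 3, 1, 2, 2, 2, 0, 3, 1, 3, 0, 4, 2, 2, 2, 1] (v3 C) [1, 2, 0, 2, 1, 2, 0, 2, 2, 1, 3, 3, 0, 3, 1, 2, 2, 2, 0, 2, 1, 2, 0, 3, 1, 2, 2, 0, 2, 1, 3, 0, 3, 1, 2, 2, 2, 0, 2, 2, 2, 1, 2, 0, 4, 2, 0, 4, 2, 2, 1, 3, 3] :=
  C.conv (h16363 C) (h8665 C) _ _
    (by decide +kernel) (by decide +kernel)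

theorem h16389 :
    C.T (v3 C) [1, 2, 0, 2, 1, 2, 0, 2, 2, 1, 3, 3, 0, 3, 1, 2, 2, 2, 0, 2, 1, 2, 0, 3, 1, 2, 2, 0, 2, 1, 3, 0, 3, 1, 2, 2, 2, 0, 2, 2, 2, 1, 2, 0, 4, 2, 0, 4, 2, 2, 0, 3, 3] (v2 C) [1, 2, 0, 2, 1, 2, 0, 2, 1, 2, 0, 3, 1, 3, 0, 2, 1, 2, 0, 3, 1, 3, 3, 0, 2, 2, 1, 3, 3, 0, 3, 1, 2, 2, 2, 0, 3, 1, 3, 0, 4, 2, 2, 2, 0] :=
  C.flip (h16388 C) _ _
    (by decide +kernel) (by decide +kernel)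

theorem h16390 :
    C.T (v3 C) [4, 2, 1] (v3 C) [1, 2, 0, 2, 1, 2, 0, 2, 2, 1, 3, 3, 0, 3, 1, 2, 2, 2, 0, 2, 1, 2, 0, 3, 1, 2, 2, 0, 2, 1, 3, 0, 3, 1, 2, 2, 2, 0, 2, 2, 2, 1, 2, 0, 4, 2, 0, 4, 2, 2, 0, 3, 3] :=
  C.closeT (A := []) (B := [none, some [1], some [0, 0], none, some [0, 0, 0]])
    (C.pNil (v3 C) [4, 2, 1])
    (C.pT (h16389 C)
    (C.pH [1] [1, 2, 0, 2, 1, 2, 0, 2, 1, 2, 2, 0, 3, 3, 1, 2, 2, 2, 0, 2, 1, 2, 2, 0, 3, 3, 1, 3, 0, 2, 2, 1, 3, 3, 0, 3, 1, 2, 2, 0, 3, 1, 2, 2, 0, 3, 3, 1, 2, 0, 3, 3, 1, 3, 0, 0, 4, 2, 2, 2, 1] (by decide +kernel)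
    (C.pH [0, 0] [1, 2, 0, 2, 1, 2, 0, 2, 1, 2, 2, 0, 3, 3, 1, 2, 2, 2, 0, 2, 1, 2, 2, 0, 3, 3, 1, 3, 0, 2, 2, 1, 3, 3, 0, 3, 1, 2, 2, 0, 3, 1, 2, 2, 0, 3, 3, 1, 2, 0, 3, 3, 1, 3, 0, 0, 4, 2, 2, 2, 0] (by decide +kernel)
    (C.pT (h16387 C)
    (C.pH [0, 0, 0] [4, 2, 1] (by decide +kernel)
    (C.pNil (v3 C) [4, 2, 1])))))) C.relTwo

theorem h16406 :
    C.T (v3 C) [4, 2, 1] (v3 C) [1, 2, 0, 2, 1, 2, 0, 2, 2, 1, 3, 3, 0, 3, 1, 2, 2, 2, 0, 2, 1, 2, 0, 3, 1, 2, 2, 0, 2, 1, 3, 0, 3, 1, 2, 2, 2, 0, 2, 2, 2, 1, 2, 0, 4, 2, 0, 4, 2, 2, 0, 3, 3] :=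
  C.conv (h16390 C) (h14757 C) _ _
    (by decide +kernel) (by decide +kernel)

theorem h16407 :
    C.T (v3 C) [3, 1, 3, 0, 2, 2, 1, 3, 3, 0, 3, 1, 2, 2, 0, 3, 1, 3, 0, 3, 3, 1, 2, 0, 3, 3, 1, 2, 2, 0, 2, 2, 2, 1, 3, 0, 3, 4, 2, 2, 2, 0, 2, 0, 3, 0] (v3 C) [1, 2, 2, 0, 3, 3, 1, 2, 2, 2, 0, 2, 1, 2, 2, 0, 3, 3, 1, 3, 0, 2, 2, 1, 3, 3, 0, 3, 1, 2, 2, 2, 2, 0, 3, 1, 2, 2, 2, 0, 3, 1, 3, 0, 2, 4, 2, 0, 4, 2, 2, 0, 3, 3] :=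
  C.conv (h16390 C) (h14879 C) _ _
    (by decide +kernel) (by decide +kernel)

theorem h16408 :
    C.T (v3 C) [2, 0] (v3 C) [1, 2, 2, 0, 3, 3, 1, 2, 2, 2, 0, 2, 1, 2, 2, 2, 0, 2, 2, 1, 3, 0, 2, 2, 1, 2, 0, 2, 0, 4] :=
  C.conv (h16375 C) (h14782 C) _ _
    (by decide +kernel) (by decide +kernel)

theorem h16409 :
    C.T (v3 C) [1, 2, 2, 0, 3, 3, 1, 2, 2, 2, 0, 2, 1, 2, 2, 2, 0, 2, 2, 1, 3, 0, 2, 2, 1, 2, 0, 2, 1, 4] (v3 C) [2, 1] :=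
  C.flip (h16408 C) _ _
    (by decide +kernel) (by decide +kernel)

theorem h16410 :
    C.E (v3 C) [1, 2, 0, 2, 2, 2, 1, 3, 3, 0, 3, 1, 2, 2, 2, 2, 0, 3, 1, 2, 2, 2, 0, 3, 0, 4, 2, 1, 2] (v3 C) [1, 2, 2, 0, 3, 3, 1, 2, 2, 2, 0, 2, 1, 2, 2, 2, 0, 2, 2, 1, 3, 0, 2, 2, 1, 2, 0, 2, 1, 4] :=
  C.closeE (A := [none, some [4], none, some [4]]) (B := [none, some [4]])
    (C.pT (h16406 C)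
    (C.pH [4] [3, 1, 3, 0, 2, 2, 1, 3, 3, 0, 3, 1, 2, 2, 0, 3, 1, 3, 0, 3, 3, 1, 2, 0, 3, 3, 1, 2, 2, 0, 2, 2, 2, 1, 3, 0, 3, 4, 2, 2, 2, 0, 2, 0, 3, 0] (by decide +kernel)
    (C.pT (h16407 C)
    (C.pH [4] [1, 2, 0, 2, 2, 2, 1, 3, 3, 0, 3, 1, 2, 2, 2, 2, 0, 3, 1, 2, 2, 2, 0, 3, 0, 4, 2, 1, 2] (by decide +kernel)
    (C.pNil (v3 C) [1, 2, 0, 2, 2, 2, 1, 3, 3, 0, 3, 1, 2, 2, 2, 2, 0, 3, 1, 2, 2, 2, 0, 3, 0, 4, 2, 1, 2])))))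
    (C.pT (h16409 C)
    (C.pH [4] [4, 2, 1] (by decide +kernel)
    (C.pNil (v3 C) [4, 2, 1]))) C.relOne

theorem h16411 :
    C.S (v3 C) [3, 1, 3, 0, 2, 2, 1, 3, 0, 3, 1, 2, 2, 0, 4, 2, 0, 2, 4] :=
  C.stEq (h16410 C) _ (by decide +kernel)

theorem h16412 :
    C.S (v3 C) [] :=
  C.stOne _

theorem h16413 :
    C.S (v3 C) [0, 0, 4] :=
  C.stMul (h16412 C) (h14756 C) _
    (by decide +kernel)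

theorem h16425 :
    C.S (v3 C) [0, 0, 4] :=
  C.stMul (h16412 C) (h14756 C) _
    (by decide +kernel)

theorem h16427 :
    C.S (v3 C) [3, 1, 3, 0, 2, 2, 1, 3, 0, 3, 1, 2, 2, 0, 4, 2, 1, 2] :=
  C.stMul (h16425 C) (h16411 C) _
    (by decide +kernel)

theorem h16446 :
    C.S (v3 C) [0, 0, 4] :=
  C.stMul (h16412 C) (h14756 C) _
    (by decide +kernel)

theorem h16458 :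
    C.S (v3 C) [2, 1, 3, 3, 0, 3, 1, 2, 2, 2, 0, 2, 1, 2, 0, 3, 1, 2, 2, 0, 3, 1, 2, 2, 0, 3, 1, 3, 3, 0, 3, 1, 3, 0, 2, 1, 2, 0, 3, 3, 1, 2, 0] :=
  C.stMul (h16412 C) (h10101 C) _
    (by decide +kernel)

theorem h16460 :
    C.S (v3 C) [2, 1, 2, 2, 0, 2] :=
  C.stMul (h16412 C) (h13041 C) _
    (by decide +kernel)

theorem h16463 :
    C.S (v3 C) [1, 2, 0, 2, 1, 2, 2, 0, 2, 1, 3, 0, 3, 1, 2, 0, 2, 2, 1, 2, 0, 2, 1, 3, 0, 3, 1, 2, 2, 0, 3, 3, 1, 3, 3, 0, 3, 3, 1, 3, 0, 2, 1, 2, 0] :=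
  C.stMul (h16458 C) (h10101 C) _
    (by decide +kernel)

theorem h16472 :
    C.S (v3 C) [1, 2, 0, 3, 1, 3, 0, 2, 1, 2, 0, 3, 1, 3, 3, 0, 2, 2, 1, 3, 3, 0, 3, 1, 2, 2, 0, 3, 3, 3, 1, 3, 3, 0, 3, 3, 1, 2, 2, 0, 2, 2] :=
  C.stMul (h16460 C) (h10101 C) _
    (by decide +kernel)

theorem h16474 :
    C.S (v3 C) [1, 2, 0, 2, 2, 2, 1, 3, 3, 0, 3, 1, 2, 2, 2, 0, 2, 2, 2, 1, 2, 0, 2] :=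
  C.stMul (h16460 C) (h13041 C) _
    (by decide +kernel)

theorem h16482 :
    C.S (v3 C) [2, 1, 3, 3, 0, 3, 1, 2, 2, 2, 0, 2, 1, 2, 0, 3, 1, 2, 0, 2, 2, 1, 3, 0, 2, 1, 2, 0, 3, 1, 3, 3, 0, 3, 1, 3, 0, 3] :=
  C.stMul (h16463 C) (h13041 C) _
    (by decide +kernel)

theorem h16506 :
    C.S (v3 C) [3, 1, 3, 0, 2, 2, 1, 3, 3, 0, 2, 2, 2, 1, 2, 0] :=
  C.stMul (h16472 C) (h10101 C) _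
    (by decide +kernel)

theorem h16513 :
    C.S (v3 C) [2, 1, 3, 3, 0, 3, 1, 2, 2, 2, 0, 2, 1, 2, 0, 3, 1, 2, 0, 2, 2, 1, 3, 3, 0, 3, 1, 2, 2, 0, 3, 3, 1, 3, 3, 0, 3, 3, 1, 2, 0, 3] :=
  C.stMul (h16474 C) (h10101 C) _
    (by decide +kernel)

theorem h16529 :
    C.S (v3 C) [3, 1, 2, 0, 2, 1, 3, 0, 3, 1, 2, 0, 2, 2, 1, 2, 0, 2, 2, 1, 3, 3, 0, 2, 1, 2, 0, 2, 1, 3, 0, 2] :=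
  C.stMul (h16482 C) (h10101 C) _
    (by decide +kernel)

theorem h16607 :
    C.S (v3 C) [2, 1, 3, 3, 0, 3, 1, 2, 2, 2, 0, 2, 1, 2, 0, 3, 1, 2, 2, 0, 3, 1, 2, 2, 0, 3, 1, 3, 3, 0, 3, 1, 3, 0, 2, 1, 2, 0, 3, 3, 1, 2, 0] :=
  C.stMul (h16412 C) (h10101 C) _
    (by decide +kernel)

theorem h16608 :
    C.S (v3 C) [1, 2, 2, 0, 3, 3, 1, 2, 2, 2, 0, 2, 2, 1, 2, 0, 2, 1, 3, 0, 2, 2, 1, 3, 0, 2] :=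
  C.stMul (h16412 C) (h11335 C) _
    (by decide +kernel)

theorem h16612 :
    C.S (v3 C) [1, 2, 0, 2, 1, 2, 2, 0, 2, 1, 3, 0, 3, 1, 2, 0, 2, 2, 1, 2, 0, 2, 1, 3, 0, 3, 1, 2, 2, 0, 3, 3, 1, 3, 3, 0, 3, 3, 1, 3, 0, 2, 1, 2, 0] :=
  C.stMul (h16607 C) (h10101 C) _
    (by decide +kernel)

theorem h16616 :
    C.S (v3 C) [1, 2, 0, 2, 1, 2, 0, 2, 2, 2, 2, 1, 2, 2, 2, 0, 3, 3, 3] :=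
  C.stMul (h16608 C) (h10101 C) _
    (by decide +kernel)

theorem h16617 :
    C.S (v3 C) [2, 1, 2, 0, 3, 1, 3, 0] :=
  C.stMul (h16608 C) (h13041 C) _
    (by decide +kernel)

theorem h16630 :
    C.S (v3 C) [2, 1, 3, 3, 0, 3, 1, 2, 2, 2, 0, 2, 1, 2, 0, 3, 1, 2, 0, 2, 2, 1, 3, 0, 2, 1, 2, 0, 3, 1, 3, 3, 0, 3, 1, 3, 0, 3] :=
  C.stMul (h16612 C) (h13041 C) _
    (by decide +kernel)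

theorem h16641 :
    C.S (v3 C) [1, 2, 0, 2, 1, 2, 2, 0, 2, 1, 3, 0, 3, 1, 2, 0, 2, 2, 1, 2, 0, 2, 1, 3, 0, 3, 1, 2, 2, 0, 2, 1, 3, 0, 3, 1, 2, 0, 3, 3, 1, 3, 0] :=
  C.stMul (h16616 C) (h11335 C) _
    (by decide +kernel)

theorem h16647 :
    C.S (v3 C) [2, 1, 2, 0, 3, 1, 3, 0, 0, 0, 4] :=
  C.stMul (h16617 C) (h14756 C) _
    (by decide +kernel)

theorem h16675 :
    C.S (v3 C) [3, 1, 2, 0, 2, 1, 3, 0, 3, 1, 2, 0, 2, 2, 1, 2, 0, 2, 2, 1, 3, 3, 0, 2, 1, 2, 0, 2, 1, 3, 0, 2] :=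
  C.stMul (h16630 C) (h10101 C) _
    (by decide +kernel)

theorem h16695 :
    C.S (v3 C) [1, 2, 0, 2, 1, 2, 0, 2, 2, 1, 3, 3, 0, 3, 1, 2, 2, 2, 0, 2, 1, 2, 0, 3, 1, 2, 0, 2, 2, 1, 3, 3, 0, 3, 1, 2, 2, 0, 3, 3, 1, 2, 2, 2, 0, 2, 2, 1, 2, 0, 4, 2, 0, 2, 4] :=
  C.stMul (h16641 C) (h16411 C) _
    (by decide +kernel)

theorem h16704 :
    C.S (v3 C) [1, 2, 0, 2, 1, 2, 0, 2, 1, 2, 0, 3, 1, 3, 0, 2, 1, 2, 0, 3, 1, 3, 0, 2, 2, 1, 3, 3, 0, 2, 1, 2, 0, 3, 3, 1, 3, 3, 0, 3, 3, 1, 2, 2, 0, 2, 2, 2, 1, 2, 0, 4, 2, 1, 2] :=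
  C.stMul (h16647 C) (h16411 C) _
    (by decide +kernel)

theorem h16727 :
    C.S (v3 C) [3, 1, 2, 0, 2, 1, 3, 0, 3, 1, 2, 0, 2, 2, 1, 2, 0, 2, 2, 1, 3, 3, 0, 2, 1, 2, 0, 2, 1, 3, 0, 2, 0, 0, 4] :=
  C.stMul (h16675 C) (h14756 C) _
    (by decide +kernel)

theorem h16756 :
    C.S (v3 C) [2, 1, 3, 3, 0, 3, 1, 2, 2, 2, 0, 2, 1, 2, 0, 3, 1, 2, 2, 0, 3, 1, 2, 2, 0, 3, 1, 3, 3, 0, 3, 1, 3, 0, 2, 1, 2, 0, 3, 3, 1, 2, 0] :=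
  C.stMul (h16412 C) (h10101 C) _
    (by decide +kernel)

theorem h16757 :
    C.S (v3 C) [1, 2, 2, 0, 3, 3, 1, 2, 2, 2, 0, 2, 2, 1, 2, 0, 2, 1, 3, 0, 2, 2, 1, 3, 0, 2] :=
  C.stMul (h16412 C) (h11335 C) _
    (by decide +kernel)

theorem h16758 :
    C.S (v3 C) [2, 1, 2, 2, 0, 2] :=
  C.stMul (h16412 C) (h13041 C) _
    (by decide +kernel)

theorem h16761 :
    C.S (v3 C) [1, 2, 0, 2, 1, 2, 2, 0, 2, 1, 3, 0, 3, 1, 2, 0, 2, 2, 1, 2, 0, 2, 1, 3, 0, 3, 1, 2, 2, 0, 3, 3, 1, 3, 3, 0, 3, 3, 1, 3, 0, 2, 1, 2, 0] :=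
  C.stMul (h16756 C) (h10101 C) _
    (by decide +kernel)

theorem h16766 :
    C.S (v3 C) [2, 1, 2, 0, 3, 1, 3, 0] :=
  C.stMul (h16757 C) (h13041 C) _
    (by decide +kernel)

theorem h16769 :
    C.S (v3 C) [1, 2, 0, 3, 1, 3, 0, 2, 1, 2, 0, 3, 1, 3, 3, 0, 2, 2, 1, 3, 3, 0, 3, 1, 2, 2, 0, 3, 3, 3, 1, 3, 3, 0, 3, 3, 1, 2, 2, 0, 2, 2] :=
  C.stMul (h16758 C) (h10101 C) _
    (by decide +kernel)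

theorem h16779 :
    C.S (v3 C) [2, 1, 3, 3, 0, 3, 1, 2, 2, 2, 0, 2, 1, 2, 0, 3, 1, 2, 0, 2, 2, 1, 3, 0, 2, 1, 2, 0, 3, 1, 3, 3, 0, 3, 1, 3, 0, 3] :=
  C.stMul (h16761 C) (h13041 C) _
    (by decide +kernel)

theorem h16797 :
    C.S (v3 C) [1, 2, 0, 2, 1, 2, 0, 2, 1, 2, 0, 3, 1, 3, 0, 2, 1, 2, 0, 3, 1, 3, 0, 2, 2, 1, 3, 3, 0, 2, 1, 2, 0, 3, 3, 1, 3, 3, 0, 3, 3, 1, 2, 2, 0, 2, 2, 2, 1, 2, 0, 4, 2, 0, 2, 4] :=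
  C.stMul (h16766 C) (h16411 C) _
    (by decide +kernel)

theorem h16804 :
    C.S (v3 C) [1, 2, 0, 3, 1, 3, 0, 2, 1, 2, 0, 3, 1, 3, 3, 0, 2, 2, 1, 3, 3, 0, 3, 1, 2, 2, 0, 3, 3, 3, 1, 3, 3, 0, 3, 3, 1, 2, 2, 0, 2, 2, 0, 0, 4] :=
  C.stMul (h16769 C) (h14756 C) _
    (by decide +kernel)

theorem h16824 :
    C.S (v3 C) [3, 1, 2, 0, 2, 1, 3, 0, 3, 1, 2, 0, 2, 2, 1, 2, 0, 2, 2, 1, 3, 3, 0, 2, 1, 2, 0, 2, 1, 3, 0, 2] :=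
  C.stMul (h16779 C) (h10101 C) _
    (by decide +kernel)

theorem h16876 :
    C.S (v3 C) [3, 1, 2, 0, 2, 1, 3, 0, 3, 1, 2, 0, 2, 2, 1, 2, 0, 2, 2, 1, 3, 3, 0, 2, 1, 2, 0, 2, 1, 3, 0, 2, 0, 0, 4] :=
  C.stMul (h16824 C) (h14756 C) _
    (by decide +kernel)

theorem h16905 :
    C.S (v3 C) [2, 1, 3, 3, 0, 3, 1, 2, 2, 2, 0, 2, 1, 2, 0, 3, 1, 2, 2, 0, 3, 1, 2, 2, 0, 3, 1, 3, 3, 0, 3, 1, 3, 0, 2, 1, 2, 0, 3, 3, 1, 2, 0] :=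
  C.stMul (h16412 C) (h10101 C) _
    (by decide +kernel)

theorem h16907 :
    C.S (v3 C) [2, 1, 2, 2, 0, 2] :=
  C.stMul (h16412 C) (h13041 C) _
    (by decide +kernel)

theorem h16910 :
    C.S (v3 C) [1, 2, 0, 2, 1, 2, 2, 0, 2, 1, 3, 0, 3, 1, 2, 0, 2, 2, 1, 2, 0, 2, 1, 3, 0, 3, 1, 2, 2, 0, 3, 3, 1, 3, 3, 0, 3, 3, 1, 3, 0, 2, 1, 2, 0] :=
  C.stMul (h16905 C) (h10101 C) _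
    (by decide +kernel)

theorem h16919 :
    C.S (v3 C) [1, 2, 0, 3, 1, 3, 0, 2, 1, 2, 0, 3, 1, 3, 3, 0, 2, 2, 1, 3, 3, 0, 3, 1, 2, 2, 0, 3, 3, 3, 1, 3, 3, 0, 3, 3, 1, 2, 2, 0, 2, 2] :=
  C.stMul (h16907 C) (h10101 C) _
    (by decide +kernel)

theorem h16928 :
    C.S (v3 C) [2, 1, 3, 3, 0, 3, 1, 2, 2, 2, 0, 2, 1, 2, 0, 3, 1, 2, 2, 2, 2, 0, 2, 2, 1, 3, 0] :=
  C.stMul (h16910 C) (h10101 C) _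
    (by decide +kernel)

theorem h16929 :
    C.S (v3 C) [2, 1, 3, 3, 0, 3, 1, 2, 2, 2, 0, 2, 1, 2, 0, 3, 1, 2, 0, 2, 2, 1, 3, 0, 2, 1, 2, 0, 3, 1, 3, 3, 0, 3, 1, 3, 0, 3] :=
  C.stMul (h16910 C) (h13041 C) _
    (by decide +kernel)

theorem h16954 :
    C.S (v3 C) [1, 2, 0, 2, 1, 2, 0, 2, 1, 2, 2, 0, 3, 3, 1, 2, 2, 2, 0, 2, 1, 2, 2, 0, 3, 1, 3, 0, 3, 1, 2, 2, 2, 0, 2, 2, 1, 3, 0] :=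
  C.stMul (h16919 C) (h11335 C) _
    (by decide +kernel)

theorem h16956 :
    C.S (v3 C) [1, 2, 0, 3, 1, 3, 0, 2, 1, 2, 0, 3, 1, 3, 3, 0, 2, 2, 1, 3, 3, 0, 3, 1, 2, 2, 0, 3, 3, 3, 1, 3, 3, 0, 3, 3, 1, 2, 2, 0, 2, 2, 0, 0, 4] :=
  C.stMul (h16919 C) (h14756 C) _
    (by decide +kernel)

theorem h16976 :
    C.S (v3 C) [3, 1, 2, 0, 2, 1, 3, 0, 3, 1, 2, 0, 2, 2, 1, 2, 0, 2, 2, 1, 3, 3, 0, 2, 1, 2, 0, 2, 1, 3, 0, 2] :=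
  C.stMul (h16929 C) (h10101 C) _
    (by decide +kernel)

theorem h17013 :
    C.S (v3 C) [3, 1, 3, 0, 2, 2, 1, 3, 3, 0, 3, 1, 2, 2, 2, 0, 2, 2, 2, 1, 2, 0, 2, 2, 1, 2, 0, 4, 2, 1, 2] :=
  C.stMul (h16956 C) (h16411 C) _
    (by decide +kernel)

theorem h17054 :
    C.S (v3 C) [2, 1, 3, 3, 0, 3, 1, 2, 2, 2, 0, 2, 1, 2, 0, 3, 1, 2, 2, 0, 3, 1, 2, 2, 0, 3, 1, 3, 3, 0, 3, 1, 3, 0, 2, 1, 2, 0, 3, 3, 1, 2, 0] :=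
  C.stMul (h16412 C) (h10101 C) _
    (by decide +kernel)

theorem h17055 :
    C.S (v3 C) [1, 2, 2, 0, 3, 3, 1, 2, 2, 2, 0, 2, 2, 1, 2, 0, 2, 1, 3, 0, 2, 2, 1, 3, 0, 2] :=
  C.stMul (h16412 C) (h11335 C) _
    (by decide +kernel)

theorem h17056 :
    C.S (v3 C) [2, 1, 2, 2, 0, 2] :=
  C.stMul (h16412 C) (h13041 C) _
    (by decide +kernel)

theorem h17058 :
    C.S (v3 C) [3, 1, 3, 0, 2, 2, 1, 3, 0, 3, 1, 2, 2, 0, 4, 2, 0, 2, 4] :=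
  C.stMul (h16412 C) (h16411 C) _
    (by decide +kernel)

theorem h17059 :
    C.S (v3 C) [1, 2, 0, 2, 1, 2, 2, 0, 2, 1, 3, 0, 3, 1, 2, 0, 2, 2, 1, 2, 0, 2, 1, 3, 0, 3, 1, 2, 2, 0, 3, 3, 1, 3, 3, 0, 3, 3, 1, 3, 0, 2, 1, 2, 0] :=
  C.stMul (h17054 C) (h10101 C) _
    (by decide +kernel)

theorem h17064 :
    C.S (v3 C) [1, 2, 0, 2, 1, 2, 0, 2, 2, 2, 2, 1, 2, 2, 2, 0, 3, 3, 3] :=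
  C.stMul (h17055 C) (h10101 C) _
    (by decide +kernel)

theorem h17071 :
    C.S (v3 C) [2, 1, 2, 2, 0, 2, 0, 0, 4] :=
  C.stMul (h17056 C) (h14756 C) _
    (by decide +kernel)

theorem h17076 :
    C.S (v3 C) [1, 2, 0, 2, 1, 2, 2, 0, 2, 1, 3, 0, 3, 1, 2, 0, 2, 2, 1, 2, 0, 2, 2, 1, 3, 3, 0, 2, 1, 2, 0, 2, 1, 3, 0, 2, 2, 1, 2, 0, 4, 2, 0, 2, 4] :=
  C.stMul (h17058 C) (h13041 C) _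
    (by decide +kernel)

theorem h17080 :
    C.S (v3 C) [2, 1, 3, 3, 0, 3, 1, 2, 2, 2, 0, 2, 1, 2, 0, 3, 1, 2, 0, 2, 2, 1, 3, 0, 2, 1, 2, 0, 3, 1, 3, 3, 0, 3, 1, 3, 0, 3] :=
  C.stMul (h17059 C) (h13041 C) _
    (by decide +kernel)

theorem h17082 :
    C.S (v3 C) [1, 2, 0, 2, 1, 2, 0, 2, 1, 3, 0, 3, 1, 2, 2, 0, 3, 3, 1, 3, 3, 0, 3, 3, 1, 2, 2, 0, 4, 2, 0, 2, 4] :=
  C.stMul (h17059 C) (h16411 C) _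
    (by decide +kernel)

theorem h17098 :
    C.S (v3 C) [1, 2, 0, 2, 1, 2, 0, 2, 2, 1, 3, 3, 0, 3, 1, 2, 2, 2, 0, 2, 1, 2, 0, 3, 1, 2, 0, 2, 2, 1, 3, 3, 0, 3, 4, 2, 0, 2, 4] :=
  C.stMul (h17064 C) (h16411 C) _
    (by decide +kernel)

theorem h17121 :
    C.S (v3 C) [1, 2, 0, 2, 1, 2, 2, 0, 2, 1, 3, 0, 3, 1, 2, 0, 2, 2, 1, 2, 0, 2, 1, 3, 0, 3, 1, 2, 2, 2, 2, 0, 2, 2, 1, 2, 0, 4, 2, 1, 2] :=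
  C.stMul (h17071 C) (h16411 C) _
    (by decide +kernel)

theorem h17138 :
    C.S (v3 C) [1, 2, 0, 2, 1, 2, 0, 2, 1, 2, 0, 3, 1, 3, 0, 2, 1, 2, 0, 3, 1, 3, 0, 2, 2, 1, 3, 3, 0, 2, 1, 2, 0, 3, 3, 1, 3, 3, 0, 3, 3, 1, 2, 2, 0, 2, 2] :=
  C.stMul (h17076 C) (h16411 C) _
    (by decide +kernel)

theorem h17148 :
    C.S (v3 C) [3, 1, 2, 0, 2, 1, 3, 0, 3, 1, 2, 0, 2, 2, 1, 2, 0, 2, 2, 1, 3, 3, 0, 2, 1, 2, 0, 2, 1, 3, 0, 2] :=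
  C.stMul (h17080 C) (h10101 C) _
    (by decide +kernel)

theorem h17153 :
    C.S (v3 C) [1, 2, 0, 2, 1, 2, 2, 0, 2, 1, 3, 0, 3, 1, 2, 0, 2, 2, 1, 2, 0, 2, 2, 1, 2, 0, 3, 1, 3, 0, 3, 1, 2, 2, 0, 4, 2, 0, 2, 4] :=
  C.stMul (h17082 C) (h10101 C) _
    (by decide +kernel)

theorem h17193 :
    C.S (v3 C) [1, 2, 2, 0, 3, 3, 1, 2, 2, 2, 0, 2, 2, 1, 2, 0, 3, 1, 3, 0, 4, 2, 0, 2, 4] :=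
  C.stMul (h17098 C) (h13041 C) _
    (by decide +kernel)

theorem h17247 :
    C.S (v3 C) [2, 1, 3, 3, 0, 3, 1, 2, 2, 2, 0, 2, 1, 2, 0, 3, 1, 2, 0, 2, 2, 1, 3, 0, 2, 1, 2, 2, 0, 2, 1, 3, 0, 3, 3, 1, 3, 0, 0, 0, 4] :=
  C.stMul (h17121 C) (h16411 C) _
    (by decide +kernel)

theorem h17277 :
    C.S (v3 C) [1, 2, 0, 2, 1, 2, 0, 2, 2, 1, 3, 3, 0, 2, 1, 2, 0, 2, 1, 2, 0, 2, 2, 2, 1, 2, 0, 2, 2, 1, 2, 0, 4, 2, 0, 2, 4] :=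
  C.stMul (h17138 C) (h16411 C) _
    (by decide +kernel)

theorem h17299 :
    C.S (v3 C) [3, 1, 2, 0, 2, 1, 3, 0, 3, 1, 2, 0, 2, 2, 1, 2, 0, 2, 1, 3, 0, 3, 1, 2, 2, 0, 3, 1, 3, 0, 3, 3, 1, 3, 0] :=
  C.stMul (h17153 C) (h16411 C) _
    (by decide +kernel)

theorem h17377 :
    C.S (v3 C) [1, 2, 2, 0, 3, 3, 1, 2, 2, 2, 0, 2, 1, 2, 0, 2, 1, 2, 0, 2, 4, 2, 1, 2] :=
  C.stMul (h17247 C) (h16411 C) _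
    (by decide +kernel)

theorem h17413 :
    C.S (v3 C) [1, 2, 2, 0, 3, 3, 1, 2, 2, 2, 0, 2, 2, 1, 2, 0, 2, 1, 2, 2, 0, 2, 2, 1, 2, 0, 4, 2, 0, 2, 4] :=
  C.stMul (h17277 C) (h10101 C) _
    (by decide +kernel)

theorem h17414 :
    C.S (v3 C) [2, 1, 3, 3, 0, 3, 1, 2, 2, 2, 0, 2, 1, 2, 0, 3, 1, 2, 0, 2, 2, 1, 3, 0, 2, 2, 1, 3, 0, 3, 1, 2, 0, 3, 3, 1, 3, 0] :=
  C.stInv (h17299 C) _ (by decide +kernel)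

theorem h17415 :
    C.S (v3 C) [1, 2, 0, 2, 1, 2, 0, 2, 1, 2, 2, 0, 3, 3, 1, 2, 2, 2, 0, 2, 2, 1, 2, 0, 3, 1, 2, 2, 0, 2, 2, 2, 1, 3, 3, 0, 2, 2, 1, 2, 0, 4, 2, 0, 2, 4] :=
  C.stMul (h17413 C) (h17414 C) _
    (by decide +kernel)

theorem h17416 :
    C.S (v3 C) [1, 2, 0, 2, 1, 2, 2, 0, 2, 1, 3, 0, 3, 1, 2, 0, 2, 2, 1, 2, 0, 2, 2, 1, 2, 0, 3, 3, 1, 2, 0, 2, 1, 2, 0, 4, 2, 0, 2, 4] :=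
  C.stMul (h17193 C) (h11335 C) _
    (by decide +kernel)

theorem h17417 :
    C.S (v3 C) [1, 2, 0, 2, 1, 2, 0, 2, 2, 1, 3, 3, 0, 3, 1, 2, 2, 2, 0, 2, 1, 2, 0, 3, 1, 2, 0, 2, 2, 1, 3, 0, 2, 2, 1, 3, 0, 3, 1, 2, 0, 3, 3, 1, 3, 0] :=
  C.stInv (h17148 C) _ (by decide +kernel)

theorem h17418 :
    C.S (v3 C) [1, 2, 2, 0, 3, 3, 1, 2, 2, 2, 0, 2, 2, 1, 2, 0, 3, 1, 2, 2, 0, 2, 2, 2, 1, 3, 3, 0, 2, 2, 1, 2, 0, 4, 2, 0, 2, 4] :=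
  C.stMul (h17416 C) (h17417 C) _
    (by decide +kernel)

theorem h17419 :
    C.S (v3 C) [2, 1, 3, 3, 0, 3, 1, 2, 2, 2, 0, 2, 1, 2, 0, 3, 1, 2, 2, 0, 3, 1, 2, 2, 0, 3, 1, 3, 3, 0, 3, 1, 3, 0, 2, 1, 2, 0, 3, 3, 1, 2, 0] :=
  C.stMul (h16412 C) (h10101 C) _
    (by decide +kernel)

theorem h17420 :
    C.S (v3 C) [0, 0, 4] :=
  C.stMul (h16412 C) (h14756 C) _
    (by decide +kernel)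

theorem h17421 :
    C.S (v3 C) [3, 1, 3, 0, 2, 2, 1, 3, 0, 3, 1, 2, 2, 0, 4, 2, 0, 2, 4] :=
  C.stMul (h16412 C) (h16411 C) _
    (by decide +kernel)

theorem h17422 :
    C.S (v3 C) [3, 1, 2, 0, 2, 1, 3, 0, 3, 1, 2, 0, 2, 2, 1, 2, 0, 3, 1, 2, 2, 0, 3, 1, 3, 3, 0, 3, 1, 3, 0, 2, 1, 2, 2, 0, 2, 1, 3, 0, 3, 1, 2, 0, 2] :=
  C.stMul (h17419 C) (h13041 C) _
    (by decide +kernel)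

theorem h17424 :
    C.S (v3 C) [1, 2, 0, 2, 1, 2, 2, 0, 2, 1, 3, 0, 3, 1, 2, 0, 2, 2, 1, 2, 0, 2, 1, 3, 0, 3, 1, 2, 2, 0, 3, 1, 3, 0, 3, 3, 1, 2, 0, 3, 3, 1, 2, 2, 0, 2, 1, 2, 0, 4, 2, 0, 2, 4] :=
  C.stMul (h17419 C) (h16411 C) _
    (by decide +kernel)

theorem h17428 :
    C.S (v3 C) [2, 1, 3, 3, 0, 3, 1, 2, 2, 2, 0, 2, 1, 2, 0, 3, 1, 2, 0, 2, 2, 1, 3, 3, 0, 3, 1, 2, 2, 2, 0, 2, 2, 2, 1, 2, 2, 0, 3] :=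
  C.stMul (h17421 C) (h16411 C) _
    (by decide +kernel)

theorem h17433 :
    C.S (v3 C) [1, 2, 0, 2, 1, 2, 0, 2, 2, 1, 3, 3, 0, 3, 1, 2, 2, 2, 0, 2, 1, 2, 0, 3, 1, 2, 0, 2, 2, 1, 3, 0, 2, 1, 2, 0, 3, 1, 3, 0, 2, 1, 2, 0, 4, 2, 0, 2, 4] :=
  C.stMul (h17424 C) (h10101 C) _
    (by decide +kernel)

theorem h17452 :
    C.S (v3 C) [3, 1, 3, 0, 2, 2, 1, 3, 0, 3, 1, 2, 2, 0, 4, 2, 0, 2, 4] :=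
  C.stMul (h16412 C) (h16411 C) _
    (by decide +kernel)

theorem h17479 :
    C.S (v3 C) [2, 1, 2, 2, 0, 2] :=
  C.stMul (h16412 C) (h13041 C) _
    (by decide +kernel)

theorem h17480 :
    C.S (v3 C) [0, 0, 4] :=
  C.stMul (h16412 C) (h14756 C) _
    (by decide +kernel)

theorem h17494 :
    C.S (v3 C) [2, 1, 2, 2, 0, 2, 0, 0, 4] :=
  C.stMul (h17479 C) (h14756 C) _
    (by decide +kernel)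

theorem h17496 :
    C.S (v3 C) [3, 1, 3, 0, 2, 2, 1, 3, 0, 3, 1, 2, 2, 0, 4, 2, 1, 2] :=
  C.stMul (h17480 C) (h16411 C) _
    (by decide +kernel)

theorem h17544 :
    C.S (v3 C) [1, 2, 0, 2, 1, 2, 2, 0, 2, 1, 3, 0, 3, 1, 2, 0, 2, 2, 1, 2, 0, 2, 1, 3, 0, 3, 1, 2, 2, 2, 2, 0, 2, 2, 1, 2, 0, 4, 2, 1, 2] :=
  C.stMul (h17494 C) (h16411 C) _
    (by decide +kernel)

theorem h17549 :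
    C.S (v3 C) [1, 2, 0, 2, 1, 2, 0, 2, 1, 2, 2, 0, 3, 3, 1, 2, 2, 2, 0, 2, 4, 2, 1, 2] :=
  C.stMul (h17496 C) (h11335 C) _
    (by decide +kernel)

theorem h17668 :
    C.S (v3 C) [2, 1, 3, 3, 0, 3, 1, 2, 2, 2, 0, 2, 1, 2, 0, 3, 1, 2, 0, 2, 2, 1, 3, 0, 2, 1, 2, 2, 0, 2, 1, 3, 0, 3, 3, 1, 3, 0, 0, 0, 4] :=
  C.stMul (h17544 C) (h16411 C) _
    (by decide +kernel)

theorem h17675 :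
    C.S (v3 C) [1, 2, 0, 2, 1, 3, 0, 3, 3, 1, 3, 0, 2, 1, 2, 0, 2, 1, 2, 0, 4, 2, 1, 2] :=
  C.stMul (h17549 C) (h10101 C) _
    (by decide +kernel)

theorem h17794 :
    C.S (v3 C) [2, 1, 3, 3, 0, 3, 1, 2, 2, 2, 0, 2, 1, 2, 0, 3, 1, 2, 0, 2, 2, 1, 3, 3, 0, 3, 1, 2, 2, 0, 3, 1, 3, 0, 2, 2, 1, 3, 0, 3, 0, 0, 4] :=
  C.stMul (h17668 C) (h13041 C) _
    (by decide +kernel)

theorem h17842 :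
    C.S (v3 C) [2, 1, 3, 3, 0, 3, 1, 2, 2, 2, 0, 2, 1, 2, 0, 3, 1, 2, 2, 0, 3, 1, 2, 2, 0, 3, 1, 3, 3, 0, 3, 1, 3, 0, 2, 1, 2, 0, 3, 3, 1, 2, 0] :=
  C.stMul (h16412 C) (h10101 C) _
    (by decide +kernel)

theorem h17846 :
    C.S (v3 C) [3, 1, 3, 0, 2, 2, 1, 3, 3, 0, 3, 1, 2, 2, 2, 0, 3, 1, 3, 0, 3, 1, 2, 0, 3] :=
  C.stMul (h17842 C) (h11335 C) _
    (by decide +kernel)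

theorem h17851 :
    C.S (v3 C) [3, 1, 3, 0, 2, 2, 1, 3, 3, 0, 3, 1, 2, 2, 2, 0, 3, 1, 3, 0, 3, 1, 2, 0, 3, 0, 0, 4] :=
  C.stMul (h17846 C) (h14756 C) _
    (by decide +kernel)

theorem h17853 :
    C.S (v3 C) [1, 2, 0, 2, 1, 2, 2, 0, 2, 1, 3, 0, 3, 1, 2, 0, 2, 2, 1, 2, 0, 2, 1, 3, 0, 3, 1, 2, 2, 0, 3, 1, 3, 0, 3, 3, 1, 2, 0, 3, 3, 1, 2, 2, 0, 2, 1, 2, 0, 4, 2, 0, 2, 4] :=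
  C.stMul (h17842 C) (h16411 C) _
    (by decide +kernel)

theorem h17854 :
    C.S (v3 C) [2, 1, 3, 3, 0, 3, 1, 2, 2, 2, 0, 2, 1, 2, 0, 3, 1, 2, 2, 2, 2, 0, 2, 2, 1, 3, 0] :=
  C.stInv (h17842 C) _ (by decide +kernel)

theorem h17855 :
    C.S (v3 C) [3, 1, 2, 0, 2, 1, 3, 0, 3, 1, 2, 0, 2, 2, 1, 2, 0, 3, 1, 2, 2, 0, 3, 1, 3, 3, 0, 3, 1, 3, 0, 2, 1, 2, 2, 0, 2, 1, 3, 0, 3, 1, 2, 0, 2, 2, 1, 2, 0, 4, 2, 0, 2, 4] :=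
  C.stMul (h17853 C) (h17854 C) _
    (by decide +kernel)

theorem h17860 :
    C.S (v3 C) [1, 2, 2, 0, 3, 3, 1, 2, 2, 2, 0, 2, 2, 1, 2, 0, 2, 1, 3, 0, 2, 2, 1, 3, 0, 2] :=
  C.stMul (h16412 C) (h11335 C) _
    (by decide +kernel)

theorem h17861 :
    C.S (v3 C) [2, 1, 2, 2, 0, 2] :=
  C.stMul (h16412 C) (h13041 C) _
    (by decide +kernel)

theorem h17866 :
    C.S (v3 C) [1, 2, 2, 0, 3, 3, 1, 2, 2, 2, 0, 2, 2, 1, 2, 0, 2, 1, 3, 0, 2, 2, 1, 3, 0, 2, 0, 0, 4] :=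
  C.stMul (h17860 C) (h14756 C) _
    (by decide +kernel)

theorem h17867 :
    C.S (v3 C) [2, 1, 2, 2, 0, 2, 0, 0, 4] :=
  C.stMul (h17861 C) (h14756 C) _
    (by decide +kernel)

theorem h17946 :
    C.S (v3 C) [1, 2, 0, 2, 1, 2, 0, 2, 1, 2, 2, 0, 3, 3, 1, 2, 2, 2, 0, 2, 2, 1, 2, 2, 2, 0, 3, 3, 1, 2, 0, 3, 3, 1, 3, 0, 2, 1, 2, 0, 4, 2, 1, 2] :=
  C.stInv (h17013 C) _ (by decide +kernel)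

end CfsgLib.HNIndex
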