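import Cfsg.Agent.Lib.HNIndex.Items1

/-!
# Derived equations (generated)
-/

set_option autoImplicit false
set_option linter.style.longLine false

namespace CfsgLib.HNIndex

variable {G X : Type} [Group G] [MulAction G X] (C : Ctx G X)

theorem h17947 :
    C.T (v3 C) [1, 4, 2] (v2 C) [1, 2, 0, 2, 2, 2, 1, 3, 3, 0, 3, 1, 2, 2, 0, 2, 1, 2, 2, 0, 3, 3, 1, 3, 3, 0, 2, 1, 3, 0, 3, 4, 2, 0, 2] :=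
  C.conv (h16355 C) (h17946 C) _ _
    (by decide +kernel) (by decide +kernel)

theorem h17954 :
    C.T (v3 C) [1, 2, 0, 2, 1, 2, 0, 2, 1, 2, 0, 3, 1, 3, 0, 2, 1, 2, 0, 3, 1, 3, 3, 0, 2, 2, 1, 3, 3, 0, 3, 1, 2, 2, 2, 0, 2, 2, 2, 1, 2, 2, 0, 2, 2, 0, 4, 2, 2, 0] (v2 C) [1, 2, 0, 2, 2, 2, 1, 3, 3, 0, 2, 2, 2, 1, 2, 2, 2, 0, 0, 4, 2, 2, 2, 1] :=
  C.conv (h16330 C) (h16529 C) _ _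
    (by decide +kernel) (by decide +kernel)

theorem h17955 :
    C.T (v3 C) [2, 1, 3, 3, 0, 3, 1, 2, 2, 2, 0, 2, 1, 2, 0, 3, 1, 2, 2, 0, 2, 2, 1, 2, 0, 2, 2, 2, 1, 2, 2, 0, 3, 1, 2, 2, 2, 0, 4, 2, 2, 0] (v2 C) [1, 2, 0, 2, 1, 2, 0, 2, 2, 1, 3, 3, 0, 3, 1, 2, 2, 2, 0, 2, 1, 2, 0, 3, 1, 2, 2, 0, 2, 1, 3, 0, 3, 1, 2, 0, 2, 1, 2, 0, 2, 1, 3, 0, 3, 3, 3, 1, 3, 0, 2, 1, 2, 0, 3, 4, 2, 0, 2] :=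
  C.conv (h17947 C) (h16976 C) _ _
    (by decide +kernel) (by decide +kernel)

theorem h17956 :
    C.T (v2 C) [1, 2, 0, 2, 1, 2, 0, 2, 2, 1, 3, 3, 0, 3, 1, 2, 2, 2, 0, 2, 1, 2, 0, 3, 1, 2, 2, 0, 2, 1, 3, 0, 3, 1, 2, 0, 2, 1, 2, 0, 2, 1, 3, 0, 3, 3, 3, 1, 3, 0, 2, 1, 2, 0, 3, 4, 2, 1, 2] (v3 C) [2, 1, 3, 3, 0, 3, 1, 2, 2, 2, 0, 2, 1, 2, 0, 3, 1, 2, 2, 0, 2, 2, 1, 2, 0, 2, 2, 2, 1, 2, 2, 0, 3, 1, 2, 2, 2, 0, 4, 2, 2, 1] :=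
  C.flip (h17955 C) _ _
    (by decide +kernel) (by decide +kernel)

theorem h17957 :
    C.T (v2 C) [1, 2, 0, 2, 2, 2, 1, 3, 3, 0, 2, 2, 2, 1, 2, 2, 2, 0, 0, 4, 2, 2, 2, 1] (v2 C) [1, 2, 0, 2, 1, 2, 0, 2, 1, 2, 0, 3, 1, 3, 0, 2, 1, 2, 0, 3, 1, 3, 0, 2, 1, 3, 0, 3, 1, 2, 2, 0, 3, 3, 1, 3, 3, 0, 2, 2, 1, 3, 0, 3, 3, 1, 3, 0, 0, 4, 2, 0, 2] :=
  C.closeT (A := [none]) (B := [some [1], some [0, 0], none, some [0, 0, 0]])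
    (C.pT (h17954 C)
    (C.pNil (v2 C) [1, 2, 0, 2, 2, 2, 1, 3, 3, 0, 2, 2, 2, 1, 2, 2, 2, 0, 0, 4, 2, 2, 2, 1]))
    (C.pH [1] [1, 2, 0, 2, 1, 2, 0, 2, 2, 1, 3, 3, 0, 3, 1, 2, 2, 2, 0, 2, 1, 2, 0, 3, 1, 2, 2, 0, 2, 1, 3, 0, 3, 1, 2, 0, 2, 1, 2, 0, 2, 1, 3, 0, 3, 3, 3, 1, 3, 0, 2, 1, 2, 0, 3, 4, 2, 0, 2] (by decide +kernel)
    (C.pH [0, 0] [1, 2, 0, 2, 1, 2, 0, 2, 2, 1, 3, 3, 0, 3, 1, 2, 2, 2, 0, 2, 1, 2, 0, 3, 1, 2, 2, 0, 2, 1, 3, 0, 3, 1, 2, 0, 2, 1, 2, 0, 2, 1, 3, 0, 3, 3, 3, 1, 3, 0, 2, 1, 2, 0, 3, 4, 2, 1, 2] (by decide +kernel)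
    (C.pT (h17956 C)
    (C.pH [0, 0, 0] [1, 2, 0, 2, 1, 2, 0, 2, 1, 2, 0, 3, 1, 3, 0, 2, 1, 2, 0, 3, 1, 3, 3, 0, 2, 2, 1, 3, 3, 0, 3, 1, 2, 2, 2, 0, 2, 2, 2, 1, 2, 2, 0, 2, 2, 0, 4, 2, 2, 0] (by decide +kernel)
    (C.pNil (v3 C) [1, 2, 0, 2, 1, 2, 0, 2, 1, 2, 0, 3, 1, 3, 0, 2, 1, 2, 0, 3, 1, 3, 3, 0, 2, 2, 1, 3, 3, 0, 3, 1, 2, 2, 2, 0, 2, 2, 2, 1, 2, 2, 0, 2, 2, 0, 4, 2, 2, 0]))))) C.relTwo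

theorem h17959 :
    C.S (v2 C) [1, 2, 2, 0, 3, 3, 1, 2, 2, 2, 0, 2, 1, 2, 2, 0, 3, 3, 3, 1, 2, 2, 0, 3, 1, 3, 3, 0, 3, 1, 3, 0, 2, 1, 2, 0, 2, 2, 2, 1, 2, 2, 0, 3, 1, 2, 0] :=
  C.stInv (h8687 C) _ (by decide +kernel)

theorem h17960 :
    C.T (v2 C) [0, 4, 2, 1, 2] (v2 C) [3, 1, 3, 0, 2, 2, 1, 3, 0, 2, 1, 2, 2, 0, 2, 2, 2, 2, 1, 2, 0, 2, 0, 4, 2, 0, 2] :=
  C.conv (h17957 C) (h17959 C) _ _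
    (by decide +kernel) (by decide +kernel)

theorem h17986 :
    C.T (v3 C) [1, 2, 0, 2, 1, 2, 2, 0, 3, 3, 3, 1, 4, 3, 3, 4] (v3 C) [1, 2, 0, 2, 1, 2, 0, 2, 2, 1, 3, 3, 0, 3, 1, 2, 2, 2, 0, 2, 1, 2, 0, 2, 1, 3, 0, 2, 4, 2, 0, 4, 2, 2, 0, 3, 3] :=
  C.conv (h16390 C) (h16727 C) _ _
    (by decide +kernel) (by decide +kernel)

theorem h17987 :
    C.T (v3 C) [3, 1, 2, 0, 2, 1, 3, 0, 3, 1, 2, 0, 2, 2, 1, 2, 0, 2, 2, 2, 1, 3, 0, 3, 1, 2, 2, 0, 2, 1, 3, 0, 2, 1, 2, 2, 2, 0, 2, 0, 4, 3, 3, 0, 3, 0, 2, 1] (v2 C) [1, 2, 0, 2, 1, 2, 0, 2, 2, 1, 3, 3, 0, 3, 1, 2, 2, 2, 0, 2, 1, 2, 2, 2, 0, 0, 4, 2, 2, 2, 1] :=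
  C.conv (h16330 C) (h16463 C) _ _
    (by decide +kernel) (by decide +kernel)

theorem h17988 :
    C.T (v3 C) [3, 1, 3, 3, 0, 3, 1, 3, 3, 0, 4, 2, 2, 0, 2, 2] (v2 C) [1, 2, 0, 2, 1, 2, 0, 2, 1, 2, 2, 0, 3, 3, 1, 2, 2, 2, 0, 2, 1, 2, 2, 0, 3, 3, 3, 1, 2, 2, 0, 3, 1, 3, 3, 0, 3, 1, 3, 0, 2, 2, 1, 2, 2, 0, 3, 3, 1, 2, 2, 0, 2, 2, 2, 4, 2, 0, 2] :=
  C.conv (h17947 C) (h16928 C) _ _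
    (by decide +kernel) (by decide +kernel)

theorem h17989 :
    C.T (v2 C) [1, 2, 0, 2, 1, 2, 0, 2, 1, 2, 2, 0, 3, 3, 1, 2, 2, 2, 0, 2, 1, 2, 2, 0, 3, 3, 3, 1, 2, 2, 0, 3, 1, 3, 3, 0, 3, 1, 3, 0, 2, 2, 1, 2, 2, 0, 3, 3, 1, 2, 2, 0, 2, 2, 2, 4, 2, 1, 2] (v3 C) [3, 1, 3, 3, 0, 3, 1, 3, 3, 0, 4, 2, 2, 1, 2, 2] :=
  C.flip (h17988 C) _ _
    (by decide +kernel) (by decide +kernel)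

theorem h17990 :
    C.E (v2 C) [1, 2, 0, 2, 1, 2, 0, 2, 2, 1, 3, 3, 0, 3, 1, 2, 2, 2, 0, 2, 1, 2, 0, 3, 1, 2, 2, 0, 2, 2, 1, 3, 3, 0, 2, 1, 2, 0, 2, 1, 2, 2, 0, 2, 1, 3, 0, 3, 3, 1, 3, 0, 2, 2, 2, 1, 3, 0, 2, 0, 4, 2, 4, 2, 0, 3] (v2 C) [1, 2, 0, 2, 1, 2, 0, 2, 1, 2, 2, 0, 3, 3, 1, 2, 2, 2, 0, 2, 1, 2, 2, 0, 3, 3, 3, 1, 2, 2, 0, 3, 1, 3, 3, 0, 3, 1, 3, 0, 2, 2, 1, 2, 2, 0, 3, 3, 1, 2, 2, 0, 2, 2, 2, 4, 2, 1, 2] :=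
  C.closeE (A := [none, some [4], none, some [4]]) (B := [none, some [4]])
    (C.pT (h17986 C)
    (C.pH [4] [3, 1, 2, 0, 2, 1, 3, 0, 3, 1, 2, 0, 2, 2, 1, 2, 0, 2, 2, 2, 1, 3, 0, 3, 1, 2, 2, 0, 2, 1, 3, 0, 2, 1, 2, 2, 2, 0, 2, 0, 4, 3, 3, 0, 3, 0, 2, 1] (by decide +kernel)
    (C.pT (h17987 C)
    (C.pH [4] [1, 2, 0, 2, 1, 2, 0, 2, 2, 1, 3, 3, 0, 3, 1, 2, 2, 2, 0, 2, 1, 2, 0, 3, 1, 2, 2, 0, 2, 2, 1, 3, 3, 0, 2, 1, 2, 0, 2, 1, 2, 2, 0, 2, 1, 3, 0, 3, 3, 1, 3, 0, 2, 2, 2, 1, 3, 0, 2, 0, 4, 2, 4, 2, 0, 3] (by decide +kernel)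
    (C.pNil (v2 C) [1, 2, 0, 2, 1, 2, 0, 2, 2, 1, 3, 3, 0, 3, 1, 2, 2, 2, 0, 2, 1, 2, 0, 3, 1, 2, 2, 0, 2, 2, 1, 3, 3, 0, 2, 1, 2, 0, 2, 1, 2, 2, 0, 2, 1, 3, 0, 3, 3, 1, 3, 0, 2, 2, 2, 1, 3, 0, 2, 0, 4, 2, 4, 2, 0, 3])))))
    (C.pT (h17989 C)
    (C.pH [4] [1, 2, 0, 2, 1, 2, 2, 0, 3, 3, 3, 1, 4, 3, 3, 4] (by decide +kernel)
    (C.pNil (v3 C) [1, 2, 0, 2, 1, 2, 2, 0, 3, 3, 3, 1, 4, 3, 3, 4]))) C.relOne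

theorem h17991 :
    C.S (v2 C) [1, 3, 0, 3, 1, 2, 2, 0, 2, 1, 3, 0, 3, 1, 2, 0, 3, 3, 1, 2, 2, 0, 0, 4, 3, 4, 3, 4, 2] :=
  C.stEq (h17990 C) _ (by decide +kernel)

theorem h17992 :
    C.S (v2 C) [] :=
  C.stOne _

theorem h18070 :
    C.S (v2 C) [1, 3, 0, 3, 1, 2, 2, 0, 2, 1, 3, 0, 3, 1, 2, 0, 3, 3, 1, 2, 2, 0, 0, 4, 3, 4, 3, 4, 2] :=
  C.stMul (h17992 C) (h17991 C) _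
    (by decide +kernel)

theorem h18079 :
    C.S (v2 C) [1, 2, 0, 2, 1, 2, 0, 2, 1, 2, 2, 0, 3, 3, 1, 2, 2, 2, 0, 2, 2, 1, 2, 0, 3, 1, 2, 2, 0, 2, 2, 2, 1, 3, 3, 0, 2, 2, 2, 2, 1, 2, 0, 2, 0, 4, 3, 4, 3, 4, 2] :=
  C.stMul (h18070 C) (h5582 C) _
    (by decide +kernel)

theorem h18101 :
    C.S (v2 C) [1, 2, 0, 2, 2, 2, 1, 3, 0, 3, 1, 2, 0, 3, 1, 2, 2, 2, 0, 2, 0, 4, 3, 4, 3, 4, 2] :=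
  C.stMul (h18079 C) (h5582 C) _
    (by decide +kernel)

theorem h18145 :
    C.S (v2 C) [1, 3, 0, 3, 1, 2, 2, 0, 2, 1, 3, 0, 3, 1, 2, 0, 3, 3, 1, 2, 2, 0, 0, 4, 3, 4, 3, 4, 2] :=
  C.stMul (h17992 C) (h17991 C) _
    (by decide +kernel)

theorem h18253 :
    C.S (v2 C) [3, 1, 2, 0, 2, 1, 3, 0, 3, 1, 2, 0, 2, 2, 1, 2, 0, 3, 1, 2, 2, 0, 3, 1, 3, 3, 0, 3, 1, 3, 0, 2, 2, 1, 3, 0, 3, 1, 2, 0, 3, 3, 1, 2, 0, 2] :=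
  C.stMul (h17992 C) (h5582 C) _
    (by decide +kernel)

theorem h18256 :
    C.S (v2 C) [2, 1, 3, 3, 0, 3, 1, 2, 2, 2, 0, 2, 1, 2, 0, 3, 1, 2, 0, 2, 2, 1, 3, 3, 0, 3, 1, 2, 2, 2, 0, 3, 1, 3, 0, 2, 2, 2, 1, 2, 0, 2, 2, 1, 2, 0, 2] :=
  C.stMul (h18253 C) (h5582 C) _
    (by decide +kernel)

theorem h18308 :
    C.S (v2 C) [3, 1, 2, 0, 2, 1, 3, 0, 3, 1, 2, 0, 2, 2, 1, 2, 0, 3, 1, 2, 2, 0, 3, 1, 3, 3, 0, 3, 1, 3, 0, 2, 2, 1, 3, 0, 3, 1, 2, 0, 3, 3, 1, 2, 0, 2] :=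
  C.stMul (h17992 C) (h5582 C) _
    (by decide +kernel)

theorem h18363 :
    C.S (v2 C) [3, 1, 2, 0, 2, 1, 3, 0, 3, 1, 2, 0, 2, 2, 1, 2, 0, 3, 1, 2, 2, 0, 3, 1, 3, 3, 0, 3, 1, 3, 0, 2, 2, 1, 3, 0, 3, 1, 2, 0, 3, 3, 1, 2, 0, 2] :=
  C.stMul (h17992 C) (h5582 C) _
    (by decide +kernel)

theorem h18370 :
    C.S (v2 C) [1, 2, 2, 0, 3, 3, 1, 2, 2, 2, 0, 2, 1, 2, 2, 0, 3, 3, 1, 3, 0, 2, 2, 1, 3, 3, 0, 3, 1, 2, 2, 0, 2, 1, 2, 0, 3, 1, 3, 0, 2, 0, 4, 3, 4, 3, 4, 2] :=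
  C.stMul (h18363 C) (h17991 C) _
    (by decide +kernel)

theorem h18391 :
    C.S (v2 C) [1, 2, 0, 3, 1, 3, 0, 2, 1, 2, 0, 3, 1, 3, 0, 3, 1, 3, 3, 0, 3, 3, 1, 2, 0, 2, 1, 2, 0, 3] :=
  C.stMul (h18370 C) (h17991 C) _
    (by decide +kernel)

theorem h18418 :
    C.S (v2 C) [3, 1, 2, 0, 2, 1, 3, 0, 3, 1, 2, 0, 2, 2, 1, 2, 0, 3, 1, 2, 2, 0, 3, 1, 3, 3, 0, 3, 1, 3, 0, 2, 2, 1, 3, 0, 3, 1, 2, 0, 3, 3, 1, 2, 0, 2] :=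
  C.stMul (h17992 C) (h5582 C) _
    (by decide +kernel)

theorem h18422 :
    C.S (v2 C) [2, 1, 3, 3, 0, 3, 1, 2, 2, 2, 0, 2, 1, 2, 0, 3, 1, 2, 0, 2, 2, 1, 3, 3, 0, 3, 1, 2, 2, 2, 0, 3, 1, 3, 0, 2, 2, 2, 1, 2, 0, 2, 2, 1, 2, 0, 2] :=
  C.stMul (h18418 C) (h5582 C) _
    (by decide +kernel)

theorem h18435 :
    C.S (v2 C) [1, 2, 0, 2, 1, 2, 2, 0, 2, 1, 3, 0, 3, 1, 2, 0, 2, 2, 1, 2, 0, 3, 1, 2, 2, 0, 3, 1, 3, 3, 0, 3, 1, 3, 0, 3, 3, 1, 3, 3, 0, 3, 3, 1, 2, 2, 0, 2, 2, 2, 2, 2, 1, 3, 0, 3, 0, 4, 3, 4, 3, 4, 2] :=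
  C.stMul (h18422 C) (h17991 C) _
    (by decide +kernel)

theorem h18454 :
    C.S (v2 C) [3, 1, 2, 0, 2, 1, 3, 0, 3, 1, 2, 0, 2, 2, 2, 2, 1, 3, 0, 2, 1, 2, 0, 2, 2, 1, 2, 2, 0, 2, 0, 4, 3, 4, 3, 4, 2] :=
  C.stMul (h18435 C) (h6928 C) _
    (by decide +kernel)

theorem h18465 :
    C.S (v2 C) [1, 2, 0, 2, 1, 2, 0, 2, 2, 1, 3, 3, 0, 3, 1, 2, 2, 2, 0, 2, 1, 2, 0, 3, 1, 2, 2, 0, 2, 2, 1, 3, 3, 3, 0, 2, 1, 2, 0, 3, 1, 3, 0, 2, 0, 4, 3, 4, 3, 4, 2] :=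
  C.stMul (h18454 C) (h5582 C) _
    (by decide +kernel)

theorem h18473 :
    C.S (v2 C) [3, 1, 2, 0, 2, 1, 3, 0, 3, 1, 2, 0, 2, 2, 1, 2, 0, 3, 1, 2, 2, 0, 3, 1, 3, 3, 0, 3, 1, 3, 0, 2, 2, 1, 3, 0, 3, 1, 2, 0, 3, 3, 1, 2, 0, 2] :=
  C.stMul (h17992 C) (h5582 C) _
    (by decide +kernel)

theorem h18474 :
    C.S (v2 C) [1, 2, 0, 2, 1, 2, 0, 3, 1, 2, 2, 0, 3, 1, 3, 3, 0, 3, 1, 3, 0, 3, 1, 3, 3, 0, 3, 3, 1, 2, 0, 2, 2, 1, 2, 0] :=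
  C.stMul (h17992 C) (h6928 C) _
    (by decide +kernel)

theorem h18482 :
    C.S (v2 C) [3, 1, 2, 0, 2, 1, 3, 0, 3, 1, 2, 0, 2, 2, 1, 2, 2, 2, 0, 2, 2, 2, 1, 2, 0, 2, 1, 3, 3, 0, 3] :=
  C.stMul (h18474 C) (h6928 C) _
    (by decide +kernel)

theorem h18484 :
    C.S (v2 C) [2, 1, 3, 0, 2, 2, 2, 1, 2, 0, 3, 0, 4, 3, 4, 3, 4, 2] :=
  C.stMul (h18474 C) (h17991 C) _
    (by decide +kernel)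

theorem h18512 :
    C.S (v2 C) [1, 2, 0, 2, 1, 2, 0, 2, 2, 1, 3, 3, 0, 3, 1, 2, 2, 2, 0, 2, 1, 2, 0, 3, 1, 2, 0, 2, 2, 1, 3, 3, 0, 3, 1, 2, 2, 0, 3, 3, 1, 3, 3, 0, 3, 3, 1, 3, 0, 2, 1, 2, 0, 2, 2, 2, 1, 2, 0, 2, 2] :=
  C.stMul (h18482 C) (h6928 C) _
    (by decide +kernel)

theorem h18520 :
    C.S (v2 C) [1, 2, 0, 2, 1, 2, 2, 0, 2, 1, 3, 0, 3, 1, 2, 0, 2, 2, 1, 2, 0, 3, 1, 2, 2, 0, 3, 1, 3, 3, 0, 3, 1, 3, 0, 2, 1, 3, 0, 2, 2, 1, 3, 0, 3, 1, 3, 0, 2, 1, 2, 0] :=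
  C.stMul (h18484 C) (h17991 C) _
    (by decide +kernel)

theorem h18598 :
    C.S (v2 C) [1, 2, 0, 3, 1, 3, 0, 2, 1, 2, 0, 3, 1, 3, 0, 2] :=
  C.stMul (h18512 C) (h5582 C) _
    (by decide +kernel)

theorem h18616 :
    C.S (v2 C) [1, 2, 0, 2, 1, 2, 0, 2, 1, 2, 2, 0, 3, 3, 1, 2, 2, 2, 0, 2, 1, 2, 2, 0, 3, 3, 3, 1, 2, 2, 0, 3, 1, 3, 3, 0, 3, 1, 3, 0, 2, 2, 1, 3, 3, 0, 2, 1, 2, 2, 0, 3, 3, 1, 2, 0, 2, 2, 0, 4, 3, 4, 3, 4, 2] :=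
  C.stMul (h18520 C) (h17991 C) _
    (by decide +kernel)

theorem h18725 :
    C.S (v2 C) [3, 1, 2, 0, 2, 1, 3, 0, 3, 1, 2, 0, 2, 2, 1, 2, 0, 3, 1, 2, 2, 0, 3, 1, 3, 3, 0, 3, 1, 3, 0, 2, 2, 1, 3, 0, 3, 1, 2, 0, 3, 3, 1, 2, 0, 2] :=
  C.stMul (h17992 C) (h5582 C) _
    (by decide +kernel)

theorem h18726 :
    C.S (v2 C) [1, 2, 0, 2, 1, 2, 0, 3, 1, 2, 2, 0, 3, 1, 3, 3, 0, 3, 1, 3, 0, 3, 1, 3, 3, 0, 3, 3, 1, 2, 0, 2, 2, 1, 2, 0] :=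
  C.stMul (h17992 C) (h6928 C) _
    (by decide +kernel)

theorem h18727 :
    C.S (v2 C) [1, 2, 0, 2, 1, 2, 2, 0, 2, 1, 3, 0, 3, 1, 2, 0, 2, 2, 2, 2, 1, 3, 3, 0, 3, 1, 2, 2, 0, 3, 3, 1, 3, 3, 0, 3, 3, 1, 3, 0, 2, 1, 2, 2, 2, 0, 2] :=
  C.stMul (h17992 C) (h8466 C) _
    (by decide +kernel)

theorem h18728 :
    C.S (v2 C) [1, 3, 0, 3, 1, 2, 2, 0, 2, 1, 3, 0, 3, 1, 2, 0, 3, 3, 1, 2, 2, 0, 0, 4, 3, 4, 3, 4, 2] :=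
  C.stMul (h17992 C) (h17991 C) _
    (by decide +kernel)

theorem h18729 :
    C.S (v2 C) [2, 1, 3, 3, 0, 3, 1, 2, 2, 2, 0, 2, 1, 2, 0, 3, 1, 2, 0, 2, 2, 1, 3, 3, 0, 3, 1, 2, 2, 2, 0, 3, 1, 3, 0, 2, 2, 2, 1, 2, 0, 2, 2, 1, 2, 0, 2] :=
  C.stMul (h18725 C) (h5582 C) _
    (by decide +kernel)

theorem h18731 :
    C.S (v2 C) [2, 1, 3, 3, 0, 3, 1, 2, 2, 2, 0, 2, 1, 2, 0, 3, 1, 2, 2, 0, 2, 2, 2, 2, 1, 2, 2, 2, 0, 3, 3, 3, 3, 3, 1, 3, 0, 2, 1, 2, 0, 3, 3] :=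
  C.stMul (h18725 C) (h8466 C) _
    (by decide +kernel)

theorem h18732 :
    C.S (v2 C) [1, 2, 2, 0, 3, 3, 1, 2, 2, 2, 0, 2, 1, 2, 2, 0, 3, 3, 1, 3, 0, 2, 2, 1, 3, 3, 0, 3, 1, 2, 2, 0, 2, 1, 2, 0, 3, 1, 3, 0, 2, 0, 4, 3, 4, 3, 4, 2] :=
  C.stMul (h18725 C) (h17991 C) _
    (by decide +kernel)

theorem h18736 :
    C.S (v2 C) [2, 1, 3, 0, 2, 2, 2, 1, 2, 0, 3, 0, 4, 3, 4, 3, 4, 2] :=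
  C.stMul (h18726 C) (h17991 C) _
    (by decide +kernel)

theorem h18738 :
    C.S (v2 C) [1, 2, 0, 2, 1, 2, 0, 2, 2, 1, 3, 3, 0, 2, 1, 2, 0, 2, 1, 3, 3, 3, 0, 3, 1, 2, 2, 0] :=
  C.stMul (h18727 C) (h6928 C) _
    (by decide +kernel)

theorem h18743 :
    C.S (v2 C) [1, 2, 2, 0, 3, 3, 1, 2, 2, 2, 0, 2, 2, 1, 2, 0, 2, 2, 1, 3, 0, 3, 1, 2, 2, 0, 2, 2, 2, 0, 4, 3, 4, 3, 4, 2] :=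
  C.stMul (h18728 C) (h8466 C) _
    (by decide +kernel)

theorem h18744 :
    C.S (v2 C) [1, 2, 0, 2, 1, 2, 0, 2, 1, 2, 0, 3, 1, 3, 0, 2, 1, 2, 0, 3, 1, 3, 0, 2, 2, 1, 3, 0, 2, 2, 1, 3, 0, 2, 2, 2, 2, 1, 2, 0, 2, 2, 1, 2, 0] :=
  C.stMul (h18728 C) (h17991 C) _
    (by decide +kernel)

theorem h18746 :
    C.S (v2 C) [1, 2, 0, 2, 1, 2, 0, 2, 2, 1, 3, 3, 0, 2, 1, 2, 0, 2, 1, 2, 2, 0, 2, 1, 2, 2, 0, 2, 1, 2, 0] :=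
  C.stMul (h18729 C) (h6928 C) _
    (by decide +kernel)

theorem h18756 :
    C.S (v2 C) [2, 1, 3, 3, 0, 3, 1, 2, 2, 2, 0, 2, 1, 2, 0, 3, 1, 2, 2, 0, 2, 1, 3, 0, 3, 1, 2, 2, 0, 3, 3, 1, 3, 3, 0, 3, 3, 1, 2, 0, 2, 1, 2, 2, 0, 0, 4, 3, 4, 3, 4, 2] :=
  C.stMul (h18731 C) (h17991 C) _
    (by decide +kernel)

theorem h18757 :
    C.S (v2 C) [2, 1, 3, 3, 0, 3, 1, 2, 2, 2, 0, 2, 1, 2, 0, 3, 1, 2, 0, 2, 2, 1, 3, 0, 2, 2, 1, 3, 3, 0, 2, 2, 2, 2, 2, 1, 3, 0, 3, 3, 0, 4, 3, 4, 3, 4, 2] :=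
  C.stMul (h18732 C) (h5582 C) _
    (by decide +kernel)

theorem h18774 :
    C.S (v2 C) [1, 2, 0, 2, 1, 2, 2, 0, 2, 1, 3, 0, 3, 1, 2, 0, 2, 2, 1, 2, 0, 3, 1, 2, 2, 0, 3, 1, 3, 3, 0, 3, 1, 3, 0, 2, 1, 3, 0, 2, 2, 1, 3, 0, 3, 1, 3, 0, 2, 1, 2, 0] :=
  C.stMul (h18736 C) (h17991 C) _
    (by decide +kernel)

theorem h18777 :
    C.S (v2 C) [3, 1, 2, 0, 2, 1, 3, 0, 3, 1, 2, 0, 2, 2, 2, 2, 1, 3, 0, 2, 2, 1, 3, 0, 3, 1, 2, 0, 3, 3, 1, 3, 0, 2, 2, 2, 1, 2, 0, 3, 3] :=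
  C.stMul (h18738 C) (h5582 C) _
    (by decide +kernel)

theorem h18778 :
    C.S (v2 C) [1, 2, 0, 2, 1, 2, 0, 2, 1, 2, 2, 0, 3, 3, 1, 2, 2, 2, 0, 2, 1, 2, 2, 0, 3, 1, 3, 0, 3, 1, 2, 2, 2, 0, 3, 3, 1, 2, 0, 2, 2, 2] :=
  C.stMul (h18738 C) (h8466 C) _
    (by decide +kernel)

theorem h18793 :
    C.S (v2 C) [2, 1, 3, 3, 0, 2, 1, 2, 0, 2, 2, 1, 3, 3, 0, 2, 1, 2, 2, 0, 3, 3, 1, 2, 0, 3, 3, 1, 3, 0, 2, 0, 4, 3, 4, 3, 4, 2] :=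
  C.stMul (h18743 C) (h5582 C) _
    (by decide +kernel)

theorem h18798 :
    C.S (v2 C) [1, 2, 0, 2, 2, 2, 1, 3, 3, 0, 3, 1, 2, 2, 2, 2, 0, 2, 1, 3, 0, 3, 3, 1, 3, 0] :=
  C.stMul (h18744 C) (h8466 C) _
    (by decide +kernel)

theorem h18805 :
    C.S (v2 C) [1, 2, 0, 2, 1, 2, 0, 2, 1, 2, 2, 0, 3, 3, 1, 2, 2, 2, 0, 2, 1, 2, 2, 0, 3, 3, 1, 3, 0, 2, 2, 1, 3, 3, 0, 3, 1, 2, 2, 0, 3, 3, 1, 2, 2, 0, 2, 2, 2, 1, 3, 3, 0, 2, 2, 2, 2, 1, 3, 0, 2] :=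
  C.stMul (h18746 C) (h8466 C) _
    (by decide +kernel)

theorem h18831 :
    C.S (v2 C) [1, 2, 0, 2, 1, 2, 0, 2, 2, 1, 3, 3, 0, 3, 1, 2, 2, 2, 0, 2, 1, 2, 0, 3, 1, 2, 0, 2, 2, 1, 3, 0, 3, 1, 2, 0, 2, 1, 2, 0, 0, 4, 3, 4, 3, 4, 2] :=
  C.stMul (h18756 C) (h5582 C) _
    (by decide +kernel)

theorem h18832 :
    C.S (v2 C) [3, 1, 2, 0, 2, 1, 3, 0, 3, 1, 2, 0, 2, 2, 1, 2, 0, 2, 2, 1, 3, 3, 0, 2, 1, 2, 0, 2, 2, 1, 2, 2, 0, 2, 1, 3, 3, 0, 2, 1, 2, 0, 3, 3, 0, 4, 3, 4, 3, 4, 2] :=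
  C.stMul (h18757 C) (h8466 C) _
    (by decide +kernel)

theorem h18868 :
    C.S (v2 C) [2, 1, 3, 3, 0, 3, 1, 2, 2, 2, 0, 2, 1, 2, 0, 3, 1, 2, 2, 0, 2, 2, 1, 3, 3, 0, 2, 1, 2, 0, 2, 1, 2, 0, 2, 2, 2, 1, 2, 2, 0, 2, 2, 1, 3, 0, 3, 3] :=
  C.stMul (h18774 C) (h5582 C) _
    (by decide +kernel)

theorem h18881 :
    C.S (v2 C) [3, 1, 2, 0, 2, 1, 3, 0, 3, 1, 2, 0, 2, 2, 2, 2, 1, 3, 3, 0, 3, 1, 2, 0, 2, 2, 1, 3, 0, 2, 1, 2, 0, 0, 4, 3, 4, 3, 4, 2] :=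
  C.stMul (h18778 C) (h17991 C) _
    (by decide +kernel)

theorem h18911 :
    C.S (v2 C) [1, 2, 0, 2, 1, 2, 2, 0, 2, 1, 3, 0, 3, 1, 2, 0, 2, 2, 1, 2, 0, 3, 1, 2, 2, 0, 3, 1, 3, 3, 0, 3, 1, 3, 0, 2, 1, 2, 0, 3, 1, 3, 0, 2, 2, 2, 1, 2, 0] :=
  C.stMul (h18798 C) (h6928 C) _
    (by decide +kernel)

theorem h18922 :
    C.S (v2 C) [3, 1, 2, 0, 2, 1, 3, 0, 3, 1, 2, 0, 2, 2, 2, 2, 1, 3, 3, 0, 3, 1, 2, 2, 0, 2, 1, 3, 3, 0, 2, 2, 2, 2, 1, 2, 2, 0] :=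
  C.stMul (h18805 C) (h5582 C) _
    (by decide +kernel)

theorem h18948 :
    C.S (v2 C) [3, 1, 2, 0, 2, 1, 3, 0, 3, 1, 2, 0, 2, 2, 1, 2, 0, 2, 2, 1, 3, 3, 0, 2, 1, 2, 0, 2, 1, 2, 0, 3, 1, 3, 3, 0, 3, 1, 3, 0, 2, 2, 0, 4, 3, 4, 3, 4, 2] :=
  C.stMul (h18832 C) (h6928 C) _
    (by decide +kernel)

theorem h18966 :
    C.S (v2 C) [1, 2, 2, 0, 3, 3, 1, 2, 2, 2, 0, 2, 1, 2, 2, 0, 2, 2, 1, 2, 2, 2, 0, 3, 3, 3, 1, 3, 3, 0, 3] :=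
  C.stMul (h18881 C) (h17991 C) _
    (by decide +kernel)

theorem h18974 :
    C.S (v2 C) [1, 2, 0, 2, 1, 2, 0, 2, 1, 2, 0, 3, 1, 3, 0, 2, 1, 2, 0, 3, 1, 3, 0, 2, 1, 3, 0, 3, 1, 2, 2, 2, 0, 3, 1, 3, 3, 3, 0, 3] :=
  C.stMul (h18911 C) (h6928 C) _
    (by decide +kernel)

theorem h18975 :
    C.S (v2 C) [1, 3, 0, 3, 1, 2, 2, 2, 2, 0, 2, 1, 3, 0, 3, 3, 1, 3, 3, 3, 0] :=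
  C.stInv (h18966 C) _ (by decide +kernel)

theorem h18976 :
    C.S (v2 C) [3, 1, 3, 0, 2, 2, 1, 3, 0, 3, 1, 2, 2, 0, 2, 2, 2, 1, 3, 3, 0, 2] :=
  C.stMul (h18974 C) (h18975 C) _
    (by decide +kernel)

theorem h18977 :
    C.S (v2 C) [3, 1, 2, 0, 2, 1, 3, 0, 3, 1, 2, 0, 2, 2, 1, 2, 0, 3, 1, 2, 2, 0, 3, 1, 3, 3, 0, 3, 1, 3, 0, 2, 2, 1, 3, 0, 3, 1, 2, 0, 3, 3, 1, 2, 0, 2] :=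
  C.stMul (h17992 C) (h5582 C) _
    (by decide +kernel)

theorem h18981 :
    C.S (v2 C) [2, 1, 3, 3, 0, 3, 1, 2, 2, 2, 0, 2, 1, 2, 0, 3, 1, 2, 0, 2, 2, 1, 3, 3, 0, 3, 1, 2, 2, 2, 0, 3, 1, 3, 0, 2, 2, 2, 1, 2, 0, 2, 2, 1, 2, 0, 2] :=
  C.stMul (h18977 C) (h5582 C) _
    (by decide +kernel)

theorem h19230 :
    C.S (v2 C) [1, 2, 0, 2, 1, 2, 0, 3, 1, 2, 2, 0, 3, 1, 3, 3, 0, 3, 1, 3, 0, 3, 1, 3, 3, 0, 3, 3, 1, 2, 0, 2, 2, 1, 2, 0] :=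
  C.stMul (h17992 C) (h6928 C) _
    (by decide +kernel)

theorem h19240 :
    C.S (v2 C) [2, 1, 3, 0, 2, 2, 2, 1, 2, 0, 3, 0, 4, 3, 4, 3, 4, 2] :=
  C.stMul (h19230 C) (h17991 C) _
    (by decide +kernel)

theorem h19275 :
    C.S (v2 C) [1, 2, 0, 2, 1, 2, 2, 0, 2, 1, 3, 0, 3, 1, 2, 0, 2, 2, 1, 2, 0, 3, 1, 2, 2, 0, 3, 1, 3, 3, 0, 3, 1, 3, 0, 2, 1, 3, 0, 2, 2, 1, 3, 0, 3, 1, 3, 0, 2, 1, 2, 0] :=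
  C.stMul (h19240 C) (h17991 C) _
    (by decide +kernel)

theorem h19359 :
    C.S (v2 C) [1, 2, 0, 2, 1, 2, 0, 2, 1, 2, 0, 3, 1, 3, 0, 2, 1, 2, 0, 3, 1, 3, 3, 0, 2, 2, 1, 3, 3, 0, 3, 1, 2, 2, 0, 3, 3, 3, 1, 3, 3, 0, 3, 3, 1, 2, 2, 0, 2, 2, 1, 2, 2, 0] :=
  C.stMul (h19275 C) (h8466 C) _
    (by decide +kernel)

theorem h19541 :
    C.T (v2 C) [1] (v2 C) [3, 1, 2, 0, 2, 1, 3, 0, 3, 1, 2, 0, 2, 2, 1, 2, 0, 2, 1, 3, 0, 3, 3, 1, 3, 3, 3, 0, 3, 1, 2, 0, 0, 0] :=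
  C.conv (h10060 C) (h17992 C) _ _
    (by decide +kernel) (by decide +kernel)

theorem h19542 :
    C.T (v2 C) [3, 1, 2, 0, 2, 1, 3, 0, 3, 1, 2, 0, 2, 2, 1, 2, 0, 2, 1, 3, 0, 3, 3, 1, 3, 0, 0, 4, 3, 3, 0, 3, 0, 2, 0] (v2 C) [1, 2, 0, 2, 1, 2, 0, 2, 2, 1, 3, 3, 0, 3, 1, 2, 2, 2, 0, 2, 1, 2, 0, 3, 1, 2, 2, 0, 3, 1, 2, 2, 0, 3, 1, 3, 3, 0, 3, 1, 3, 0, 2, 2, 2, 1, 2, 2, 2, 2, 0, 2, 0, 4, 2, 0, 2] :=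
  C.conv (h17960 C) (h18391 C) _ _
    (by decide +kernel) (by decide +kernel)

theorem h19543 :
    C.T (v2 C) [1, 2, 0, 2, 1, 2, 0, 2, 2, 1, 3, 3, 0, 3, 1, 2, 2, 2, 0, 2, 1, 2, 0, 3, 1, 2, 2, 0, 2, 1, 3, 0, 3, 1, 2, 2, 0, 2, 2, 4, 2, 2, 2, 1, 4] (v2 C) [0, 4] :=
  C.closeT (A := [none, some [4], none, some [4]]) (B := [some [4]])
    (C.pT (h19541 C)
    (C.pH [4] [3, 1, 2, 0, 2, 1, 3, 0, 3, 1, 2, 0, 2, 2, 1, 2, 0, 2, 1, 3, 0, 3, 3, 1, 3, 0, 0, 4, 3, 3, 0, 3, 0, 2, 0] (by decide +kernel)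
    (C.pT (h19542 C)
    (C.pH [4] [1, 2, 0, 2, 1, 2, 0, 2, 2, 1, 3, 3, 0, 3, 1, 2, 2, 2, 0, 2, 1, 2, 0, 3, 1, 2, 2, 0, 2, 1, 3, 0, 3, 1, 2, 2, 0, 2, 2, 4, 2, 2, 2, 1, 4] (by decide +kernel)
    (C.pNil (v2 C) [1, 2, 0, 2, 1, 2, 0, 2, 2, 1, 3, 3, 0, 3, 1, 2, 2, 2, 0, 2, 1, 2, 0, 3, 1, 2, 2, 0, 2, 1, 3, 0, 3, 1, 2, 2, 0, 2, 2, 4, 2, 2, 2, 1, 4])))))
    (C.pH [4] [1] (by decide +kernel)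
    (C.pNil (v2 C) [1])) C.relOne

theorem h19545 :
    C.S (v2 C) [1, 2, 0, 3, 1, 3, 0, 2, 1, 2, 0, 3, 1, 3, 3, 0, 2, 2, 1, 3, 0, 2, 1, 3, 0, 2, 2, 1, 3, 0, 2, 2, 2, 1, 2, 0, 2, 0, 4, 3, 4, 3, 4, 2] :=
  C.stInv (h18101 C) _ (by decide +kernel)

theorem h19546 :
    C.T (v2 C) [1, 4] (v2 C) [1, 2, 0, 3, 1, 3, 0, 2, 1, 2, 0, 3, 1, 3, 0, 3, 1, 2, 2, 0, 3, 1, 3, 3, 0, 3, 1, 3, 0, 2, 1, 2, 0, 2, 2, 2, 1, 2, 0, 2, 2, 0, 4] :=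
  C.conv (h19543 C) (h19545 C) _ _
    (by decide +kernel) (by decide +kernel)

theorem h19555 :
    C.T (v1 C) [0, 4, 2, 2, 2, 1, 4] (v4 C) [] :=
  C.defn _ _

theorem h19556 :
    C.T (v4 C) [0, 0] (v1 C) [0, 4, 2, 2, 2, 0, 4] :=
  C.flip (h19555 C) _ _
    (by decide +kernel) (by decide +kernel)

theorem h19557 :
    C.S (v1 C) [3, 1, 3, 0, 2, 2, 1, 3, 3, 0, 3, 1, 2, 2, 0, 3, 3, 1, 2, 2, 0, 2, 2, 2, 1, 3, 3, 0, 3, 1, 3, 0, 2, 1, 2, 0, 3] :=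
  C.stInv (h4989 C) _ (by decide +kernel)

theorem h19558 :
    C.T (v1 C) [0, 4, 2, 2, 2, 1, 4] (v4 C) [2, 1, 3, 3, 0, 3, 1, 2, 2, 2, 0, 2, 1, 2, 0, 3, 1, 2, 0, 2, 2, 1, 3, 0, 2, 1, 3, 0, 2, 2, 1, 3, 0, 2, 2, 2, 2] :=
  C.conv (h19555 C) (h19557 C) _ _
    (by decide +kernel) (by decide +kernel)

theorem h19559 :
    C.E (v4 C) [2, 1, 3, 3, 0, 3, 1, 2, 2, 2, 0, 2, 1, 2, 0, 3, 1, 2, 0, 2, 2, 1, 3, 0, 2, 1, 3, 0, 2, 2, 1, 3, 0, 2, 2, 2, 2] (v4 C) [] :=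
  C.sameSrc (h19558 C) (h19555 C)

theorem h19560 :
    C.S (v1 C) [1, 2, 0, 2, 1, 2, 0, 2, 2, 1, 3, 3, 0, 3, 1, 2, 2, 2, 0, 2, 1, 2, 0, 3, 1, 2, 0, 2, 2, 1, 3, 0, 2, 2, 1, 3, 0, 3, 1, 2, 2, 0] :=
  C.stInv (h4992 C) _ (by decide +kernel)

theorem h19561 :
    C.T (v1 C) [0, 4, 2, 2, 2, 1, 4] (v4 C) [1, 2, 2, 0, 3, 3, 1, 2, 2, 2, 0, 2, 1, 2, 2, 0, 3, 3, 1, 2, 2, 2, 0, 2] :=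
  C.conv (h19555 C) (h19560 C) _ _
    (by decide +kernel) (by decide +kernel)

theorem h19562 :
    C.E (v4 C) [1, 2, 2, 0, 3, 3, 1, 2, 2, 2, 0, 2, 1, 2, 2, 0, 3, 3, 1, 2, 2, 2, 0, 2] (v4 C) [] :=
  C.sameSrc (h19561 C) (h19555 C)

theorem h19563 :
    C.S (v1 C) [1, 2, 0, 2, 2, 2, 1, 3, 0, 2, 1, 3, 0, 2] :=
  C.stInv (h4995 C) _ (by decide +kernel)

theorem h19564 :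
    C.T (v1 C) [0, 4, 2, 2, 2, 1, 4] (v4 C) [1, 2, 2, 0, 3, 3, 1, 2, 2, 0] :=
  C.conv (h19555 C) (h19563 C) _ _
    (by decide +kernel) (by decide +kernel)

theorem h19565 :
    C.E (v4 C) [1, 2, 2, 0, 3, 3, 1, 2, 2, 0] (v4 C) [] :=
  C.sameSrc (h19564 C) (h19555 C)

theorem h19566 :
    C.S (v4 C) [1, 2, 0, 2, 1, 2, 0, 2, 2, 1, 3, 3, 0, 2, 1, 2, 0, 2, 1, 2, 0, 3, 1, 3, 3, 0, 3, 1, 3, 0, 3, 3, 3, 1, 3, 0, 2, 1, 2, 0, 3] :=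
  C.stEq (h19559 C) _ (by decide +kernel)

theorem h20600 :
    C.S (v4 C) [1, 2, 2, 0, 3, 3, 1, 2, 2, 2, 0, 2, 1, 2, 2, 0, 3, 3, 1, 2, 2, 2, 0, 2] :=
  C.stEq (h19562 C) _ (by decide +kernel)

theorem h22194 :
    C.S (v4 C) [3, 1, 3, 0, 2, 2, 1, 3, 0, 3, 1, 2, 0, 3] :=
  C.stEq (h19565 C) _ (by decide +kernel)

theorem h22195 :
    C.S (v4 C) [] :=
  C.stOne _

theorem h23909 :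
    C.T (v1 C) [0, 4, 2, 1, 2, 4] (v3 C) [] :=
  C.conv (h10090 C) (h4011 C) _ _
    (by decide +kernel) (by decide +kernel)

theorem h23910 :
    C.T (v1 C) [4, 2, 1, 2, 4] (v4 C) [1, 2, 2, 0, 3, 3, 1, 2, 2, 2, 0, 2, 1, 2, 0, 2, 1, 2, 0, 2, 1, 3, 0, 3, 1, 2, 2, 2, 0] :=
  C.conv (h19555 C) (h4928 C) _ _
    (by decide +kernel) (by decide +kernel)

theorem h23911 :
    C.T (v4 C) [1, 2, 2, 0, 3, 3, 1, 2, 2, 2, 0, 2, 1, 2, 0, 2, 1, 2, 0, 2, 1, 3, 0, 3, 1, 2, 2, 2, 0, 0, 0] (v1 C) [4, 2, 0, 2, 4] :=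
  C.flip (h23910 C) _ _
    (by decide +kernel) (by decide +kernel)

theorem h23912 :
    C.T (v3 C) [] (v4 C) [1, 2, 0, 2, 1, 2, 0, 2, 2, 1, 3, 3, 0, 3, 1, 2, 2, 2, 0, 2, 1, 2, 0, 3, 1, 2, 0, 2, 2, 1, 3, 3, 0, 3, 1, 2, 0, 2, 1, 2, 0, 2, 1, 3, 0, 2, 2, 0] :=
  C.closeT (A := [none]) (B := [some [1], some [0, 0], none, some [0, 0, 0]])
    (C.pT (h23909 C)
    (C.pNil (v3 C) []))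
    (C.pH [1] [1, 2, 2, 0, 3, 3, 1, 2, 2, 2, 0, 2, 1, 2, 0, 2, 1, 2, 0, 2, 1, 3, 0, 3, 1, 2, 2, 2, 0] (by decide +kernel)
    (C.pH [0, 0] [1, 2, 2, 0, 3, 3, 1, 2, 2, 2, 0, 2, 1, 2, 0, 2, 1, 2, 0, 2, 1, 3, 0, 3, 1, 2, 2, 2, 0, 0, 0] (by decide +kernel)
    (C.pT (h23911 C)
    (C.pH [0, 0, 0] [0, 4, 2, 1, 2, 4] (by decide +kernel)
    (C.pNil (v1 C) [0, 4, 2, 1, 2, 4]))))) C.relTwo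

theorem h23913 :
    C.T (v4 C) [1, 2, 0, 2, 1, 2, 0, 2, 2, 1, 3, 3, 0, 3, 1, 2, 2, 2, 0, 2, 1, 2, 0, 3, 1, 2, 0, 2, 2, 1, 3, 3, 0, 3, 1, 2, 0, 2, 1, 2, 0, 2, 1, 3, 0, 2, 2, 1] (v3 C) [0, 0] :=
  C.flip (h23912 C) _ _
    (by decide +kernel) (by decide +kernel)

theorem h23923 :
    C.S (v4 C) [] :=
  C.stInv (h22195 C) _ (by decide +kernel)

theorem h23924 :
    C.T (v4 C) [1] (v3 C) [1, 2, 0, 2, 2, 2, 1, 3, 0, 3, 1, 2, 2, 0, 2, 1, 2, 0, 2, 2, 2, 1, 3, 0, 3, 3, 1, 3, 0, 0, 0] :=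
  C.conv (h23913 C) (h23923 C) _ _
    (by decide +kernel) (by decide +kernel)

theorem h23934 :
    C.T (v1 C) [0, 4, 2, 2, 2, 1, 4] (v4 C) [] :=
  C.conv (h19555 C) (h4011 C) _ _
    (by decide +kernel) (by decide +kernel)

theorem h23935 :
    C.T (v1 C) [4, 2, 2, 2, 1, 4] (v3 C) [1, 2, 0, 2, 1, 2, 2, 0, 2, 1, 3, 0, 3, 1, 2, 0, 2, 2, 1, 2, 0, 2, 1, 3, 0, 3, 1, 2, 2, 0, 3, 3, 1, 3, 3, 0, 3, 3, 1, 3, 0, 2, 1, 2, 0, 2, 2, 1, 3, 0] :=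
  C.conv (h10090 C) (h4285 C) _ _
    (by decide +kernel) (by decide +kernel)

theorem h23936 :
    C.T (v3 C) [1, 2, 0, 2, 1, 2, 2, 0, 2, 1, 3, 0, 3, 1, 2, 0, 2, 2, 1, 2, 0, 2, 1, 3, 0, 3, 1, 2, 2, 0, 3, 3, 1, 3, 3, 0, 3, 3, 1, 3, 0, 2, 1, 2, 0, 2, 2, 1, 3, 0, 0, 0] (v1 C) [4, 2, 2, 2, 0, 4] :=
  C.flip (h23935 C) _ _
    (by decide +kernel) (by decide +kernel)

theorem h23937 :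
    C.T (v4 C) [] (v3 C) [3, 1, 3, 0, 2, 2, 1, 3, 0, 3, 1, 3, 3, 0, 3, 3, 1, 2, 0, 2, 1, 3, 0, 0] :=
  C.closeT (A := [none]) (B := [some [1], some [0, 0], none, some [0, 0, 0]])
    (C.pT (h23934 C)
    (C.pNil (v4 C) []))
    (C.pH [1] [1, 2, 0, 2, 1, 2, 2, 0, 2, 1, 3, 0, 3, 1, 2, 0, 2, 2, 1, 2, 0, 2, 1, 3, 0, 3, 1, 2, 2, 0, 3, 3, 1, 3, 3, 0, 3, 3, 1, 3, 0, 2, 1, 2, 0, 2, 2, 1, 3, 0] (by decide +kernel)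
    (C.pH [0, 0] [1, 2, 0, 2, 1, 2, 2, 0, 2, 1, 3, 0, 3, 1, 2, 0, 2, 2, 1, 2, 0, 2, 1, 3, 0, 3, 1, 2, 2, 0, 3, 3, 1, 3, 3, 0, 3, 3, 1, 3, 0, 2, 1, 2, 0, 2, 2, 1, 3, 0, 0, 0] (by decide +kernel)
    (C.pT (h23936 C)
    (C.pH [0, 0, 0] [0, 4, 2, 2, 2, 1, 4] (by decide +kernel)
    (C.pNil (v1 C) [0, 4, 2, 2, 2, 1, 4]))))) C.relTwo

theorem h23938 :
    C.T (v3 C) [3, 1, 3, 0, 2, 2, 1, 3, 0, 3, 1, 3, 3, 0, 3, 3, 1, 2, 0, 2, 1, 3] (v4 C) [0, 0] :=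
  C.flip (h23937 C) _ _
    (by decide +kernel) (by decide +kernel)

theorem h23948 :
    C.S (v3 C) [] :=
  C.stInv (h16412 C) _ (by decide +kernel)

theorem h23949 :
    C.T (v3 C) [1] (v4 C) [1, 2, 2, 0, 3, 3, 1, 2, 2, 2, 0, 2, 1, 2, 2, 2, 2, 0, 2, 2, 1, 2, 0, 0, 0] :=
  C.conv (h23938 C) (h23948 C) _ _
    (by decide +kernel) (by decide +kernel)

theorem h23959 :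
    C.T (v1 C) [0, 4, 2, 2, 2, 1, 4] (v4 C) [] :=
  C.conv (h19555 C) (h4011 C) _ _
    (by decide +kernel) (by decide +kernel)

theorem h23960 :
    C.T (v1 C) [1, 2, 2, 2, 0, 4] (v1 C) [1, 2, 2, 2, 0, 0, 0, 4] :=
  C.conv (h5543 C) (h4011 C) _ _
    (by decide +kernel) (by decide +kernel)

theorem h23961 :
    C.T (v1 C) [1, 2, 2, 2, 0, 4] (v1 C) [1, 2, 2, 2, 0, 0, 0, 4] :=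
  C.flip (h23960 C) _ _
    (by decide +kernel) (by decide +kernel)

theorem h23962 :
    C.T (v1 C) [0, 4, 2, 2, 2, 1, 4] (v4 C) [] :=
  C.conv (h19555 C) (h4011 C) _ _
    (by decide +kernel) (by decide +kernel)

theorem h23963 :
    C.T (v4 C) [0, 0] (v1 C) [0, 4, 2, 2, 2, 0, 4] :=
  C.flip (h23962 C) _ _
    (by decide +kernel) (by decide +kernel)

theorem h23964 :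
    C.E (v4 C) [4] (v4 C) [0, 0] :=
  C.closeE (A := [none, some [4]]) (B := [none, some [4], none, some [4]])
    (C.pT (h23959 C)
    (C.pH [4] [4] (by decide +kernel)
    (C.pNil (v4 C) [4])))
    (C.pT (h23963 C)
    (C.pH [4] [1, 2, 2, 2, 0, 4] (by decide +kernel)
    (C.pT (h23961 C)
    (C.pH [4] [0, 4, 2, 2, 2, 1, 4] (by decide +kernel)
    (C.pNil (v1 C) [0, 4, 2, 2, 2, 1, 4]))))) C.relOne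

theorem h23965 :
    C.S (v4 C) [0, 0, 4] :=
  C.stEq (h23964 C) _ (by decide +kernel)

theorem h23966 :
    C.S (v4 C) [] :=
  C.stOne _

theorem h23967 :
    C.S (v4 C) [0, 0, 4] :=
  C.stMul (h23966 C) (h23965 C) _
    (by decide +kernel)

theorem h23968 :
    C.S (v4 C) [1, 2, 0, 2, 2, 2, 1, 3, 0, 3, 3, 1, 3, 3, 0, 3, 3, 1, 2, 2, 0, 2, 2, 2, 2, 2, 1, 2, 0, 2, 2, 1, 2, 0, 0, 4, 2, 0, 4, 2, 4] :=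
  C.stMul (h23967 C) (h19566 C) _
    (by decide +kernel)

theorem h23971 :
    C.S (v4 C) [1, 2, 0, 2, 2, 2, 1, 3, 0, 2, 1, 2, 0, 2, 2, 1, 3, 0, 2, 2, 1, 2, 0, 3, 1, 3, 0, 2, 2, 4, 2, 4, 3, 4, 3, 1] :=
  C.stMul (h23968 C) (h22194 C) _
    (by decide +kernel)

theorem h24009 :
    C.S (v4 C) [0, 0, 4] :=
  C.stMul (h23966 C) (h23965 C) _
    (by decide +kernel)

theorem h24033 :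
    C.S (v4 C) [1, 2, 0, 2, 1, 2, 0, 2, 2, 1, 3, 3, 0, 2, 1, 2, 0, 2, 1, 2, 0, 3, 1, 3, 3, 0, 3, 1, 3, 0, 3, 3, 3, 1, 3, 0, 2, 1, 2, 0, 3] :=
  C.stMul (h23966 C) (h19566 C) _
    (by decide +kernel)

theorem h24034 :
    C.S (v4 C) [0, 0, 4] :=
  C.stMul (h23966 C) (h23965 C) _
    (by decide +kernel)

theorem h24035 :
    C.S (v4 C) [2, 1, 3, 3, 0, 3, 1, 2, 2, 2, 0, 2, 1, 2, 0, 3, 1, 2, 0, 2, 2, 1, 3, 0, 2, 1, 3, 0, 2, 2, 1, 3, 0, 2, 2, 2, 2] :=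
  C.stMul (h24033 C) (h19566 C) _
    (by decide +kernel)

theorem h24039 :
    C.S (v4 C) [1, 2, 0, 3, 1, 3, 0, 2, 1, 2, 0, 3, 1, 3, 0, 2, 1, 3, 0, 3, 1, 3, 0, 2, 1, 2, 0, 3, 1, 3, 0, 2] :=
  C.stMul (h24035 C) (h20600 C) _
    (by decide +kernel)

theorem h24055 :
    C.S (v4 C) [1, 2, 0, 2, 1, 2, 0, 2, 2, 1, 3, 3, 0, 2, 1, 2, 0, 2, 1, 2, 0, 3, 1, 3, 3, 0, 3, 1, 3, 0, 3, 3, 3, 1, 3, 0, 2, 1, 2, 0, 3] :=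
  C.stMul (h23966 C) (h19566 C) _
    (by decide +kernel)

theorem h24056 :
    C.S (v4 C) [1, 2, 2, 0, 3, 3, 1, 2, 2, 2, 0, 2, 1, 2, 2, 0, 3, 3, 1, 2, 2, 2, 0, 2] :=
  C.stMul (h23966 C) (h20600 C) _
    (by decide +kernel)

theorem h24057 :
    C.S (v4 C) [3, 1, 3, 0, 2, 2, 1, 3, 0, 3, 1, 2, 0, 3] :=
  C.stMul (h23966 C) (h22194 C) _
    (by decide +kernel)

theorem h24059 :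
    C.S (v4 C) [2, 1, 3, 3, 0, 3, 1, 2, 2, 2, 0, 2, 1, 2, 0, 3, 1, 2, 0, 2, 2, 1, 3, 0, 2, 1, 3, 0, 2, 2, 1, 3, 0, 2, 2, 2, 2] :=
  C.stMul (h24055 C) (h19566 C) _
    (by decide +kernel)

theorem h24061 :
    C.S (v4 C) [3, 1, 3, 0, 2, 2, 1, 3, 3, 0, 2, 2, 2, 1, 2, 0, 2, 2, 2, 1, 2, 0, 2, 2, 1, 2, 0] :=
  C.stMul (h24055 C) (h22194 C) _
    (by decide +kernel)

theorem h24063 :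
    C.S (v4 C) [3, 1, 2, 0, 2, 1, 3, 0, 3, 1, 2, 0, 2, 2, 1, 2, 0, 3, 1, 3, 0, 2, 1, 2, 0, 3] :=
  C.stMul (h24056 C) (h19566 C) _
    (by decide +kernel)

theorem h24065 :
    C.S (v4 C) [3, 1, 3, 0, 2, 2, 1, 3, 3, 0, 3, 1, 2, 2, 2, 0, 3, 3, 1, 2, 0] :=
  C.stMul (h24057 C) (h22194 C) _
    (by decide +kernel)

theorem h24069 :
    C.S (v4 C) [1, 2, 0, 3, 1, 3, 0, 2, 1, 2, 0, 3, 1, 3, 0, 2, 2, 1, 3, 3, 0, 2, 1, 2, 0, 3, 1, 2, 2, 0, 2, 2, 1, 3, 0, 2, 2, 2, 1, 3, 0, 3, 3, 1, 3, 0] :=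
  C.stMul (h24059 C) (h22194 C) _
    (by decide +kernel)

theorem h24080 :
    C.S (v4 C) [1, 2, 2, 0, 3, 3, 1, 2, 2, 2, 0, 2, 2, 1, 2, 0, 2, 1, 2, 2, 0, 3, 1, 2, 2, 0, 2, 1, 2, 0, 2, 2, 1, 2, 0] :=
  C.stMul (h24063 C) (h22194 C) _
    (by decide +kernel)

theorem h24084 :
    C.S (v4 C) [1, 2, 0, 2, 2, 2, 1, 3, 3, 0, 2, 2, 1, 3, 0, 3] :=
  C.stMul (h24065 C) (h20600 C) _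
    (by decide +kernel)

theorem h24095 :
    C.S (v4 C) [1, 2, 0, 3, 1, 3, 0, 2, 1, 2, 0, 3, 1, 3, 0, 2, 2, 1, 3, 3, 0, 2, 1, 2, 0, 3, 1, 2, 2, 0, 2, 2, 1, 3, 0, 2, 2, 2, 1, 3, 0, 3, 3, 1, 3, 0, 0, 0, 4] :=
  C.stMul (h24069 C) (h23965 C) _
    (by decide +kernel)

theorem h24115 :
    C.S (v4 C) [3, 1, 2, 0, 2, 1, 3, 0, 3, 1, 2, 0, 2, 2, 1, 2, 0, 2, 2, 1, 3, 3, 0, 2, 2, 2, 1, 3, 0, 2, 2, 1, 2, 0, 2, 2, 1, 2, 0] :=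
  C.stMul (h24080 C) (h20600 C) _
    (by decide +kernel)

theorem h24125 :
    C.S (v4 C) [1, 2, 2, 0, 3, 3, 1, 2, 2, 2, 0, 2, 2, 1, 2, 0, 2, 1, 2, 2, 0, 3, 1, 2, 2, 0, 3, 3] :=
  C.stMul (h24084 C) (h22194 C) _
    (by decide +kernel)

theorem h24148 :
    C.S (v4 C) [1, 3, 0, 3, 1, 2, 2, 0, 3, 3, 1, 2, 0, 3, 1, 2, 2, 2, 0, 2, 0, 4, 2, 0, 4, 2, 4] :=
  C.stMul (h24095 C) (h19566 C) _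
    (by decide +kernel)

theorem h24248 :
    C.S (v4 C) [1, 3, 0, 3, 1, 2, 2, 0, 3, 3, 1, 2, 0, 3, 1, 2, 2, 2, 0, 2, 0, 4, 2, 1, 4, 2] :=
  C.stMul (h24148 C) (h23965 C) _
    (by decide +kernel)

theorem h24410 :
    C.S (v4 C) [2, 1, 3, 3, 0, 3, 1, 2, 2, 2, 0, 2, 1, 2, 0, 3, 1, 2, 0, 2, 2, 1, 3, 3, 0, 3, 1, 2, 2, 0, 3, 3, 1, 3, 3, 0, 3, 3, 1, 2, 0, 2, 2, 1, 2, 0, 2, 2, 1, 2, 0, 4, 2, 2, 2, 4] :=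
  C.stMul (h24248 C) (h19566 C) _
    (by decide +kernel)

theorem h24564 :
    C.S (v4 C) [1, 2, 0, 2, 1, 2, 0, 2, 2, 1, 3, 3, 0, 2, 1, 2, 0, 2, 1, 2, 0, 3, 1, 3, 3, 0, 3, 1, 3, 0, 3, 3, 3, 1, 3, 0, 2, 1, 2, 0, 3] :=
  C.stMul (h23966 C) (h19566 C) _
    (by decide +kernel)

theorem h24565 :
    C.S (v4 C) [1, 2, 2, 0, 3, 3, 1, 2, 2, 2, 0, 2, 1, 2, 2, 0, 3, 3, 1, 2, 2, 2, 0, 2] :=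
  C.stMul (h23966 C) (h20600 C) _
    (by decide +kernel)

theorem h24568 :
    C.S (v4 C) [2, 1, 3, 3, 0, 3, 1, 2, 2, 2, 0, 2, 1, 2, 0, 3, 1, 2, 0, 2, 2, 1, 3, 0, 2, 1, 3, 0, 2, 2, 1, 3, 0, 2, 2, 2, 2] :=
  C.stMul (h24564 C) (h19566 C) _
    (by decide +kernel)

theorem h24569 :
    C.S (v4 C) [1, 2, 2, 0, 3, 3, 1, 2, 2, 2, 0, 2, 1, 2, 2, 0, 3, 1, 3, 0, 3, 1, 2, 2, 2, 0, 2, 2, 2, 1, 2, 0, 2, 2, 2, 2, 1, 3, 0, 3, 3, 1, 3, 0] :=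
  C.stMul (h24564 C) (h20600 C) _
    (by decide +kernel)

theorem h24570 :
    C.S (v4 C) [3, 1, 3, 0, 2, 2, 1, 3, 3, 0, 2, 2, 2, 1, 2, 0, 2, 2, 2, 1, 2, 0, 2, 2, 1, 2, 0] :=
  C.stMul (h24564 C) (h22194 C) _
    (by decide +kernel)

theorem h24572 :
    C.S (v4 C) [3, 1, 2, 0, 2, 1, 3, 0, 3, 1, 2, 0, 2, 2, 1, 2, 0, 3, 1, 2, 2, 0, 3, 1, 3, 3, 0, 3, 1, 3, 0, 3, 1, 2, 2, 0, 2, 2, 2, 1, 3, 3, 0, 2] :=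
  C.stMul (h24565 C) (h22194 C) _
    (by decide +kernel)

theorem h24579 :
    C.S (v4 C) [1, 2, 0, 3, 1, 3, 0, 2, 1, 2, 0, 3, 1, 3, 0, 2, 2, 1, 3, 3, 0, 2, 1, 2, 0, 3, 1, 2, 2, 0, 2, 2, 1, 3, 0, 2, 2, 2, 1, 3, 0, 3, 3, 1, 3, 0] :=
  C.stMul (h24568 C) (h22194 C) _
    (by decide +kernel)

theorem h24580 :
    C.S (v4 C) [2, 1, 3, 3, 0, 3, 1, 2, 2, 2, 0, 2, 1, 2, 0, 3, 1, 2, 0, 2, 2, 1, 3, 0, 2, 1, 3, 0, 2, 2, 1, 3, 0, 2, 2, 2, 2, 0, 0, 4] :=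
  C.stMul (h24568 C) (h23965 C) _
    (by decide +kernel)

theorem h24581 :
    C.S (v4 C) [1, 2, 0, 2, 1, 2, 0, 2, 2, 1, 3, 3, 0, 2, 1, 2, 0, 2, 1, 2, 2, 0, 2, 2, 2, 1, 2, 0, 3, 1, 3, 0, 2] :=
  C.stMul (h24569 C) (h19566 C) _
    (by decide +kernel)

theorem h24584 :
    C.S (v4 C) [1, 2, 0, 2, 1, 2, 0, 2, 2, 2, 2, 1, 2, 2, 2, 2, 0, 2, 2, 1, 2, 0] :=
  C.stMul (h24570 C) (h20600 C) _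
    (by decide +kernel)

theorem h24585 :
    C.S (v4 C) [3, 1, 3, 0, 2, 2, 1, 3, 3, 0, 2, 2, 2, 1, 2, 0, 2, 2, 2, 1, 2, 0, 2, 2, 1, 2, 0, 0, 0, 4] :=
  C.stMul (h24570 C) (h23965 C) _
    (by decide +kernel)

theorem h24587 :
    C.S (v4 C) [3, 1, 2, 0, 2, 1, 3, 0, 3, 1, 2, 0, 2, 2, 1, 2, 0, 3, 1, 2, 2, 0, 3, 1, 3, 3, 0, 3, 1, 3, 0, 3, 1, 2, 2, 0, 2, 2, 2, 1, 3, 3, 0, 2, 0, 0, 4] :=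
  C.stMul (h24572 C) (h23965 C) _
    (by decide +kernel)

theorem h24605 :
    C.S (v4 C) [1, 2, 0, 3, 1, 3, 0, 2, 1, 2, 0, 3, 1, 3, 0, 2, 2, 1, 3, 3, 0, 2, 1, 2, 0, 3, 1, 2, 2, 0, 2, 2, 1, 3, 0, 2, 2, 2, 1, 3, 0, 3, 3, 1, 3, 0, 0, 0, 4] :=
  C.stMul (h24579 C) (h23965 C) _
    (by decide +kernel)

theorem h24606 :
    C.S (v4 C) [1, 2, 0, 2, 1, 2, 0, 2, 1, 2, 0, 3, 1, 3, 0, 2, 1, 2, 0, 3, 1, 3, 3, 0, 2, 2, 1, 3, 3, 0, 3, 1, 2, 2, 0, 2, 1, 3, 0, 3, 1, 2, 2, 0, 2, 1, 3, 0, 2, 2, 2, 1, 2, 0, 3, 1, 3, 0, 2, 2, 0, 4, 2, 0, 4, 2, 4] :=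
  C.stMul (h24580 C) (h19566 C) _
    (by decide +kernel)

theorem h24613 :
    C.S (v4 C) [1, 2, 0, 2, 1, 2, 0, 2, 2, 2, 2, 1, 2, 2, 2, 2, 0, 2, 2, 1, 2, 0, 0, 0, 4] :=
  C.stMul (h24584 C) (h23965 C) _
    (by decide +kernel)

theorem h24614 :
    C.S (v4 C) [2, 1, 3, 3, 0, 3, 1, 2, 2, 2, 0, 2, 1, 2, 0, 3, 1, 2, 0, 2, 2, 1, 3, 0, 2, 1, 2, 2, 0, 2, 1, 3, 0, 3, 3, 1, 3, 0, 3, 3, 0, 4, 2, 0, 4, 2, 4] :=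
  C.stMul (h24585 C) (h19566 C) _
    (by decide +kernel)

theorem h24619 :
    C.S (v4 C) [3, 1, 2, 0, 2, 1, 3, 0, 3, 1, 2, 0, 2, 2, 2, 2, 1, 3, 3, 0, 3, 1, 2, 2, 2, 2, 0, 2, 1, 3, 0, 3, 1, 2, 0, 2, 2, 2, 2, 1, 2, 0, 2, 2, 1, 2, 0, 0, 4, 2, 0, 4, 2, 4] :=
  C.stMul (h24587 C) (h19566 C) _
    (by decide +kernel)

theorem h24659 :
    C.S (v4 C) [1, 3, 0, 3, 1, 2, 2, 0, 3, 3, 1, 2, 0, 3, 1, 2, 2, 2, 0, 2, 0, 4, 2, 0, 4, 2, 4] :=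
  C.stMul (h24605 C) (h19566 C) _
    (by decide +kernel)

theorem h24663 :
    C.S (v4 C) [1, 2, 0, 2, 1, 2, 0, 2, 1, 2, 0, 3, 1, 3, 0, 2, 1, 2, 0, 3, 1, 3, 3, 0, 2, 2, 1, 3, 3, 0, 3, 1, 2, 2, 0, 2, 1, 3, 0, 3, 1, 2, 2, 0, 2, 1, 3, 0, 2, 2, 2, 1, 2, 0, 3, 1, 3, 0, 2, 2, 0, 4, 2, 1, 4, 2] :=
  C.stMul (h24606 C) (h23965 C) _
    (by decide +kernel)

theorem h24673 :
    C.S (v4 C) [1, 2, 0, 2, 1, 2, 2, 0, 2, 1, 3, 0, 3, 1, 2, 0, 2, 2, 1, 2, 0, 2, 2, 1, 3, 3, 0, 2, 1, 2, 0, 3, 1, 2, 0, 3, 3, 3, 0, 4, 2, 0, 4, 2, 4] :=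
  C.stMul (h24613 C) (h19566 C) _
    (by decide +kernel)

theorem h24674 :
    C.S (v4 C) [1, 2, 0, 2, 1, 2, 0, 2, 2, 1, 3, 3, 0, 3, 1, 2, 2, 2, 0, 2, 1, 2, 0, 3, 1, 2, 2, 0, 3, 1, 2, 2, 0, 3, 1, 3, 3, 0, 3, 1, 3, 0, 2, 2, 1, 3, 0, 3, 1, 2, 2, 0, 2, 1, 3, 0, 3, 1, 3, 0, 2, 1, 2, 0, 3, 0, 0, 4, 2, 2, 2] :=
  C.stMul (h24614 C) (h19566 C) _
    (by decide +kernel)

theorem h24688 :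
    C.S (v4 C) [1, 2, 0, 2, 1, 2, 0, 2, 1, 2, 2, 0, 3, 3, 1, 2, 2, 2, 0, 2, 1, 2, 2, 0, 3, 1, 3, 0, 3, 1, 2, 2, 2, 0, 2, 2, 1, 3, 0, 0, 0, 4, 2, 2, 2] :=
  C.stMul (h24619 C) (h19566 C) _
    (by decide +kernel)

theorem h24766 :
    C.S (v4 C) [1, 3, 0, 3, 1, 2, 2, 0, 3, 3, 1, 2, 0, 3, 1, 2, 2, 2, 0, 2, 0, 4, 2, 1, 4, 2] :=
  C.stMul (h24659 C) (h23965 C) _
    (by decide +kernel)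

theorem h24773 :
    C.S (v4 C) [1, 2, 0, 2, 1, 2, 0, 2, 2, 2, 2, 1, 2, 2, 2, 0, 4, 2, 2, 2, 4] :=
  C.stMul (h24663 C) (h19566 C) _
    (by decide +kernel)

theorem h24795 :
    C.S (v4 C) [1, 2, 0, 2, 1, 2, 2, 0, 2, 1, 3, 0, 3, 1, 2, 0, 2, 2, 1, 2, 0, 2, 2, 1, 3, 3, 0, 2, 1, 2, 0, 3, 1, 2, 0, 3, 3, 3, 0, 4, 2, 1, 4, 2] :=
  C.stMul (h24673 C) (h23965 C) _
    (by decide +kernel)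

theorem h24797 :
    C.S (v4 C) [3, 1, 3, 0, 2, 2, 1, 3, 0, 2, 1, 3, 3, 3, 0, 3, 1, 3, 3, 0, 4, 2, 0, 4, 2, 0, 4] :=
  C.stMul (h24674 C) (h22194 C) _
    (by decide +kernel)

theorem h24826 :
    C.S (v4 C) [1, 2, 0, 3, 1, 3, 0, 2, 1, 2, 0, 3, 1, 3, 3, 0, 2, 2, 1, 3, 3, 0, 3, 1, 2, 2, 0, 3, 3, 1, 2, 2, 0, 2, 2, 1, 3, 0, 2, 2, 1, 2, 0, 3, 1, 3, 0, 2, 4, 2, 0, 4, 2, 0, 4] :=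
  C.stMul (h24688 C) (h22194 C) _
    (by decide +kernel)

theorem h24931 :
    C.S (v4 C) [1, 2, 0, 2, 1, 2, 0, 2, 2, 2, 1, 3, 0, 3, 1, 2, 0, 3, 3, 1, 3, 0, 2, 1, 2, 0, 4, 2, 1, 2, 4] :=
  C.stMul (h24773 C) (h19566 C) _
    (by decide +kernel)

theorem h24960 :
    C.S (v4 C) [3, 1, 3, 0, 2, 2, 1, 3, 0, 2, 1, 3, 3, 3, 0, 3, 1, 3, 3, 0, 4, 2, 0, 4, 2, 1] :=
  C.stMul (h24797 C) (h23965 C) _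
    (by decide +kernel)

theorem h24976 :
    C.S (v4 C) [1, 2, 0, 2, 1, 2, 2, 0, 2, 1, 3, 0, 3, 1, 2, 0, 2, 2, 1, 2, 0, 2, 2, 1, 3, 3, 0, 2, 1, 2, 0, 3, 1, 2, 2, 0, 2, 2, 1, 3, 0, 2, 2, 2, 1, 2, 0, 2, 2, 1, 2, 0, 0, 4, 2, 0, 4, 2, 4] :=
  C.stMul (h24826 C) (h20600 C) _
    (by decide +kernel)

theorem h25036 :
    C.S (v4 C) [1, 2, 0, 2, 1, 2, 0, 2, 2, 2, 1, 3, 0, 3, 1, 2, 0, 3, 3, 1, 3, 0, 2, 1, 2, 0, 4, 2, 0, 2] :=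
  C.stMul (h24931 C) (h23965 C) _
    (by decide +kernel)

theorem h25073 :
    C.S (v4 C) [0, 0, 4] :=
  C.stMul (h23966 C) (h23965 C) _
    (by decide +kernel)

theorem h25086 :
    C.S (v4 C) [1, 2, 0, 2, 1, 2, 0, 2, 2, 1, 3, 3, 0, 2, 1, 2, 0, 2, 1, 2, 0, 3, 1, 3, 3, 0, 3, 1, 3, 0, 3, 3, 3, 1, 3, 0, 2, 1, 2, 0, 3] :=
  C.stMul (h23966 C) (h19566 C) _
    (by decide +kernel)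

theorem h25088 :
    C.S (v4 C) [3, 1, 3, 0, 2, 2, 1, 3, 0, 3, 1, 2, 0, 3] :=
  C.stMul (h23966 C) (h22194 C) _
    (by decide +kernel)

theorem h25093 :
    C.S (v4 C) [1, 2, 0, 2, 1, 2, 0, 2, 2, 1, 3, 3, 0, 2, 1, 2, 0, 2, 1, 2, 0, 3, 1, 3, 3, 0, 3, 1, 3, 0, 3, 3, 3, 1, 3, 0, 2, 1, 2, 0, 3, 0, 0, 4] :=
  C.stMul (h25086 C) (h23965 C) _
    (by decide +kernel)

theorem h25097 :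
    C.S (v4 C) [3, 3, 1, 2, 2, 0, 3, 1, 3, 3, 0, 3, 1, 3, 0, 3, 1, 2, 0, 3, 3, 3, 1, 3, 0, 2, 1, 2, 0, 3] :=
  C.stMul (h25088 C) (h19566 C) _
    (by decide +kernel)

theorem h25099 :
    C.S (v4 C) [3, 1, 3, 0, 2, 2, 1, 3, 3, 0, 3, 1, 2, 2, 2, 0, 3, 3, 1, 2, 0] :=
  C.stMul (h25088 C) (h22194 C) _
    (by decide +kernel)

theorem h25111 :
    C.S (v4 C) [1, 2, 0, 2, 2, 2, 1, 3, 0, 2, 1, 3, 3, 3, 0, 2, 2, 1, 2, 0, 2, 2, 1, 2, 0, 2, 0, 4, 2, 0, 4, 2, 4] :=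
  C.stMul (h25093 C) (h19566 C) _
    (by decide +kernel)

theorem h25120 :
    C.S (v4 C) [3, 3, 1, 2, 2, 0, 3, 1, 3, 3, 0, 3, 1, 3, 0, 3, 1, 2, 0, 3, 3, 3, 1, 3, 0, 2, 1, 2, 0, 3, 0, 0, 4] :=
  C.stMul (h25097 C) (h23965 C) _
    (by decide +kernel)

theorem h25138 :
    C.S (v4 C) [1, 2, 0, 2, 2, 2, 1, 3, 0, 2, 1, 3, 3, 3, 0, 2, 2, 1, 2, 0, 2, 2, 1, 2, 0, 2, 0, 4, 2, 1, 4, 2] :=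
  C.stMul (h25111 C) (h23965 C) _
    (by decide +kernel)

theorem h25152 :
    C.S (v4 C) [1, 2, 0, 2, 1, 2, 0, 2, 1, 2, 0, 3, 1, 3, 0, 2, 1, 2, 0, 3, 1, 3, 0, 2, 2, 1, 3, 3, 0, 2, 1, 2, 0, 3, 1, 2, 2, 0, 2, 2, 2, 1, 2, 0, 2, 2, 2, 2, 1, 2, 0, 2, 2, 1, 2, 0, 2, 0, 4, 2, 0, 4, 2, 4] :=
  C.stMul (h25120 C) (h19566 C) _
    (by decide +kernel)

theorem h25165 :
    C.S (v4 C) [1, 2, 0, 2, 1, 2, 0, 2, 1, 2, 0, 3, 1, 3, 0, 2, 1, 2, 0, 3, 1, 3, 0, 2, 2, 1, 3, 3, 0, 2, 1, 2, 0, 3, 1, 2, 2, 0, 2, 2, 2, 1, 2, 0, 2, 2, 2, 2, 1, 2, 0, 2, 2, 1, 2, 0, 2, 0, 4, 2, 1, 4, 2] :=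
  C.stMul (h25152 C) (h23965 C) _
    (by decide +kernel)

theorem h25177 :
    C.S (v4 C) [3, 1, 3, 0, 2, 2, 1, 3, 0, 3, 1, 2, 0, 3] :=
  C.stMul (h23966 C) (h22194 C) _
    (by decide +kernel)

theorem h25185 :
    C.S (v4 C) [3, 3, 1, 2, 2, 0, 3, 1, 3, 3, 0, 3, 1, 3, 0, 3, 1, 2, 0, 3, 3, 3, 1, 3, 0, 2, 1, 2, 0, 3] :=
  C.stMul (h25177 C) (h19566 C) _
    (by decide +kernel)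

theorem h25201 :
    C.S (v4 C) [2, 1, 3, 3, 0, 3, 1, 2, 2, 2, 0, 2, 1, 2, 0, 3, 1, 2, 0, 2, 2, 1, 3, 3, 0, 3, 1, 2, 2, 0, 3, 3, 1, 3, 3, 0, 3, 3, 1, 2, 0, 2, 2, 1, 2, 0, 2, 2, 1, 2, 0] :=
  C.stMul (h25185 C) (h22194 C) _
    (by decide +kernel)

theorem h25229 :
    C.S (v4 C) [1, 2, 0, 2, 1, 2, 0, 2, 1, 3, 0, 3, 1, 2, 2, 0, 3, 3, 1, 2, 2, 0, 2, 1, 2, 0, 2, 2, 2, 1, 3, 0, 3, 3, 1, 3, 0] :=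
  C.stMul (h25201 C) (h19566 C) _
    (by decide +kernel)

theorem h25252 :
    C.S (v4 C) [1, 2, 0, 2, 1, 2, 0, 2, 1, 3, 0, 3, 1, 2, 2, 0, 3, 3, 1, 2, 2, 0, 2, 1, 2, 0, 2, 2, 2, 1, 3, 0, 3, 3, 1, 3, 0, 0, 0, 4] :=
  C.stMul (h25229 C) (h23965 C) _
    (by decide +kernel)

theorem h25264 :
    C.S (v4 C) [0, 0, 4] :=
  C.stMul (h23966 C) (h23965 C) _
    (by decide +kernel)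

theorem h25275 :
    C.S (v4 C) [1, 2, 2, 0, 3, 3, 1, 2, 2, 2, 0, 2, 1, 2, 2, 0, 3, 3, 1, 2, 2, 2, 0, 2] :=
  C.stMul (h23966 C) (h20600 C) _
    (by decide +kernel)

theorem h25282 :
    C.S (v4 C) [3, 1, 2, 0, 2, 1, 3, 0, 3, 1, 2, 0, 2, 2, 1, 2, 0, 3, 1, 3, 0, 2, 1, 2, 0, 3] :=
  C.stMul (h25275 C) (h19566 C) _
    (by decide +kernel)

theorem h25301 :
    C.S (v4 C) [1, 2, 2, 0, 3, 3, 1, 2, 2, 2, 0, 2, 2, 1, 2, 2, 2, 0, 3, 3, 1, 2, 0, 3, 3, 1, 3, 0, 2, 2, 2, 1, 3, 0, 3, 3, 1, 3, 0] :=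
  C.stMul (h25282 C) (h20600 C) _
    (by decide +kernel)

theorem h25328 :
    C.S (v4 C) [1, 2, 2, 0, 3, 3, 1, 2, 2, 2, 0, 2, 1, 2, 2, 0, 3, 3, 1, 2, 2, 0, 2, 2, 2, 1, 3, 3, 0, 2, 2, 2, 1, 2, 0, 3, 1, 3, 0, 2] :=
  C.stMul (h25301 C) (h22194 C) _
    (by decide +kernel)

theorem h25348 :
    C.S (v4 C) [1, 2, 2, 0, 3, 3, 1, 2, 2, 2, 0, 2, 1, 2, 2, 0, 3, 3, 1, 2, 2, 0, 2, 2, 2, 1, 3, 3, 0, 2, 2, 2, 1, 2, 0, 3, 1, 3, 0, 2, 0, 0, 4] :=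
  C.stMul (h25328 C) (h23965 C) _
    (by decide +kernel)

theorem h25368 :
    C.S (v4 C) [3, 1, 3, 0, 2, 2, 1, 3, 0, 3, 1, 2, 0, 3] :=
  C.stMul (h23966 C) (h22194 C) _
    (by decide +kernel)

theorem h25376 :
    C.S (v4 C) [3, 3, 1, 2, 2, 0, 3, 1, 3, 3, 0, 3, 1, 3, 0, 3, 1, 2, 0, 3, 3, 3, 1, 3, 0, 2, 1, 2, 0, 3] :=
  C.stMul (h25368 C) (h19566 C) _
    (by decide +kernel)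

theorem h25377 :
    C.S (v4 C) [1, 2, 0, 2, 1, 2, 0, 2, 1, 2, 2, 0, 3, 3, 1, 2, 2, 2, 0, 2, 1, 2, 2, 0, 3, 3, 1, 2, 0, 3] :=
  C.stMul (h25368 C) (h20600 C) _
    (by decide +kernel)

theorem h25393 :
    C.S (v4 C) [3, 3, 1, 2, 2, 0, 3, 1, 3, 3, 0, 3, 1, 3, 0, 3, 1, 2, 0, 3, 3, 3, 1, 3, 0, 2, 1, 2, 0, 3, 0, 0, 4] :=
  C.stMul (h25376 C) (h23965 C) _
    (by decide +kernel)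

theorem h25394 :
    C.S (v4 C) [2, 1, 3, 3, 0, 3, 1, 2, 2, 2, 0, 2, 1, 2, 0, 3, 1, 2, 2, 2, 0, 3, 3, 3, 1, 3, 0, 2, 1, 2, 0, 3] :=
  C.stMul (h25377 C) (h19566 C) _
    (by decide +kernel)

theorem h25423 :
    C.S (v4 C) [2, 1, 3, 3, 0, 3, 1, 2, 2, 2, 0, 2, 1, 2, 0, 3, 1, 2, 2, 2, 0, 3, 3, 3, 1, 3, 0, 2, 1, 2, 0, 3, 0, 0, 4] :=
  C.stMul (h25394 C) (h23965 C) _
    (by decide +kernel)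

theorem h25468 :
    C.S (v4 C) [0, 0, 4] :=
  C.stMul (h23966 C) (h23965 C) _
    (by decide +kernel)

theorem h25496 :
    C.S (v4 C) [0, 0, 4] :=
  C.stInv (h24009 C) _ (by decide +kernel)

theorem h25497 :
    C.T (v4 C) [4] (v1 C) [0, 4, 2, 2, 2, 0, 4] :=
  C.conv (h19556 C) (h25496 C) _ _
    (by decide +kernel) (by decide +kernel)

theorem h25510 :
    C.T (v1 C) [0, 4, 2, 4, 3, 3, 0, 4] (v2 C) [] :=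
  C.conv (h5571 C) (h4011 C) _ _
    (by decide +kernel) (by decide +kernel)

theorem h25511 :
    C.T (v1 C) [1, 2, 0, 0, 4, 3, 3, 0, 4] (v4 C) [1, 2, 0, 2, 2, 2, 1, 3, 0, 3, 1, 2, 2, 0, 2, 1, 2, 0, 2, 2] :=
  C.conv (h19555 C) (h4862 C) _ _
    (by decide +kernel) (by decide +kernel)

theorem h25512 :
    C.T (v4 C) [1, 2, 0, 2, 2, 2, 1, 3, 0, 3, 1, 2, 2, 0, 2, 1, 2, 0, 2, 2, 0, 0] (v1 C) [1, 2, 0, 0, 4, 3, 3, 1, 4] :=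
  C.flip (h25511 C) _ _
    (by decide +kernel) (by decide +kernel)

theorem h25513 :
    C.T (v2 C) [4] (v4 C) [1, 2, 0, 2, 2, 2, 1, 3, 0, 3, 1, 2, 2, 0, 2, 1, 2, 0, 0, 0, 4, 2, 2] :=
  C.closeT (A := [none, some [4]]) (B := [some [4], none, some [4]])
    (C.pT (h25510 C)
    (C.pH [4] [4] (by decide +kernel)
    (C.pNil (v2 C) [4])))
    (C.pH [4] [1, 2, 0, 2, 2, 2, 1, 3, 0, 3, 1, 2, 2, 0, 2, 1, 2, 0, 2, 2, 0, 0] (by decide +kernel)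
    (C.pT (h25512 C)
    (C.pH [4] [0, 4, 2, 4, 3, 3, 0, 4] (by decide +kernel)
    (C.pNil (v1 C) [0, 4, 2, 4, 3, 3, 0, 4])))) C.relOne

theorem h25514 :
    C.T (v4 C) [1, 2, 0, 2, 2, 2, 1, 3, 0, 3, 1, 2, 2, 0, 2, 1, 2, 0, 4, 2, 2] (v2 C) [0, 0, 4] :=
  C.flip (h25513 C) _ _
    (by decide +kernel) (by decide +kernel)

theorem h25521 :
    C.S (v4 C) [1, 2, 0, 2, 1, 2, 0, 2, 2, 1, 3, 3, 0, 3, 1, 2, 2, 2, 0, 2, 1, 2, 0, 3, 1, 2, 0, 2, 2, 1, 3, 0, 3, 1, 3, 3, 0, 3, 3, 1, 3, 0, 2, 1, 2, 0] :=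
  C.stInv (h24125 C) _ (by decide +kernel)

theorem h25522 :
    C.T (v4 C) [4, 2] (v2 C) [1, 2, 0, 3, 1, 3, 0, 2, 1, 2, 0, 3, 1, 3, 0, 2, 1, 3, 0, 3, 1, 3, 0, 3, 0, 0, 4] :=
  C.conv (h25514 C) (h25521 C) _ _
    (by decide +kernel) (by decide +kernel)

theorem h25529 :
    C.T (v1 C) [3, 1, 2, 0, 2, 1, 3, 0, 3, 1, 2, 0, 2, 2, 1, 2, 0, 2, 1, 2, 2, 0, 3, 3, 1, 2, 0, 3, 3, 1, 3, 0, 3, 3, 1, 3, 0, 2, 1, 2, 0, 3, 3, 0, 4, 3, 0, 4, 3, 3, 1, 2] (v3 C) [3, 3, 1, 2, 2, 0, 3, 1, 3, 3, 0, 3, 1, 3, 0, 3, 1, 2, 2, 0, 2, 1, 2, 0, 2, 1, 2, 0] :=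
  C.conv (h10090 C) (h4448 C) _ _
    (by decide +kernel) (by decide +kernel)

theorem h25530 :
    C.T (v3 C) [3, 3, 1, 2, 2, 0, 3, 1, 3, 3, 0, 3, 1, 3, 0, 3, 1, 2, 2, 0, 2, 1, 2, 0, 2, 1, 2, 0, 0, 0] (v1 C) [3, 1, 2, 0, 2, 1, 3, 0, 3, 1, 2, 0, 2, 2, 1, 2, 0, 2, 1, 2, 2, 0, 3, 3, 1, 2, 0, 3, 3, 1, 3, 0, 3, 3, 1, 3, 0, 2, 1, 2, 0, 3, 3, 0, 4, 3, 0, 4, 3, 3, 0, 2] :=
  C.flip (h25529 C) _ _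
    (by decide +kernel) (by decide +kernel)

theorem h25531 :
    C.T (v3 C) [1, 2, 0, 2, 1, 2, 2, 0, 2, 1, 3, 0, 3, 1, 2, 0, 2, 2, 1, 2, 0, 2, 1, 3, 0, 3, 1, 2, 2, 0, 3, 3, 1, 2, 2, 0, 2, 2, 1, 3, 0, 0, 4, 2, 0, 2] (v4 C) [1, 2, 0, 2, 2, 2, 1, 3, 3, 0, 3, 1, 2, 2, 0, 3, 1, 3, 0, 3, 3, 1, 2, 0, 3, 3, 1, 2, 2, 2, 2, 2, 0, 0, 0] :=
  C.conv (h23949 C) (h16427 C) _ _
    (by decide +kernel) (by decide +kernel)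

theorem h25532 :
    C.T (v4 C) [1, 2, 0, 2, 2, 2, 1, 3, 3, 0, 3, 1, 2, 2, 0, 3, 1, 3, 0, 3, 3, 1, 2, 0, 3, 3, 1, 2, 2, 2, 2, 2, 0] (v3 C) [1, 2, 0, 2, 1, 2, 2, 0, 2, 1, 3, 0, 3, 1, 2, 0, 2, 2, 1, 2, 0, 2, 1, 3, 0, 3, 1, 2, 2, 0, 3, 3, 1, 2, 2, 0, 2, 2, 1, 3, 0, 0, 4, 2, 1, 2] :=
  C.flip (h25531 C) _ _
    (by decide +kernel) (by decide +kernel)

theorem h25533 :
    C.T (v1 C) [1, 2, 2, 0, 3, 3, 1, 2, 2, 2, 0, 2, 1, 2, 2, 0, 3, 3, 1, 3, 0, 2, 2, 1, 3, 0, 2, 1, 2, 0, 2, 2, 1, 3, 0, 2, 2, 2, 1, 2, 0, 2, 0, 0, 4, 2, 2] (v4 C) [1, 2, 0, 2, 2, 2, 1, 3, 3, 0, 3, 1, 2, 2, 0, 3, 1, 3, 0, 3, 3, 1, 2, 0, 3, 3, 1, 2, 2, 0, 0, 4, 2, 2, 2, 0] :=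
  C.closeT (A := []) (B := [some [4], none, some [4], none, some [4]])
    (C.pNil (v1 C) [1, 2, 2, 0, 3, 3, 1, 2, 2, 2, 0, 2, 1, 2, 2, 0, 3, 3, 1, 3, 0, 2, 2, 1, 3, 0, 2, 1, 2, 0, 2, 2, 1, 3, 0, 2, 2, 2, 1, 2, 0, 2, 0, 0, 4, 2, 2])
    (C.pH [4] [1, 2, 0, 2, 2, 2, 1, 3, 3, 0, 3, 1, 2, 2, 0, 3, 1, 3, 0, 3, 3, 1, 2, 0, 3, 3, 1, 2, 2, 2, 2, 2, 0] (by decide +kernel)
    (C.pT (h25532 C)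
    (C.pH [4] [3, 3, 1, 2, 2, 0, 3, 1, 3, 3, 0, 3, 1, 3, 0, 3, 1, 2, 2, 0, 2, 1, 2, 0, 2, 1, 2, 0, 0, 0] (by decide +kernel)
    (C.pT (h25530 C)
    (C.pH [4] [1, 2, 2, 0, 3, 3, 1, 2, 2, 2, 0, 2, 1, 2, 2, 0, 3, 3, 1, 3, 0, 2, 2, 1, 3, 0, 2, 1, 2, 0, 2, 2, 1, 3, 0, 2, 2, 2, 1, 2, 0, 2, 0, 0, 4, 2, 2] (by decide +kernel)
    (C.pNil (v1 C) [1, 2, 2, 0, 3, 3, 1, 2, 2, 2, 0, 2, 1, 2, 2, 0, 3, 3, 1, 3, 0, 2, 2, 1, 3, 0, 2, 1, 2, 0, 2, 2, 1, 3, 0, 2, 2, 2, 1, 2, 0, 2, 0, 0, 4, 2, 2])))))) C.relOne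

theorem h25534 :
    C.T (v4 C) [1, 2, 0, 2, 2, 2, 1, 3, 3, 0, 3, 1, 2, 2, 0, 3, 1, 3, 0, 3, 3, 1, 2, 0, 3, 3, 1, 2, 2, 0, 0, 4, 2, 2, 2, 1] (v1 C) [1, 2, 2, 0, 3, 3, 1, 2, 2, 2, 0, 2, 1, 2, 2, 0, 3, 3, 1, 3, 0, 2, 2, 1, 3, 0, 2, 1, 2, 0, 2, 2, 1, 3, 0, 2, 2, 2, 1, 2, 0, 2, 4, 2, 2] :=
  C.flip (h25533 C) _ _
    (by decide +kernel) (by decide +kernel)

theorem h25535 :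
    C.S (v1 C) [2, 1, 3, 3, 0, 3, 1, 2, 2, 2, 0, 2, 1, 2, 0, 3, 1, 2, 0, 2, 2, 1, 3, 3, 0, 3, 1, 2, 2, 0, 3, 3, 3, 1, 3, 3, 0, 3, 3, 1, 2, 2, 0, 2, 2, 2, 2, 1, 2, 2, 0] :=
  C.stInv (h4171 C) _ (by decide +kernel)

theorem h25536 :
    C.T (v1 C) [0, 0, 4] (v4 C) [1, 2, 0, 3, 1, 3, 0, 2, 1, 2, 0, 3, 1, 3, 3, 0, 2, 2, 1, 3, 3, 0, 3, 1, 2, 0, 2, 2, 1, 2, 0, 0, 4, 2, 2, 2, 0] :=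
  C.conv (h25533 C) (h25535 C) _ _
    (by decide +kernel) (by decide +kernel)

theorem h25549 :
    C.S (v4 C) [0, 0, 4] :=
  C.stInv (h25468 C) _ (by decide +kernel)

theorem h25550 :
    C.T (v4 C) [0, 4, 2, 2, 2, 0, 4] (v1 C) [1, 2, 0, 2, 1, 2, 0, 2, 1, 2, 2, 0, 3, 3, 1, 2, 2, 0, 2, 2, 2, 1, 2, 0, 2, 4, 2, 2] :=
  C.conv (h25534 C) (h25549 C) _ _
    (by decide +kernel) (by decide +kernel)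

theorem h25563 :
    C.T (v1 C) [1, 2, 0, 2, 1, 2, 0, 2, 1, 2, 0, 3, 1, 3, 0, 2, 1, 2, 0, 3, 1, 3, 3, 0, 2, 2, 1, 3, 0, 3, 1, 2, 0, 2, 2, 1, 3, 0, 3, 3, 1, 3, 0, 0, 4, 3, 4, 3, 0] (v4 C) [1, 2, 2, 0, 3, 3, 1, 2, 2, 2, 0, 2, 1, 2, 2, 0, 3, 3, 1, 3, 3, 0, 3, 3, 1, 2, 0, 2, 2, 1, 3, 0, 2] :=
  C.conv (h19555 C) (h4776 C) _ _
    (by decide +kernel) (by decide +kernel)

theorem h25564 :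
    C.T (v1 C) [1, 2, 0, 3, 1, 3, 0, 2, 1, 2, 0, 3, 1, 3, 3, 0, 2, 2, 1, 3, 3, 0, 3, 1, 2, 0, 2, 2, 1, 3, 0, 2, 2, 2, 2, 1, 2, 0, 2, 2, 1, 2, 0, 2, 0, 0, 4, 3] (v4 C) [1, 2, 0, 2, 1, 2, 2, 0, 2, 1, 3, 0, 3, 1, 2, 0, 2, 2, 1, 2, 0, 3, 1, 2, 2, 0, 3, 1, 3, 3, 0, 3, 1, 3, 3, 0, 2, 2, 2, 1, 2, 2, 2, 0, 2, 1, 3, 0, 0, 4, 2, 2, 2, 0] :=
  C.conv (h25536 C) (h4168 C) _ _
    (by decide +kernel) (by decide +kernel)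

theorem h25565 :
    C.T (v4 C) [1, 2, 0, 2, 1, 2, 2, 0, 2, 1, 3, 0, 3, 1, 2, 0, 2, 2, 1, 2, 0, 3, 1, 2, 2, 0, 3, 1, 3, 3, 0, 3, 1, 3, 3, 0, 2, 2, 2, 1, 2, 2, 2, 0, 2, 1, 3, 0, 0, 4, 2, 2, 2, 1] (v1 C) [1, 2, 0, 3, 1, 3, 0, 2, 1, 2, 0, 3, 1, 3, 3, 0, 2, 2, 1, 3, 3, 0, 3, 1, 2, 0, 2, 2, 1, 3, 0, 2, 2, 2, 2, 1, 2, 0, 2, 2, 1, 2, 0, 2, 4, 3] :=
  C.flip (h25564 C) _ _
    (by decide +kernel) (by decide +kernel)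

theorem h25566 :
    C.T (v4 C) [1, 2, 2, 0, 3, 3, 1, 2, 2, 2, 0, 2, 1, 2, 2, 0, 3, 3, 1, 3, 3, 0, 3, 3, 1, 2, 0, 3, 4, 2, 2, 2, 0, 3, 1, 2] (v4 C) [1, 2, 0, 2, 1, 2, 0, 2, 2, 1, 3, 3, 0, 3, 1, 2, 2, 2, 0, 2, 1, 2, 0, 3, 1, 2, 2, 0, 3, 1, 2, 2, 0, 3, 1, 3, 3, 0, 3, 1, 3, 0, 3, 1, 2, 2, 0, 2, 2, 2, 1, 2, 0, 2, 1, 3, 3, 0, 3, 1, 2, 0, 0, 4, 3, 4, 3, 4, 3, 4, 2, 2, 1] :=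
  C.closeT (A := [none, some [4]]) (B := [some [4], none, some [4]])
    (C.pT (h25563 C)
    (C.pH [4] [1, 2, 2, 0, 3, 3, 1, 2, 2, 2, 0, 2, 1, 2, 2, 0, 3, 3, 1, 3, 3, 0, 3, 3, 1, 2, 0, 3, 4, 2, 2, 2, 0, 3, 1, 2] (by decide +kernel)
    (C.pNil (v4 C) [1, 2, 2, 0, 3, 3, 1, 2, 2, 2, 0, 2, 1, 2, 2, 0, 3, 3, 1, 3, 3, 0, 3, 3, 1, 2, 0, 3, 4, 2, 2, 2, 0, 3, 1, 2])))
    (C.pH [4] [1, 2, 0, 2, 1, 2, 2, 0, 2, 1, 3, 0, 3, 1, 2, 0, 2, 2, 1, 2, 0, 3, 1, 2, 2, 0, 3, 1, 3, 3, 0, 3, 1, 3, 3, 0, 2, 2, 2, 1, 2, 2, 2, 0, 2, 1, 3, 0, 0, 4, 2, 2, 2, 1] (by decide +kernel)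
    (C.pT (h25565 C)
    (C.pH [4] [1, 2, 0, 2, 1, 2, 0, 2, 1, 2, 0, 3, 1, 3, 0, 2, 1, 2, 0, 3, 1, 3, 3, 0, 2, 2, 1, 3, 0, 3, 1, 2, 0, 2, 2, 1, 3, 0, 3, 3, 1, 3, 0, 0, 4, 3, 4, 3, 0] (by decide +kernel)
    (C.pNil (v1 C) [1, 2, 0, 2, 1, 2, 0, 2, 1, 2, 0, 3, 1, 3, 0, 2, 1, 2, 0, 3, 1, 3, 3, 0, 2, 2, 1, 3, 0, 3, 1, 2, 0, 2, 2, 1, 3, 0, 3, 3, 1, 3, 0, 0, 4, 3, 4, 3, 0])))) C.relOne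

theorem h25568 :
    C.S (v4 C) [2, 1, 3, 3, 0, 3, 1, 2, 2, 2, 0, 2, 1, 2, 0, 3, 1, 2, 0, 2, 2, 1, 3, 0, 3, 1, 3, 3, 0, 3, 3, 1, 3, 0, 2, 1, 2, 0, 2, 2, 1, 2, 0, 3, 1, 3, 0, 2, 4, 2, 0, 4, 2, 0, 4] :=
  C.stInv (h25252 C) _ (by decide +kernel)

theorem h25569 :
    C.T (v4 C) [0, 4, 2, 2, 4, 3, 1] (v4 C) [1, 2, 0, 3, 1, 3, 0, 2, 1, 2, 0, 3, 1, 3, 0, 2, 1, 3, 0, 3, 1, 2, 2, 2, 2, 0, 2, 1, 3, 0, 3, 1, 2, 0, 2, 1, 2, 2, 0, 0, 4, 3, 4, 3, 4, 3, 4, 2, 2, 1] :=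
  C.conv (h25566 C) (h25568 C) _ _
    (by decide +kernel) (by decide +kernel)

theorem h25579 :
    C.T (v3 C) [] (v4 C) [1, 2, 0, 2, 1, 2, 0, 2, 2, 1, 3, 3, 0, 3, 1, 2, 2, 2, 0, 2, 1, 2, 0, 3, 1, 2, 0, 2, 2, 1, 3, 3, 0, 3, 1, 2, 0, 2, 1, 2, 0, 2, 1, 3, 0, 2, 2, 0] :=
  C.conv (h23912 C) (h16412 C) _ _
    (by decide +kernel) (by decide +kernel)

theorem h25580 :
    C.T (v3 C) [1] (v4 C) [1, 2, 2, 0, 3, 3, 1, 2, 2, 2, 0, 2, 1, 2, 2, 2, 2, 0, 2, 2, 1, 2, 0, 0, 0] :=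
  C.conv (h23949 C) (h16412 C) _ _
    (by decide +kernel) (by decide +kernel)

theorem h25581 :
    C.T (v4 C) [1, 2, 2, 0, 3, 3, 1, 2, 2, 2, 0, 2, 1, 2, 2, 2, 2, 0, 2, 2, 1, 2, 0] (v3 C) [0] :=
  C.flip (h25580 C) _ _
    (by decide +kernel) (by decide +kernel)

theorem h25582 :
    C.T (v4 C) [1, 2, 0, 2, 1, 2, 0, 2, 2, 1, 3, 3, 0, 3, 1, 2, 2, 2, 0, 2, 1, 2, 0, 3, 1, 2, 0, 2, 2, 1, 3, 3, 0, 3, 1, 2, 0, 2, 1, 2, 0, 2, 1, 3, 0, 2, 2, 0] (v4 C) [1, 2, 2, 0, 3, 3, 1, 2, 2, 2, 0, 2, 1, 2, 2, 0, 3, 3, 1, 3, 0, 2, 2, 1, 3, 3, 0, 3, 1, 2, 2, 2, 0, 2, 2, 1, 3, 0, 2, 1, 2] :=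
  C.closeT (A := [none]) (B := [some [1], some [0, 0], none, some [0, 0, 0]])
    (C.pT (h25579 C)
    (C.pNil (v4 C) [1, 2, 0, 2, 1, 2, 0, 2, 2, 1, 3, 3, 0, 3, 1, 2, 2, 2, 0, 2, 1, 2, 0, 3, 1, 2, 0, 2, 2, 1, 3, 3, 0, 3, 1, 2, 0, 2, 1, 2, 0, 2, 1, 3, 0, 2, 2, 0]))
    (C.pH [1] [1, 2, 2, 0, 3, 3, 1, 2, 2, 2, 0, 2, 1, 2, 2, 2, 2, 0, 2, 2, 1, 2, 0, 0, 0] (by decide +kernel)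
    (C.pH [0, 0] [1, 2, 2, 0, 3, 3, 1, 2, 2, 2, 0, 2, 1, 2, 2, 2, 2, 0, 2, 2, 1, 2, 0] (by decide +kernel)
    (C.pT (h25581 C)
    (C.pH [0, 0, 0] [] (by decide +kernel)
    (C.pNil (v3 C) []))))) C.relTwo

theorem h25584 :
    C.S (v4 C) [0, 0, 4] :=
  C.stInv (h24034 C) _ (by decide +kernel)

theorem h25585 :
    C.T (v4 C) [1, 4] (v4 C) [1, 2, 0, 3, 1, 3, 0, 2, 1, 2, 0, 3, 1, 3, 0, 2, 2, 1, 3, 3, 0, 3, 1, 3, 0, 2, 2, 1, 2, 0, 3, 1, 3, 0, 2, 1, 2] :=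
  C.conv (h25582 C) (h25584 C) _ _
    (by decide +kernel) (by decide +kernel)

theorem h25598 :
    C.T (v3 C) [] (v4 C) [1, 2, 0, 2, 1, 2, 0, 2, 2, 1, 3, 3, 0, 3, 1, 2, 2, 2, 0, 2, 1, 2, 0, 3, 1, 2, 0, 2, 2, 1, 3, 3, 0, 3, 1, 2, 0, 2, 1, 2, 0, 2, 1, 3, 0, 2, 2, 0] :=
  C.conv (h23912 C) (h16412 C) _ _
    (by decide +kernel) (by decide +kernel)

theorem h25599 :
    C.T (v3 C) [0, 0, 4] (v4 C) [1, 2, 0, 2, 1, 2, 0, 2, 2, 1, 3, 3, 0, 3, 1, 2, 2, 2, 0, 2, 1, 2, 0, 3, 1, 2, 0, 2, 2, 1, 3, 3, 0, 3, 1, 2, 0, 2, 1, 2, 0, 2, 1, 3, 0, 2, 2, 0] :=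
  C.conv (h23912 C) (h16413 C) _ _
    (by decide +kernel) (by decide +kernel)

theorem h25600 :
    C.T (v4 C) [1, 2, 0, 2, 1, 2, 0, 2, 2, 1, 3, 3, 0, 3, 1, 2, 2, 2, 0, 2, 1, 2, 0, 3, 1, 2, 0, 2, 2, 1, 3, 3, 0, 3, 1, 2, 0, 2, 1, 2, 0, 2, 1, 3, 0, 2, 2, 1] (v3 C) [4] :=
  C.flip (h25599 C) _ _
    (by decide +kernel) (by decide +kernel)

theorem h25601 :
    C.T (v4 C) [1, 2, 0, 2, 1, 2, 0, 2, 2, 1, 3, 3, 0, 3, 1, 2, 2, 2, 0, 2, 1, 2, 0, 3, 1, 2, 0, 2, 2, 1, 3, 3, 0, 3, 1, 2, 0, 2, 1, 2, 0, 2, 1, 3, 0, 3, 4, 2, 2, 2, 0] (v4 C) [1, 2, 0, 2, 1, 2, 0, 2, 2, 1, 3, 3, 0, 3, 1, 2, 2, 2, 0, 2, 1, 2, 0, 3, 1, 2, 0, 2, 2, 1, 3, 3, 0, 3, 1, 2, 0, 2, 1, 2, 0, 2, 1, 3, 0, 3, 4, 2, 2, 2, 1] :=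
  C.closeT (A := [none, some [4]]) (B := [some [4], none, some [4]])
    (C.pT (h25598 C)
    (C.pH [4] [1, 2, 0, 2, 1, 2, 0, 2, 2, 1, 3, 3, 0, 3, 1, 2, 2, 2, 0, 2, 1, 2, 0, 3, 1, 2, 0, 2, 2, 1, 3, 3, 0, 3, 1, 2, 0, 2, 1, 2, 0, 2, 1, 3, 0, 3, 4, 2, 2, 2, 0] (by decide +kernel)
    (C.pNil (v4 C) [1, 2, 0, 2, 1, 2, 0, 2, 2, 1, 3, 3, 0, 3, 1, 2, 2, 2, 0, 2, 1, 2, 0, 3, 1, 2, 0, 2, 2, 1, 3, 3, 0, 3, 1, 2, 0, 2, 1, 2, 0, 2, 1, 3, 0, 3, 4, 2, 2, 2, 0])))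
    (C.pH [4] [1, 2, 0, 2, 1, 2, 0, 2, 2, 1, 3, 3, 0, 3, 1, 2, 2, 2, 0, 2, 1, 2, 0, 3, 1, 2, 0, 2, 2, 1, 3, 3, 0, 3, 1, 2, 0, 2, 1, 2, 0, 2, 1, 3, 0, 2, 2, 1] (by decide +kernel)
    (C.pT (h25600 C)
    (C.pH [4] [] (by decide +kernel)
    (C.pNil (v3 C) [])))) C.relOne

theorem h25603 :
    C.S (v4 C) [0, 0, 4] :=
  C.stInv (h25264 C) _ (by decide +kernel)

theorem h25604 :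
    C.T (v4 C) [4, 2, 2, 2, 1, 4] (v4 C) [4, 2, 2, 2, 1] :=
  C.conv (h25601 C) (h25603 C) _ _
    (by decide +kernel) (by decide +kernel)

theorem h25617 :
    C.T (v3 C) [1, 2, 2, 2, 0, 0, 0, 4] (v4 C) [1, 2, 0, 2, 1, 2, 0, 2, 2, 1, 3, 3, 0, 3, 1, 2, 2, 2, 0, 2, 1, 2, 0, 3, 1, 2, 0, 2, 2, 1, 3, 0, 2, 1, 2, 2, 0, 2, 1, 3, 0, 3, 3, 1, 3, 0, 2, 2, 2, 1, 2, 0, 2, 2, 1, 2, 0, 0] :=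
  C.conv (h23912 C) (h16413 C) _ _
    (by decide +kernel) (by decide +kernel)

theorem h25618 :
    C.T (v4 C) [1, 2, 0, 2, 1, 2, 0, 2, 2, 1, 3, 3, 0, 3, 1, 2, 2, 2, 0, 2, 1, 2, 0, 3, 1, 2, 0, 2, 2, 1, 3, 0, 3, 1, 3, 3, 0, 3, 3, 1, 3, 0, 2, 1, 2, 0, 3, 3, 1, 3, 0, 2, 1, 2, 0, 3, 4, 3, 1, 4, 3, 4] (v4 C) [2, 1, 3, 3, 0, 3, 1, 2, 2, 2, 0, 2, 1, 2, 0, 3, 1, 2, 2, 0, 2, 1, 3, 0, 3, 1, 2, 2, 0, 3, 3, 1, 2, 2, 0, 2, 2, 1, 3, 0, 2, 2, 1, 2, 0, 3, 1, 3, 0, 2, 1, 2] :=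
  C.conv (h25585 C) (h24039 C) _ _
    (by decide +kernel) (by decide +kernel)

theorem h25619 :
    C.T (v4 C) [1, 2, 0, 2, 1, 2, 2, 0, 2, 1, 3, 0, 3, 1, 2, 0, 2, 2, 1, 3, 0, 3, 3, 1, 2, 0, 2, 1, 2, 0, 3, 1, 3, 0, 2, 4, 2, 4, 2, 1, 3, 4] (v3 C) [0, 4, 2, 2, 2, 1, 4] :=
  C.closeT (A := [none, some [4], none, some [4]]) (B := [some [4]])
    (C.pT (h25617 C)
    (C.pH [4] [1, 2, 0, 2, 1, 2, 0, 2, 2, 1, 3, 3, 0, 3, 1, 2, 2, 2, 0, 2, 1, 2, 0, 3, 1, 2, 0, 2, 2, 1, 3, 0, 3, 1, 3, 3, 0, 3, 3, 1, 3, 0, 2, 1, 2, 0, 3, 3, 1, 3, 0, 2, 1, 2, 0, 3, 4, 3, 1, 4, 3, 4] (by decide +kernel)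
    (C.pT (h25618 C)
    (C.pH [4] [1, 2, 0, 2, 1, 2, 2, 0, 2, 1, 3, 0, 3, 1, 2, 0, 2, 2, 1, 3, 0, 3, 3, 1, 2, 0, 2, 1, 2, 0, 3, 1, 3, 0, 2, 4, 2, 4, 2, 1, 3, 4] (by decide +kernel)
    (C.pNil (v4 C) [1, 2, 0, 2, 1, 2, 2, 0, 2, 1, 3, 0, 3, 1, 2, 0, 2, 2, 1, 3, 0, 3, 3, 1, 2, 0, 2, 1, 2, 0, 3, 1, 3, 0, 2, 4, 2, 4, 2, 1, 3, 4])))))
    (C.pH [4] [1, 2, 2, 2, 0, 0, 0, 4] (by decide +kernel)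
    (C.pNil (v3 C) [1, 2, 2, 2, 0, 0, 0, 4])) C.relOne

theorem h25620 :
    C.T (v3 C) [0, 4, 2, 2, 2, 0, 4] (v4 C) [1, 2, 0, 2, 1, 2, 2, 0, 2, 1, 3, 0, 3, 1, 2, 0, 2, 2, 1, 3, 0, 3, 3, 1, 2, 0, 2, 1, 2, 0, 3, 1, 3, 0, 2, 4, 2, 4, 2, 0, 3, 4] :=
  C.flip (h25619 C) _ _
    (by decide +kernel) (by decide +kernel)

theorem h25621 :
    C.S (v4 C) [3, 1, 2, 0, 2, 1, 3, 0, 3, 1, 2, 0, 2, 2, 1, 2, 0, 2, 2, 2, 1, 2, 2, 0, 3, 3, 1, 3, 0, 3, 1, 3, 0, 2, 2, 0, 4, 2, 4, 3, 4, 3] :=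
  C.stInv (h25348 C) _ (by decide +kernel)

theorem h25622 :
    C.T (v4 C) [0, 4, 2, 0, 4, 2, 2, 0] (v3 C) [1, 2, 0, 3, 1, 3, 0, 2, 1, 2, 0, 3, 1, 3, 3, 0, 2, 2, 1, 3, 0, 2, 2, 1, 3, 0, 3, 1, 2, 2, 0, 2, 1, 3, 0, 2, 2, 2, 1, 2, 0, 3, 1, 3, 0, 2, 1, 2, 0, 0, 4, 2, 2, 2, 1, 4] :=
  C.conv (h25619 C) (h25621 C) _ _
    (by decide +kernel) (by decide +kernel)

theorem h25632 :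
    C.S (v3 C) [1, 2, 0, 2, 1, 2, 0, 2, 1, 2, 2, 0, 3, 3, 1, 2, 2, 2, 0, 2, 1, 2, 2, 0, 3, 3, 1, 3, 0, 2, 2, 1, 3, 0, 3, 1, 2, 2, 0, 2, 2, 1, 3, 0, 2, 1, 2, 0, 4, 2, 0, 2, 4] :=
  C.stInv (h17452 C) _ (by decide +kernel)

theorem h25633 :
    C.T (v3 C) [0, 4, 2, 2, 2, 1, 4] (v4 C) [1, 2, 0, 2, 2, 2, 1, 3, 3, 0, 3, 1, 2, 2, 0, 2, 1, 3, 0, 3, 1, 2, 2, 0, 2, 2, 2, 1, 2, 0, 3, 3, 4, 2, 4, 2, 0, 3, 4] :=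
  C.conv (h25620 C) (h25632 C) _ _
    (by decide +kernel) (by decide +kernel)

theorem h25640 :
    C.T (v3 C) [2, 2, 1, 3, 0, 3, 1, 2, 2, 0, 2, 2, 2, 1, 3, 0, 3, 1] (v4 C) [1, 2, 2, 0, 3, 3, 1, 2, 2, 2, 0, 2, 1, 2, 2, 0, 3, 1, 3, 0, 3, 1, 2, 2, 2, 0, 2, 2, 2, 1, 2, 0, 2, 2, 2, 2, 1, 2, 0, 2, 2, 1, 2, 0, 0, 0] :=
  C.conv (h23949 C) (h16412 C) _ _
    (by decide +kernel) (by decide +kernel)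

theorem h25641 :
    C.T (v4 C) [1, 2, 2, 0, 3, 3, 1, 2, 2, 2, 0, 2, 1, 2, 2, 0, 3, 1, 3, 0, 3, 1, 2, 2, 2, 0, 2, 2, 2, 1, 2, 0, 2, 2, 2, 2, 1, 2, 0, 2, 2, 1, 2, 0] (v3 C) [2, 2, 1, 3, 0, 3, 1, 2, 2, 0, 2, 2, 2, 1, 3, 0, 3, 0] :=
  C.flip (h25640 C) _ _
    (by decide +kernel) (by decide +kernel)

theorem h25642 :
    C.T (v4 C) [3, 1, 3, 0, 2, 2, 1, 3, 0, 2, 1, 2, 0, 3, 1, 3, 0, 2, 2, 1, 2, 0, 3, 1, 3, 0, 2, 2, 4, 2, 4, 3, 4, 3, 1] (v3 C) [1, 2, 2, 0, 3, 3, 1, 2, 2, 2, 0, 2, 1, 3, 0, 2, 1, 3, 0, 0] :=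
  C.conv (h23937 C) (h23971 C) _ _
    (by decide +kernel) (by decide +kernel)

theorem h25643 :
    C.T (v3 C) [1, 2, 2, 0, 3, 3, 1, 2, 2, 2, 0, 2, 1, 3, 0, 2, 1, 3] (v4 C) [3, 1, 3, 0, 2, 2, 1, 3, 0, 2, 1, 2, 0, 3, 1, 3, 0, 2, 2, 1, 2, 0, 3, 1, 3, 0, 2, 2, 4, 2, 4, 3, 4, 3, 0] :=
  C.flip (h25642 C) _ _
    (by decide +kernel) (by decide +kernel)

theorem h25644 :
    C.T (v3 C) [0, 4, 2, 2, 2, 0, 2, 0, 2] (v3 C) [1, 2, 2, 0, 3, 3, 1, 2, 2, 2, 0, 2, 1, 3, 0, 3, 4, 2, 2, 1, 3] :=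
  C.closeT (A := []) (B := [some [4], none, some [4], none, some [4]])
    (C.pNil (v3 C) [0, 4, 2, 2, 2, 0, 2, 0, 2])
    (C.pH [4] [1, 2, 2, 0, 3, 3, 1, 2, 2, 2, 0, 2, 1, 3, 0, 2, 1, 3] (by decide +kernel)
    (C.pT (h25643 C)
    (C.pH [4] [1, 2, 2, 0, 3, 3, 1, 2, 2, 2, 0, 2, 1, 2, 2, 0, 3, 1, 3, 0, 3, 1, 2, 2, 2, 0, 2, 2, 2, 1, 2, 0, 2, 2, 2, 2, 1, 2, 0, 2, 2, 1, 2, 0] (by decide +kernel)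
    (C.pT (h25641 C)
    (C.pH [4] [0, 4, 2, 2, 2, 0, 2, 0, 2] (by decide +kernel)
    (C.pNil (v3 C) [0, 4, 2, 2, 2, 0, 2, 0, 2])))))) C.relOne

end CfsgLib.HNIndex
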