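import Cfsg.Agent.Lib.HNIndex.Items2

/-!
# Derived equations (generated)
-/

set_option autoImplicit false
set_option linter.style.longLine false

namespace CfsgLib.HNIndex

variable {G X : Type} [Group G] [MulAction G X] (C : Ctx G X)

theorem h25658 :
    C.T (v4 C) [4, 2, 2, 2, 1, 4] (v4 C) [4, 2, 2, 2, 1] :=
  C.conv (h25604 C) (h23966 C) _ _
    (by decide +kernel) (by decide +kernel)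

theorem h25659 :
    C.T (v4 C) [0, 4, 2, 2, 2, 0, 4] (v1 C) [1, 2, 0, 2, 1, 2, 0, 2, 1, 2, 2, 0, 3, 3, 1, 2, 2, 0, 2, 2, 2, 1, 2, 0, 2, 4, 2, 2] :=
  C.conv (h25550 C) (h23966 C) _ _
    (by decide +kernel) (by decide +kernel)

theorem h25660 :
    C.T (v1 C) [1, 2, 0, 2, 1, 2, 0, 2, 1, 2, 2, 0, 3, 3, 1, 2, 2, 0, 2, 2, 2, 1, 2, 0, 2, 0, 0, 4, 2, 2] (v4 C) [0, 4, 2, 2, 2, 1, 4] :=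
  C.flip (h25659 C) _ _
    (by decide +kernel) (by decide +kernel)

theorem h25661 :
    C.T (v4 C) [4, 2, 2, 2, 1] (v1 C) [2, 1, 3, 3, 0, 3, 1, 2, 2, 2, 0, 2, 1, 2, 0, 3, 1, 2, 0, 2, 2, 1, 3, 3, 0, 3, 1, 2, 2, 0, 3, 3, 1, 3, 3, 0, 3, 3, 1, 2, 0, 2, 2, 1, 3, 0, 3, 0, 4, 2, 2] :=
  C.closeT (A := [none]) (B := [some [1], some [0, 0], none, some [0, 0, 0]])
    (C.pT (h25658 C)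
    (C.pNil (v4 C) [4, 2, 2, 2, 1]))
    (C.pH [1] [1, 2, 0, 2, 1, 2, 0, 2, 1, 2, 2, 0, 3, 3, 1, 2, 2, 0, 2, 2, 2, 1, 2, 0, 2, 4, 2, 2] (by decide +kernel)
    (C.pH [0, 0] [1, 2, 0, 2, 1, 2, 0, 2, 1, 2, 2, 0, 3, 3, 1, 2, 2, 0, 2, 2, 2, 1, 2, 0, 2, 0, 0, 4, 2, 2] (by decide +kernel)
    (C.pT (h25660 C)
    (C.pH [0, 0, 0] [4, 2, 2, 2, 1, 4] (by decide +kernel)
    (C.pNil (v4 C) [4, 2, 2, 2, 1, 4]))))) C.relTwo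

theorem h25662 :
    C.T (v1 C) [2, 1, 3, 3, 0, 3, 1, 2, 2, 2, 0, 2, 1, 2, 0, 3, 1, 2, 0, 2, 2, 1, 3, 3, 0, 3, 1, 2, 2, 0, 3, 3, 1, 3, 3, 0, 3, 3, 1, 2, 0, 2, 2, 1, 3, 0, 3, 1, 4, 2, 2] (v4 C) [4, 2, 2, 2, 0] :=
  C.flip (h25661 C) _ _
    (by decide +kernel) (by decide +kernel)

theorem h25672 :
    C.S (v1 C) [2, 1, 3, 3, 0, 3, 1, 2, 2, 2, 0, 2, 1, 2, 0, 3, 1, 2, 0, 2, 2, 1, 3, 3, 0, 3, 1, 2, 2, 0, 3, 3, 3, 1, 3, 3, 0, 3, 3, 1, 2, 2, 0, 2, 2, 2, 2, 1, 2, 2, 0] :=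
  C.stInv (h4098 C) _ (by decide +kernel)

theorem h25673 :
    C.T (v1 C) [1, 4] (v4 C) [3, 1, 3, 0, 2, 2, 1, 3, 3, 0, 3, 1, 2, 0, 2, 1, 2, 0, 2, 4, 2, 2, 2, 0] :=
  C.conv (h25662 C) (h25672 C) _ _
    (by decide +kernel) (by decide +kernel)

theorem h25681 :
    C.T (v1 C) [4, 2, 1] (v5 C) [] :=
  C.defn _ _

theorem h25682 :
    C.T (v5 C) [0, 0] (v1 C) [4, 2, 0] :=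
  C.flip (h25681 C) _ _
    (by decide +kernel) (by decide +kernel)

theorem h25683 :
    C.S (v1 C) [1, 2, 0, 2, 1, 2, 2, 0, 2, 1, 3, 0, 3, 1, 2, 0, 2, 2, 1, 2, 0, 3, 1, 2, 2, 0, 3, 1, 3, 3, 0, 3, 1, 3, 0, 2, 1, 2, 2, 0, 2, 1, 3, 0, 3, 1, 2, 0, 2] :=
  C.stInv (h4273 C) _ (by decide +kernel)

theorem h25684 :
    C.T (v1 C) [4, 2, 1] (v5 C) [1, 2, 0, 2, 1, 2, 0, 2, 1, 2, 2, 0, 3, 3, 1, 2, 2, 2, 0, 2, 1, 2, 2, 0, 3, 3, 1, 3, 0, 2, 2, 1, 3, 0, 2, 1, 2, 2, 0, 2, 1, 3, 0, 3, 3, 1, 3, 0] :=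
  C.conv (h25681 C) (h25683 C) _ _
    (by decide +kernel) (by decide +kernel)

theorem h25685 :
    C.E (v5 C) [1, 2, 0, 2, 1, 2, 0, 2, 1, 2, 2, 0, 3, 3, 1, 2, 2, 2, 0, 2, 1, 2, 2, 0, 3, 3, 1, 3, 0, 2, 2, 1, 3, 0, 2, 1, 2, 2, 0, 2, 1, 3, 0, 3, 3, 1, 3, 0] (v5 C) [] :=
  C.sameSrc (h25684 C) (h25681 C)

theorem h25686 :
    C.S (v1 C) [1, 2, 0, 2, 1, 2, 2, 0, 2, 1, 3, 0, 3, 1, 2, 0, 2, 2, 1, 2, 0, 2, 2, 1, 3, 3, 0, 2, 1, 2, 0, 2, 2, 1, 2, 2, 0, 2, 1, 2, 2, 0, 2, 2, 2, 2, 1, 2, 0, 3, 1, 3, 0, 2, 1, 2, 0, 2] :=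
  C.stInv (h4276 C) _ (by decide +kernel)

theorem h25687 :
    C.T (v1 C) [4, 2, 1] (v5 C) [1, 2, 0, 2, 1, 2, 0, 2, 1, 2, 2, 0, 3, 3, 1, 2, 2, 2, 0, 2, 1, 2, 2, 0, 3, 1, 3, 0, 3, 1, 2, 2, 0, 2, 1, 2, 2, 0, 3, 3, 1, 3, 3, 0, 3, 3] :=
  C.conv (h25681 C) (h25686 C) _ _
    (by decide +kernel) (by decide +kernel)

theorem h25688 :
    C.E (v5 C) [1, 2, 0, 2, 1, 2, 0, 2, 1, 2, 2, 0, 3, 3, 1, 2, 2, 2, 0, 2, 1, 2, 2, 0, 3, 1, 3, 0, 3, 1, 2, 2, 0, 2, 1, 2, 2, 0, 3, 3, 1, 3, 3, 0, 3, 3] (v5 C) [] :=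
  C.sameSrc (h25687 C) (h25681 C)

theorem h25689 :
    C.S (v1 C) [3, 1, 2, 0, 2, 1, 3, 0, 3, 1, 2, 0, 2, 2, 1, 2, 0, 2, 2, 1, 3, 3, 0, 2, 1, 2, 0, 2, 1, 2, 2, 0, 2, 2, 2, 1, 2, 0] :=
  C.stInv (h4279 C) _ (by decide +kernel)

theorem h25690 :
    C.T (v1 C) [4, 2, 1] (v5 C) [2, 1, 3, 3, 0, 2, 1, 2, 0, 2, 1, 2, 0, 3, 1, 3, 0, 3, 1, 2, 0, 3] :=
  C.conv (h25681 C) (h25689 C) _ _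
    (by decide +kernel) (by decide +kernel)

theorem h25691 :
    C.E (v5 C) [2, 1, 3, 3, 0, 2, 1, 2, 0, 2, 1, 2, 0, 3, 1, 3, 0, 3, 1, 2, 0, 3] (v5 C) [] :=
  C.sameSrc (h25690 C) (h25681 C)

theorem h25692 :
    C.S (v5 C) [1, 2, 0, 2, 1, 2, 0, 2, 1, 2, 2, 0, 3, 3, 1, 2, 2, 2, 0, 2, 1, 2, 2, 0, 3, 3, 1, 3, 0, 2, 2, 1, 3, 0, 2, 1, 2, 2, 0, 2, 1, 3, 0, 3, 3, 1, 3, 0] :=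
  C.stEq (h25685 C) _ (by decide +kernel)

theorem h26718 :
    C.S (v5 C) [1, 2, 0, 3, 1, 3, 0, 2, 1, 2, 0, 3, 1, 3, 0, 2, 1, 3, 0, 3, 1, 2, 2, 0, 2, 1, 2, 2, 0, 3, 3, 1, 2, 2, 0, 2, 2] :=
  C.stEq (h25688 C) _ (by decide +kernel)

theorem h28393 :
    C.S (v5 C) [2, 1, 3, 3, 0, 2, 1, 2, 0, 2, 1, 2, 0, 3, 1, 3, 0, 3, 1, 2, 0, 3] :=
  C.stEq (h25691 C) _ (by decide +kernel)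

theorem h30003 :
    C.T (v1 C) [0, 4] (v5 C) [1, 2, 0, 2, 1, 2, 0, 2, 2, 1, 3, 0, 2, 2, 1, 3, 0, 2] :=
  C.conv (h25681 C) (h4246 C) _ _
    (by decide +kernel) (by decide +kernel)

theorem h30004 :
    C.T (v1 C) [0] (v1 C) [1] :=
  C.conv (h5558 C) (h4011 C) _ _
    (by decide +kernel) (by decide +kernel)

theorem h30005 :
    C.T (v1 C) [0] (v1 C) [1] :=
  C.flip (h30004 C) _ _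
    (by decide +kernel) (by decide +kernel)

theorem h30006 :
    C.T (v1 C) [0, 4] (v5 C) [1, 2, 0, 2, 1, 2, 0, 2, 2, 1, 3, 0, 2, 2, 1, 3, 0, 2] :=
  C.conv (h25681 C) (h4246 C) _ _
    (by decide +kernel) (by decide +kernel)

theorem h30007 :
    C.T (v5 C) [1, 2, 0, 2, 1, 2, 0, 2, 2, 1, 3, 0, 2, 2, 1, 3, 0, 2, 0, 0] (v1 C) [1, 4] :=
  C.flip (h30006 C) _ _
    (by decide +kernel) (by decide +kernel)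

theorem h30008 :
    C.E (v5 C) [1, 2, 0, 2, 1, 2, 0, 2, 2, 1, 3, 0, 2, 2, 1, 3, 0, 2, 4] (v5 C) [1, 2, 0, 2, 1, 2, 0, 2, 2, 1, 3, 0, 2, 2, 1, 3, 0, 2, 0, 0] :=
  C.closeE (A := [none, some [4]]) (B := [none, some [4], none, some [4]])
    (C.pT (h30003 C)
    (C.pH [4] [1, 2, 0, 2, 1, 2, 0, 2, 2, 1, 3, 0, 2, 2, 1, 3, 0, 2, 4] (by decide +kernel)
    (C.pNil (v5 C) [1, 2, 0, 2, 1, 2, 0, 2, 2, 1, 3, 0, 2, 2, 1, 3, 0, 2, 4])))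
    (C.pT (h30007 C)
    (C.pH [4] [0] (by decide +kernel)
    (C.pT (h30005 C)
    (C.pH [4] [0, 4] (by decide +kernel)
    (C.pNil (v1 C) [0, 4]))))) C.relOne

theorem h30009 :
    C.S (v5 C) [0, 0, 4] :=
  C.stEq (h30008 C) _ (by decide +kernel)

theorem h30010 :
    C.S (v5 C) [] :=
  C.stOne _

theorem h30031 :
    C.S (v5 C) [0, 0, 4] :=
  C.stMul (h30010 C) (h30009 C) _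
    (by decide +kernel)

theorem h31528 :
    C.S (v5 C) [0, 0, 4] :=
  C.stInv (h30031 C) _ (by decide +kernel)

theorem h31529 :
    C.T (v5 C) [4] (v1 C) [4, 2, 0] :=
  C.conv (h25682 C) (h31528 C) _ _
    (by decide +kernel) (by decide +kernel)

theorem h31539 :
    C.T (v1 C) [0, 0, 4] (v4 C) [1, 2, 0, 3, 1, 3, 0, 2, 1, 2, 0, 3, 1, 3, 3, 0, 2, 2, 1, 3, 3, 0, 3, 1, 2, 0, 2, 2, 1, 2, 0, 0, 4, 2, 2, 2, 0] :=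
  C.conv (h25536 C) (h4011 C) _ _
    (by decide +kernel) (by decide +kernel)

theorem h31540 :
    C.T (v1 C) [0, 4] (v5 C) [1, 2, 0, 2, 1, 2, 0, 2, 2, 1, 3, 0, 2, 2, 1, 3, 0, 2] :=
  C.conv (h25681 C) (h4246 C) _ _
    (by decide +kernel) (by decide +kernel)

theorem h31541 :
    C.T (v5 C) [1, 2, 0, 2, 1, 2, 0, 2, 2, 1, 3, 0, 2, 2, 1, 3, 0, 2, 0, 0] (v1 C) [1, 4] :=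
  C.flip (h31540 C) _ _
    (by decide +kernel) (by decide +kernel)

theorem h31542 :
    C.T (v4 C) [1, 2, 0, 3, 1, 3, 0, 2, 1, 2, 0, 3, 1, 3, 3, 0, 2, 2, 1, 3, 3, 0, 3, 1, 2, 0, 2, 2, 1, 2, 0, 0, 4, 2, 2, 2, 0] (v5 C) [1, 2, 0, 2, 1, 2, 2, 0, 2, 1, 3, 0, 3, 1, 2, 0, 2, 2, 1, 2, 0, 2, 2, 1, 2, 0, 2, 2, 1, 3, 0, 0] :=
  C.closeT (A := [none]) (B := [some [1], some [0, 0], none, some [0, 0, 0]])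
    (C.pT (h31539 C)
    (C.pNil (v4 C) [1, 2, 0, 3, 1, 3, 0, 2, 1, 2, 0, 3, 1, 3, 3, 0, 2, 2, 1, 3, 3, 0, 3, 1, 2, 0, 2, 2, 1, 2, 0, 0, 4, 2, 2, 2, 0]))
    (C.pH [1] [1, 2, 0, 2, 1, 2, 0, 2, 2, 1, 3, 0, 2, 2, 1, 3, 0, 2] (by decide +kernel)
    (C.pH [0, 0] [1, 2, 0, 2, 1, 2, 0, 2, 2, 1, 3, 0, 2, 2, 1, 3, 0, 2, 0, 0] (by decide +kernel)
    (C.pT (h31541 C)
    (C.pH [0, 0, 0] [0, 0, 4] (by decide +kernel)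
    (C.pNil (v1 C) [0, 0, 4]))))) C.relTwo

theorem h31543 :
    C.T (v5 C) [1, 2, 0, 2, 1, 2, 2, 0, 2, 1, 3, 0, 3, 1, 2, 0, 2, 2, 1, 2, 0, 2, 2, 1, 2, 0, 2, 2, 1, 3] (v4 C) [1, 2, 0, 3, 1, 3, 0, 2, 1, 2, 0, 3, 1, 3, 3, 0, 2, 2, 1, 3, 3, 0, 3, 1, 2, 0, 2, 2, 1, 2, 0, 0, 4, 2, 2, 2, 1] :=
  C.flip (h31542 C) _ _
    (by decide +kernel) (by decide +kernel)

theorem h31544 :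
    C.S (v4 C) [0, 0, 4] :=
  C.stInv (h25073 C) _ (by decide +kernel)

theorem h31545 :
    C.T (v4 C) [0, 4, 2, 2, 2, 1, 4] (v5 C) [2, 1, 3, 3, 0, 3, 1, 2, 2, 2, 0, 2, 1, 2, 0, 3, 1, 2, 0, 2, 2, 1, 3, 3, 0, 3, 1, 2, 2, 0, 3, 3, 1, 2, 2, 2, 0, 3, 1, 2, 0, 0] :=
  C.conv (h31542 C) (h31544 C) _ _
    (by decide +kernel) (by decide +kernel)

theorem h31558 :
    C.S (v5 C) [] :=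
  C.stInv (h30010 C) _ (by decide +kernel)

theorem h31559 :
    C.T (v5 C) [1] (v4 C) [1, 2, 0, 2, 1, 2, 0, 2, 2, 1, 3, 3, 0, 3, 1, 2, 2, 2, 0, 2, 1, 2, 0, 3, 1, 2, 2, 0, 2, 1, 3, 0, 3, 1, 2, 2, 2, 2, 0, 2, 1, 3, 0, 3, 1, 2, 0, 2, 2, 1, 2, 0, 0, 4, 2, 2, 2, 1] :=
  C.conv (h31543 C) (h31558 C) _ _
    (by decide +kernel) (by decide +kernel)

theorem h31569 :
    C.T (v1 C) [4, 2, 1] (v5 C) [] :=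
  C.conv (h25681 C) (h4011 C) _ _
    (by decide +kernel) (by decide +kernel)

theorem h31570 :
    C.T (v1 C) [0, 4, 2, 0] (v1 C) [1, 2, 0, 3, 1, 3, 0, 2, 1, 2, 0, 3, 1, 2, 0, 2, 2, 2, 1, 3, 3, 0, 2, 0, 0, 4] :=
  C.conv (h5543 C) (h4053 C) _ _
    (by decide +kernel) (by decide +kernel)

theorem h31571 :
    C.T (v1 C) [1, 2, 0, 3, 1, 3, 0, 2, 1, 2, 0, 3, 1, 2, 0, 2, 2, 2, 1, 3, 3, 0, 2, 4] (v1 C) [0, 4, 2, 1] :=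
  C.flip (h31570 C) _ _
    (by decide +kernel) (by decide +kernel)

theorem h31572 :
    C.T (v1 C) [2, 1, 3, 3, 0, 3, 1, 2, 2, 2, 0, 2, 1, 2, 0, 3, 1, 2, 2, 0, 2, 2, 1, 3, 3, 0, 2, 1, 2, 0, 0, 4] (v5 C) [1, 2, 0, 2, 1, 2, 0, 2, 1, 2, 0, 3, 1, 3, 0, 2, 1, 2, 0, 3, 1, 3, 3, 0, 2, 2, 1, 3, 0, 2, 1, 3, 0, 2, 2, 1, 3, 0, 2] :=
  C.conv (h25681 C) (h4246 C) _ _
    (by decide +kernel) (by decide +kernel)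

theorem h31573 :
    C.T (v5 C) [1, 2, 0, 2, 1, 2, 0, 2, 1, 2, 0, 3, 1, 3, 0, 2, 1, 2, 0, 3, 1, 3, 3, 0, 2, 2, 1, 3, 0, 2, 1, 3, 0, 2, 2, 1, 3, 0, 2, 0, 0] (v1 C) [2, 1, 3, 3, 0, 3, 1, 2, 2, 2, 0, 2, 1, 2, 0, 3, 1, 2, 2, 0, 2, 2, 1, 3, 3, 0, 2, 1, 2, 4] :=
  C.flip (h31572 C) _ _
    (by decide +kernel) (by decide +kernel)

theorem h31574 :
    C.E (v5 C) [] (v5 C) [1, 2, 0, 2, 1, 2, 0, 2, 1, 2, 0, 3, 1, 3, 0, 2, 1, 2, 0, 3, 1, 3, 3, 0, 2, 2, 1, 3, 0, 2, 1, 3, 0, 2, 2, 1, 3, 0, 2, 0, 0] :=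
  C.closeE (A := [none]) (B := [none, some [1], some [0, 0], none, some [0, 0, 0]])
    (C.pT (h31569 C)
    (C.pNil (v5 C) []))
    (C.pT (h31573 C)
    (C.pH [1] [1, 2, 0, 3, 1, 3, 0, 2, 1, 2, 0, 3, 1, 2, 0, 2, 2, 2, 1, 3, 3, 0, 2, 0, 0, 4] (by decide +kernel)
    (C.pH [0, 0] [1, 2, 0, 3, 1, 3, 0, 2, 1, 2, 0, 3, 1, 2, 0, 2, 2, 2, 1, 3, 3, 0, 2, 4] (by decide +kernel)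
    (C.pT (h31571 C)
    (C.pH [0, 0, 0] [4, 2, 1] (by decide +kernel)
    (C.pNil (v1 C) [4, 2, 1])))))) C.relTwo

theorem h31575 :
    C.S (v5 C) [1, 2, 0, 2, 1, 2, 0, 2, 1, 2, 0, 3, 1, 3, 0, 2, 1, 2, 0, 3, 1, 3, 3, 0, 2, 2, 1, 3, 0, 2, 1, 3, 0, 2, 2, 1, 3, 0, 2, 0, 0] :=
  C.stEq (h31574 C) _ (by decide +kernel)

theorem h31576 :
    C.S (v5 C) [] :=
  C.stOne _

theorem h31577 :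
    C.S (v5 C) [0, 0, 4] :=
  C.stMul (h31576 C) (h30009 C) _
    (by decide +kernel)

theorem h31579 :
    C.S (v5 C) [1, 2, 0, 2, 1, 2, 0, 2, 1, 2, 0, 3, 1, 3, 0, 2, 1, 2, 0, 3, 1, 3, 3, 0, 2, 2, 1, 3, 0, 2, 1, 3, 0, 2, 2, 1, 3, 0, 2, 4] :=
  C.stMul (h31577 C) (h31575 C) _
    (by decide +kernel)

theorem h31608 :
    C.S (v5 C) [1, 2, 0, 3, 1, 3, 0, 2, 1, 2, 0, 3, 1, 3, 0, 2, 1, 3, 0, 3, 1, 2, 2, 0, 2, 1, 2, 2, 0, 3, 3, 1, 2, 2, 0, 2, 2] :=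
  C.stMul (h31576 C) (h26718 C) _
    (by decide +kernel)

theorem h31617 :
    C.S (v5 C) [3, 1, 2, 0, 2, 1, 3, 0, 3, 1, 2, 0, 2, 2, 1, 2, 0, 3, 1, 2, 2, 0, 3, 1, 3, 3, 0, 3, 1, 3, 0, 2, 1, 2, 2, 0, 2, 1, 3, 0, 3, 1, 2, 0, 2] :=
  C.stMul (h31608 C) (h26718 C) _
    (by decide +kernel)

theorem h31643 :
    C.S (v5 C) [1, 2, 0, 2, 1, 2, 0, 2, 1, 2, 2, 0, 3, 3, 1, 2, 2, 2, 0, 2, 2, 1, 2, 2, 2, 0, 3, 3, 1, 2, 0, 3, 3, 1, 3, 0] :=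
  C.stMul (h31617 C) (h28393 C) _
    (by decide +kernel)

theorem h33058 :
    C.S (v5 C) [1, 2, 0, 3, 1, 3, 0, 2, 1, 2, 0, 3, 1, 3, 3, 3, 0, 3, 3, 1, 3, 0, 2, 1, 2, 0, 4] :=
  C.stInv (h31579 C) _ (by decide +kernel)

theorem h33059 :
    C.T (v5 C) [] (v1 C) [1, 2, 0, 2, 1, 2, 0, 2, 1, 2, 0, 3, 1, 3, 0, 2, 1, 2, 0, 3, 1, 3, 3, 0, 2, 2, 1, 3, 0, 2, 1, 3, 0, 2, 2, 1, 3, 0, 2, 4, 2, 0] :=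
  C.conv (h31529 C) (h33058 C) _ _
    (by decide +kernel) (by decide +kernel)

theorem h33072 :
    C.T (v1 C) [2, 1, 3, 3, 0, 3, 1, 2, 2, 2, 0, 2, 1, 2, 0, 3, 1, 2, 2, 0, 2, 2, 1, 3, 3, 0, 2, 1, 2, 0, 2, 2, 1, 3, 3, 0, 2, 2, 1, 2, 2, 0, 4, 2, 4, 3, 4] (v5 C) [1, 2, 0, 3, 1, 3, 0, 2, 1, 2, 0, 3, 1, 3, 0, 2, 1, 3, 0, 3, 1, 2, 2, 0, 3, 1, 2, 2, 2, 0, 3] :=
  C.conv (h25681 C) (h4248 C) _ _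
    (by decide +kernel) (by decide +kernel)

theorem h33073 :
    C.T (v1 C) [2, 1, 3, 3, 0, 3, 1, 2, 2, 2, 0, 2, 1, 2, 0, 3, 1, 2, 2, 0, 2, 2, 1, 3, 3, 0, 2, 1, 2, 0, 3, 1, 2, 2, 0, 2, 2, 1, 3, 0, 2, 2, 2, 1, 2, 0, 3, 0, 4, 2, 2, 0, 2, 4, 2, 2, 0] (v3 C) [1, 2, 0, 2, 1, 2, 0, 2, 1, 2, 0, 3, 1, 3, 0, 2, 1, 2, 0, 3, 1, 3, 0, 2, 2, 1, 3, 3, 0, 2, 1, 2, 0, 2, 2, 1, 3, 0, 3, 1, 2, 2, 0, 2, 1, 3, 0, 2, 2, 2, 2, 1, 3, 0, 3] :=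
  C.conv (h10090 C) (h4296 C) _ _
    (by decide +kernel) (by decide +kernel)

theorem h33074 :
    C.T (v3 C) [1, 2, 0, 2, 1, 2, 0, 2, 1, 2, 0, 3, 1, 3, 0, 2, 1, 2, 0, 3, 1, 3, 0, 2, 2, 1, 3, 3, 0, 2, 1, 2, 0, 2, 2, 1, 3, 0, 3, 1, 2, 2, 0, 2, 1, 3, 0, 2, 2, 2, 2, 1, 3, 0, 3, 0, 0] (v1 C) [2, 1, 3, 3, 0, 3, 1, 2, 2, 2, 0, 2, 1, 2, 0, 3, 1, 2, 2, 0, 2, 2, 1, 3, 3, 0, 2, 1, 2, 0, 3, 1, 2, 2, 0, 2, 2, 1, 3, 0, 2, 2, 2, 1, 2, 0, 3, 0, 4, 2, 2, 0, 2, 4, 2, 2, 1] :=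
  C.flip (h33073 C) _ _
    (by decide +kernel) (by decide +kernel)

theorem h33075 :
    C.T (v5 C) [1, 2, 0, 3, 1, 3, 0, 2, 1, 2, 0, 3, 1, 3, 0, 2, 1, 3, 0, 3, 1, 2, 2, 0, 3, 0, 4, 2, 2, 2, 0, 3] (v3 C) [1, 2, 0, 2, 1, 2, 0, 2, 1, 2, 0, 3, 1, 3, 0, 2, 1, 2, 0, 3, 1, 3, 0, 2, 2, 1, 3, 3, 0, 2, 1, 2, 0, 2, 2, 1, 3, 0, 3, 1, 2, 2, 0, 2, 1, 3, 0, 2, 4, 2, 2, 2, 0, 3, 0, 3] :=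
  C.closeT (A := [none, some [4]]) (B := [some [4], none, some [4]])
    (C.pT (h33072 C)
    (C.pH [4] [1, 2, 0, 3, 1, 3, 0, 2, 1, 2, 0, 3, 1, 3, 0, 2, 1, 3, 0, 3, 1, 2, 2, 0, 3, 0, 4, 2, 2, 2, 0, 3] (by decide +kernel)
    (C.pNil (v5 C) [1, 2, 0, 3, 1, 3, 0, 2, 1, 2, 0, 3, 1, 3, 0, 2, 1, 3, 0, 3, 1, 2, 2, 0, 3, 0, 4, 2, 2, 2, 0, 3])))
    (C.pH [4] [1, 2, 0, 2, 1, 2, 0, 2, 1, 2, 0, 3, 1, 3, 0, 2, 1, 2, 0, 3, 1, 3, 0, 2, 2, 1, 3, 3, 0, 2, 1, 2, 0, 2, 2, 1, 3, 0, 3, 1, 2, 2, 0, 2, 1, 3, 0, 2, 2, 2, 2, 1, 3, 0, 3, 0, 0] (by decide +kernel)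
    (C.pT (h33074 C)
    (C.pH [4] [2, 1, 3, 3, 0, 3, 1, 2, 2, 2, 0, 2, 1, 2, 0, 3, 1, 2, 2, 0, 2, 2, 1, 3, 3, 0, 2, 1, 2, 0, 2, 2, 1, 3, 3, 0, 2, 2, 1, 2, 2, 0, 4, 2, 4, 3, 4] (by decide +kernel)
    (C.pNil (v1 C) [2, 1, 3, 3, 0, 3, 1, 2, 2, 2, 0, 2, 1, 2, 0, 3, 1, 2, 2, 0, 2, 2, 1, 3, 3, 0, 2, 1, 2, 0, 2, 2, 1, 3, 3, 0, 2, 2, 1, 2, 2, 0, 4, 2, 4, 3, 4])))) C.relOne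

theorem h33076 :
    C.T (v3 C) [1, 2, 0, 2, 1, 2, 0, 2, 1, 2, 0, 3, 1, 3, 0, 2, 1, 2, 0, 3, 1, 3, 0, 2, 2, 1, 3, 3, 0, 2, 1, 2, 0, 2, 2, 1, 3, 0, 3, 1, 2, 2, 0, 2, 1, 3, 0, 2, 4, 2, 2, 2, 0, 3, 1, 3] (v5 C) [1, 2, 0, 3, 1, 3, 0, 2, 1, 2, 0, 3, 1, 3, 0, 2, 1, 3, 0, 3, 1, 2, 2, 0, 3, 0, 4, 2, 2, 2, 1, 3] :=
  C.flip (h33075 C) _ _
    (by decide +kernel) (by decide +kernel)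

theorem h33077 :
    C.S (v5 C) [3, 1, 2, 0, 2, 1, 3, 0, 3, 1, 2, 0, 2, 2, 1, 2, 0, 2, 2, 1, 3, 3, 0, 2, 1, 2, 0, 2, 1, 3, 0, 2, 1, 2, 0, 2, 1, 3, 0, 3] :=
  C.stInv (h31643 C) _ (by decide +kernel)

theorem h33078 :
    C.T (v5 C) [4, 2] (v3 C) [1, 2, 0, 2, 1, 2, 0, 2, 2, 1, 3, 3, 0, 3, 1, 2, 2, 2, 0, 2, 1, 2, 0, 3, 1, 2, 0, 2, 2, 1, 3, 3, 0, 3, 1, 2, 2, 0, 3, 1, 3, 0, 3, 3, 1, 3, 0, 4, 2, 2, 2, 0, 3, 0, 3] :=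
  C.conv (h33075 C) (h33077 C) _ _
    (by decide +kernel) (by decide +kernel)

theorem h33088 :
    C.S (v3 C) [1, 2, 0, 2, 1, 2, 0, 2, 1, 2, 2, 0, 3, 3, 1, 2, 2, 2, 0, 2, 2, 1, 2, 0, 2, 2, 2, 1, 2, 2, 2, 0, 3, 3, 3, 0, 0, 4] :=
  C.stInv (h17851 C) _ (by decide +kernel)

theorem h33089 :
    C.T (v3 C) [0, 4, 3, 0, 4, 3, 3, 0, 3] (v5 C) [1, 2, 0, 3, 1, 3, 0, 2, 1, 2, 0, 3, 1, 3, 3, 3, 0, 2, 1, 2, 0, 3, 1, 3, 0, 2, 1, 2, 0, 2, 0, 4, 2, 2, 2, 1, 3] :=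
  C.conv (h33076 C) (h33088 C) _ _
    (by decide +kernel) (by decide +kernel)

theorem h33090 :
    C.S (v3 C) [1, 2, 0, 2, 1, 2, 0, 2, 2, 1, 3, 3, 0, 3, 1, 2, 2, 2, 0, 2, 1, 2, 0, 3, 1, 2, 0, 2, 2, 1, 3, 0, 2, 1, 2, 0, 4, 2, 0, 2, 4] :=
  C.stInv (h17855 C) _ (by decide +kernel)

theorem h33091 :
    C.T (v3 C) [0, 4, 3, 0, 4, 3, 3, 0, 3] (v5 C) [1, 2, 0, 2, 1, 2, 0, 2, 1, 2, 2, 0, 3, 3, 1, 2, 2, 2, 0, 2, 1, 2, 2, 0, 3, 3, 1, 3, 0, 2, 2, 1, 3, 3, 0, 3, 1, 2, 2, 0, 2, 1, 2, 2, 0, 3, 3, 1, 3, 3, 0, 3, 3, 1, 2, 2, 0, 0, 4, 2, 2, 2, 1, 3] :=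
  C.conv (h33089 C) (h33090 C) _ _
    (by decide +kernel) (by decide +kernel)

theorem h33092 :
    C.E (v5 C) [1, 2, 0, 2, 1, 2, 0, 2, 1, 2, 2, 0, 3, 3, 1, 2, 2, 2, 0, 2, 1, 2, 2, 0, 3, 3, 1, 3, 0, 2, 2, 1, 3, 3, 0, 3, 1, 2, 2, 0, 2, 1, 2, 2, 0, 3, 3, 1, 3, 3, 0, 3, 3, 1, 2, 2, 0, 0, 4, 2, 2, 2, 1, 3] (v5 C) [1, 2, 0, 3, 1, 3, 0, 2, 1, 2, 0, 3, 1, 3, 3, 3, 0, 2, 1, 2, 0, 3, 1, 3, 0, 2, 1, 2, 0, 2, 0, 4, 2, 2, 2, 1, 3] :=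
  C.sameSrc (h33091 C) (h33089 C)

theorem h33096 :
    C.S (v5 C) [3, 1, 2, 0, 2, 1, 3, 0, 3, 1, 2, 0, 2, 2, 2, 2, 1, 3, 3, 0, 3, 1, 2, 2, 0, 3, 3, 1, 3, 3, 0, 3, 3, 1, 3, 0, 2, 1, 2, 0, 2, 4, 3, 0, 4, 3, 3, 0, 3] :=
  C.stEq (h33092 C) _ (by decide +kernel)

theorem h33097 :
    C.S (v5 C) [] :=
  C.stOne _

theorem h33862 :
    C.S (v5 C) [2, 1, 3, 3, 0, 2, 1, 2, 0, 2, 1, 2, 0, 3, 1, 3, 0, 3, 1, 2, 0, 3] :=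
  C.stMul (h33097 C) (h28393 C) _
    (by decide +kernel)

theorem h33863 :
    C.S (v5 C) [0, 0, 4] :=
  C.stMul (h33097 C) (h30009 C) _
    (by decide +kernel)

theorem h33864 :
    C.S (v5 C) [1, 2, 0, 2, 1, 2, 0, 2, 1, 2, 0, 3, 1, 3, 0, 2, 1, 2, 0, 3, 1, 3, 3, 0, 2, 2, 1, 3, 0, 2, 1, 3, 0, 2, 2, 1, 3, 0, 2, 0, 0] :=
  C.stMul (h33097 C) (h31575 C) _
    (by decide +kernel)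

theorem h33865 :
    C.S (v5 C) [3, 1, 2, 0, 2, 1, 3, 0, 3, 1, 2, 0, 2, 2, 2, 2, 1, 3, 3, 0, 3, 1, 2, 2, 0, 3, 3, 1, 3, 3, 0, 3, 3, 1, 3, 0, 2, 1, 2, 0, 2, 4, 3, 0, 4, 3, 3, 0, 3] :=
  C.stMul (h33097 C) (h33096 C) _
    (by decide +kernel)

theorem h33872 :
    C.S (v5 C) [1, 2, 2, 0, 3, 3, 1, 2, 2, 2, 0, 2, 1, 2, 2, 0, 3, 3, 3, 1, 2, 2, 0, 3, 1, 3, 3, 0, 3, 1, 3, 0, 2, 2, 1, 3, 0, 3, 1, 2, 0, 3, 3, 1, 3, 0] :=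
  C.stMul (h33862 C) (h25692 C) _
    (by decide +kernel)

theorem h33874 :
    C.S (v5 C) [2, 1, 3, 3, 0, 2, 1, 2, 0, 2, 1, 2, 0, 3, 1, 3, 0, 3, 1, 2, 0, 3, 0, 0, 4] :=
  C.stMul (h33862 C) (h30009 C) _
    (by decide +kernel)

theorem h33878 :
    C.S (v5 C) [1, 2, 0, 2, 1, 2, 0, 2, 1, 2, 0, 3, 1, 3, 0, 2, 1, 2, 0, 3, 1, 3, 0, 2, 2, 1, 3, 3, 0, 2, 1, 2, 0, 3, 1, 2, 2, 0, 2, 2, 2, 1, 3, 3, 0, 2, 2, 1, 2, 0, 0, 4, 2, 2, 2, 0, 2, 0, 2] :=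
  C.stMul (h33863 C) (h33096 C) _
    (by decide +kernel)

theorem h33879 :
    C.S (v5 C) [1, 2, 0, 3, 1, 3, 0, 2, 1, 2, 0, 3, 1, 3, 0, 3, 1, 2, 2, 0, 3, 1, 3, 3, 0, 3, 1, 3, 0, 3, 1, 2, 0, 3, 0, 0] :=
  C.stMul (h33864 C) (h25692 C) _
    (by decide +kernel)

theorem h33882 :
    C.S (v5 C) [1, 2, 2, 0, 3, 3, 1, 2, 2, 2, 0, 2, 1, 2, 2, 0, 3, 3, 3, 1, 2, 2, 0, 3, 1, 3, 3, 0, 3, 1, 3, 0, 2, 2, 1, 3, 3, 0, 2, 1, 2, 2, 0, 3, 3, 1, 2, 0, 2, 4, 3, 0, 4, 3, 3, 1, 3] :=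
  C.stMul (h33864 C) (h33096 C) _
    (by decide +kernel)

theorem h33884 :
    C.S (v5 C) [1, 2, 0, 2, 1, 2, 2, 0, 2, 1, 3, 0, 3, 1, 2, 0, 2, 2, 1, 2, 0, 2, 2, 1, 2, 0, 2, 2, 2, 1, 2, 0, 4, 2, 4, 3] :=
  C.stMul (h33865 C) (h26718 C) _
    (by decide +kernel)

theorem h33885 :
    C.S (v5 C) [3, 1, 2, 0, 2, 1, 3, 0, 3, 1, 2, 0, 2, 2, 2, 2, 1, 3, 0, 2, 1, 2, 0, 3, 3, 1, 2, 0, 2, 4, 3, 4, 2] :=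
  C.stMul (h33865 C) (h28393 C) _
    (by decide +kernel)

theorem h33913 :
    C.S (v5 C) [1, 2, 0, 3, 1, 3, 0, 2, 1, 2, 0, 3, 1, 3, 0, 2, 1, 3, 0, 3, 1, 2, 2, 0, 3, 3, 1, 3, 3, 0, 3] :=
  C.stMul (h33872 C) (h26718 C) _
    (by decide +kernel)

theorem h33924 :
    C.S (v5 C) [3, 3, 1, 2, 2, 0, 3, 1, 3, 3, 0, 3, 1, 3, 0, 2, 2, 1, 3, 3, 0, 2, 1, 2, 2, 0, 3, 3, 1, 2, 0, 2, 1, 2, 0, 0, 4, 2, 2, 2, 0, 2, 0, 2] :=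
  C.stMul (h33874 C) (h33096 C) _
    (by decide +kernel)

theorem h33937 :
    C.S (v5 C) [1, 2, 0, 2, 1, 2, 0, 2, 1, 3, 0, 2, 2, 2, 1, 2, 0, 2, 1, 2, 0, 4, 2, 2, 0, 3] :=
  C.stMul (h33878 C) (h25692 C) _
    (by decide +kernel)

theorem h33938 :
    C.S (v5 C) [1, 2, 0, 2, 1, 2, 2, 0, 2, 1, 3, 0, 3, 1, 2, 0, 2, 2, 1, 2, 0, 2, 2, 1, 2, 0, 2, 2, 2, 1, 2, 0, 0, 0, 4, 2, 4, 3, 4] :=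
  C.stMul (h33878 C) (h26718 C) _
    (by decide +kernel)

theorem h33943 :
    C.S (v5 C) [3, 1, 3, 0, 2, 2, 1, 3, 0, 2, 2, 1, 2, 2, 0, 2, 1, 3, 3, 0, 3, 4, 3, 0, 4, 3, 3, 1, 3] :=
  C.stMul (h33879 C) (h33096 C) _
    (by decide +kernel)

theorem h33950 :
    C.S (v5 C) [1, 2, 0, 2, 1, 2, 0, 2, 2, 1, 3, 3, 0, 3, 1, 2, 2, 2, 0, 2, 1, 2, 0, 3, 1, 2, 2, 0, 2, 2, 2, 1, 2, 2, 0, 2, 1, 2, 2, 0, 2, 2, 2, 0, 0, 4, 3, 4, 2] :=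
  C.stMul (h33882 C) (h28393 C) _
    (by decide +kernel)

theorem h33958 :
    C.S (v5 C) [3, 3, 1, 2, 2, 0, 3, 1, 3, 3, 0, 3, 1, 3, 0, 2, 2, 1, 3, 3, 0, 2, 1, 2, 2, 0, 3, 3, 1, 2, 0, 3, 4, 2, 0, 4, 2, 2, 1, 2] :=
  C.stMul (h33884 C) (h31575 C) _
    (by decide +kernel)

theorem h33959 :
    C.S (v5 C) [1, 2, 0, 2, 2, 2, 1, 3, 0, 3, 1, 2, 2, 0, 2, 2, 2, 1, 3, 3, 0, 3, 0, 0, 4, 2, 2, 4, 3, 3] :=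
  C.stMul (h33884 C) (h33096 C) _
    (by decide +kernel)

theorem h33963 :
    C.S (v5 C) [1, 2, 0, 2, 1, 2, 0, 2, 1, 2, 2, 0, 3, 3, 1, 2, 2, 2, 0, 2, 1, 2, 2, 0, 3, 3, 1, 3, 0, 2, 2, 1, 3, 3, 0, 3, 1, 2, 2, 0, 3, 3, 1, 2, 0, 0, 0, 4, 3, 4, 2] :=
  C.stMul (h33885 C) (h33096 C) _
    (by decide +kernel)

theorem h34078 :
    C.S (v5 C) [1, 2, 0, 3, 1, 3, 0, 2, 1, 2, 0, 3, 1, 3, 0, 2, 2, 1, 3, 3, 0, 2, 1, 2, 0, 2, 1, 2, 0, 2, 2, 1, 3, 0, 2, 0, 0, 4, 3, 4, 2, 4] :=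
  C.stMul (h33924 C) (h28393 C) _
    (by decide +kernel)

theorem h34101 :
    C.S (v5 C) [1, 2, 0, 2, 1, 2, 2, 0, 2, 1, 3, 0, 3, 1, 2, 0, 2, 2, 2, 2, 1, 3, 3, 0, 3, 1, 2, 2, 0, 2, 1, 2, 2, 0, 2, 1, 3, 3, 0, 3, 3, 3, 4, 2, 4, 3, 4] :=
  C.stMul (h33937 C) (h33096 C) _
    (by decide +kernel)

theorem h34105 :
    C.S (v5 C) [1, 2, 0, 3, 1, 3, 0, 2, 1, 2, 0, 3, 1, 3, 0, 2, 1, 3, 0, 3, 1, 2, 2, 0, 3, 3, 1, 3, 0, 0, 4, 2, 2, 2, 0, 3, 1, 3] :=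
  C.stMul (h33938 C) (h31575 C) _
    (by decide +kernel)

theorem h34117 :
    C.S (v5 C) [3, 1, 2, 0, 2, 1, 3, 0, 3, 1, 2, 0, 2, 2, 1, 2, 0, 2, 1, 3, 0, 3, 1, 2, 2, 0, 3, 3, 1, 2, 2, 0, 2, 2, 2, 1, 2, 0, 0, 0, 4, 2, 4, 3] :=
  C.stMul (h33943 C) (h26718 C) _
    (by decide +kernel)

theorem h34137 :
    C.S (v5 C) [1, 2, 0, 2, 1, 2, 0, 2, 1, 2, 2, 0, 3, 3, 1, 2, 2, 2, 0, 2, 1, 2, 2, 0, 3, 3, 1, 3, 0, 2, 2, 1, 3, 3, 0, 3, 1, 2, 2, 0, 3, 3, 1, 3, 3, 0, 3, 3, 1, 3, 0, 2, 1, 2, 0, 2, 4, 3, 4, 2] :=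
  C.stMul (h33950 C) (h33096 C) _
    (by decide +kernel)

theorem h34150 :
    C.S (v5 C) [1, 2, 0, 2, 1, 2, 2, 0, 2, 1, 3, 0, 3, 1, 2, 0, 2, 2, 2, 2, 1, 3, 3, 0, 3, 1, 2, 2, 0, 3, 1, 3, 0, 2, 2, 2, 1, 2, 0, 2, 1, 2, 0, 4, 2, 0, 2, 4] :=
  C.stMul (h33958 C) (h25692 C) _
    (by decide +kernel)

theorem h34153 :
    C.S (v5 C) [1, 2, 0, 2, 1, 2, 0, 2, 1, 2, 2, 0, 3, 3, 1, 2, 2, 2, 0, 2, 1, 2, 2, 0, 3, 1, 3, 0, 3, 1, 2, 2, 0, 3, 3, 1, 3, 3, 0, 3, 3, 4, 2, 0, 4, 2, 2, 1, 2] :=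
  C.stMul (h33959 C) (h26718 C) _
    (by decide +kernel)

theorem h34353 :
    C.S (v5 C) [2, 1, 3, 3, 0, 2, 1, 2, 0, 3, 1, 3, 3, 0, 3, 3, 1, 2, 2, 0, 4, 2, 2, 1, 3] :=
  C.stMul (h34101 C) (h26718 C) _
    (by decide +kernel)

theorem h34362 :
    C.S (v5 C) [1, 2, 0, 2, 1, 2, 2, 0, 2, 1, 3, 0, 3, 1, 2, 0, 2, 2, 2, 2, 1, 3, 3, 0, 3, 1, 2, 2, 0, 3, 1, 3, 0, 2, 2, 2, 1, 2, 0, 2, 1, 2, 0, 4, 2, 1, 2] :=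
  C.stMul (h34105 C) (h25692 C) _
    (by decide +kernel)

theorem h34382 :
    C.S (v5 C) [3, 1, 3, 0, 2, 2, 1, 3, 0, 2, 1, 3, 0, 2, 1, 2, 0, 2, 1, 3, 0, 3, 3, 3, 0, 0, 4, 2, 2, 4, 3, 3] :=
  C.stMul (h34117 C) (h28393 C) _
    (by decide +kernel)

theorem h34397 :
    C.S (v5 C) [1, 2, 2, 0, 3, 3, 1, 2, 2, 2, 0, 2, 1, 2, 2, 2, 2, 0, 2, 2, 1, 2, 0, 4, 2, 1, 2, 4] :=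
  C.stMul (h34137 C) (h26718 C) _
    (by decide +kernel)

theorem h34409 :
    C.S (v5 C) [3, 1, 2, 0, 2, 1, 3, 0, 3, 1, 2, 0, 2, 2, 2, 2, 1, 3, 3, 0, 3, 1, 2, 2, 2, 2, 0, 2, 1, 3, 0, 3, 3, 1, 3, 0, 3, 3, 0, 0, 4, 2, 2, 4, 3, 3] :=
  C.stMul (h34153 C) (h26718 C) _
    (by decide +kernel)

theorem h34512 :
    C.S (v5 C) [1, 2, 2, 0, 3, 3, 1, 2, 2, 2, 0, 2, 1, 2, 2, 0, 3, 3, 1, 3, 0, 2, 2, 1, 3, 3, 0, 3, 1, 2, 2, 0, 3, 3, 1, 2, 2, 0, 2, 1, 2, 0, 3, 0, 0, 4, 2, 4, 3, 4] :=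
  C.stMul (h34353 C) (h33096 C) _
    (by decide +kernel)

theorem h34532 :
    C.S (v5 C) [2, 1, 3, 3, 0, 3, 1, 2, 2, 2, 0, 2, 1, 2, 0, 3, 1, 2, 0, 2, 2, 1, 3, 3, 0, 3, 1, 2, 2, 2, 2, 0, 3, 1, 2, 2, 0, 3, 1, 2, 0, 4, 2, 1, 2, 4] :=
  C.stMul (h34150 C) (h33096 C) _
    (by decide +kernel)

theorem h34533 :
    C.S (v5 C) [3, 1, 2, 0, 2, 1, 3, 0, 3, 1, 2, 0, 2, 2, 1, 2, 0, 2, 2, 1, 2, 0, 2, 2, 1, 3, 0, 2, 1, 2, 0, 4, 2, 2, 1, 3, 4] :=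
  C.stInv (h34397 C) _ (by decide +kernel)

theorem h34534 :
    C.S (v5 C) [3, 1, 3, 0, 2, 2, 1, 3, 3, 0, 3, 1, 3, 0, 3] :=
  C.stMul (h34532 C) (h34533 C) _
    (by decide +kernel)

theorem h34535 :
    C.S (v5 C) [1, 2, 0, 2, 1, 2, 0, 2, 1, 2, 0, 3, 1, 3, 0, 2, 1, 2, 0, 3, 1, 3, 0, 2, 2, 1, 3, 3, 0, 2, 1, 2, 0, 2, 1, 3, 0, 2, 2, 1, 3, 0, 2, 2, 1, 2, 0, 4, 2, 1, 2] :=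
  C.stMul (h34362 C) (h28393 C) _
    (by decide +kernel)

theorem h34536 :
    C.S (v5 C) [1, 2, 0, 2, 1, 2, 0, 3, 1, 2, 2, 0, 3, 1, 3, 3, 0, 3, 1, 3, 3, 0, 2, 2, 2, 1, 2, 0, 2, 1, 2, 0, 4, 2, 0, 2] :=
  C.stInv (h34512 C) _ (by decide +kernel)

theorem h34537 :
    C.S (v5 C) [1, 2, 0, 2, 1, 2, 0, 3, 1, 2, 2, 0, 3, 1, 3, 3, 0, 3, 1, 3, 0, 2, 1, 3, 0, 2, 2, 1, 3, 0, 2, 2, 4, 3, 4, 2] :=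
  C.stMul (h34535 C) (h34536 C) _
    (by decide +kernel)

theorem h34538 :
    C.S (v5 C) [2, 1, 3, 3, 0, 3, 1, 2, 2, 2, 0, 2, 1, 2, 0, 3, 1, 2, 2, 0, 3, 1, 2, 2, 0, 3, 1, 3, 3, 0, 3, 1, 3, 0, 3, 1, 2, 0, 3, 3, 3, 0, 0, 4, 2, 2, 4, 3, 3] :=
  C.stMul (h34409 C) (h25692 C) _
    (by decide +kernel)

theorem h34539 :
    C.S (v5 C) [1, 2, 0, 2, 1, 2, 2, 0, 2, 1, 3, 0, 3, 1, 2, 0, 2, 2, 2, 2, 1, 3, 3, 0, 3, 1, 2, 2, 0, 2, 1, 2, 2, 0, 2, 1, 2, 2, 0, 2, 4, 2, 0, 4, 2, 2, 1, 2] :=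
  C.stInv (h34382 C) _ (by decide +kernel)

theorem h34540 :
    C.S (v5 C) [1, 2, 0, 2, 1, 2, 0, 2, 1, 2, 2, 0, 3, 3, 1, 2, 2, 2, 0, 2, 1, 2, 2, 0, 3, 3, 3, 1, 2, 2, 0, 3, 1, 3, 3, 0, 3, 1, 3, 0, 2, 1, 3, 3, 3, 0, 3] :=
  C.stMul (h34538 C) (h34539 C) _
    (by decide +kernel)

theorem h34572 :
    C.T (v5 C) [4, 2, 1] (v6 C) [] :=
  C.defn _ _

theorem h34573 :
    C.T (v6 C) [0, 0] (v5 C) [4, 2, 0] :=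
  C.flip (h34572 C) _ _
    (by decide +kernel) (by decide +kernel)

theorem h34574 :
    C.S (v5 C) [1, 3, 0, 3, 1, 2, 2, 2, 2, 0, 2, 1, 3, 0, 3, 1, 2, 0, 2] :=
  C.stInv (h34534 C) _ (by decide +kernel)

theorem h34575 :
    C.T (v5 C) [4, 2, 1] (v6 C) [1, 2, 0, 3, 1, 3, 0, 2, 1, 2, 0, 3, 1, 3, 0, 2, 1, 3, 0, 2, 2, 2, 1, 2, 0] :=
  C.conv (h34572 C) (h34574 C) _ _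
    (by decide +kernel) (by decide +kernel)

theorem h34576 :
    C.E (v6 C) [1, 2, 0, 3, 1, 3, 0, 2, 1, 2, 0, 3, 1, 3, 0, 2, 1, 3, 0, 2, 2, 2, 1, 2, 0] (v6 C) [] :=
  C.sameSrc (h34575 C) (h34572 C)

theorem h34577 :
    C.S (v5 C) [1, 2, 0, 2, 1, 2, 0, 3, 1, 2, 2, 0, 3, 1, 3, 3, 0, 3, 1, 3, 0, 2, 1, 3, 0, 2, 2, 1, 3, 0, 2, 2, 4, 3, 4, 2] :=
  C.stInv (h34537 C) _ (by decide +kernel)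

theorem h34578 :
    C.T (v5 C) [4, 2, 1] (v6 C) [1, 2, 0, 2, 1, 2, 2, 0, 2, 1, 3, 0, 3, 1, 2, 0, 2, 2, 2, 2, 1, 3, 0, 3, 1, 2, 2, 2, 0] :=
  C.conv (h34572 C) (h34577 C) _ _
    (by decide +kernel) (by decide +kernel)

theorem h34579 :
    C.E (v6 C) [1, 2, 0, 2, 1, 2, 2, 0, 2, 1, 3, 0, 3, 1, 2, 0, 2, 2, 2, 2, 1, 3, 0, 3, 1, 2, 2, 2, 0] (v6 C) [] :=
  C.sameSrc (h34578 C) (h34572 C)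

theorem h34580 :
    C.S (v5 C) [1, 2, 0, 2, 1, 2, 0, 2, 1, 2, 2, 0, 3, 3, 1, 2, 2, 2, 0, 2, 1, 2, 2, 0, 3, 3, 3, 1, 2, 2, 0, 3, 1, 3, 3, 0, 3, 1, 3, 0, 3, 1, 2, 2, 0, 2, 2, 2, 1, 3, 3, 0, 2] :=
  C.stInv (h34540 C) _ (by decide +kernel)

theorem h34581 :
    C.T (v5 C) [4, 2, 1] (v6 C) [1, 2, 0, 2, 1, 2, 0, 2, 1, 2, 2, 0, 3, 3, 1, 2, 2, 2, 0, 2, 1, 2, 2, 0, 3, 3, 1, 3, 0, 2, 2, 1, 3, 3, 0, 3, 3, 1, 2, 0, 3, 3, 1, 2, 2, 0] :=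
  C.conv (h34572 C) (h34580 C) _ _
    (by decide +kernel) (by decide +kernel)

theorem h34582 :
    C.E (v6 C) [1, 2, 0, 2, 1, 2, 0, 2, 1, 2, 2, 0, 3, 3, 1, 2, 2, 2, 0, 2, 1, 2, 2, 0, 3, 3, 1, 3, 0, 2, 2, 1, 3, 3, 0, 3, 3, 1, 2, 0, 3, 3, 1, 2, 2, 0] (v6 C) [] :=
  C.sameSrc (h34581 C) (h34572 C)

theorem h34583 :
    C.S (v6 C) [1, 2, 0, 2, 1, 2, 0, 2, 1, 3, 0, 3, 1, 2, 2, 0, 2, 2, 1, 2, 2, 2, 0, 3, 3, 3] :=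
  C.stEq (h34576 C) _ (by decide +kernel)

theorem h35617 :
    C.S (v6 C) [1, 2, 0, 2, 1, 2, 2, 0, 2, 1, 3, 0, 3, 1, 2, 0, 2, 2, 2, 2, 1, 3, 0, 3, 1, 2, 2, 2, 0] :=
  C.stEq (h34579 C) _ (by decide +kernel)

theorem h37323 :
    C.S (v6 C) [1, 2, 0, 2, 1, 2, 0, 2, 2, 1, 3, 3, 0, 3, 1, 2, 2, 2, 0, 2, 1, 2, 0, 3, 1, 2, 0, 2, 2, 1, 3, 3, 0, 3, 1, 2, 2, 0, 2, 1, 2, 2, 0, 3, 3, 1, 2, 2, 0, 2, 2] :=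
  C.stEq (h34582 C) _ (by decide +kernel)

theorem h37324 :
    C.S (v6 C) [] :=
  C.stOne _

theorem h37446 :
    C.S (v6 C) [1, 2, 0, 2, 1, 2, 0, 2, 2, 1, 3, 3, 0, 3, 1, 2, 2, 2, 0, 2, 1, 2, 0, 3, 1, 2, 0, 2, 2, 1, 3, 3, 0, 3, 1, 2, 2, 0, 2, 1, 2, 2, 0, 3, 3, 1, 2, 2, 0, 2, 2] :=
  C.stMul (h37324 C) (h37323 C) _
    (by decide +kernel)

theorem h37452 :
    C.S (v6 C) [1, 2, 2, 0, 3, 3, 1, 2, 2, 2, 0, 2, 1, 2, 2, 0, 3, 1, 3, 0, 3, 1, 2, 2, 0, 3, 3, 1, 3, 3, 0, 3, 3, 1, 3, 0, 2, 1, 2, 0] :=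
  C.stMul (h37446 C) (h34583 C) _
    (by decide +kernel)

theorem h39027 :
    C.T (v3 C) [0, 4, 2, 0, 4, 2, 2, 0, 2] (v5 C) [3, 1, 2, 0, 2, 1, 3, 0, 3, 1, 2, 0, 2, 2, 2, 2, 1, 3, 3, 0, 3, 1, 2, 2, 0, 3, 1, 3, 0, 3, 3, 1, 3, 0, 2, 1, 2, 0, 0, 4, 2, 2, 2, 1, 3] :=
  C.conv (h33089 C) (h17846 C) _ _
    (by decide +kernel) (by decide +kernel)

theorem h39028 :
    C.T (v5 C) [3, 1, 2, 0, 2, 1, 3, 0, 3, 1, 2, 0, 2, 2, 2, 2, 1, 3, 3, 0, 3, 1, 2, 2, 0, 3, 1, 3, 0, 3, 3, 1, 3, 0, 2, 1, 2, 0, 0, 4, 2, 2, 2, 0, 3] (v3 C) [0, 4, 2, 0, 4, 2, 2, 1, 2] :=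
  C.flip (h39027 C) _ _
    (by decide +kernel) (by decide +kernel)

theorem h39029 :
    C.T (v5 C) [3, 1, 3, 0, 2, 2, 1, 3, 3, 0, 3, 1, 2, 2, 0, 3, 1, 3, 0, 3, 3, 1, 2, 0, 3, 3, 1, 2, 2, 0, 2, 1, 2, 0, 4, 2, 2, 2, 1, 3] (v6 C) [1, 2, 0, 2, 1, 2, 0, 2, 1, 3, 0, 3, 1, 2, 2, 0, 3, 3, 1, 2, 2, 0, 2, 2, 2, 1, 2, 0, 2, 2, 2, 2, 1, 2, 0, 2] :=
  C.conv (h34572 C) (h33913 C) _ _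
    (by decide +kernel) (by decide +kernel)

theorem h39030 :
    C.T (v6 C) [1, 2, 0, 2, 1, 2, 0, 2, 1, 3, 0, 3, 1, 2, 2, 0, 3, 3, 1, 2, 2, 0, 2, 2, 2, 1, 2, 0, 2, 2, 2, 2, 1, 2, 0, 2, 0, 0] (v5 C) [3, 1, 3, 0, 2, 2, 1, 3, 3, 0, 3, 1, 2, 2, 0, 3, 1, 3, 0, 3, 3, 1, 2, 0, 3, 3, 1, 2, 2, 0, 2, 1, 2, 0, 4, 2, 2, 2, 0, 3] :=
  C.flip (h39029 C) _ _
    (by decide +kernel) (by decide +kernel)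

theorem h39031 :
    C.T (v3 C) [4, 2, 0, 4, 2, 2, 1, 2] (v6 C) [1, 2, 0, 2, 1, 2, 0, 2, 1, 3, 0, 3, 1, 2, 2, 0, 3, 3, 1, 2, 2, 0, 2, 2, 2, 1, 2, 0, 2, 2, 2, 2, 1, 2, 0, 2, 0, 0] :=
  C.closeT (A := []) (B := [none, some [1], some [0, 0], none, some [0, 0, 0]])
    (C.pNil (v3 C) [4, 2, 0, 4, 2, 2, 1, 2])
    (C.pT (h39030 C)
    (C.pH [1] [3, 1, 2, 0, 2, 1, 3, 0, 3, 1, 2, 0, 2, 2, 2, 2, 1, 3, 3, 0, 3, 1, 2, 2, 0, 3, 1, 3, 0, 3, 3, 1, 3, 0, 2, 1, 2, 0, 0, 4, 2, 2, 2, 1, 3] (by decide +kernel)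
    (C.pH [0, 0] [3, 1, 2, 0, 2, 1, 3, 0, 3, 1, 2, 0, 2, 2, 2, 2, 1, 3, 3, 0, 3, 1, 2, 2, 0, 3, 1, 3, 0, 3, 3, 1, 3, 0, 2, 1, 2, 0, 0, 4, 2, 2, 2, 0, 3] (by decide +kernel)
    (C.pT (h39028 C)
    (C.pH [0, 0, 0] [4, 2, 0, 4, 2, 2, 1, 2] (by decide +kernel)
    (C.pNil (v3 C) [4, 2, 0, 4, 2, 2, 1, 2])))))) C.relTwo

theorem h39032 :
    C.T (v6 C) [1, 2, 0, 2, 1, 2, 0, 2, 1, 3, 0, 3, 1, 2, 2, 0, 3, 3, 1, 2, 2, 0, 2, 2, 2, 1, 2, 0, 2, 2, 2, 2, 1, 2, 0, 2] (v3 C) [4, 2, 0, 4, 2, 2, 0, 2] :=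
  C.flip (h39031 C) _ _
    (by decide +kernel) (by decide +kernel)

theorem h39039 :
    C.S (v6 C) [] :=
  C.stInv (h37324 C) _ (by decide +kernel)

theorem h39040 :
    C.T (v6 C) [] (v3 C) [1, 2, 0, 2, 1, 3, 0, 3, 3, 1, 2, 0, 2, 1, 2, 0, 3, 1, 3, 0, 2, 2, 4, 2, 0, 4, 2, 2, 0, 2] :=
  C.conv (h39032 C) (h39039 C) _ _
    (by decide +kernel) (by decide +kernel)

theorem h39047 :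
    C.T (v3 C) [4, 2, 0, 4, 2, 2, 1, 2] (v6 C) [1, 2, 0, 2, 1, 2, 0, 2, 1, 3, 0, 3, 1, 2, 2, 0, 3, 3, 1, 2, 2, 0, 2, 2, 2, 1, 2, 0, 2, 2, 2, 2, 1, 2, 0, 2, 0, 0] :=
  C.conv (h39031 C) (h16412 C) _ _
    (by decide +kernel) (by decide +kernel)

theorem h39048 :
    C.T (v3 C) [2, 0, 4, 2, 2, 0, 2] (v2 C) [1, 2, 0, 2, 1, 2, 0, 3, 1, 2, 2, 0, 3, 1, 3, 3, 0, 3, 1, 3, 0, 3, 1, 2, 2, 2, 0, 2, 2, 2, 2, 1, 2, 0, 2, 2, 1, 2, 0, 0, 4, 2, 2, 2, 1] :=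
  C.conv (h16330 C) (h16513 C) _ _
    (by decide +kernel) (by decide +kernel)

theorem h39049 :
    C.T (v2 C) [1, 2, 0, 2, 1, 2, 0, 3, 1, 2, 2, 0, 3, 1, 3, 3, 0, 3, 1, 3, 0, 3, 1, 2, 2, 2, 0, 2, 2, 2, 2, 1, 2, 0, 2, 2, 1, 2, 0, 0, 4, 2, 2, 2, 0] (v3 C) [2, 0, 4, 2, 2, 1, 2] :=
  C.flip (h39048 C) _ _
    (by decide +kernel) (by decide +kernel)

theorem h39050 :
    C.T (v6 C) [1, 2, 0, 2, 1, 2, 0, 2, 1, 3, 0, 3, 1, 2, 2, 0, 3, 3, 1, 2, 2, 0, 2, 2, 2, 1, 2, 0, 2, 4, 2, 2, 2, 0, 2, 0, 2] (v2 C) [1, 2, 0, 2, 1, 2, 0, 2, 1, 2, 2, 0, 3, 3, 1, 2, 2, 2, 0, 2, 1, 2, 2, 0, 3, 3, 3, 1, 2, 2, 0, 3, 1, 3, 3, 0, 3, 1, 3, 0, 3, 1, 2, 2, 0, 2, 2, 2, 1, 3, 3, 0, 2, 2, 2, 1, 2, 0, 3, 1, 3, 0, 2, 1, 2, 0, 4, 2, 0, 4, 2, 1] :=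
  C.closeT (A := [none, some [4]]) (B := [some [4], none, some [4]])
    (C.pT (h39047 C)
    (C.pH [4] [1, 2, 0, 2, 1, 2, 0, 2, 1, 3, 0, 3, 1, 2, 2, 0, 3, 3, 1, 2, 2, 0, 2, 2, 2, 1, 2, 0, 2, 4, 2, 2, 2, 0, 2, 0, 2] (by decide +kernel)
    (C.pNil (v6 C) [1, 2, 0, 2, 1, 2, 0, 2, 1, 3, 0, 3, 1, 2, 2, 0, 3, 3, 1, 2, 2, 0, 2, 2, 2, 1, 2, 0, 2, 4, 2, 2, 2, 0, 2, 0, 2])))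
    (C.pH [4] [1, 2, 0, 2, 1, 2, 0, 3, 1, 2, 2, 0, 3, 1, 3, 3, 0, 3, 1, 3, 0, 3, 1, 2, 2, 2, 0, 2, 2, 2, 2, 1, 2, 0, 2, 2, 1, 2, 0, 0, 4, 2, 2, 2, 0] (by decide +kernel)
    (C.pT (h39049 C)
    (C.pH [4] [4, 2, 0, 4, 2, 2, 1, 2] (by decide +kernel)
    (C.pNil (v3 C) [4, 2, 0, 4, 2, 2, 1, 2])))) C.relOne

theorem h39051 :
    C.T (v2 C) [1, 2, 0, 2, 1, 2, 0, 2, 1, 2, 2, 0, 3, 3, 1, 2, 2, 2, 0, 2, 1, 2, 2, 0, 3, 3, 3, 1, 2, 2, 0, 3, 1, 3, 3, 0, 3, 1, 3, 0, 3, 1, 2, 2, 0, 2, 2, 2, 1, 3, 3, 0, 2, 2, 2, 1, 2, 0, 3, 1, 3, 0, 2, 1, 2, 0, 4, 2, 0, 4, 2, 0] (v6 C) [1, 2, 0, 2, 1, 2, 0, 2, 1, 3, 0, 3, 1, 2, 2, 0, 3, 3, 1, 2, 2, 0, 2, 2, 2, 1, 2, 0, 2, 4, 2, 2, 2, 0, 2, 1, 2] :=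
  C.flip (h39050 C) _ _
    (by decide +kernel) (by decide +kernel)

theorem h39052 :
    C.S (v6 C) [1, 2, 0, 3, 1, 3, 0, 2, 1, 2, 0, 3, 1, 3, 0, 3, 1, 2, 2, 0, 3, 1, 3, 3, 0, 3, 1, 2, 0, 3, 3, 1, 2, 0, 3, 3, 1, 3, 0] :=
  C.stInv (h37452 C) _ (by decide +kernel)

theorem h39053 :
    C.T (v6 C) [0, 4, 2, 1, 2] (v2 C) [1, 2, 0, 2, 1, 2, 0, 2, 1, 2, 2, 0, 3, 3, 1, 2, 2, 2, 0, 2, 1, 2, 2, 0, 3, 1, 3, 0, 3, 1, 2, 2, 2, 2, 0, 2, 2, 2, 1, 2, 0, 3, 1, 3, 0, 2, 1, 2, 0, 4, 2, 0, 4, 2, 1] :=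
  C.conv (h39050 C) (h39052 C) _ _
    (by decide +kernel) (by decide +kernel)

theorem h39060 :
    C.S (v2 C) [3, 1, 2, 0, 2, 1, 3, 0, 3, 1, 2, 0, 2, 2, 1, 2, 0, 3, 1, 2, 2, 0, 3, 1, 3, 3, 0, 3, 1, 3, 0, 3, 1, 3, 3, 0, 3, 3, 1, 3, 0, 2, 1, 2, 0, 2, 2, 2, 0, 4, 3, 4, 3, 4, 2] :=
  C.stInv (h18145 C) _ (by decide +kernel)

theorem h39061 :
    C.T (v2 C) [0, 0, 4] (v6 C) [1, 3, 0, 3, 1, 2, 2, 0, 2, 1, 2, 2, 0, 2, 1, 3, 3, 0, 2, 1, 2, 0, 2, 4, 2, 2, 2, 0, 2, 1, 2] :=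
  C.conv (h39051 C) (h39060 C) _ _
    (by decide +kernel) (by decide +kernel)

theorem h39068 :
    C.T (v3 C) [0, 4, 2, 2, 2, 0, 2, 0, 2] (v3 C) [1, 2, 2, 0, 3, 3, 1, 2, 2, 2, 0, 2, 1, 3, 0, 3, 4, 2, 2, 1, 3] :=
  C.conv (h25644 C) (h16412 C) _ _
    (by decide +kernel) (by decide +kernel)

theorem h39069 :
    C.T (v3 C) [1, 2, 2, 0, 3, 3, 1, 2, 2, 2, 0, 2, 1, 3, 0, 3, 4, 2, 2, 1, 3] (v6 C) [2, 1, 3, 3, 0, 3, 1, 2, 2, 2, 0, 2, 1, 2, 0, 3, 1, 2, 2, 0, 2, 2, 1, 2, 2, 0, 3, 1, 2, 2, 0, 3, 3, 0, 0] :=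
  C.conv (h39031 C) (h17866 C) _ _
    (by decide +kernel) (by decide +kernel)

theorem h39070 :
    C.T (v6 C) [1, 2, 2, 0, 3, 3, 1, 2, 2, 2, 0, 2, 1, 2, 2, 0, 3, 3, 1, 3, 0, 2, 2, 1, 3, 0, 2, 1, 2, 0, 2, 2, 2, 1, 2, 2, 0, 3, 1] (v3 C) [4, 2, 2, 2, 0, 2, 1, 2] :=
  C.closeT (A := [none, none, some [1], some [0, 0]]) (B := [some [0, 0, 0]])
    (C.pT (h39068 C)
    (C.pT (h39069 C)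
    (C.pH [1] [1, 2, 2, 0, 3, 3, 1, 2, 2, 2, 0, 2, 1, 2, 2, 0, 3, 3, 1, 3, 0, 2, 2, 1, 3, 0, 2, 1, 2, 0, 2, 2, 2, 1, 2, 2, 0, 3, 0] (by decide +kernel)
    (C.pH [0, 0] [1, 2, 2, 0, 3, 3, 1, 2, 2, 2, 0, 2, 1, 2, 2, 0, 3, 3, 1, 3, 0, 2, 2, 1, 3, 0, 2, 1, 2, 0, 2, 2, 2, 1, 2, 2, 0, 3, 1] (by decide +kernel)
    (C.pNil (v6 C) [1, 2, 2, 0, 3, 3, 1, 2, 2, 2, 0, 2, 1, 2, 2, 0, 3, 3, 1, 3, 0, 2, 2, 1, 3, 0, 2, 1, 2, 0, 2, 2, 2, 1, 2, 2, 0, 3, 1])))))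
    (C.pH [0, 0, 0] [0, 4, 2, 2, 2, 0, 2, 0, 2] (by decide +kernel)
    (C.pNil (v3 C) [0, 4, 2, 2, 2, 0, 2, 0, 2])) C.relTwo

theorem h39071 :
    C.T (v3 C) [4, 2, 2, 2, 0, 2, 0, 2] (v6 C) [1, 2, 2, 0, 3, 3, 1, 2, 2, 2, 0, 2, 1, 2, 2, 0, 3, 3, 1, 3, 0, 2, 2, 1, 3, 0, 2, 1, 2, 0, 2, 2, 2, 1, 2, 2, 0, 3, 0] :=
  C.flip (h39070 C) _ _
    (by decide +kernel) (by decide +kernel)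

theorem h39072 :
    C.S (v6 C) [] :=
  C.stInv (h37324 C) _ (by decide +kernel)

theorem h39073 :
    C.T (v6 C) [1] (v3 C) [3, 1, 3, 0, 2, 2, 1, 3, 3, 0, 3, 1, 2, 2, 2, 0, 3, 1, 3, 0, 4, 2, 2, 2, 0, 2, 1, 2] :=
  C.conv (h39070 C) (h39072 C) _ _
    (by decide +kernel) (by decide +kernel)

theorem h39092 :
    C.T (v3 C) [2, 2, 1, 3, 0, 3, 1, 2, 2, 0, 2, 2, 2, 1, 3, 0, 3, 0] (v3 C) [2, 2, 2, 1, 2, 2, 2, 2, 0, 2, 2, 1, 2, 0, 0, 4] :=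
  C.conv (h16375 C) (h16446 C) _ _
    (by decide +kernel) (by decide +kernel)

theorem h39093 :
    C.T (v3 C) [0, 4, 2, 2, 2, 0, 2, 1, 2] (v6 C) [1, 2, 2, 0, 3, 3, 1, 2, 2, 2, 0, 2, 2, 1, 2, 0, 2, 2, 1, 2, 2, 0, 2, 1, 2, 2, 0, 2, 2, 0, 0] :=
  C.conv (h39031 C) (h17867 C) _ _
    (by decide +kernel) (by decide +kernel)

theorem h39094 :
    C.T (v6 C) [1, 2, 2, 0, 3, 3, 1, 2, 2, 2, 0, 2, 2, 1, 2, 0, 2, 2, 1, 2, 2, 0, 2, 1, 2, 2, 0, 2, 2] (v3 C) [0, 4, 2, 2, 2, 0, 2, 0, 2] :=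
  C.flip (h39093 C) _ _
    (by decide +kernel) (by decide +kernel)

theorem h39095 :
    C.T (v3 C) [1, 2, 2, 0, 3, 3, 1, 2, 2, 2, 0, 2, 2, 1, 2, 0, 2, 1, 3, 0, 2, 2, 1, 3, 0, 3, 1, 3, 0, 2, 1, 2, 0, 3, 4, 3, 1, 4, 3] (v6 C) [1, 2, 2, 0, 3, 3, 1, 2, 2, 2, 0, 2, 2, 1, 2, 0, 2, 2, 1, 2, 2, 0, 2, 1, 2, 2, 0, 2, 2, 4] :=
  C.closeT (A := [none, some [4]]) (B := [some [4], none, some [4]])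
    (C.pT (h39092 C)
    (C.pH [4] [1, 2, 2, 0, 3, 3, 1, 2, 2, 2, 0, 2, 2, 1, 2, 0, 2, 1, 3, 0, 2, 2, 1, 3, 0, 3, 1, 3, 0, 2, 1, 2, 0, 3, 4, 3, 1, 4, 3] (by decide +kernel)
    (C.pNil (v3 C) [1, 2, 2, 0, 3, 3, 1, 2, 2, 2, 0, 2, 2, 1, 2, 0, 2, 1, 3, 0, 2, 2, 1, 3, 0, 3, 1, 3, 0, 2, 1, 2, 0, 3, 4, 3, 1, 4, 3])))
    (C.pH [4] [1, 2, 2, 0, 3, 3, 1, 2, 2, 2, 0, 2, 2, 1, 2, 0, 2, 2, 1, 2, 2, 0, 2, 1, 2, 2, 0, 2, 2] (by decide +kernel)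
    (C.pT (h39094 C)
    (C.pH [4] [2, 2, 1, 3, 0, 3, 1, 2, 2, 0, 2, 2, 2, 1, 3, 0, 3, 0] (by decide +kernel)
    (C.pNil (v3 C) [2, 2, 1, 3, 0, 3, 1, 2, 2, 0, 2, 2, 2, 1, 3, 0, 3, 0])))) C.relOne

theorem h39096 :
    C.T (v6 C) [1, 2, 2, 0, 3, 3, 1, 2, 2, 2, 0, 2, 2, 1, 2, 0, 2, 2, 1, 2, 2, 0, 2, 1, 2, 2, 0, 2, 2, 0, 0, 4] (v3 C) [1, 2, 2, 0, 3, 3, 1, 2, 2, 2, 0, 2, 2, 1, 2, 0, 2, 1, 3, 0, 2, 2, 1, 3, 0, 3, 1, 3, 0, 2, 1, 2, 0, 3, 4, 3, 0, 4, 3] :=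
  C.flip (h39095 C) _ _
    (by decide +kernel) (by decide +kernel)

theorem h39097 :
    C.S (v3 C) [1, 2, 2, 0, 3, 3, 1, 2, 2, 2, 0, 2, 2, 1, 2, 0, 2, 1, 2, 2, 0, 3, 1, 2, 2, 0, 3, 1, 2, 0, 4, 2, 0, 2, 4] :=
  C.stInv (h17433 C) _ (by decide +kernel)

theorem h39098 :
    C.T (v3 C) [0, 4, 2, 2, 2, 4] (v6 C) [1, 2, 0, 3, 1, 3, 0, 2, 1, 2, 0, 3, 1, 3, 0, 2, 2, 1, 3, 3, 0, 2, 1, 2, 0, 2, 1, 2, 2, 0, 4] :=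
  C.conv (h39095 C) (h39097 C) _ _
    (by decide +kernel) (by decide +kernel)

theorem h39105 :
    C.S (v6 C) [] :=
  C.stInv (h37324 C) _ (by decide +kernel)

theorem h39106 :
    C.T (v6 C) [0, 0, 4] (v3 C) [1, 2, 0, 2, 1, 2, 0, 2, 1, 2, 2, 0, 3, 3, 1, 2, 2, 2, 0, 2, 1, 2, 2, 0, 3, 3, 1, 3, 0, 2, 2, 1, 3, 3, 0, 3, 1, 2, 2, 0, 3, 3, 1, 2, 2, 0, 2, 2, 2, 1, 3, 3, 0, 3, 1, 3, 0, 2, 1, 2, 0, 3, 4, 3, 0, 4, 3] :=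
  C.conv (h39096 C) (h39105 C) _ _
    (by decide +kernel) (by decide +kernel)

theorem h39113 :
    C.T (v3 C) [4, 2, 2, 2, 0, 2, 0, 2] (v6 C) [1, 2, 2, 0, 3, 3, 1, 2, 2, 2, 0, 2, 1, 2, 2, 0, 3, 3, 1, 3, 0, 2, 2, 1, 3, 0, 2, 1, 2, 0, 2, 2, 2, 1, 2, 2, 0, 3, 0] :=
  C.conv (h39071 C) (h16412 C) _ _
    (by decide +kernel) (by decide +kernel)

theorem h39114 :
    C.T (v3 C) [0, 4, 2, 2, 2, 0, 2, 1, 2] (v6 C) [1, 2, 2, 0, 3, 3, 1, 2, 2, 2, 0, 2, 2, 1, 2, 0, 2, 2, 1, 2, 2, 0, 2, 1, 2, 2, 0, 2, 2, 0, 0] :=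
  C.conv (h39031 C) (h17867 C) _ _
    (by decide +kernel) (by decide +kernel)

theorem h39115 :
    C.T (v6 C) [1, 2, 2, 0, 3, 3, 1, 2, 2, 2, 0, 2, 2, 1, 2, 0, 2, 2, 1, 2, 2, 0, 2, 1, 2, 2, 0, 2, 2] (v3 C) [0, 4, 2, 2, 2, 0, 2, 0, 2] :=
  C.flip (h39114 C) _ _
    (by decide +kernel) (by decide +kernel)

theorem h39116 :
    C.T (v6 C) [1, 2, 2, 0, 3, 3, 1, 2, 2, 2, 0, 2, 1, 2, 2, 0, 3, 3, 1, 3, 0, 2, 2, 1, 3, 0, 2, 1, 2, 0, 2, 2, 2, 1, 2, 2, 0, 3, 0] (v6 C) [2, 2, 1, 2, 2, 0, 3, 3, 1, 2, 2, 0, 2, 2, 1] :=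
  C.closeT (A := [none]) (B := [some [1], some [0, 0], none, some [0, 0, 0]])
    (C.pT (h39113 C)
    (C.pNil (v6 C) [1, 2, 2, 0, 3, 3, 1, 2, 2, 2, 0, 2, 1, 2, 2, 0, 3, 3, 1, 3, 0, 2, 2, 1, 3, 0, 2, 1, 2, 0, 2, 2, 2, 1, 2, 2, 0, 3, 0]))
    (C.pH [1] [1, 2, 2, 0, 3, 3, 1, 2, 2, 2, 0, 2, 2, 1, 2, 0, 2, 2, 1, 2, 2, 0, 2, 1, 2, 2, 0, 2, 2, 0, 0] (by decide +kernel)
    (C.pH [0, 0] [1, 2, 2, 0, 3, 3, 1, 2, 2, 2, 0, 2, 2, 1, 2, 0, 2, 2, 1, 2, 2, 0, 2, 1, 2, 2, 0, 2, 2] (by decide +kernel)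
    (C.pT (h39115 C)
    (C.pH [0, 0, 0] [4, 2, 2, 2, 0, 2, 0, 2] (by decide +kernel)
    (C.pNil (v3 C) [4, 2, 2, 2, 0, 2, 0, 2]))))) C.relTwo

theorem h39118 :
    C.S (v6 C) [] :=
  C.stInv (h37324 C) _ (by decide +kernel)

theorem h39119 :
    C.T (v6 C) [0] (v6 C) [1, 2, 0, 2, 1, 2, 0, 2, 1, 2, 2, 0, 3, 3, 1, 2, 2, 2, 0, 2, 1, 2, 2, 2, 0, 3, 3, 1, 2] :=
  C.conv (h39116 C) (h39118 C) _ _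
    (by decide +kernel) (by decide +kernel)

theorem h39132 :
    C.T (v3 C) [4, 2, 2, 2, 0, 2, 0, 2] (v6 C) [1, 2, 2, 0, 3, 3, 1, 2, 2, 2, 0, 2, 1, 2, 2, 0, 3, 3, 1, 3, 0, 2, 2, 1, 3, 0, 2, 1, 2, 0, 2, 2, 2, 1, 2, 2, 0, 3, 0] :=
  C.conv (h39071 C) (h16412 C) _ _
    (by decide +kernel) (by decide +kernel)

theorem h39133 :
    C.T (v3 C) [2, 2, 2, 1, 2, 0, 2] (v4 C) [1, 2, 0, 2, 1, 2, 2, 0, 2, 1, 3, 0, 3, 1, 2, 0, 2, 2, 1, 2, 0, 2, 1, 3, 0, 3, 1, 2, 2, 0, 3, 3, 1, 2, 2, 0, 2, 2, 2, 1, 3, 3, 0, 2, 1, 2, 2, 0, 2, 2, 0] :=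
  C.conv (h23912 C) (h16412 C) _ _
    (by decide +kernel) (by decide +kernel)

theorem h39134 :
    C.T (v4 C) [1, 2, 0, 2, 1, 2, 2, 0, 2, 1, 3, 0, 3, 1, 2, 0, 2, 2, 1, 2, 0, 2, 1, 3, 0, 3, 1, 2, 2, 0, 3, 3, 1, 2, 2, 0, 2, 2, 2, 1, 3, 3, 0, 2, 1, 2, 2, 0, 2, 2, 1] (v3 C) [2, 2, 2, 1, 2, 0, 2, 0, 0] :=
  C.flip (h39133 C) _ _
    (by decide +kernel) (by decide +kernel)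

theorem h39135 :
    C.T (v6 C) [1, 2, 2, 0, 3, 3, 1, 2, 2, 2, 0, 2, 1, 2, 2, 0, 3, 3, 1, 3, 0, 2, 2, 1, 3, 0, 2, 1, 2, 0, 2, 2, 2, 1, 2, 2, 0, 3, 1, 4] (v4 C) [1, 2, 0, 2, 1, 2, 2, 0, 2, 1, 3, 0, 3, 1, 2, 0, 2, 2, 1, 2, 0, 2, 1, 3, 0, 3, 1, 2, 2, 0, 3, 3, 1, 2, 2, 0, 2, 2, 2, 1, 3, 3, 0, 2, 0, 4, 2, 2, 0, 2, 2, 1] :=
  C.closeT (A := [none, some [4]]) (B := [some [4], none, some [4]])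
    (C.pT (h39132 C)
    (C.pH [4] [1, 2, 2, 0, 3, 3, 1, 2, 2, 2, 0, 2, 1, 2, 2, 0, 3, 3, 1, 3, 0, 2, 2, 1, 3, 0, 2, 1, 2, 0, 2, 2, 2, 1, 2, 2, 0, 3, 1, 4] (by decide +kernel)
    (C.pNil (v6 C) [1, 2, 2, 0, 3, 3, 1, 2, 2, 2, 0, 2, 1, 2, 2, 0, 3, 3, 1, 3, 0, 2, 2, 1, 3, 0, 2, 1, 2, 0, 2, 2, 2, 1, 2, 2, 0, 3, 1, 4])))
    (C.pH [4] [1, 2, 0, 2, 1, 2, 2, 0, 2, 1, 3, 0, 3, 1, 2, 0, 2, 2, 1, 2, 0, 2, 1, 3, 0, 3, 1, 2, 2, 0, 3, 3, 1, 2, 2, 0, 2, 2, 2, 1, 3, 3, 0, 2, 1, 2, 2, 0, 2, 2, 1] (by decide +kernel)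
    (C.pT (h39134 C)
    (C.pH [4] [4, 2, 2, 2, 0, 2, 0, 2] (by decide +kernel)
    (C.pNil (v3 C) [4, 2, 2, 2, 0, 2, 0, 2])))) C.relOne

theorem h39136 :
    C.T (v4 C) [1, 2, 0, 2, 1, 2, 2, 0, 2, 1, 3, 0, 3, 1, 2, 0, 2, 2, 1, 2, 0, 2, 1, 3, 0, 3, 1, 2, 2, 0, 3, 3, 1, 2, 2, 0, 2, 2, 2, 1, 3, 3, 0, 2, 0, 4, 2, 2, 0, 2, 2, 0] (v6 C) [1, 2, 2, 0, 3, 3, 1, 2, 2, 2, 0, 2, 1, 2, 2, 0, 3, 3, 1, 3, 0, 2, 2, 1, 3, 0, 2, 1, 2, 0, 2, 2, 2, 1, 2, 2, 0, 3, 0, 4] :=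
  C.flip (h39135 C) _ _
    (by decide +kernel) (by decide +kernel)

theorem h39137 :
    C.S (v6 C) [] :=
  C.stInv (h37324 C) _ (by decide +kernel)

theorem h39138 :
    C.T (v6 C) [1, 4] (v4 C) [1, 2, 0, 2, 1, 2, 0, 2, 1, 2, 2, 0, 3, 3, 1, 2, 2, 2, 0, 2, 1, 2, 2, 0, 3, 3, 1, 3, 0, 2, 2, 1, 3, 3, 0, 3, 1, 2, 2, 0, 2, 1, 3, 3, 0, 2, 2, 0, 4, 2, 2, 0, 2, 2, 1] :=
  C.conv (h39135 C) (h39137 C) _ _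
    (by decide +kernel) (by decide +kernel)

theorem h39145 :
    C.S (v4 C) [1, 2, 0, 2, 1, 2, 0, 2, 1, 2, 0, 3, 1, 3, 0, 2, 1, 2, 0, 3, 1, 3, 0, 2, 2, 1, 3, 3, 0, 2, 1, 2, 0, 3, 3, 1, 3, 3, 0, 3, 3, 1, 2, 2, 0, 2, 2, 2, 2, 1, 2, 0, 3, 1, 3, 0, 2, 4, 2, 0, 4, 2, 0, 4] :=
  C.stInv (h25423 C) _ (by decide +kernel)

theorem h39146 :
    C.T (v4 C) [4, 2, 2, 4, 3, 1] (v6 C) [1, 2, 0, 2, 1, 2, 0, 2, 2, 1, 3, 3, 0, 3, 1, 2, 2, 2, 0, 2, 1, 2, 0, 3, 1, 2, 2, 0, 2, 2, 1, 2, 0, 2, 2, 2, 1, 2, 2, 0, 3, 1, 3, 3, 0, 0, 4] :=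
  C.conv (h39136 C) (h39145 C) _ _
    (by decide +kernel) (by decide +kernel)

theorem h39156 :
    C.T (v3 C) [3, 1, 2, 0, 2, 1, 3, 0, 3, 1, 2, 0, 2, 2, 2, 2, 1, 3, 0, 2, 1, 2, 0, 3, 1, 3, 3, 0, 3, 1, 3, 0, 3, 1, 2, 2, 0, 2, 1, 2, 0, 0, 4, 2, 0, 4, 2, 1] (v6 C) [1, 2, 0, 2, 1, 2, 0, 2, 2, 1, 3, 3, 0, 3, 1, 2, 2, 2, 0, 2, 1, 2, 0, 3, 1, 2, 2, 0, 3, 1, 2, 2, 0, 3, 1, 3, 3, 0, 3, 1, 3, 0, 2, 1, 2, 0, 2, 2, 1, 3, 0, 2, 2, 1, 3, 0, 4] :=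
  C.conv (h39098 C) (h17428 C) _ _
    (by decide +kernel) (by decide +kernel)

theorem h39157 :
    C.T (v3 C) [1, 2, 0, 2, 2, 2, 1, 3, 0, 2, 2, 1, 3, 3, 0, 2, 1, 2, 2, 0, 3, 3, 1, 3, 0, 0, 4, 2, 2, 0, 2, 0, 2] (v2 C) [1, 2, 0, 2, 1, 2, 0, 2, 1, 2, 0, 3, 1, 3, 0, 2, 1, 2, 0, 3, 1, 3, 0, 2, 1, 3, 0, 3, 1, 2, 2, 2, 0, 2, 2, 2, 1, 2, 2, 0, 2, 1, 2, 0, 3, 1, 3, 0, 2, 1, 2, 0, 2, 4, 2, 0, 2] :=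
  C.conv (h17947 C) (h16954 C) _ _
    (by decide +kernel) (by decide +kernel)

theorem h39158 :
    C.T (v2 C) [1, 2, 0, 2, 1, 2, 0, 2, 1, 2, 0, 3, 1, 3, 0, 2, 1, 2, 0, 3, 1, 3, 0, 2, 1, 3, 0, 3, 1, 2, 2, 2, 0, 2, 2, 2, 1, 2, 2, 0, 2, 1, 2, 0, 3, 1, 3, 0, 2, 1, 2, 0, 2, 4, 2, 1, 2] (v3 C) [1, 2, 0, 2, 2, 2, 1, 3, 0, 2, 2, 1, 3, 3, 0, 2, 1, 2, 2, 0, 3, 3, 1, 3, 0, 0, 4, 2, 2, 0, 2, 1, 2] :=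
  C.flip (h39157 C) _ _
    (by decide +kernel) (by decide +kernel)

theorem h39159 :
    C.T (v2 C) [1, 2, 0, 2, 1, 2, 0, 3, 1, 2, 2, 0, 3, 1, 3, 3, 0, 3, 1, 3, 3, 0, 2, 2, 1, 3, 0, 2, 1, 2, 0, 3, 1, 3, 0, 2, 2, 4, 2, 0, 4, 2, 0] (v6 C) [1, 2, 0, 2, 1, 2, 2, 0, 2, 1, 3, 0, 3, 1, 2, 0, 2, 2, 1, 2, 0, 2, 2, 1, 3, 3, 0, 2, 1, 2, 0, 2, 1, 2, 0, 3, 1, 3, 0, 2, 2, 1, 2, 0, 3, 1, 3, 0, 2, 4, 2, 2, 2, 0, 2, 1, 2] :=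
  C.conv (h39061 C) (h18145 C) _ _
    (by decide +kernel) (by decide +kernel)

theorem h39160 :
    C.T (v6 C) [1, 2, 0, 2, 1, 2, 2, 0, 2, 1, 3, 0, 3, 1, 2, 0, 2, 2, 1, 2, 0, 2, 2, 1, 3, 3, 0, 2, 1, 2, 0, 2, 1, 2, 0, 3, 1, 3, 0, 2, 2, 1, 2, 0, 3, 1, 3, 0, 2, 4, 2, 2, 2, 0, 2, 0, 2] (v2 C) [1, 2, 0, 2, 1, 2, 0, 3, 1, 2, 2, 0, 3, 1, 3, 3, 0, 3, 1, 3, 3, 0, 2, 2, 1, 3, 0, 2, 1, 2, 0, 3, 1, 3, 0, 2, 2, 4, 2, 0, 4, 2, 1] :=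
  C.flip (h39159 C) _ _
    (by decide +kernel) (by decide +kernel)

theorem h39161 :
    C.E (v6 C) [2, 1, 3, 3, 0, 3, 1, 2, 2, 2, 0, 2, 1, 2, 0, 3, 1, 2, 0, 2, 2, 1, 3, 0, 2, 1, 2, 2, 0, 3, 1, 2, 2, 0, 3, 3, 0, 4, 2, 2, 0, 3, 4] (v6 C) [1, 2, 0, 2, 1, 2, 2, 0, 2, 1, 3, 0, 3, 1, 2, 0, 2, 2, 1, 2, 0, 2, 2, 1, 3, 3, 0, 2, 1, 2, 0, 2, 1, 2, 0, 3, 1, 3, 0, 2, 2, 1, 2, 0, 3, 1, 3, 0, 2, 4, 2, 2, 2, 0, 2, 0, 2] :=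
  C.closeE (A := [none, some [4]]) (B := [none, some [4], none, some [4]])
    (C.pT (h39156 C)
    (C.pH [4] [2, 1, 3, 3, 0, 3, 1, 2, 2, 2, 0, 2, 1, 2, 0, 3, 1, 2, 0, 2, 2, 1, 3, 0, 2, 1, 2, 2, 0, 3, 1, 2, 2, 0, 3, 3, 0, 4, 2, 2, 0, 3, 4] (by decide +kernel)
    (C.pNil (v6 C) [2, 1, 3, 3, 0, 3, 1, 2, 2, 2, 0, 2, 1, 2, 0, 3, 1, 2, 0, 2, 2, 1, 3, 0, 2, 1, 2, 2, 0, 3, 1, 2, 2, 0, 3, 3, 0, 4, 2, 2, 0, 3, 4])))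
    (C.pT (h39160 C)
    (C.pH [4] [1, 2, 0, 2, 1, 2, 0, 2, 1, 2, 0, 3, 1, 3, 0, 2, 1, 2, 0, 3, 1, 3, 0, 2, 1, 3, 0, 3, 1, 2, 2, 2, 0, 2, 2, 2, 1, 2, 2, 0, 2, 1, 2, 0, 3, 1, 3, 0, 2, 1, 2, 0, 2, 4, 2, 1, 2] (by decide +kernel)
    (C.pT (h39158 C)
    (C.pH [4] [3, 1, 2, 0, 2, 1, 3, 0, 3, 1, 2, 0, 2, 2, 2, 2, 1, 3, 0, 2, 1, 2, 0, 3, 1, 3, 3, 0, 3, 1, 3, 0, 3, 1, 2, 2, 0, 2, 1, 2, 0, 0, 4, 2, 0, 4, 2, 1] (by decide +kernel)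
    (C.pNil (v3 C) [3, 1, 2, 0, 2, 1, 3, 0, 3, 1, 2, 0, 2, 2, 2, 2, 1, 3, 0, 2, 1, 2, 0, 3, 1, 3, 3, 0, 3, 1, 3, 0, 3, 1, 2, 2, 0, 2, 1, 2, 0, 0, 4, 2, 0, 4, 2, 1]))))) C.relOne

theorem h39162 :
    C.S (v6 C) [1, 2, 0, 2, 1, 2, 0, 2, 1, 2, 0, 3, 1, 3, 0, 2, 1, 2, 0, 3, 1, 3, 0, 2, 1, 3, 0, 3, 1, 2, 2, 0, 3, 3, 1, 2, 2, 2, 0, 3, 1, 2, 2, 0, 3, 3, 3, 4, 2, 4, 3, 4] :=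
  C.stEq (h39161 C) _ (by decide +kernel)

theorem h39163 :
    C.S (v6 C) [] :=
  C.stOne _

theorem h39237 :
    C.S (v6 C) [1, 2, 0, 2, 1, 2, 0, 2, 1, 3, 0, 3, 1, 2, 2, 0, 2, 2, 1, 2, 2, 2, 0, 3, 3, 3] :=
  C.stMul (h39163 C) (h34583 C) _
    (by decide +kernel)

theorem h39243 :
    C.S (v6 C) [1, 2, 0, 2, 1, 2, 0, 2, 1, 2, 0, 3, 1, 3, 0, 2, 1, 2, 0, 3, 1, 3, 0, 2, 2, 1, 3, 3, 0, 2, 1, 2, 0, 2, 1, 2, 2, 0, 2] :=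
  C.stMul (h39237 C) (h37323 C) _
    (by decide +kernel)

theorem h39259 :
    C.S (v6 C) [2, 2, 1, 3, 3, 0, 2, 1, 2, 2, 0, 3, 3, 1, 2, 0] :=
  C.stMul (h39243 C) (h34583 C) _
    (by decide +kernel)

theorem h39303 :
    C.S (v6 C) [1, 2, 0, 2, 1, 2, 2, 0, 2, 1, 3, 0, 3, 1, 2, 0, 2, 2, 2, 2, 1, 3, 0, 3, 1, 2, 2, 2, 0] :=
  C.stMul (h39163 C) (h35617 C) _
    (by decide +kernel)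

theorem h39310 :
    C.S (v6 C) [3, 1, 2, 0, 2, 1, 3, 0, 3, 1, 2, 0, 2, 2, 1, 2, 0, 2, 1, 3, 0, 3, 1, 2, 2, 0, 3, 1, 3, 0, 2, 2, 2, 1, 2, 0, 3] :=
  C.stMul (h39303 C) (h34583 C) _
    (by decide +kernel)

theorem h39331 :
    C.S (v6 C) [1, 2, 0, 2, 1, 2, 0, 2, 1, 3, 0, 3, 1, 2, 2, 0, 2, 2, 1, 2, 2, 2, 0, 3, 3, 3] :=
  C.stMul (h39163 C) (h34583 C) _
    (by decide +kernel)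

theorem h39332 :
    C.S (v6 C) [1, 2, 0, 2, 1, 2, 2, 0, 2, 1, 3, 0, 3, 1, 2, 0, 2, 2, 2, 2, 1, 3, 0, 3, 1, 2, 2, 2, 0] :=
  C.stMul (h39163 C) (h35617 C) _
    (by decide +kernel)

theorem h39334 :
    C.S (v6 C) [1, 2, 0, 2, 1, 2, 0, 2, 1, 2, 0, 3, 1, 3, 0, 2, 1, 2, 0, 3, 1, 3, 0, 2, 1, 3, 0, 3, 1, 2, 2, 0, 3, 3, 1, 2, 2, 2, 0, 3, 1, 2, 2, 0, 3, 3, 3, 4, 2, 4, 3, 4] :=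
  C.stMul (h39163 C) (h39162 C) _
    (by decide +kernel)

theorem h39335 :
    C.S (v6 C) [1, 2, 0, 3, 1, 3, 0, 2, 1, 2, 0, 3, 1, 3, 0, 2, 1, 3, 0, 2, 2, 2, 1, 2, 0] :=
  C.stMul (h39331 C) (h34583 C) _
    (by decide +kernel)

theorem h39336 :
    C.S (v6 C) [1, 2, 0, 2, 1, 2, 2, 0, 2, 1, 3, 0, 3, 1, 2, 0, 2, 2, 1, 2, 0, 2, 2, 2, 1, 2, 2, 0, 3, 3, 1, 2, 2, 0, 2, 4, 2, 4, 3, 4] :=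
  C.stMul (h39331 C) (h39162 C) _
    (by decide +kernel)

theorem h39337 :
    C.S (v6 C) [1, 2, 0, 3, 1, 3, 0, 2, 1, 2, 0, 3, 1, 3, 0, 2, 1, 3, 0, 3, 1, 3, 0, 3, 4, 2, 4, 3, 4] :=
  C.stMul (h39332 C) (h39162 C) _
    (by decide +kernel)

theorem h39339 :
    C.S (v6 C) [1, 2, 0, 2, 1, 2, 0, 2, 2, 1, 3, 3, 0, 2, 1, 2, 0, 2, 1, 2, 0, 2, 2, 2, 1, 2, 2, 0, 3, 3, 4, 2, 4, 3, 4] :=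
  C.stMul (h39334 C) (h37323 C) _
    (by decide +kernel)

theorem h39340 :
    C.S (v6 C) [1, 2, 0, 3, 1, 3, 0, 2, 1, 2, 0, 3, 1, 3, 0, 2, 2, 2, 1, 3, 3, 0, 2, 1, 2, 2, 0, 3, 3, 1, 2, 0, 4, 2, 4, 3, 4] :=
  C.stMul (h39337 C) (h37323 C) _
    (by decide +kernel)

theorem h39341 :
    C.S (v6 C) [1, 2, 0, 2, 1, 2, 0, 2, 1, 2, 2, 0, 3, 3, 1, 2, 2, 2, 0, 2, 1, 2, 2, 0, 2, 1, 2, 2, 0, 3, 3, 1, 2, 2, 0, 2, 4, 2, 4, 3, 4] :=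
  C.stInv (h39336 C) _ (by decide +kernel)

theorem h39342 :
    C.S (v6 C) [2, 1, 3, 3, 0, 3, 1, 2, 2, 2, 0, 2, 1, 2, 0, 3, 1, 2, 2, 0, 2, 1, 3, 0, 3, 1, 2, 2, 2, 0, 3, 1, 3, 0, 3] :=
  C.stMul (h39340 C) (h39341 C) _
    (by decide +kernel)

theorem h39343 :
    C.S (v6 C) [1, 2, 0, 2, 1, 2, 0, 2, 2, 1, 3, 3, 0, 3, 1, 2, 2, 2, 0, 2, 1, 2, 0, 3, 1, 2, 2, 0, 2, 1, 3, 0, 3, 1, 2, 0, 2, 1, 2, 0, 2, 1, 3, 0, 3, 3, 4, 2, 4, 3, 4] :=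
  C.stMul (h39335 C) (h39162 C) _
    (by decide +kernel)

theorem h39344 :
    C.S (v6 C) [1, 2, 2, 0, 3, 3, 1, 2, 2, 2, 0, 2, 1, 2, 2, 0, 3, 3, 1, 3, 3, 0, 3, 3, 1, 3, 0, 2, 1, 2, 0, 3, 4, 2, 4, 3, 4] :=
  C.stInv (h39339 C) _ (by decide +kernel)

theorem h39345 :
    C.S (v6 C) [3, 1, 2, 0, 2, 1, 3, 0, 3, 1, 2, 0, 2, 2, 1, 2, 2, 2, 2, 0, 2] :=
  C.stMul (h39343 C) (h39344 C) _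
    (by decide +kernel)

theorem h39375 :
    C.S (v6 C) [1, 2, 0, 2, 1, 2, 0, 2, 1, 3, 0, 3, 1, 2, 2, 0, 2, 2, 1, 2, 2, 2, 0, 3, 3, 3] :=
  C.stMul (h39163 C) (h34583 C) _
    (by decide +kernel)

theorem h39381 :
    C.S (v6 C) [1, 2, 0, 2, 1, 2, 0, 2, 1, 2, 0, 3, 1, 3, 0, 2, 1, 2, 0, 3, 1, 3, 0, 2, 2, 1, 3, 3, 0, 2, 1, 2, 0, 2, 1, 2, 2, 0, 2] :=
  C.stMul (h39375 C) (h37323 C) _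
    (by decide +kernel)

theorem h39397 :
    C.S (v6 C) [2, 2, 1, 3, 3, 0, 2, 1, 2, 2, 0, 3, 3, 1, 2, 0] :=
  C.stMul (h39381 C) (h34583 C) _
    (by decide +kernel)

theorem h39440 :
    C.S (v6 C) [1, 2, 0, 2, 1, 2, 0, 2, 1, 3, 0, 3, 1, 2, 2, 0, 2, 2, 1, 2, 2, 2, 0, 3, 3, 3] :=
  C.stMul (h39163 C) (h34583 C) _
    (by decide +kernel)

theorem h39445 :
    C.S (v6 C) [1, 2, 0, 2, 1, 2, 2, 0, 2, 1, 3, 0, 3, 1, 2, 0, 2, 2, 1, 2, 0, 2, 2, 2, 1, 2, 2, 0, 3, 3, 1, 2, 2, 0, 2, 4, 2, 4, 3, 4] :=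
  C.stMul (h39440 C) (h39162 C) _
    (by decide +kernel)

theorem h39458 :
    C.S (v6 C) [1, 2, 0, 2, 1, 2, 0, 2, 1, 3, 0, 3, 1, 2, 2, 0, 2, 2, 1, 2, 2, 2, 0, 3, 3, 3] :=
  C.stMul (h39163 C) (h34583 C) _
    (by decide +kernel)

theorem h39462 :
    C.S (v6 C) [1, 2, 0, 3, 1, 3, 0, 2, 1, 2, 0, 3, 1, 3, 0, 2, 1, 3, 0, 2, 2, 2, 1, 2, 0] :=
  C.stMul (h39458 C) (h34583 C) _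
    (by decide +kernel)

theorem h39473 :
    C.S (v6 C) [1, 2, 0, 2, 1, 2, 0, 2, 2, 1, 3, 3, 0, 2, 1, 2, 0, 2, 2, 1, 3, 0, 3, 1, 2, 2, 0, 3] :=
  C.stMul (h39462 C) (h35617 C) _
    (by decide +kernel)

theorem h39489 :
    C.S (v6 C) [1, 2, 0, 2, 1, 2, 0, 2, 2, 1, 3, 3, 0, 3, 1, 2, 2, 2, 0, 2, 1, 2, 0, 3, 1, 2, 0, 2, 2, 1, 3, 3, 0, 3, 1, 2, 2, 0, 2, 1, 2, 2, 0, 3, 3, 1, 2, 2, 0, 2, 2] :=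
  C.stMul (h39163 C) (h37323 C) _
    (by decide +kernel)

theorem h39497 :
    C.S (v6 C) [1, 2, 2, 0, 3, 3, 1, 2, 2, 2, 0, 2, 1, 2, 2, 0, 3, 1, 3, 0, 3, 1, 2, 2, 0, 3, 3, 1, 3, 3, 0, 3, 3, 1, 3, 0, 2, 1, 2, 0] :=
  C.stMul (h39489 C) (h34583 C) _
    (by decide +kernel)

theorem h39520 :
    C.S (v6 C) [1, 2, 0, 2, 1, 2, 0, 2, 1, 2, 0, 3, 1, 3, 0, 2, 1, 2, 0, 3, 1, 3, 0, 2, 2, 1, 3, 3, 0, 2, 1, 2, 0, 3, 1, 2, 2, 0, 2, 1, 2, 0, 3] :=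
  C.stMul (h39497 C) (h35617 C) _
    (by decide +kernel)

theorem h39541 :
    C.S (v6 C) [1, 2, 0, 2, 1, 2, 0, 2, 1, 3, 0, 3, 1, 2, 2, 0, 2, 2, 1, 2, 2, 2, 0, 3, 3, 3, 4, 2, 4, 3, 4] :=
  C.stMul (h39520 C) (h39162 C) _
    (by decide +kernel)

theorem h39554 :
    C.S (v6 C) [1, 2, 0, 2, 1, 2, 0, 2, 2, 1, 3, 3, 0, 3, 1, 2, 2, 2, 0, 2, 1, 2, 0, 3, 1, 2, 0, 2, 2, 1, 3, 3, 0, 3, 1, 2, 2, 0, 2, 1, 2, 2, 0, 3, 3, 1, 2, 2, 0, 2, 2] :=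
  C.stMul (h39163 C) (h37323 C) _
    (by decide +kernel)

theorem h39565 :
    C.S (v6 C) [1, 2, 0, 2, 1, 2, 0, 2, 1, 2, 0, 3, 1, 3, 0, 2, 1, 2, 0, 3, 1, 3, 0, 2, 1, 3, 0, 3, 1, 2, 2, 0, 3, 1, 3, 0, 3, 3, 1, 3, 0] :=
  C.stMul (h39554 C) (h37323 C) _
    (by decide +kernel)

theorem h39596 :
    C.S (v6 C) [2, 1, 3, 3, 0, 3, 1, 2, 2, 2, 0, 2, 1, 2, 0, 3, 1, 2, 0, 2, 2, 1, 3, 0, 3, 1, 3, 3, 0, 3] :=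
  C.stMul (h39565 C) (h34583 C) _
    (by decide +kernel)

theorem h39677 :
    C.S (v6 C) [1, 2, 0, 2, 1, 2, 0, 2, 1, 2, 0, 3, 1, 3, 0, 2, 1, 2, 0, 3, 1, 3, 0, 2, 1, 3, 0, 3, 1, 2, 2, 0, 3, 3, 1, 2, 2, 2, 0, 3, 1, 2, 2, 0, 3, 3, 3, 4, 2, 4, 3, 4] :=
  C.stMul (h39163 C) (h39162 C) _
    (by decide +kernel)

theorem h39689 :
    C.S (v6 C) [1, 2, 0, 2, 1, 2, 0, 2, 2, 1, 3, 3, 0, 3, 1, 2, 2, 2, 0, 2, 1, 2, 0, 3, 1, 2, 2, 0, 2, 2, 1, 3, 3, 0, 2, 1, 2, 0, 3, 1, 2, 2, 0, 2, 1, 2, 0, 3, 4, 2, 4, 3, 4] :=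
  C.stMul (h39677 C) (h34583 C) _
    (by decide +kernel)

theorem h39731 :
    C.S (v6 C) [3, 1, 2, 0, 2, 1, 3, 0, 3, 1, 2, 0, 2, 2, 1, 2, 0, 2, 1, 3, 0, 3, 1, 2, 2, 0, 2, 2, 1, 2, 2, 2, 0, 3, 3, 3] :=
  C.stMul (h39689 C) (h39162 C) _
    (by decide +kernel)

theorem h39799 :
    C.S (v6 C) [1, 2, 0, 2, 1, 2, 0, 2, 1, 2, 0, 3, 1, 3, 0, 2, 1, 2, 0, 3, 1, 3, 0, 2, 1, 3, 0, 3, 1, 2, 2, 0, 3, 3, 1, 2, 2, 2, 0, 3, 1, 2, 2, 0, 3, 3, 3, 4, 2, 4, 3, 4] :=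
  C.stMul (h39163 C) (h39162 C) _
    (by decide +kernel)

theorem h39812 :
    C.S (v6 C) [1, 2, 0, 2, 1, 2, 0, 2, 1, 2, 0, 3, 1, 3, 0, 2, 1, 2, 0, 3, 1, 3, 3, 0, 2, 2, 1, 3, 0, 2, 2, 1, 3, 3, 0, 2, 2, 4, 2, 4, 3, 4] :=
  C.stMul (h39799 C) (h35617 C) _
    (by decide +kernel)

theorem h39853 :
    C.S (v6 C) [3, 1, 2, 0, 2, 1, 3, 0, 3, 1, 2, 0, 2, 2, 1, 2, 0, 2, 2, 1, 3, 3, 0, 2, 1, 2, 0, 2, 1, 3, 0, 2, 2, 1, 3, 0] :=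
  C.stMul (h39812 C) (h39162 C) _
    (by decide +kernel)

theorem h39920 :
    C.S (v6 C) [1, 2, 0, 2, 1, 2, 0, 2, 2, 1, 3, 3, 0, 3, 1, 2, 2, 2, 0, 2, 1, 2, 0, 3, 1, 2, 0, 2, 2, 1, 3, 3, 0, 3, 1, 2, 2, 0, 2, 1, 2, 2, 0, 3, 3, 1, 2, 2, 0, 2, 2] :=
  C.stMul (h39163 C) (h37323 C) _
    (by decide +kernel)

theorem h39930 :
    C.S (v6 C) [1, 2, 0, 2, 1, 2, 0, 2, 1, 2, 0, 3, 1, 3, 0, 2, 1, 2, 0, 3, 1, 3, 0, 2, 1, 3, 0, 3, 1, 2, 2, 0, 3, 1, 3, 0, 3, 3, 1, 3, 0] :=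
  C.stMul (h39920 C) (h37323 C) _
    (by decide +kernel)

theorem h39954 :
    C.S (v6 C) [1, 2, 0, 2, 1, 2, 0, 2, 1, 2, 2, 0, 3, 3, 1, 2, 2, 2, 0, 2, 2, 1, 2, 0, 2, 1, 3, 0, 2] :=
  C.stMul (h39930 C) (h37323 C) _
    (by decide +kernel)

theorem h40021 :
    C.S (v6 C) [1, 2, 0, 2, 1, 2, 0, 2, 1, 3, 0, 3, 1, 2, 2, 0, 2, 2, 1, 2, 2, 2, 0, 3, 3, 3] :=
  C.stMul (h39163 C) (h34583 C) _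
    (by decide +kernel)

theorem h40025 :
    C.S (v6 C) [1, 2, 0, 3, 1, 3, 0, 2, 1, 2, 0, 3, 1, 3, 0, 2, 1, 3, 0, 2, 2, 2, 1, 2, 0] :=
  C.stMul (h40021 C) (h34583 C) _
    (by decide +kernel)

theorem h40039 :
    C.S (v6 C) [1, 2, 0, 2, 1, 2, 0, 2, 1, 3, 0, 3, 1, 2, 2, 0, 2, 2, 1, 2, 2, 2, 0, 3, 3, 3] :=
  C.stMul (h39163 C) (h34583 C) _
    (by decide +kernel)

theorem h40040 :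
    C.S (v6 C) [1, 2, 0, 2, 1, 2, 2, 0, 2, 1, 3, 0, 3, 1, 2, 0, 2, 2, 2, 2, 1, 3, 0, 3, 1, 2, 2, 2, 0] :=
  C.stMul (h39163 C) (h35617 C) _
    (by decide +kernel)

theorem h40041 :
    C.S (v6 C) [1, 2, 0, 2, 1, 2, 0, 2, 2, 1, 3, 3, 0, 3, 1, 2, 2, 2, 0, 2, 1, 2, 0, 3, 1, 2, 0, 2, 2, 1, 3, 3, 0, 3, 1, 2, 2, 0, 2, 1, 2, 2, 0, 3, 3, 1, 2, 2, 0, 2, 2] :=
  C.stMul (h39163 C) (h37323 C) _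
    (by decide +kernel)

theorem h40043 :
    C.S (v6 C) [1, 2, 0, 3, 1, 3, 0, 2, 1, 2, 0, 3, 1, 3, 0, 2, 1, 3, 0, 2, 2, 2, 1, 2, 0] :=
  C.stMul (h40039 C) (h34583 C) _
    (by decide +kernel)

theorem h40044 :
    C.S (v6 C) [1, 2, 2, 0, 3, 3, 1, 2, 2, 2, 0, 2, 2, 1, 2, 0, 2, 2, 1, 2, 2, 0, 2, 1, 2, 2, 0, 2] :=
  C.stMul (h40039 C) (h35617 C) _
    (by decide +kernel)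

theorem h40049 :
    C.S (v6 C) [1, 2, 0, 3, 1, 3, 0, 2, 1, 2, 0, 3, 1, 3, 0, 2, 1, 3, 0, 3, 1, 3, 0, 3, 4, 2, 4, 3, 4] :=
  C.stMul (h40040 C) (h39162 C) _
    (by decide +kernel)

theorem h40051 :
    C.S (v6 C) [1, 2, 0, 2, 1, 2, 0, 2, 1, 2, 2, 0, 3, 3, 1, 2, 2, 2, 0, 2, 1, 2, 2, 0, 3, 3, 1, 3, 0, 2, 2, 1, 3, 0, 3, 1, 2, 2, 0, 2, 2, 1, 3, 0, 3] :=
  C.stMul (h40041 C) (h35617 C) _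
    (by decide +kernel)

theorem h40059 :
    C.S (v6 C) [2, 1, 2, 0, 3, 3, 1, 2, 0] :=
  C.stMul (h40043 C) (h37323 C) _
    (by decide +kernel)

theorem h40062 :
    C.S (v6 C) [2, 1, 3, 3, 0, 3, 1, 2, 2, 2, 0, 2, 1, 2, 0, 3, 1, 2, 2, 0, 2, 1, 3, 0, 3, 1, 2, 2, 2, 0, 2, 2, 1, 3, 0, 3] :=
  C.stMul (h40044 C) (h37323 C) _
    (by decide +kernel)

theorem h40073 :
    C.S (v6 C) [3, 1, 2, 0, 2, 1, 3, 0, 3, 1, 2, 0, 2, 2, 1, 2, 2, 2, 2, 0, 2, 4, 2, 4, 3, 4] :=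
  C.stMul (h40049 C) (h34583 C) _
    (by decide +kernel)

theorem h40082 :
    C.S (v6 C) [3, 3, 1, 2, 2, 0, 3, 1, 3, 3, 0, 3, 1, 2, 0, 3, 3, 1, 2, 0, 3, 3, 1, 3, 0, 4, 2, 4, 3, 4] :=
  C.stMul (h40051 C) (h39162 C) _
    (by decide +kernel)

theorem h40103 :
    C.S (v6 C) [1, 2, 0, 2, 1, 2, 0, 2, 1, 2, 0, 3, 1, 3, 0, 2, 1, 2, 0, 3, 1, 3, 3, 0, 2, 2, 1, 3, 0, 2, 2, 1, 3, 3, 0, 2, 2] :=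
  C.stMul (h40059 C) (h37323 C) _
    (by decide +kernel)

theorem h40164 :
    C.S (v6 C) [1, 2, 0, 2, 1, 2, 0, 2, 1, 2, 0, 3, 1, 3, 0, 2, 1, 2, 0, 3, 1, 3, 0, 2, 1, 3, 0, 3, 1, 2, 2, 0, 3, 3, 1, 2, 2, 2, 0, 3, 1, 2, 2, 0, 3, 3, 3, 4, 2, 4, 3, 4] :=
  C.stMul (h39163 C) (h39162 C) _
    (by decide +kernel)

theorem h40169 :
    C.S (v6 C) [1, 2, 0, 2, 1, 2, 0, 2, 2, 1, 3, 3, 0, 2, 1, 2, 0, 2, 1, 2, 0, 2, 2, 2, 1, 2, 2, 0, 3, 3, 4, 2, 4, 3, 4] :=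
  C.stMul (h40164 C) (h37323 C) _
    (by decide +kernel)

theorem h40182 :
    C.S (v6 C) [1, 2, 0, 2, 1, 2, 0, 2, 1, 2, 0, 3, 1, 3, 0, 2, 1, 2, 0, 3, 1, 3, 0, 2, 1, 3, 0, 3, 1, 2, 2, 0, 3, 3, 1, 2, 2, 2, 0, 3, 1, 2, 2, 0, 3, 3, 3, 4, 2, 4, 3, 4] :=
  C.stMul (h39163 C) (h39162 C) _
    (by decide +kernel)

theorem h40194 :
    C.S (v6 C) [1, 2, 0, 2, 1, 2, 0, 2, 1, 2, 0, 3, 1, 3, 0, 2, 1, 2, 0, 3, 1, 3, 3, 0, 2, 2, 1, 3, 0, 2, 2, 1, 3, 3, 0, 2, 2, 4, 2, 4, 3, 4] :=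
  C.stMul (h40182 C) (h35617 C) _
    (by decide +kernel)

theorem h40208 :
    C.S (v6 C) [1, 2, 0, 2, 1, 2, 0, 2, 1, 3, 0, 3, 1, 2, 2, 0, 2, 2, 1, 2, 2, 2, 0, 3, 3, 3] :=
  C.stMul (h39163 C) (h34583 C) _
    (by decide +kernel)

theorem h40213 :
    C.S (v6 C) [1, 2, 2, 0, 3, 3, 1, 2, 2, 2, 0, 2, 2, 1, 2, 0, 2, 2, 1, 2, 2, 0, 2, 1, 2, 2, 0, 2] :=
  C.stMul (h40208 C) (h35617 C) _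
    (by decide +kernel)

theorem h40229 :
    C.S (v6 C) [3, 1, 2, 0, 2, 1, 3, 0, 3, 1, 2, 0, 2, 2, 2, 2, 1, 3, 0, 2, 2, 2, 1, 2, 2, 2, 0, 3, 3, 3, 3] :=
  C.stMul (h40213 C) (h34583 C) _
    (by decide +kernel)

theorem h40268 :
    C.S (v6 C) [3, 1, 3, 0, 2, 2, 1, 3, 0, 2, 1, 2, 2, 0, 2, 1, 3, 0, 3, 1, 2, 0, 2, 4, 2, 4, 3, 4] :=
  C.stMul (h40229 C) (h39162 C) _
    (by decide +kernel)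

theorem h40332 :
    C.S (v6 C) [1, 2, 0, 2, 1, 2, 0, 2, 2, 1, 3, 3, 0, 3, 1, 2, 2, 2, 0, 2, 1, 2, 0, 3, 1, 2, 0, 2, 2, 1, 3, 3, 0, 3, 1, 2, 2, 0, 2, 1, 2, 2, 0, 3, 3, 1, 2, 2, 0, 2, 2] :=
  C.stMul (h39163 C) (h37323 C) _
    (by decide +kernel)

theorem h40342 :
    C.S (v6 C) [1, 2, 0, 2, 1, 2, 0, 2, 1, 2, 2, 0, 3, 3, 1, 2, 2, 2, 0, 2, 1, 2, 2, 0, 3, 3, 1, 3, 0, 2, 2, 1, 3, 0, 3, 1, 2, 2, 0, 2, 2, 1, 3, 0, 3] :=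
  C.stMul (h40332 C) (h35617 C) _
    (by decide +kernel)

end CfsgLib.HNIndex
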