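import Cfsg.Agent.Lib.HNIndex.Items3

/-!
# Derived equations (generated)
-/

set_option autoImplicit false
set_option linter.style.longLine false

namespace CfsgLib.HNIndex

variable {G X : Type} [Group G] [MulAction G X] (C : Ctx G X)

theorem h40452 :
    C.S (v6 C) [1, 2, 0, 2, 1, 2, 0, 2, 1, 3, 0, 3, 1, 2, 2, 0, 2, 2, 1, 2, 2, 2, 0, 3, 3, 3] :=
  C.stMul (h39163 C) (h34583 C) _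
    (by decide +kernel)

theorem h40455 :
    C.S (v6 C) [1, 2, 0, 3, 1, 3, 0, 2, 1, 2, 0, 3, 1, 3, 0, 2, 1, 3, 0, 2, 2, 2, 1, 2, 0] :=
  C.stMul (h40452 C) (h34583 C) _
    (by decide +kernel)

theorem h40467 :
    C.S (v6 C) [1, 2, 0, 2, 1, 2, 0, 2, 2, 1, 3, 3, 0, 2, 1, 2, 0, 2, 2, 1, 3, 0, 3, 1, 2, 2, 0, 3] :=
  C.stMul (h40455 C) (h35617 C) _
    (by decide +kernel)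

theorem h40504 :
    C.S (v6 C) [1, 2, 2, 0, 3, 3, 1, 2, 2, 2, 0, 2, 1, 2, 2, 0, 3, 1, 3, 0, 3, 1, 2, 2, 2, 0, 2, 2, 2, 1, 2, 0] :=
  C.stMul (h40467 C) (h34583 C) _
    (by decide +kernel)

theorem h40576 :
    C.S (v6 C) [1, 2, 0, 2, 1, 2, 0, 2, 2, 1, 3, 3, 0, 3, 1, 2, 2, 2, 0, 2, 1, 2, 0, 3, 1, 2, 0, 2, 2, 1, 3, 3, 0, 3, 1, 2, 2, 0, 2, 1, 2, 2, 0, 3, 3, 1, 2, 2, 0, 2, 2] :=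
  C.stMul (h39163 C) (h37323 C) _
    (by decide +kernel)

theorem h40585 :
    C.S (v6 C) [1, 2, 2, 0, 3, 3, 1, 2, 2, 2, 0, 2, 1, 2, 2, 0, 3, 3, 1, 3, 3, 0, 3, 3, 1, 2, 0, 3, 3, 4, 2, 4, 3, 4] :=
  C.stMul (h40576 C) (h39162 C) _
    (by decide +kernel)

theorem h40603 :
    C.S (v6 C) [1, 2, 0, 2, 1, 2, 0, 2, 1, 3, 0, 3, 1, 2, 2, 0, 2, 2, 1, 2, 2, 2, 0, 3, 3, 3] :=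
  C.stMul (h39163 C) (h34583 C) _
    (by decide +kernel)

theorem h40604 :
    C.S (v6 C) [1, 2, 0, 2, 1, 2, 2, 0, 2, 1, 3, 0, 3, 1, 2, 0, 2, 2, 2, 2, 1, 3, 0, 3, 1, 2, 2, 2, 0] :=
  C.stMul (h39163 C) (h35617 C) _
    (by decide +kernel)

theorem h40608 :
    C.S (v6 C) [1, 2, 2, 0, 3, 3, 1, 2, 2, 2, 0, 2, 2, 1, 2, 0, 2, 2, 1, 2, 2, 0, 2, 1, 2, 2, 0, 2] :=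
  C.stMul (h40603 C) (h35617 C) _
    (by decide +kernel)

theorem h40612 :
    C.S (v6 C) [3, 1, 2, 0, 2, 1, 3, 0, 3, 1, 2, 0, 2, 2, 1, 2, 0, 2, 1, 3, 0, 3, 1, 2, 2, 0, 3, 1, 3, 0, 3, 3, 1, 2, 0, 3, 3, 1, 2, 2, 0, 3] :=
  C.stMul (h40604 C) (h37323 C) _
    (by decide +kernel)

theorem h40624 :
    C.S (v6 C) [3, 1, 2, 0, 2, 1, 3, 0, 3, 1, 2, 0, 2, 2, 2, 2, 1, 3, 0, 2, 2, 2, 1, 2, 2, 2, 0, 3, 3, 3, 3] :=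
  C.stMul (h40608 C) (h34583 C) _
    (by decide +kernel)

theorem h40633 :
    C.S (v6 C) [1, 2, 0, 3, 1, 3, 0, 2, 1, 2, 0, 3, 1, 3, 0, 3, 1, 2, 2, 0, 3, 1, 3, 3, 0, 3, 1, 2, 0, 3, 3, 1, 2, 0, 3, 3, 1, 3, 0] :=
  C.stMul (h40612 C) (h35617 C) _
    (by decide +kernel)

theorem h40663 :
    C.S (v6 C) [3, 1, 3, 0, 2, 2, 1, 3, 0, 2, 1, 2, 2, 0, 2, 1, 3, 0, 3, 1, 2, 0, 2, 4, 2, 4, 3, 4] :=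
  C.stMul (h40624 C) (h39162 C) _
    (by decide +kernel)

theorem h40679 :
    C.S (v6 C) [1, 2, 2, 0, 3, 3, 1, 2, 2, 2, 0, 2, 1, 2, 2, 0, 3, 1, 3, 0, 3, 1, 2, 2, 2, 0, 2, 2, 2, 1, 2, 0, 4, 2, 4, 3, 4] :=
  C.stMul (h40633 C) (h39162 C) _
    (by decide +kernel)

theorem h40718 :
    C.S (v6 C) [1, 2, 0, 2, 1, 2, 2, 0, 2, 1, 3, 0, 3, 1, 2, 0, 2, 2, 2, 2, 1, 3, 0, 3, 1, 2, 2, 0, 2, 2, 2, 1, 2, 0, 4, 2, 4, 3, 4] :=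
  C.stMul (h40679 C) (h37323 C) _
    (by decide +kernel)

theorem h40782 :
    C.T (v3 C) [1, 2, 0, 2, 1, 2, 2, 0, 2, 1, 3, 0, 3, 1, 2, 0, 2, 2, 1, 2, 0, 2, 2, 1, 3, 3, 0, 2, 1, 2, 0, 3, 1, 3, 3, 0, 2, 1, 2, 0, 3, 1, 3, 0, 2, 1, 2, 0, 0, 4, 3, 4, 2, 2, 1] (v3 C) [1, 2, 0, 2, 1, 2, 0, 2, 2, 1, 3, 3, 0, 3, 1, 2, 2, 2, 0, 2, 1, 2, 0, 3, 1, 2, 2, 0, 2, 2, 1, 2, 0, 2, 2, 2, 1, 2, 2, 0, 2, 1, 2, 0, 3, 1, 3, 0, 2, 2, 4, 2, 0, 4, 2, 2, 0, 3, 3] :=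
  C.conv (h16390 C) (h16704 C) _ _
    (by decide +kernel) (by decide +kernel)

theorem h40783 :
    C.T (v3 C) [1, 2, 0, 2, 1, 2, 0, 2, 2, 1, 3, 3, 0, 3, 1, 2, 2, 2, 0, 2, 1, 2, 0, 3, 1, 2, 2, 0, 2, 2, 1, 2, 0, 2, 2, 2, 1, 2, 2, 0, 2, 1, 2, 0, 3, 1, 3, 0, 2, 2, 4, 2, 0, 4, 2, 2, 1, 3, 3] (v3 C) [1, 2, 0, 2, 1, 2, 2, 0, 2, 1, 3, 0, 3, 1, 2, 0, 2, 2, 1, 2, 0, 2, 2, 1, 3, 3, 0, 2, 1, 2, 0, 3, 1, 3, 3, 0, 2, 1, 2, 0, 3, 1, 3, 0, 2, 1, 2, 0, 0, 4, 3, 4, 2, 2, 0] :=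
  C.flip (h40782 C) _ _
    (by decide +kernel) (by decide +kernel)

theorem h40784 :
    C.T (v3 C) [1, 2, 0, 2, 1, 2, 0, 2, 1, 2, 2, 0, 3, 3, 1, 2, 2, 2, 0, 2, 1, 2, 2, 0, 3, 1, 3, 0, 3, 1, 2, 0, 2, 2, 1, 3, 0, 2, 2, 2, 2, 1, 2, 0, 2, 1, 4, 2, 2, 2] (v6 C) [3, 1, 2, 0, 2, 1, 3, 0, 3, 1, 2, 0, 2, 2, 2, 2, 1, 3, 0, 2, 1, 3, 0, 2, 1, 3, 3, 0, 4] :=
  C.conv (h39098 C) (h17420 C) _ _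
    (by decide +kernel) (by decide +kernel)

theorem h40785 :
    C.T (v6 C) [3, 1, 2, 0, 2, 1, 3, 0, 3, 1, 2, 0, 2, 2, 2, 2, 1, 3, 0, 2, 1, 3, 0, 2, 1, 3, 3, 0, 0, 0, 4] (v3 C) [1, 2, 0, 2, 1, 2, 0, 2, 1, 2, 2, 0, 3, 3, 1, 2, 2, 2, 0, 2, 1, 2, 2, 0, 3, 1, 3, 0, 3, 1, 2, 0, 2, 2, 1, 3, 0, 2, 2, 2, 2, 1, 2, 0, 2, 0, 4, 2, 2, 2] :=
  C.flip (h40784 C) _ _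
    (by decide +kernel) (by decide +kernel)

theorem h40786 :
    C.T (v3 C) [2, 1, 3, 3, 0, 3, 1, 2, 2, 2, 0, 2, 1, 2, 0, 3, 1, 2, 2, 0, 2, 2, 1, 3, 3, 0, 2, 1, 2, 0, 2, 2, 1, 3, 0, 3, 1, 2, 0, 3, 3, 1, 3, 0, 2, 2, 2, 1, 2, 0, 2, 2, 1, 2, 0, 2, 4, 3, 4, 2, 2, 1, 4] (v6 C) [3, 1, 2, 0, 2, 1, 3, 0, 3, 1, 2, 0, 2, 2, 2, 2, 1, 3, 0, 2, 1, 3, 0, 2, 0, 4, 3, 3, 1, 4] :=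
  C.closeT (A := []) (B := [some [4], none, some [4], none, some [4]])
    (C.pNil (v3 C) [2, 1, 3, 3, 0, 3, 1, 2, 2, 2, 0, 2, 1, 2, 0, 3, 1, 2, 2, 0, 2, 2, 1, 3, 3, 0, 2, 1, 2, 0, 2, 2, 1, 3, 0, 3, 1, 2, 0, 3, 3, 1, 3, 0, 2, 2, 2, 1, 2, 0, 2, 2, 1, 2, 0, 2, 4, 3, 4, 2, 2, 1, 4])
    (C.pH [4] [3, 1, 2, 0, 2, 1, 3, 0, 3, 1, 2, 0, 2, 2, 2, 2, 1, 3, 0, 2, 1, 3, 0, 2, 1, 3, 3, 0, 0, 0, 4] (by decide +kernel)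
    (C.pT (h40785 C)
    (C.pH [4] [1, 2, 0, 2, 1, 2, 0, 2, 2, 1, 3, 3, 0, 3, 1, 2, 2, 2, 0, 2, 1, 2, 0, 3, 1, 2, 2, 0, 2, 2, 1, 2, 0, 2, 2, 2, 1, 2, 2, 0, 2, 1, 2, 0, 3, 1, 3, 0, 2, 2, 4, 2, 0, 4, 2, 2, 1, 3, 3] (by decide +kernel)
    (C.pT (h40783 C)
    (C.pH [4] [2, 1, 3, 3, 0, 3, 1, 2, 2, 2, 0, 2, 1, 2, 0, 3, 1, 2, 2, 0, 2, 2, 1, 3, 3, 0, 2, 1, 2, 0, 2, 2, 1, 3, 0, 3, 1, 2, 0, 3, 3, 1, 3, 0, 2, 2, 2, 1, 2, 0, 2, 2, 1, 2, 0, 2, 4, 3, 4, 2, 2, 1, 4] (by decide +kernel)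
    (C.pNil (v3 C) [2, 1, 3, 3, 0, 3, 1, 2, 2, 2, 0, 2, 1, 2, 0, 3, 1, 2, 2, 0, 2, 2, 1, 3, 3, 0, 2, 1, 2, 0, 2, 2, 1, 3, 0, 3, 1, 2, 0, 3, 3, 1, 3, 0, 2, 2, 2, 1, 2, 0, 2, 2, 1, 2, 0, 2, 4, 3, 4, 2, 2, 1, 4])))))) C.relOne

theorem h40787 :
    C.T (v6 C) [3, 1, 2, 0, 2, 1, 3, 0, 3, 1, 2, 0, 2, 2, 2, 2, 1, 3, 0, 2, 1, 3, 0, 2, 0, 4, 3, 3, 0, 4] (v3 C) [1, 2, 0, 2, 1, 2, 0, 2, 1, 2, 2, 0, 3, 3, 1, 2, 2, 2, 0, 2, 1, 2, 2, 0, 3, 3, 3, 1, 2, 2, 0, 3, 1, 3, 3, 0, 3, 1, 3, 0, 2, 1, 2, 2, 0, 2, 1, 3, 0, 3, 1, 2, 0, 2, 2, 2, 1, 2, 0, 3, 1, 3, 0, 2, 2, 4, 2, 2, 4, 3, 4, 2] :=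
  C.flip (h40786 C) _ _
    (by decide +kernel) (by decide +kernel)

theorem h40788 :
    C.S (v3 C) [3, 3, 1, 2, 2, 0, 3, 1, 3, 3, 0, 3, 1, 3, 0, 3, 3, 1, 3, 3, 0, 3, 3, 1, 2, 2, 0, 2, 2, 2, 1, 2, 0, 4, 2, 0, 2, 4] :=
  C.stInv (h16797 C) _ (by decide +kernel)

theorem h40789 :
    C.T (v3 C) [0, 4, 2, 1] (v6 C) [3, 1, 2, 0, 2, 1, 3, 0, 3, 1, 2, 0, 2, 2, 1, 2, 0, 2, 2, 1, 3, 3, 3, 0, 2, 1, 2, 0, 3, 1, 3, 0, 2, 1, 2, 0, 2, 0, 4, 3, 3, 1, 4] :=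
  C.conv (h40786 C) (h40788 C) _ _
    (by decide +kernel) (by decide +kernel)

theorem h40796 :
    C.S (v6 C) [1, 2, 0, 2, 1, 2, 0, 2, 1, 2, 0, 3, 1, 3, 0, 2, 1, 2, 0, 3, 1, 3, 0, 2, 1, 3, 0, 3, 1, 2, 0, 2, 1, 2, 0, 2, 1, 3, 0, 3, 3, 4, 2, 4, 3, 4] :=
  C.stInv (h40585 C) _ (by decide +kernel)

theorem h40797 :
    C.T (v6 C) [0, 4, 3, 3, 4, 2, 4] (v3 C) [1, 2, 0, 2, 1, 2, 0, 2, 1, 2, 0, 3, 1, 3, 0, 2, 1, 2, 0, 3, 1, 3, 0, 2, 1, 3, 0, 3, 1, 2, 2, 0, 2, 1, 3, 0, 3, 1, 2, 0, 3, 3, 1, 3, 0, 3, 3, 1, 3, 0, 2, 1, 2, 0, 3, 4, 2, 2, 4, 3, 4, 2] :=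
  C.conv (h40787 C) (h40796 C) _ _
    (by decide +kernel) (by decide +kernel)

theorem h40804 :
    C.T (v3 C) [1, 2, 0, 2, 2, 2, 1, 3, 3, 0, 3, 1, 2, 2, 0, 3, 3, 3, 1, 3, 3, 0, 3, 3, 1, 2, 2, 0, 2, 2, 2, 2, 1, 2, 0, 3, 1, 3, 0, 4, 2, 2, 0, 2, 1] (v2 C) [2, 2, 1, 3, 0, 3, 0, 4, 2, 2, 2, 1] :=
  C.conv (h16330 C) (h16506 C) _ _
    (by decide +kernel) (by decide +kernel)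

theorem h40805 :
    C.T (v3 C) [1, 2, 0, 2, 1, 2, 2, 0, 2, 1, 3, 0, 3, 1, 2, 0, 2, 2, 1, 2, 0, 3, 1, 2, 2, 0, 3, 1, 3, 3, 0, 3, 1, 3, 0, 3, 1, 2, 2, 0, 2, 2, 2, 1, 2, 0, 2, 2, 2, 1, 2, 0, 2, 4, 2, 2, 2, 0, 3, 1, 2, 2, 4] (v6 C) [3, 1, 2, 0, 2, 1, 3, 0, 3, 1, 2, 0, 2, 2, 2, 2, 1, 3, 3, 0, 3, 1, 2, 2, 2, 0, 3, 1, 3, 0, 2, 2, 2, 0, 4, 3, 3, 1, 4] :=
  C.conv (h40789 C) (h16804 C) _ _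
    (by decide +kernel) (by decide +kernel)

theorem h40806 :
    C.T (v6 C) [3, 1, 2, 0, 2, 1, 3, 0, 3, 1, 2, 0, 2, 2, 2, 2, 1, 3, 3, 0, 3, 1, 2, 2, 2, 0, 3, 1, 3, 0, 2, 2, 2, 0, 4, 3, 3, 0, 4] (v3 C) [1, 2, 0, 2, 1, 2, 2, 0, 2, 1, 3, 0, 3, 1, 2, 0, 2, 2, 1, 2, 0, 3, 1, 2, 2, 0, 3, 1, 3, 3, 0, 3, 1, 3, 0, 3, 1, 2, 2, 0, 2, 2, 2, 1, 2, 0, 2, 2, 2, 1, 2, 0, 2, 4, 2, 2, 2, 0, 3, 0, 2, 2, 4] :=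
  C.flip (h40805 C) _ _
    (by decide +kernel) (by decide +kernel)

theorem h40807 :
    C.T (v2 C) [1, 2, 0, 2, 1, 2, 2, 0, 2, 1, 3, 0, 3, 1, 2, 0, 2, 2, 1, 2, 0, 2, 2, 1, 3, 0, 2, 2, 1, 3, 0, 2, 1, 2, 2, 0, 0, 4, 2, 2, 4, 3, 0] (v6 C) [3, 1, 2, 0, 2, 1, 3, 0, 3, 1, 2, 0, 2, 2, 2, 2, 1, 3, 3, 0, 3, 1, 2, 2, 2, 0, 3, 1, 2, 2, 0, 4, 2, 2, 2, 0, 4, 2, 0, 4] :=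
  C.closeT (A := [none, some [4]]) (B := [some [4], none, some [4]])
    (C.pT (h40804 C)
    (C.pH [4] [1, 2, 0, 2, 1, 2, 2, 0, 2, 1, 3, 0, 3, 1, 2, 0, 2, 2, 1, 2, 0, 2, 2, 1, 3, 0, 2, 2, 1, 3, 0, 2, 1, 2, 2, 0, 0, 4, 2, 2, 4, 3, 0] (by decide +kernel)
    (C.pNil (v2 C) [1, 2, 0, 2, 1, 2, 2, 0, 2, 1, 3, 0, 3, 1, 2, 0, 2, 2, 1, 2, 0, 2, 2, 1, 3, 0, 2, 2, 1, 3, 0, 2, 1, 2, 2, 0, 0, 4, 2, 2, 4, 3, 0])))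
    (C.pH [4] [3, 1, 2, 0, 2, 1, 3, 0, 3, 1, 2, 0, 2, 2, 2, 2, 1, 3, 3, 0, 3, 1, 2, 2, 2, 0, 3, 1, 3, 0, 2, 2, 2, 0, 4, 3, 3, 0, 4] (by decide +kernel)
    (C.pT (h40806 C)
    (C.pH [4] [1, 2, 0, 2, 2, 2, 1, 3, 3, 0, 3, 1, 2, 2, 0, 3, 3, 3, 1, 3, 3, 0, 3, 3, 1, 2, 2, 0, 2, 2, 2, 2, 1, 2, 0, 3, 1, 3, 0, 4, 2, 2, 0, 2, 1] (by decide +kernel)
    (C.pNil (v3 C) [1, 2, 0, 2, 2, 2, 1, 3, 3, 0, 3, 1, 2, 2, 0, 3, 3, 3, 1, 3, 3, 0, 3, 3, 1, 2, 2, 0, 2, 2, 2, 2, 1, 2, 0, 3, 1, 3, 0, 4, 2, 2, 0, 2, 1])))) C.relOne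

theorem h40808 :
    C.T (v6 C) [3, 1, 2, 0, 2, 1, 3, 0, 3, 1, 2, 0, 2, 2, 2, 2, 1, 3, 3, 0, 3, 1, 2, 2, 2, 0, 3, 1, 2, 2, 0, 4, 2, 2, 2, 0, 4, 2, 1, 4] (v2 C) [1, 2, 0, 2, 1, 2, 2, 0, 2, 1, 3, 0, 3, 1, 2, 0, 2, 2, 1, 2, 0, 2, 2, 1, 3, 0, 2, 2, 1, 3, 0, 2, 1, 2, 2, 0, 0, 4, 2, 2, 4, 3, 1] :=
  C.flip (h40807 C) _ _
    (by decide +kernel) (by decide +kernel)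

theorem h40809 :
    C.S (v2 C) [1, 2, 2, 0, 3, 3, 1, 2, 2, 2, 0, 2, 2, 1, 2, 0, 2, 1, 2, 0, 2, 2, 2, 1, 2, 0, 3, 1, 3, 0, 2, 1, 2, 0, 3, 0, 4, 3, 4, 3, 4, 2] :=
  C.stInv (h18465 C) _ (by decide +kernel)

theorem h40810 :
    C.T (v2 C) [1, 4, 2] (v6 C) [1, 2, 0, 2, 1, 2, 0, 2, 1, 2, 0, 3, 1, 3, 0, 2, 1, 2, 0, 3, 1, 3, 0, 2, 2, 2, 1, 3, 0, 3, 1, 2, 2, 0, 2, 1, 3, 0, 2, 1, 2, 2, 2, 0, 3, 4, 2, 2, 2, 0, 4, 2, 0, 4] :=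
  C.conv (h40807 C) (h40809 C) _ _
    (by decide +kernel) (by decide +kernel)

theorem h40817 :
    C.S (v6 C) [1, 2, 0, 2, 1, 2, 0, 2, 2, 1, 3, 3, 0, 3, 1, 2, 2, 2, 0, 2, 1, 2, 0, 3, 1, 2, 2, 0, 2, 2, 1, 3, 3, 0, 2, 1, 2, 0, 2, 2, 1, 2, 2, 0, 2, 1, 3, 3, 0, 3, 3, 4, 2, 4, 3, 4] :=
  C.stInv (h40194 C) _ (by decide +kernel)

theorem h40818 :
    C.T (v6 C) [4, 2, 1, 4] (v2 C) [1, 2, 0, 3, 1, 3, 0, 2, 1, 2, 0, 3, 1, 3, 0, 3, 1, 2, 2, 0, 3, 1, 3, 3, 0, 3, 1, 3, 0, 3, 1, 2, 0, 3, 1, 3, 3, 0, 0, 4, 2, 2, 4, 3, 1] :=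
  C.conv (h40808 C) (h40817 C) _ _
    (by decide +kernel) (by decide +kernel)

theorem h40825 :
    C.T (v3 C) [1, 2, 2, 0, 3, 3, 1, 2, 2, 2, 0, 2, 1, 2, 2, 0, 3, 3, 1, 3, 0, 2, 2, 1, 3, 3, 0, 3, 1, 2, 0, 2, 2, 2, 0, 4, 3, 4, 3, 3, 4, 3, 1] (v3 C) [1, 2, 0, 2, 1, 2, 0, 2, 1, 2, 0, 3, 1, 3, 0, 2, 1, 2, 0, 3, 1, 3, 3, 0, 2, 2, 1, 3, 3, 0, 3, 1, 2, 2, 2, 2, 0, 3, 4, 2, 0, 4, 2, 2, 0, 3, 3] :=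
  C.conv (h16390 C) (h16695 C) _ _
    (by decide +kernel) (by decide +kernel)

theorem h40826 :
    C.T (v3 C) [1, 2, 0, 2, 1, 2, 0, 2, 1, 2, 2, 0, 3, 3, 1, 2, 2, 2, 0, 2, 1, 2, 2, 0, 3, 3, 1, 3, 0, 2, 2, 1, 3, 3, 0, 3, 1, 2, 2, 0, 2, 2, 1, 2, 0, 3, 4, 3, 3, 4] (v6 C) [1, 2, 2, 0, 3, 3, 1, 2, 2, 2, 0, 2, 1, 2, 2, 0, 2, 1, 2, 2, 0, 3, 3, 1, 3, 3, 0, 3, 0, 4, 3, 3, 1, 4] :=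
  C.conv (h40789 C) (h16876 C) _ _
    (by decide +kernel) (by decide +kernel)

theorem h40827 :
    C.T (v6 C) [1, 2, 2, 0, 3, 3, 1, 2, 2, 2, 0, 2, 1, 2, 2, 0, 2, 1, 2, 2, 0, 3, 3, 1, 3, 3, 0, 3, 0, 4, 3, 3, 0, 4] (v3 C) [1, 2, 0, 2, 1, 2, 0, 2, 1, 2, 2, 0, 3, 3, 1, 2, 2, 2, 0, 2, 1, 2, 2, 0, 3, 3, 1, 3, 0, 2, 2, 1, 3, 3, 0, 3, 1, 2, 2, 0, 2, 2, 1, 2, 0, 3, 0, 0, 4, 3, 3, 4] :=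
  C.flip (h40826 C) _ _
    (by decide +kernel) (by decide +kernel)

theorem h40828 :
    C.T (v3 C) [1, 2, 0, 2, 1, 2, 2, 0, 2, 1, 3, 0, 3, 1, 2, 0, 2, 2, 2, 2, 1, 3, 0, 2, 1, 2, 0, 3, 3, 1, 2, 0, 2, 2, 2, 1, 3, 0, 2, 0, 4, 3, 1, 4, 3, 3, 4] (v6 C) [1, 2, 0, 2, 1, 2, 0, 2, 2, 1, 2, 0, 3, 1, 3, 0, 2, 2, 1, 3, 0, 4, 2, 4, 3, 4, 3, 1] :=
  C.closeT (A := [none, some [4]]) (B := [some [4], none, some [4]])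
    (C.pT (h40825 C)
    (C.pH [4] [1, 2, 0, 2, 1, 2, 2, 0, 2, 1, 3, 0, 3, 1, 2, 0, 2, 2, 2, 2, 1, 3, 0, 2, 1, 2, 0, 3, 3, 1, 2, 0, 2, 2, 2, 1, 3, 0, 2, 0, 4, 3, 1, 4, 3, 3, 4] (by decide +kernel)
    (C.pNil (v3 C) [1, 2, 0, 2, 1, 2, 2, 0, 2, 1, 3, 0, 3, 1, 2, 0, 2, 2, 2, 2, 1, 3, 0, 2, 1, 2, 0, 3, 3, 1, 2, 0, 2, 2, 2, 1, 3, 0, 2, 0, 4, 3, 1, 4, 3, 3, 4])))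
    (C.pH [4] [1, 2, 2, 0, 3, 3, 1, 2, 2, 2, 0, 2, 1, 2, 2, 0, 2, 1, 2, 2, 0, 3, 3, 1, 3, 3, 0, 3, 0, 4, 3, 3, 0, 4] (by decide +kernel)
    (C.pT (h40827 C)
    (C.pH [4] [1, 2, 2, 0, 3, 3, 1, 2, 2, 2, 0, 2, 1, 2, 2, 0, 3, 3, 1, 3, 0, 2, 2, 1, 3, 3, 0, 3, 1, 2, 0, 2, 2, 2, 0, 4, 3, 4, 3, 3, 4, 3, 1] (by decide +kernel)
    (C.pNil (v3 C) [1, 2, 2, 0, 3, 3, 1, 2, 2, 2, 0, 2, 1, 2, 2, 0, 3, 3, 1, 3, 0, 2, 2, 1, 3, 3, 0, 3, 1, 2, 0, 2, 2, 2, 0, 4, 3, 4, 3, 3, 4, 3, 1])))) C.relOne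

theorem h40829 :
    C.T (v6 C) [1, 2, 0, 2, 1, 2, 0, 2, 2, 1, 2, 0, 3, 1, 3, 0, 2, 2, 1, 3, 0, 4, 2, 4, 3, 4, 3, 0] (v3 C) [1, 2, 0, 2, 1, 2, 2, 0, 2, 1, 3, 0, 3, 1, 2, 0, 2, 2, 2, 2, 1, 3, 0, 2, 1, 2, 0, 3, 3, 1, 2, 0, 2, 2, 2, 1, 3, 0, 2, 0, 4, 3, 0, 4, 3, 3, 4] :=
  C.flip (h40828 C) _ _
    (by decide +kernel) (by decide +kernel)

theorem h40830 :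
    C.S (v3 C) [2, 1, 3, 3, 0, 3, 1, 2, 2, 2, 0, 2, 1, 2, 0, 3, 1, 2, 0, 2, 2, 1, 3, 0, 2, 1, 3, 0, 2, 2, 1, 3, 0, 2, 2, 1, 2, 0, 4, 2, 1, 2] :=
  C.stInv (h17675 C) _ (by decide +kernel)

theorem h40831 :
    C.T (v3 C) [0, 4, 2, 2, 2, 1, 4, 2] (v6 C) [1, 2, 0, 2, 1, 2, 0, 2, 1, 2, 2, 0, 3, 3, 1, 2, 0, 3, 3, 1, 3, 0, 2, 1, 2, 0, 4, 2, 4, 3, 4, 3, 1] :=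
  C.conv (h40828 C) (h40830 C) _ _
    (by decide +kernel) (by decide +kernel)

theorem h40838 :
    C.S (v6 C) [3, 1, 2, 0, 2, 1, 3, 0, 3, 1, 2, 0, 2, 2, 1, 2, 2, 2, 2, 0, 2] :=
  C.stInv (h39259 C) _ (by decide +kernel)

theorem h40839 :
    C.T (v6 C) [4, 2] (v3 C) [3, 1, 2, 0, 2, 1, 3, 0, 3, 1, 2, 0, 2, 2, 2, 2, 1, 3, 3, 0, 3, 1, 2, 2, 0, 3, 1, 2, 2, 2, 0, 3, 0, 4, 3, 0, 4, 3, 3, 4] :=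
  C.conv (h40829 C) (h40838 C) _ _
    (by decide +kernel) (by decide +kernel)

theorem h40846 :
    C.T (v4 C) [4, 2] (v2 C) [1, 2, 0, 3, 1, 3, 0, 2, 1, 2, 0, 3, 1, 3, 0, 2, 1, 3, 0, 3, 1, 3, 0, 3, 0, 0, 4] :=
  C.conv (h25522 C) (h23966 C) _ _
    (by decide +kernel) (by decide +kernel)

theorem h40847 :
    C.T (v2 C) [1, 2, 0, 3, 1, 3, 0, 2, 1, 2, 0, 3, 1, 3, 0, 2, 1, 3, 0, 3, 1, 3, 0, 3, 0, 0, 4] (v6 C) [1, 2, 0, 2, 1, 2, 0, 2, 1, 2, 0, 3, 1, 3, 0, 2, 1, 2, 0, 3, 1, 3, 0, 2, 1, 3, 0, 3, 1, 2, 2, 0, 2, 1, 3, 3, 0, 2, 1, 2, 2, 0, 3, 3, 1, 2, 0, 2, 2, 2, 1, 2, 0, 2, 4, 2, 2, 2, 0, 2, 1, 2] :=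
  C.conv (h39061 C) (h17992 C) _ _
    (by decide +kernel) (by decide +kernel)

theorem h40848 :
    C.T (v6 C) [1, 2, 0, 2, 1, 2, 0, 2, 1, 2, 0, 3, 1, 3, 0, 2, 1, 2, 0, 3, 1, 3, 0, 2, 2, 2, 1, 3, 0, 3, 1, 2, 2, 0, 2, 1, 3, 0, 2, 2, 2, 2, 1, 3, 0, 3, 0, 4, 2, 2, 2, 0, 2, 1, 2] (v4 C) [0, 4, 2] :=
  C.closeT (A := [none, none, some [1], some [0, 0]]) (B := [some [0, 0, 0]])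
    (C.pT (h40846 C)
    (C.pT (h40847 C)
    (C.pH [1] [1, 2, 0, 2, 1, 2, 0, 2, 1, 2, 0, 3, 1, 3, 0, 2, 1, 2, 0, 3, 1, 3, 0, 2, 2, 2, 1, 3, 0, 3, 1, 2, 2, 0, 2, 1, 3, 0, 2, 2, 2, 2, 1, 3, 0, 3, 0, 4, 2, 2, 2, 0, 2, 0, 2] (by decide +kernel)
    (C.pH [0, 0] [1, 2, 0, 2, 1, 2, 0, 2, 1, 2, 0, 3, 1, 3, 0, 2, 1, 2, 0, 3, 1, 3, 0, 2, 2, 2, 1, 3, 0, 3, 1, 2, 2, 0, 2, 1, 3, 0, 2, 2, 2, 2, 1, 3, 0, 3, 0, 4, 2, 2, 2, 0, 2, 1, 2] (by decide +kernel)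
    (C.pNil (v6 C) [1, 2, 0, 2, 1, 2, 0, 2, 1, 2, 0, 3, 1, 3, 0, 2, 1, 2, 0, 3, 1, 3, 0, 2, 2, 2, 1, 3, 0, 3, 1, 2, 2, 0, 2, 1, 3, 0, 2, 2, 2, 2, 1, 3, 0, 3, 0, 4, 2, 2, 2, 0, 2, 1, 2])))))
    (C.pH [0, 0, 0] [4, 2] (by decide +kernel)
    (C.pNil (v4 C) [4, 2])) C.relTwo

theorem h40849 :
    C.T (v4 C) [1, 4, 2] (v6 C) [1, 2, 0, 2, 1, 2, 0, 2, 1, 2, 0, 3, 1, 3, 0, 2, 1, 2, 0, 3, 1, 3, 0, 2, 2, 2, 1, 3, 0, 3, 1, 2, 2, 0, 2, 1, 3, 0, 2, 2, 2, 2, 1, 3, 0, 3, 0, 4, 2, 2, 2, 0, 2, 0, 2] :=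
  C.flip (h40848 C) _ _
    (by decide +kernel) (by decide +kernel)

theorem h40850 :
    C.S (v6 C) [1, 2, 0, 2, 1, 2, 0, 2, 2, 1, 3, 3, 0, 2, 1, 2, 0, 2, 2, 1, 3, 0, 3, 1, 2, 2, 0, 3] :=
  C.stInv (h39310 C) _ (by decide +kernel)

theorem h40851 :
    C.T (v6 C) [4, 2, 1] (v4 C) [1, 2, 0, 2, 1, 2, 0, 2, 1, 2, 0, 3, 1, 3, 0, 2, 1, 2, 0, 3, 1, 3, 3, 0, 2, 2, 1, 3, 0, 2, 1, 2, 0, 3, 3, 1, 2, 0, 3, 3, 1, 3, 0, 2, 1, 2, 0, 3, 3, 0, 4, 2] :=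
  C.conv (h40848 C) (h40850 C) _ _
    (by decide +kernel) (by decide +kernel)

theorem h40858 :
    C.S (v4 C) [1, 2, 0, 2, 1, 2, 0, 2, 1, 3, 0, 3, 1, 2, 0, 2, 1, 3, 3, 0, 4, 2, 0, 4, 2, 1] :=
  C.stInv (h24766 C) _ (by decide +kernel)

theorem h40859 :
    C.T (v4 C) [4, 2, 1] (v6 C) [3, 1, 3, 0, 2, 2, 1, 3, 3, 0, 3, 1, 2, 2, 0, 2, 1, 3, 0, 3, 1, 2, 2, 0, 2, 1, 3, 0, 2, 2, 1, 2, 0, 0, 4, 2, 2, 2, 0, 2, 0, 2] :=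
  C.conv (h40849 C) (h40858 C) _ _
    (by decide +kernel) (by decide +kernel)

theorem h40866 :
    C.T (v4 C) [4, 2, 1] (v6 C) [3, 1, 3, 0, 2, 2, 1, 3, 3, 0, 3, 1, 2, 2, 0, 2, 1, 3, 0, 3, 1, 2, 2, 0, 2, 1, 3, 0, 2, 2, 1, 2, 0, 0, 4, 2, 2, 2, 0, 2, 0, 2] :=
  C.conv (h40859 C) (h23966 C) _ _
    (by decide +kernel) (by decide +kernel)

theorem h40867 :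
    C.T (v4 C) [0, 4, 2, 0] (v2 C) [1, 2, 0, 3, 1, 3, 0, 2, 1, 2, 0, 3, 1, 3, 0, 2, 1, 3, 0, 3, 1, 2, 2, 0, 3, 3, 3, 1, 3, 3, 0, 3, 3, 1, 2, 2, 0, 2, 2, 0, 0, 4] :=
  C.conv (h25522 C) (h24061 C) _ _
    (by decide +kernel) (by decide +kernel)

theorem h40868 :
    C.T (v2 C) [1, 2, 0, 3, 1, 3, 0, 2, 1, 2, 0, 3, 1, 3, 0, 2, 1, 3, 0, 3, 1, 2, 2, 0, 3, 3, 3, 1, 3, 3, 0, 3, 3, 1, 2, 2, 0, 2, 2, 4] (v4 C) [0, 4, 2, 1] :=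
  C.flip (h40867 C) _ _
    (by decide +kernel) (by decide +kernel)

theorem h40869 :
    C.T (v6 C) [3, 1, 3, 0, 2, 2, 1, 3, 3, 0, 3, 1, 2, 2, 0, 2, 1, 3, 0, 3, 1, 2, 2, 0, 2, 1, 3, 0, 2, 2, 1, 2, 0, 0, 4, 2, 2, 2, 0, 2, 0, 2] (v2 C) [1, 2, 0, 2, 1, 2, 0, 2, 1, 2, 0, 3, 1, 3, 0, 2, 1, 2, 0, 3, 1, 3, 3, 0, 2, 2, 1, 3, 3, 0, 3, 1, 2, 2, 2, 2, 0, 2, 1, 3, 0, 3, 3, 1, 3, 4] :=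
  C.closeT (A := [none]) (B := [some [1], some [0, 0], none, some [0, 0, 0]])
    (C.pT (h40866 C)
    (C.pNil (v6 C) [3, 1, 3, 0, 2, 2, 1, 3, 3, 0, 3, 1, 2, 2, 0, 2, 1, 3, 0, 3, 1, 2, 2, 0, 2, 1, 3, 0, 2, 2, 1, 2, 0, 0, 4, 2, 2, 2, 0, 2, 0, 2]))
    (C.pH [1] [1, 2, 0, 3, 1, 3, 0, 2, 1, 2, 0, 3, 1, 3, 0, 2, 1, 3, 0, 3, 1, 2, 2, 0, 3, 3, 3, 1, 3, 3, 0, 3, 3, 1, 2, 2, 0, 2, 2, 0, 0, 4] (by decide +kernel)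
    (C.pH [0, 0] [1, 2, 0, 3, 1, 3, 0, 2, 1, 2, 0, 3, 1, 3, 0, 2, 1, 3, 0, 3, 1, 2, 2, 0, 3, 3, 3, 1, 3, 3, 0, 3, 3, 1, 2, 2, 0, 2, 2, 4] (by decide +kernel)
    (C.pT (h40868 C)
    (C.pH [0, 0, 0] [4, 2, 1] (by decide +kernel)
    (C.pNil (v4 C) [4, 2, 1]))))) C.relTwo

theorem h40870 :
    C.T (v2 C) [1, 2, 0, 2, 1, 2, 0, 2, 1, 2, 0, 3, 1, 3, 0, 2, 1, 2, 0, 3, 1, 3, 3, 0, 2, 2, 1, 3, 3, 0, 3, 1, 2, 2, 2, 2, 0, 2, 1, 3, 0, 3, 3, 1, 3, 0, 0, 4] (v6 C) [3, 1, 3, 0, 2, 2, 1, 3, 3, 0, 3, 1, 2, 2, 0, 2, 1, 3, 0, 3, 1, 2, 2, 0, 2, 1, 3, 0, 2, 2, 1, 2, 0, 0, 4, 2, 2, 2, 0, 2, 1, 2] :=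
  C.flip (h40869 C) _ _
    (by decide +kernel) (by decide +kernel)

theorem h40871 :
    C.S (v6 C) [] :=
  C.stInv (h39163 C) _ (by decide +kernel)

theorem h40872 :
    C.T (v6 C) [0, 4, 2, 2, 2, 0, 2, 0, 2] (v2 C) [1, 2, 0, 2, 1, 2, 0, 2, 2, 1, 2, 2, 0, 3, 1, 3, 0, 2, 1, 2, 0, 3, 3, 1, 4] :=
  C.conv (h40869 C) (h40871 C) _ _
    (by decide +kernel) (by decide +kernel)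

theorem h40879 :
    C.S (v2 C) [1, 2, 2, 0, 3, 3, 1, 2, 2, 2, 0, 2, 1, 2, 2, 0, 3, 3, 3, 1, 2, 2, 0, 3, 1, 3, 3, 0, 3, 1, 3, 0, 2, 1, 2, 0, 2, 2, 2, 1, 2, 2, 0, 3, 1, 2, 0] :=
  C.stInv (h18256 C) _ (by decide +kernel)

theorem h40880 :
    C.T (v2 C) [4, 2, 1] (v6 C) [1, 2, 0, 2, 1, 2, 0, 2, 1, 2, 2, 0, 3, 3, 1, 2, 2, 2, 0, 2, 1, 2, 2, 0, 3, 1, 3, 0, 3, 1, 2, 2, 0, 2, 1, 3, 0, 3, 1, 2, 0, 3, 3, 1, 3, 0, 2, 1, 2, 0, 0, 4, 2, 2, 2, 0, 2, 1, 2] :=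
  C.conv (h40870 C) (h40879 C) _ _
    (by decide +kernel) (by decide +kernel)

theorem h40887 :
    C.T (v4 C) [0, 4, 2, 0, 4, 2, 2, 0] (v3 C) [1, 2, 0, 3, 1, 3, 0, 2, 1, 2, 0, 3, 1, 3, 3, 0, 2, 2, 1, 3, 0, 2, 2, 1, 3, 0, 3, 1, 2, 2, 0, 2, 1, 3, 0, 2, 2, 2, 1, 2, 0, 3, 1, 3, 0, 2, 1, 2, 0, 0, 4, 2, 2, 2, 1, 4] :=
  C.conv (h25622 C) (h23966 C) _ _
    (by decide +kernel) (by decide +kernel)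

theorem h40888 :
    C.T (v3 C) [1, 2, 0, 3, 1, 3, 0, 2, 1, 2, 0, 3, 1, 3, 3, 0, 2, 2, 1, 3, 0, 2, 2, 1, 3, 0, 3, 1, 2, 2, 0, 2, 1, 3, 0, 2, 2, 2, 1, 2, 0, 3, 1, 3, 0, 2, 1, 2, 0, 0, 4, 2, 2, 2, 0, 4] (v4 C) [0, 4, 2, 0, 4, 2, 2, 1] :=
  C.flip (h40887 C) _ _
    (by decide +kernel) (by decide +kernel)

theorem h40889 :
    C.T (v3 C) [1, 2, 0, 2, 2, 2, 1, 3, 3, 0, 3, 3, 1, 2, 0, 3, 3, 1, 2, 2, 0, 2, 2, 2, 1, 2, 0, 2, 2, 1, 2, 0, 2, 4, 2, 2, 2, 1, 4] (v6 C) [1, 2, 0, 2, 1, 2, 0, 2, 1, 2, 0, 3, 1, 3, 0, 2, 1, 2, 0, 3, 1, 3, 3, 0, 2, 2, 1, 3, 0, 2, 1, 2, 0, 3, 3, 1, 2, 0, 2, 2, 2, 1, 3, 0, 3, 3, 1, 3, 0, 4] :=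
  C.conv (h39098 C) (h17422 C) _ _
    (by decide +kernel) (by decide +kernel)

theorem h40890 :
    C.T (v6 C) [1, 2, 0, 2, 1, 2, 0, 2, 1, 2, 0, 3, 1, 3, 0, 2, 1, 2, 0, 3, 1, 3, 3, 0, 2, 2, 1, 3, 0, 2, 1, 2, 0, 3, 3, 1, 2, 0, 2, 2, 2, 1, 3, 0, 3, 3, 1, 3, 0, 0, 0, 4] (v3 C) [1, 2, 0, 2, 2, 2, 1, 3, 3, 0, 3, 3, 1, 2, 0, 3, 3, 1, 2, 2, 0, 2, 2, 2, 1, 2, 0, 2, 2, 1, 2, 0, 2, 4, 2, 2, 2, 0, 4] :=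
  C.flip (h40889 C) _ _
    (by decide +kernel) (by decide +kernel)

theorem h40891 :
    C.T (v4 C) [4, 2, 0, 4, 2, 2, 1] (v6 C) [1, 2, 0, 2, 1, 2, 0, 2, 1, 2, 0, 3, 1, 3, 0, 2, 1, 2, 0, 3, 1, 3, 3, 0, 2, 2, 1, 3, 0, 2, 1, 2, 0, 3, 3, 1, 2, 0, 2, 2, 2, 1, 3, 0, 3, 3, 1, 3, 0, 0, 0, 4] :=
  C.closeT (A := []) (B := [none, some [1], some [0, 0], none, some [0, 0, 0]])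
    (C.pNil (v4 C) [4, 2, 0, 4, 2, 2, 1])
    (C.pT (h40890 C)
    (C.pH [1] [1, 2, 0, 3, 1, 3, 0, 2, 1, 2, 0, 3, 1, 3, 3, 0, 2, 2, 1, 3, 0, 2, 2, 1, 3, 0, 3, 1, 2, 2, 0, 2, 1, 3, 0, 2, 2, 2, 1, 2, 0, 3, 1, 3, 0, 2, 1, 2, 0, 0, 4, 2, 2, 2, 1, 4] (by decide +kernel)
    (C.pH [0, 0] [1, 2, 0, 3, 1, 3, 0, 2, 1, 2, 0, 3, 1, 3, 3, 0, 2, 2, 1, 3, 0, 2, 2, 1, 3, 0, 3, 1, 2, 2, 0, 2, 1, 3, 0, 2, 2, 2, 1, 2, 0, 3, 1, 3, 0, 2, 1, 2, 0, 0, 4, 2, 2, 2, 0, 4] (by decide +kernel)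
    (C.pT (h40888 C)
    (C.pH [0, 0, 0] [4, 2, 0, 4, 2, 2, 1] (by decide +kernel)
    (C.pNil (v4 C) [4, 2, 0, 4, 2, 2, 1])))))) C.relTwo

theorem h40892 :
    C.T (v6 C) [1, 2, 0, 2, 1, 2, 0, 2, 1, 2, 0, 3, 1, 3, 0, 2, 1, 2, 0, 3, 1, 3, 3, 0, 2, 2, 1, 3, 0, 2, 1, 2, 0, 3, 3, 1, 2, 0, 2, 2, 2, 1, 3, 0, 3, 3, 1, 3, 0, 4] (v4 C) [4, 2, 0, 4, 2, 2, 0] :=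
  C.flip (h40891 C) _ _
    (by decide +kernel) (by decide +kernel)

theorem h40899 :
    C.S (v6 C) [] :=
  C.stInv (h39163 C) _ (by decide +kernel)

theorem h40900 :
    C.T (v6 C) [4] (v4 C) [1, 2, 2, 0, 3, 3, 1, 2, 2, 2, 0, 2, 1, 2, 2, 0, 3, 3, 1, 3, 0, 2, 2, 1, 3, 3, 0, 3, 3, 1, 2, 0, 3, 3, 1, 2, 0, 4, 2, 0, 4, 2, 2, 0] :=
  C.conv (h40892 C) (h40899 C) _ _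
    (by decide +kernel) (by decide +kernel)

theorem h40910 :
    C.T (v4 C) [4, 2, 0, 4, 2, 2, 1] (v6 C) [1, 2, 0, 2, 1, 2, 0, 2, 1, 2, 0, 3, 1, 3, 0, 2, 1, 2, 0, 3, 1, 3, 3, 0, 2, 2, 1, 3, 0, 2, 1, 2, 0, 3, 3, 1, 2, 0, 2, 2, 2, 1, 3, 0, 3, 3, 1, 3, 0, 0, 0, 4] :=
  C.conv (h40891 C) (h23966 C) _ _
    (by decide +kernel) (by decide +kernel)

theorem h40911 :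
    C.T (v4 C) [2, 0, 4, 2, 2, 0] (v2 C) [1, 2, 0, 2, 1, 2, 0, 2, 1, 2, 0, 3, 1, 3, 0, 2, 1, 2, 0, 3, 1, 3, 0, 3, 1, 2, 2, 0, 3, 1, 3, 3, 0, 3, 1, 3, 0, 3, 1, 2, 2, 0, 2, 1, 2, 0, 3, 3, 1, 3, 0, 2, 0, 0, 4] :=
  C.conv (h25522 C) (h24115 C) _ _
    (by decide +kernel) (by decide +kernel)

theorem h40912 :
    C.T (v2 C) [1, 2, 0, 2, 1, 2, 0, 2, 1, 2, 0, 3, 1, 3, 0, 2, 1, 2, 0, 3, 1, 3, 0, 3, 1, 2, 2, 0, 3, 1, 3, 3, 0, 3, 1, 3, 0, 3, 1, 2, 2, 0, 2, 1, 2, 0, 3, 3, 1, 3, 0, 2, 4] (v4 C) [2, 0, 4, 2, 2, 1] :=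
  C.flip (h40911 C) _ _
    (by decide +kernel) (by decide +kernel)

theorem h40913 :
    C.T (v6 C) [1, 3, 0, 3, 1, 2, 2, 0, 3, 3, 3, 1, 3, 3, 0, 3, 3, 1, 2, 2, 0, 2, 2, 2, 2, 1, 2, 0, 3, 1, 3, 0, 2, 4, 2, 0, 4, 2, 0] (v2 C) [1, 2, 0, 2, 1, 2, 0, 2, 1, 2, 0, 3, 1, 3, 0, 2, 1, 2, 0, 3, 1, 3, 0, 3, 1, 2, 2, 0, 3, 1, 3, 3, 0, 3, 1, 3, 0, 3, 1, 2, 2, 0, 2, 1, 2, 0, 4, 3, 3, 0, 3, 1, 2, 4] :=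
  C.closeT (A := [none, some [4]]) (B := [some [4], none, some [4]])
    (C.pT (h40910 C)
    (C.pH [4] [1, 3, 0, 3, 1, 2, 2, 0, 3, 3, 3, 1, 3, 3, 0, 3, 3, 1, 2, 2, 0, 2, 2, 2, 2, 1, 2, 0, 3, 1, 3, 0, 2, 4, 2, 0, 4, 2, 0] (by decide +kernel)
    (C.pNil (v6 C) [1, 3, 0, 3, 1, 2, 2, 0, 3, 3, 3, 1, 3, 3, 0, 3, 3, 1, 2, 2, 0, 2, 2, 2, 2, 1, 2, 0, 3, 1, 3, 0, 2, 4, 2, 0, 4, 2, 0])))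
    (C.pH [4] [1, 2, 0, 2, 1, 2, 0, 2, 1, 2, 0, 3, 1, 3, 0, 2, 1, 2, 0, 3, 1, 3, 0, 3, 1, 2, 2, 0, 3, 1, 3, 3, 0, 3, 1, 3, 0, 3, 1, 2, 2, 0, 2, 1, 2, 0, 3, 3, 1, 3, 0, 2, 4] (by decide +kernel)
    (C.pT (h40912 C)
    (C.pH [4] [4, 2, 0, 4, 2, 2, 1] (by decide +kernel)
    (C.pNil (v4 C) [4, 2, 0, 4, 2, 2, 1])))) C.relOne

theorem h40914 :
    C.T (v2 C) [1, 2, 0, 2, 1, 2, 0, 2, 2, 1, 3, 3, 0, 3, 1, 2, 2, 2, 0, 2, 1, 2, 0, 3, 1, 2, 2, 0, 3, 1, 2, 2, 0, 3, 1, 3, 3, 0, 3, 1, 3, 0, 3, 1, 2, 2, 0, 2, 2, 2, 1, 3, 3, 0, 2, 2, 2, 1, 2, 0, 3, 4, 2, 4, 2, 4, 2, 4, 2] (v6 C) [1, 3, 0, 3, 1, 2, 2, 0, 3, 3, 3, 1, 3, 3, 0, 3, 3, 1, 2, 2, 0, 2, 2, 2, 2, 1, 2, 0, 3, 1, 3, 0, 2, 4, 2, 0, 4, 2, 1] :=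
  C.flip (h40913 C) _ _
    (by decide +kernel) (by decide +kernel)

theorem h40915 :
    C.S (v6 C) [3, 1, 2, 0, 2, 1, 3, 0, 3, 1, 2, 0, 2, 2, 1, 2, 0, 2, 1, 3, 0, 3, 1, 2, 2, 0, 2, 2, 1, 2, 2, 2, 0, 3, 3, 3] :=
  C.stInv (h39731 C) _ (by decide +kernel)

theorem h40916 :
    C.T (v6 C) [0, 4, 2, 2, 2, 1, 4] (v2 C) [1, 2, 0, 2, 1, 2, 0, 2, 2, 1, 3, 3, 0, 3, 1, 2, 2, 2, 0, 2, 1, 2, 0, 3, 1, 2, 2, 2, 2, 0, 2, 2, 2, 1, 2, 0, 2, 4, 3, 3, 0, 3, 1, 2, 4] :=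
  C.conv (h40913 C) (h40915 C) _ _
    (by decide +kernel) (by decide +kernel)

theorem h40920 :
    C.S (v2 C) [1, 2, 0, 2, 1, 2, 0, 2, 1, 2, 2, 0, 3, 3, 1, 2, 2, 2, 0, 2, 1, 2, 2, 0, 3, 3, 1, 3, 0, 2, 2, 1, 3, 0, 3, 1, 2, 0, 3, 3, 3, 1, 3, 0, 2, 1, 2, 0] :=
  C.stInv (h19359 C) _ (by decide +kernel)

theorem h40921 :
    C.T (v2 C) [4, 2, 0, 4, 2, 2, 1] (v6 C) [1, 2, 0, 2, 1, 2, 2, 0, 2, 1, 3, 0, 3, 1, 2, 0, 2, 2, 2, 2, 1, 3, 0, 2, 2, 1, 2, 2, 0, 2, 1, 3, 0, 3, 1, 3, 0, 2, 2, 4, 2, 0, 4, 2, 1] :=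
  C.conv (h40914 C) (h40920 C) _ _
    (by decide +kernel) (by decide +kernel)

theorem h40925 :
    C.T (v4 C) [1, 2, 0, 4, 2, 2, 0] (v6 C) [1, 2, 2, 0, 3, 3, 1, 2, 2, 2, 0, 2, 1, 2, 2, 0, 3, 3, 3, 1, 2, 2, 0, 3, 1, 3, 3, 0, 3, 1, 3, 0, 3, 1, 3, 3, 0, 3, 3, 1, 2, 0, 2, 1, 2, 0, 2, 0, 4, 2, 2, 2, 0, 2, 0, 2] :=
  C.conv (h40859 C) (h24960 C) _ _
    (by decide +kernel) (by decide +kernel)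

theorem h40926 :
    C.T (v4 C) [0, 4, 2, 0, 4, 2, 2, 1] (v6 C) [1, 2, 0, 2, 1, 2, 0, 2, 1, 2, 2, 0, 3, 3, 1, 2, 2, 2, 0, 2, 1, 2, 2, 0, 3, 3, 1, 2, 2, 0, 2, 2, 2, 1, 2, 0, 2, 1, 2, 2, 2, 0, 3, 0, 4] :=
  C.conv (h39146 C) (h25368 C) _ _
    (by decide +kernel) (by decide +kernel)

theorem h40927 :
    C.T (v6 C) [1, 2, 0, 2, 1, 2, 0, 2, 1, 2, 2, 0, 3, 3, 1, 2, 2, 2, 0, 2, 1, 2, 2, 0, 3, 3, 1, 2, 2, 0, 2, 2, 2, 1, 2, 0, 2, 1, 2, 2, 2, 0, 3, 1, 4] (v4 C) [0, 4, 2, 0, 4, 2, 2, 0] :=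
  C.flip (h40926 C) _ _
    (by decide +kernel) (by decide +kernel)

theorem h40928 :
    C.T (v6 C) [1, 2, 0, 2, 1, 2, 0, 2, 2, 1, 3, 3, 0, 3, 1, 2, 2, 2, 0, 2, 1, 2, 0, 3, 1, 2, 2, 0, 2, 1, 3, 0, 3, 1, 2, 2, 0, 3, 3, 1, 2, 2, 2, 0, 3, 1, 2, 2, 0, 2, 1, 3, 0, 2, 4, 2, 4, 2, 2, 2, 0] (v6 C) [1, 2, 0, 2, 1, 2, 0, 2, 1, 2, 2, 0, 3, 3, 1, 2, 2, 2, 0, 2, 1, 2, 2, 0, 3, 3, 1, 2, 2, 0, 2, 2, 2, 1, 2, 0, 2, 0, 4, 2, 2, 2, 0, 3, 1, 4] :=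
  C.closeT (A := [none, some [4]]) (B := [some [4], none, some [4]])
    (C.pT (h40925 C)
    (C.pH [4] [1, 2, 0, 2, 1, 2, 0, 2, 2, 1, 3, 3, 0, 3, 1, 2, 2, 2, 0, 2, 1, 2, 0, 3, 1, 2, 2, 0, 2, 1, 3, 0, 3, 1, 2, 2, 0, 3, 3, 1, 2, 2, 2, 0, 3, 1, 2, 2, 0, 2, 1, 3, 0, 2, 4, 2, 4, 2, 2, 2, 0] (by decide +kernel)
    (C.pNil (v6 C) [1, 2, 0, 2, 1, 2, 0, 2, 2, 1, 3, 3, 0, 3, 1, 2, 2, 2, 0, 2, 1, 2, 0, 3, 1, 2, 2, 0, 2, 1, 3, 0, 3, 1, 2, 2, 0, 3, 3, 1, 2, 2, 2, 0, 3, 1, 2, 2, 0, 2, 1, 3, 0, 2, 4, 2, 4, 2, 2, 2, 0])))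
    (C.pH [4] [1, 2, 0, 2, 1, 2, 0, 2, 1, 2, 2, 0, 3, 3, 1, 2, 2, 2, 0, 2, 1, 2, 2, 0, 3, 3, 1, 2, 2, 0, 2, 2, 2, 1, 2, 0, 2, 1, 2, 2, 2, 0, 3, 1, 4] (by decide +kernel)
    (C.pT (h40927 C)
    (C.pH [4] [1, 2, 0, 4, 2, 2, 0] (by decide +kernel)
    (C.pNil (v4 C) [1, 2, 0, 4, 2, 2, 0])))) C.relOne

theorem h40930 :
    C.S (v6 C) [1, 2, 0, 2, 1, 2, 0, 2, 1, 2, 2, 0, 3, 3, 1, 2, 2, 2, 0, 2, 1, 2, 2, 0, 3, 3, 1, 3, 0, 2, 2, 1, 3, 0, 3, 1, 2, 2, 0, 2, 2, 2, 1, 2, 0] :=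
  C.stInv (h39853 C) _ (by decide +kernel)

theorem h40931 :
    C.T (v6 C) [4, 2, 1, 4, 2] (v6 C) [1, 2, 0, 2, 1, 2, 0, 2, 2, 1, 3, 3, 0, 3, 1, 2, 2, 2, 0, 2, 1, 2, 0, 3, 1, 2, 2, 0, 2, 1, 3, 0, 2, 2, 1, 3, 0, 3, 1, 3, 3, 0, 3, 0, 4, 2, 2, 2, 0, 3, 1, 4] :=
  C.conv (h40928 C) (h40930 C) _ _
    (by decide +kernel) (by decide +kernel)

theorem h40938 :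
    C.T (v4 C) [4, 2, 2, 4, 3, 1] (v6 C) [1, 2, 0, 2, 1, 2, 0, 2, 2, 1, 3, 3, 0, 3, 1, 2, 2, 2, 0, 2, 1, 2, 0, 3, 1, 2, 2, 0, 2, 2, 1, 2, 0, 2, 2, 2, 1, 2, 2, 0, 3, 1, 3, 3, 0, 0, 4] :=
  C.conv (h39146 C) (h23966 C) _ _
    (by decide +kernel) (by decide +kernel)

theorem h40939 :
    C.T (v4 C) [0, 4, 2, 2, 4, 3, 0] (v6 C) [1, 2, 0, 2, 1, 2, 0, 2, 2, 1, 3, 3, 0, 3, 1, 2, 2, 2, 0, 2, 1, 2, 0, 3, 1, 2, 2, 0, 2, 2, 2, 1, 3, 0, 3, 1, 2, 0, 3, 3, 1, 3, 0, 2, 2, 2, 1, 2, 0, 2, 2, 1, 2, 0, 2, 0, 0, 4] :=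
  C.conv (h40891 C) (h25138 C) _ _
    (by decide +kernel) (by decide +kernel)

theorem h40940 :
    C.T (v6 C) [1, 2, 0, 2, 1, 2, 0, 2, 2, 1, 3, 3, 0, 3, 1, 2, 2, 2, 0, 2, 1, 2, 0, 3, 1, 2, 2, 0, 2, 2, 2, 1, 3, 0, 3, 1, 2, 0, 3, 3, 1, 3, 0, 2, 2, 2, 1, 2, 0, 2, 2, 1, 2, 0, 2, 4] (v4 C) [0, 4, 2, 2, 4, 3, 1] :=
  C.flip (h40939 C) _ _
    (by decide +kernel) (by decide +kernel)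

theorem h40941 :
    C.T (v6 C) [1, 2, 0, 2, 1, 2, 0, 2, 2, 1, 3, 3, 0, 3, 1, 2, 2, 2, 0, 2, 1, 2, 0, 3, 1, 2, 2, 0, 2, 2, 1, 2, 0, 2, 2, 2, 1, 2, 2, 0, 3, 1, 3, 3, 0, 0, 4] (v6 C) [1, 2, 0, 2, 1, 2, 0, 2, 1, 2, 0, 3, 1, 3, 0, 2, 1, 2, 0, 3, 1, 3, 0, 3, 1, 2, 2, 0, 3, 1, 3, 3, 0, 3, 1, 3, 0, 2, 2, 1, 2, 2, 0, 3, 3, 1, 3, 0, 3, 1, 3, 0, 2, 1, 2, 4] :=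
  C.closeT (A := [none]) (B := [some [1], some [0, 0], none, some [0, 0, 0]])
    (C.pT (h40938 C)
    (C.pNil (v6 C) [1, 2, 0, 2, 1, 2, 0, 2, 2, 1, 3, 3, 0, 3, 1, 2, 2, 2, 0, 2, 1, 2, 0, 3, 1, 2, 2, 0, 2, 2, 1, 2, 0, 2, 2, 2, 1, 2, 2, 0, 3, 1, 3, 3, 0, 0, 4]))
    (C.pH [1] [1, 2, 0, 2, 1, 2, 0, 2, 2, 1, 3, 3, 0, 3, 1, 2, 2, 2, 0, 2, 1, 2, 0, 3, 1, 2, 2, 0, 2, 2, 2, 1, 3, 0, 3, 1, 2, 0, 3, 3, 1, 3, 0, 2, 2, 2, 1, 2, 0, 2, 2, 1, 2, 0, 2, 0, 0, 4] (by decide +kernel)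
    (C.pH [0, 0] [1, 2, 0, 2, 1, 2, 0, 2, 2, 1, 3, 3, 0, 3, 1, 2, 2, 2, 0, 2, 1, 2, 0, 3, 1, 2, 2, 0, 2, 2, 2, 1, 3, 0, 3, 1, 2, 0, 3, 3, 1, 3, 0, 2, 2, 2, 1, 2, 0, 2, 2, 1, 2, 0, 2, 4] (by decide +kernel)
    (C.pT (h40940 C)
    (C.pH [0, 0, 0] [4, 2, 2, 4, 3, 1] (by decide +kernel)
    (C.pNil (v4 C) [4, 2, 2, 4, 3, 1]))))) C.relTwo

theorem h40943 :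
    C.S (v6 C) [] :=
  C.stInv (h39163 C) _ (by decide +kernel)

theorem h40944 :
    C.T (v6 C) [0, 4] (v6 C) [2, 1, 3, 3, 0, 3, 1, 2, 2, 2, 0, 2, 1, 2, 0, 3, 1, 2, 2, 0, 2, 1, 3, 0, 3, 1, 2, 2, 2, 0, 2, 2, 2, 1, 2, 0, 2, 1, 3, 4] :=
  C.conv (h40941 C) (h40943 C) _ _
    (by decide +kernel) (by decide +kernel)

theorem h40954 :
    C.T (v4 C) [1, 2, 0, 2, 1, 2, 0, 2, 2, 1, 3, 3, 0, 3, 1, 2, 2, 2, 0, 2, 1, 2, 0, 3, 1, 2, 2, 0, 2, 2, 1, 3, 3, 0, 3, 1, 3, 0, 2, 2, 2, 1, 2, 0, 3, 3, 4, 2, 2, 1, 3] (v6 C) [2, 1, 3, 3, 0, 3, 1, 2, 2, 2, 0, 2, 1, 2, 0, 3, 1, 2, 2, 0, 2, 2, 1, 3, 3, 0, 2, 2, 2, 1, 3, 0, 3, 1, 2, 2, 0, 2, 0, 4, 2, 2, 2, 0, 2, 0, 2] :=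
  C.conv (h40859 C) (h24581 C) _ _
    (by decide +kernel) (by decide +kernel)

theorem h40955 :
    C.T (v4 C) [1, 2, 0, 2, 1, 2, 0, 2, 2, 1, 3, 3, 0, 3, 1, 2, 2, 2, 0, 2, 1, 2, 0, 3, 1, 2, 2, 0, 2, 1, 3, 0, 3, 1, 2, 2, 0, 2, 1, 2, 2, 0, 3, 3, 1, 3, 3, 0, 3, 3, 1, 2, 2, 0, 2, 2, 4, 2, 2, 4, 2, 0] (v6 C) [2, 1, 3, 3, 0, 3, 1, 2, 2, 2, 0, 2, 1, 2, 0, 3, 1, 2, 0, 2, 2, 1, 3, 3, 0, 3, 1, 2, 2, 0, 2, 1, 2, 2, 0, 2, 1, 3, 0, 3, 1, 3, 0, 2, 1, 2, 0, 2, 0, 0, 4] :=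
  C.conv (h40891 C) (h25165 C) _ _
    (by decide +kernel) (by decide +kernel)

theorem h40956 :
    C.T (v6 C) [2, 1, 3, 3, 0, 3, 1, 2, 2, 2, 0, 2, 1, 2, 0, 3, 1, 2, 0, 2, 2, 1, 3, 3, 0, 3, 1, 2, 2, 0, 2, 1, 2, 2, 0, 2, 1, 3, 0, 3, 1, 3, 0, 2, 1, 2, 0, 2, 4] (v4 C) [1, 2, 0, 2, 1, 2, 0, 2, 2, 1, 3, 3, 0, 3, 1, 2, 2, 2, 0, 2, 1, 2, 0, 3, 1, 2, 2, 0, 2, 1, 3, 0, 3, 1, 2, 2, 0, 2, 1, 2, 2, 0, 3, 3, 1, 3, 3, 0, 3, 3, 1, 2, 2, 0, 2, 2, 4, 2, 2, 4, 2, 1] :=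
  C.flip (h40955 C) _ _
    (by decide +kernel) (by decide +kernel)

theorem h40957 :
    C.T (v6 C) [1, 2, 0, 2, 1, 2, 0, 2, 1, 2, 2, 0, 3, 3, 1, 2, 2, 2, 0, 2, 1, 2, 2, 0, 3, 3, 1, 3, 0, 2, 2, 1, 3, 0, 3, 1, 2, 2, 2, 0, 3, 1, 2, 2, 0, 2, 1, 3, 0, 2, 0, 4, 2, 2, 2, 0, 4, 2, 1] (v6 C) [2, 1, 3, 3, 0, 3, 1, 2, 2, 2, 0, 2, 1, 2, 0, 3, 1, 2, 2, 2, 2, 0, 2, 2, 2, 1, 3, 3, 0, 2, 2, 2, 1, 2, 0, 3, 1, 3, 0, 2, 1, 2, 0, 2, 1, 4, 2, 2, 4, 3, 3] :=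
  C.closeT (A := [none, some [4]]) (B := [some [4], none, some [4]])
    (C.pT (h40954 C)
    (C.pH [4] [1, 2, 0, 2, 1, 2, 0, 2, 1, 2, 2, 0, 3, 3, 1, 2, 2, 2, 0, 2, 1, 2, 2, 0, 3, 3, 1, 3, 0, 2, 2, 1, 3, 0, 3, 1, 2, 2, 2, 0, 3, 1, 2, 2, 0, 2, 1, 3, 0, 2, 0, 4, 2, 2, 2, 0, 4, 2, 1] (by decide +kernel)
    (C.pNil (v6 C) [1, 2, 0, 2, 1, 2, 0, 2, 1, 2, 2, 0, 3, 3, 1, 2, 2, 2, 0, 2, 1, 2, 2, 0, 3, 3, 1, 3, 0, 2, 2, 1, 3, 0, 3, 1, 2, 2, 2, 0, 3, 1, 2, 2, 0, 2, 1, 3, 0, 2, 0, 4, 2, 2, 2, 0, 4, 2, 1])))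
    (C.pH [4] [2, 1, 3, 3, 0, 3, 1, 2, 2, 2, 0, 2, 1, 2, 0, 3, 1, 2, 0, 2, 2, 1, 3, 3, 0, 3, 1, 2, 2, 0, 2, 1, 2, 2, 0, 2, 1, 3, 0, 3, 1, 3, 0, 2, 1, 2, 0, 2, 4] (by decide +kernel)
    (C.pT (h40956 C)
    (C.pH [4] [1, 2, 0, 2, 1, 2, 0, 2, 2, 1, 3, 3, 0, 3, 1, 2, 2, 2, 0, 2, 1, 2, 0, 3, 1, 2, 2, 0, 2, 2, 1, 3, 3, 0, 3, 1, 3, 0, 2, 2, 2, 1, 2, 0, 3, 3, 4, 2, 2, 1, 3] (by decide +kernel)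
    (C.pNil (v4 C) [1, 2, 0, 2, 1, 2, 0, 2, 2, 1, 3, 3, 0, 3, 1, 2, 2, 2, 0, 2, 1, 2, 0, 3, 1, 2, 2, 0, 2, 2, 1, 3, 3, 0, 3, 1, 3, 0, 2, 2, 2, 1, 2, 0, 3, 3, 4, 2, 2, 1, 3])))) C.relOne

theorem h40959 :
    C.S (v6 C) [3, 1, 2, 0, 2, 1, 3, 0, 3, 1, 2, 0, 2, 2, 1, 2, 0, 2, 1, 3, 0, 3, 1, 2, 2, 0, 3, 1, 3, 0, 2, 2, 2, 1, 2, 0, 3] :=
  C.stInv (h39473 C) _ (by decide +kernel)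

theorem h40960 :
    C.T (v6 C) [0, 4, 2, 1, 2, 4] (v6 C) [3, 1, 2, 0, 2, 1, 3, 0, 3, 1, 2, 0, 2, 2, 2, 2, 1, 3, 3, 0, 3, 1, 2, 2, 0, 2, 1, 3, 3, 4, 2, 2, 4, 3, 3] :=
  C.conv (h40957 C) (h40959 C) _ _
    (by decide +kernel) (by decide +kernel)

theorem h40970 :
    C.T (v4 C) [1, 2, 0, 2, 1, 2, 2, 0, 2, 1, 3, 0, 3, 1, 2, 0, 2, 2, 2, 2, 1, 3, 0, 3, 1, 2, 0, 2, 1, 2, 0, 3, 1, 3, 0, 2, 2, 4, 2, 4, 2, 4, 2, 0, 3] (v6 C) [3, 1, 2, 0, 2, 1, 3, 0, 3, 1, 2, 0, 2, 2, 2, 2, 1, 3, 0, 2, 1, 2, 0, 3, 1, 3, 0, 3, 1, 2, 0, 2, 2, 1, 3, 0, 2, 2, 0, 4, 2, 2, 2, 0, 2, 0, 2] :=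
  C.conv (h40859 C) (h24795 C) _ _
    (by decide +kernel) (by decide +kernel)

theorem h40971 :
    C.T (v4 C) [3, 1, 2, 0, 2, 1, 3, 0, 3, 1, 2, 0, 2, 2, 1, 2, 0, 2, 1, 3, 0, 3, 1, 2, 2, 2, 2, 0, 2, 2, 2, 1, 2, 0, 3, 1, 3, 0, 2, 2, 0, 4, 2, 2, 4, 2, 0, 3] (v6 C) [3, 1, 2, 0, 2, 1, 3, 0, 3, 1, 2, 0, 2, 2, 1, 2, 0, 2, 2, 1, 3, 3, 0, 2, 1, 2, 0, 2, 1, 3, 0, 3, 1, 3, 0, 2, 0, 4, 2, 2, 2, 0, 2, 0, 2] :=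
  C.conv (h40859 C) (h25036 C) _ _
    (by decide +kernel) (by decide +kernel)

theorem h40972 :
    C.T (v6 C) [3, 1, 2, 0, 2, 1, 3, 0, 3, 1, 2, 0, 2, 2, 1, 2, 0, 2, 2, 1, 3, 3, 0, 2, 1, 2, 0, 2, 1, 3, 0, 3, 1, 3, 0, 2, 0, 4, 2, 2, 2, 0, 2, 1, 2] (v4 C) [3, 1, 2, 0, 2, 1, 3, 0, 3, 1, 2, 0, 2, 2, 1, 2, 0, 2, 1, 3, 0, 3, 1, 2, 2, 2, 2, 0, 2, 2, 2, 1, 2, 0, 3, 1, 3, 0, 2, 2, 0, 4, 2, 2, 4, 2, 1, 3] :=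
  C.flip (h40971 C) _ _
    (by decide +kernel) (by decide +kernel)

theorem h40973 :
    C.T (v6 C) [1, 2, 0, 2, 1, 2, 0, 2, 2, 1, 3, 3, 0, 3, 1, 2, 2, 2, 0, 2, 1, 2, 0, 3, 1, 2, 0, 2, 2, 1, 3, 3, 0, 3, 1, 2, 2, 0, 3, 3, 3, 1, 3, 3, 0, 3, 3, 1, 2, 2, 0, 2, 2, 2, 2, 2, 1, 3, 0, 2, 2, 0, 4, 2, 2, 0, 4, 2, 1] (v6 C) [1, 2, 0, 2, 1, 2, 2, 0, 2, 1, 3, 0, 3, 1, 2, 0, 2, 2, 1, 2, 0, 2, 1, 3, 0, 3, 1, 2, 2, 0, 2, 2, 1, 2, 2, 2, 2, 0, 3, 3, 4, 2, 2, 2, 4, 2, 0, 3] :=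
  C.closeT (A := [none, some [4]]) (B := [some [4], none, some [4]])
    (C.pT (h40970 C)
    (C.pH [4] [1, 2, 0, 2, 1, 2, 0, 2, 2, 1, 3, 3, 0, 3, 1, 2, 2, 2, 0, 2, 1, 2, 0, 3, 1, 2, 0, 2, 2, 1, 3, 3, 0, 3, 1, 2, 2, 0, 3, 3, 3, 1, 3, 3, 0, 3, 3, 1, 2, 2, 0, 2, 2, 2, 2, 2, 1, 3, 0, 2, 2, 0, 4, 2, 2, 0, 4, 2, 1] (by decide +kernel)
    (C.pNil (v6 C) [1, 2, 0, 2, 1, 2, 0, 2, 2, 1, 3, 3, 0, 3, 1, 2, 2, 2, 0, 2, 1, 2, 0, 3, 1, 2, 0, 2, 2, 1, 3, 3, 0, 3, 1, 2, 2, 0, 3, 3, 3, 1, 3, 3, 0, 3, 3, 1, 2, 2, 0, 2, 2, 2, 2, 2, 1, 3, 0, 2, 2, 0, 4, 2, 2, 0, 4, 2, 1])))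
    (C.pH [4] [3, 1, 2, 0, 2, 1, 3, 0, 3, 1, 2, 0, 2, 2, 1, 2, 0, 2, 2, 1, 3, 3, 0, 2, 1, 2, 0, 2, 1, 3, 0, 3, 1, 3, 0, 2, 0, 4, 2, 2, 2, 0, 2, 1, 2] (by decide +kernel)
    (C.pT (h40972 C)
    (C.pH [4] [1, 2, 0, 2, 1, 2, 2, 0, 2, 1, 3, 0, 3, 1, 2, 0, 2, 2, 2, 2, 1, 3, 0, 3, 1, 2, 0, 2, 1, 2, 0, 3, 1, 3, 0, 2, 2, 4, 2, 4, 2, 4, 2, 0, 3] (by decide +kernel)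
    (C.pNil (v4 C) [1, 2, 0, 2, 1, 2, 2, 0, 2, 1, 3, 0, 3, 1, 2, 0, 2, 2, 2, 2, 1, 3, 0, 3, 1, 2, 0, 2, 1, 2, 0, 3, 1, 3, 0, 2, 2, 4, 2, 4, 2, 4, 2, 0, 3])))) C.relOne

theorem h40974 :
    C.T (v6 C) [1, 2, 0, 2, 1, 2, 2, 0, 2, 1, 3, 0, 3, 1, 2, 0, 2, 2, 1, 2, 0, 2, 1, 3, 0, 3, 1, 2, 2, 0, 2, 2, 1, 2, 2, 2, 2, 0, 3, 3, 4, 2, 2, 2, 4, 2, 1, 3] (v6 C) [1, 2, 0, 2, 1, 2, 0, 2, 2, 1, 3, 3, 0, 3, 1, 2, 2, 2, 0, 2, 1, 2, 0, 3, 1, 2, 0, 2, 2, 1, 3, 3, 0, 3, 1, 2, 2, 0, 3, 3, 3, 1, 3, 3, 0, 3, 3, 1, 2, 2, 0, 2, 2, 2, 2, 2, 1, 3, 0, 2, 2, 0, 4, 2, 2, 0, 4, 2, 0] :=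
  C.flip (h40973 C) _ _
    (by decide +kernel) (by decide +kernel)

theorem h40975 :
    C.S (v6 C) [1, 2, 0, 2, 1, 2, 0, 2, 1, 2, 0, 3, 1, 3, 0, 2, 1, 2, 0, 3, 1, 3, 0, 2, 2, 1, 3, 3, 0, 2, 1, 2, 0, 3, 1, 2, 2, 0, 2, 1, 2, 0, 3] :=
  C.stInv (h40342 C) _ (by decide +kernel)

theorem h40976 :
    C.T (v6 C) [4, 2, 4, 2, 1] (v6 C) [1, 2, 0, 2, 1, 2, 0, 2, 2, 1, 3, 3, 0, 3, 1, 2, 2, 2, 0, 2, 1, 2, 0, 3, 1, 2, 2, 0, 2, 2, 1, 3, 3, 0, 2, 1, 2, 0, 2, 2, 1, 3, 3, 0, 2, 2, 1, 2, 2, 0, 2, 4, 2, 2, 2, 4, 2, 0, 3] :=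
  C.conv (h40973 C) (h40975 C) _ _
    (by decide +kernel) (by decide +kernel)

theorem h40980 :
    C.S (v6 C) [3, 1, 2, 0, 2, 1, 3, 0, 3, 1, 2, 0, 2, 2, 1, 2, 0, 2, 2, 1, 3, 3, 0, 2, 1, 2, 0, 2, 2, 1, 3, 0, 3, 1, 2, 2, 0, 3, 4, 2, 4, 3, 4] :=
  C.stInv (h40718 C) _ (by decide +kernel)

theorem h40981 :
    C.T (v6 C) [0, 4, 2, 2, 2, 0, 4, 2, 4, 2] (v6 C) [1, 2, 0, 3, 1, 3, 0, 2, 1, 2, 0, 3, 1, 3, 3, 0, 2, 2, 1, 3, 0, 2, 2, 1, 3, 0, 3, 1, 2, 2, 0, 2, 1, 3, 0, 2, 1, 2, 2, 0, 2, 1, 2, 0, 0, 4, 2, 2, 0, 4, 2, 0] :=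
  C.conv (h40974 C) (h40980 C) _ _
    (by decide +kernel) (by decide +kernel)

theorem h40985 :
    C.T (v4 C) [2, 1, 2, 0, 2, 2, 2, 1, 2, 2, 0, 2, 2, 1, 3, 0, 2, 2, 0, 4, 3, 3, 0, 3, 0, 4, 3, 3] (v6 C) [1, 2, 0, 2, 1, 2, 0, 2, 1, 2, 2, 0, 3, 3, 1, 2, 2, 2, 0, 2, 2, 1, 2, 0, 2, 2, 1, 3, 3, 0, 2, 1, 2, 2, 0, 3, 3, 1, 2, 0, 3, 3, 1, 3, 0, 0, 4, 2, 2, 2, 0, 2, 0, 2] :=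
  C.conv (h40859 C) (h24976 C) _ _
    (by decide +kernel) (by decide +kernel)

theorem h40986 :
    C.T (v4 C) [3, 1, 3, 0, 2, 2, 1, 3, 3, 0, 3, 1, 2, 0, 2, 1, 2, 0, 2, 4, 3, 4, 2, 2, 2, 4] (v2 C) [2, 1, 3, 3, 0, 2, 1, 2, 0, 2, 1, 2, 0, 2, 2, 2, 1, 2, 2, 0, 2, 1, 2, 0, 3, 1, 3, 0, 2, 1, 2, 0, 2, 0, 0, 4] :=
  C.conv (h25522 C) (h24410 C) _ _
    (by decide +kernel) (by decide +kernel)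

theorem h40987 :
    C.T (v2 C) [2, 1, 3, 3, 0, 2, 1, 2, 0, 2, 1, 2, 0, 2, 2, 2, 1, 2, 2, 0, 2, 1, 2, 0, 3, 1, 3, 0, 2, 1, 2, 0, 2, 4] (v4 C) [3, 1, 3, 0, 2, 2, 1, 3, 3, 0, 3, 1, 2, 0, 2, 1, 2, 0, 2, 0, 0, 4, 3, 4, 2, 2, 2, 4] :=
  C.flip (h40986 C) _ _
    (by decide +kernel) (by decide +kernel)

theorem h40988 :
    C.T (v6 C) [3, 1, 2, 0, 2, 1, 3, 0, 3, 1, 2, 0, 2, 2, 1, 2, 0, 2, 1, 3, 0, 3, 1, 2, 2, 0, 2, 1, 2, 2, 0, 2, 1, 3, 3, 0, 3, 3, 3, 3, 1, 3, 0, 3, 4, 2, 2, 2, 1, 3, 4, 3] (v2 C) [1, 2, 0, 3, 1, 3, 0, 2, 1, 2, 0, 3, 1, 3, 0, 3, 1, 2, 2, 0, 3, 1, 3, 3, 0, 3, 1, 3, 0, 3, 1, 2, 2, 2, 0, 2, 2, 2, 1, 2, 0, 3, 1, 3, 0, 2, 1, 2, 0, 2, 1, 4, 2, 2, 4, 3, 3] :=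
  C.closeT (A := [none, some [4]]) (B := [some [4], none, some [4]])
    (C.pT (h40985 C)
    (C.pH [4] [3, 1, 2, 0, 2, 1, 3, 0, 3, 1, 2, 0, 2, 2, 1, 2, 0, 2, 1, 3, 0, 3, 1, 2, 2, 0, 2, 1, 2, 2, 0, 2, 1, 3, 3, 0, 3, 3, 3, 3, 1, 3, 0, 3, 4, 2, 2, 2, 1, 3, 4, 3] (by decide +kernel)
    (C.pNil (v6 C) [3, 1, 2, 0, 2, 1, 3, 0, 3, 1, 2, 0, 2, 2, 1, 2, 0, 2, 1, 3, 0, 3, 1, 2, 2, 0, 2, 1, 2, 2, 0, 2, 1, 3, 3, 0, 3, 3, 3, 3, 1, 3, 0, 3, 4, 2, 2, 2, 1, 3, 4, 3])))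
    (C.pH [4] [2, 1, 3, 3, 0, 2, 1, 2, 0, 2, 1, 2, 0, 2, 2, 2, 1, 2, 2, 0, 2, 1, 2, 0, 3, 1, 3, 0, 2, 1, 2, 0, 2, 4] (by decide +kernel)
    (C.pT (h40987 C)
    (C.pH [4] [2, 1, 2, 0, 2, 2, 2, 1, 2, 2, 0, 2, 2, 1, 3, 0, 2, 2, 0, 4, 3, 3, 0, 3, 0, 4, 3, 3] (by decide +kernel)
    (C.pNil (v4 C) [2, 1, 2, 0, 2, 2, 2, 1, 2, 2, 0, 2, 2, 1, 3, 0, 2, 2, 0, 4, 3, 3, 0, 3, 0, 4, 3, 3])))) C.relOne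

theorem h40989 :
    C.T (v2 C) [1, 2, 0, 3, 1, 3, 0, 2, 1, 2, 0, 3, 1, 3, 0, 3, 1, 2, 2, 0, 3, 1, 3, 3, 0, 3, 1, 3, 0, 3, 1, 2, 2, 2, 0, 2, 2, 2, 1, 2, 0, 3, 1, 3, 0, 2, 1, 2, 0, 2, 0, 4, 2, 2, 4, 3, 3] (v6 C) [3, 1, 2, 0, 2, 1, 3, 0, 3, 1, 2, 0, 2, 2, 1, 2, 0, 2, 1, 3, 0, 3, 1, 2, 2, 0, 2, 1, 2, 2, 0, 2, 1, 3, 3, 0, 3, 3, 3, 3, 1, 3, 0, 3, 4, 2, 2, 2, 0, 3, 4, 3] :=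
  C.flip (h40988 C) _ _
    (by decide +kernel) (by decide +kernel)

theorem h40990 :
    C.S (v6 C) [2, 1, 3, 3, 0, 3, 1, 2, 2, 2, 0, 2, 1, 2, 0, 3, 1, 2, 0, 2, 2, 1, 3, 0, 3, 1, 3, 3, 0, 3] :=
  C.stInv (h39596 C) _ (by decide +kernel)

theorem h40991 :
    C.T (v6 C) [0, 4, 2, 2, 2, 4, 3] (v2 C) [2, 1, 3, 3, 0, 2, 1, 2, 0, 2, 2, 1, 3, 0, 3, 1, 2, 2, 0, 2, 2, 2, 1, 3, 0, 3, 3, 1, 3, 4, 2, 2, 4, 3, 3] :=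
  C.conv (h40988 C) (h40990 C) _ _
    (by decide +kernel) (by decide +kernel)

theorem h40995 :
    C.S (v2 C) [1, 2, 0, 3, 1, 3, 0, 2, 1, 2, 0, 3, 1, 3, 0, 2] :=
  C.stInv (h18598 C) _ (by decide +kernel)

theorem h40996 :
    C.T (v2 C) [0, 4, 2, 1, 2, 4] (v6 C) [1, 2, 0, 2, 1, 2, 0, 2, 1, 2, 2, 0, 3, 3, 1, 2, 2, 2, 0, 2, 1, 2, 2, 0, 3, 3, 1, 3, 0, 2, 2, 1, 3, 3, 0, 3, 1, 2, 2, 2, 0, 3, 1, 3, 0, 3, 1, 2, 0, 3, 3, 3, 1, 3, 0, 3, 4, 2, 2, 2, 0, 3, 4, 3] :=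
  C.conv (h40989 C) (h40995 C) _ _
    (by decide +kernel) (by decide +kernel)

theorem h41000 :
    C.T (v4 C) [1, 2, 0, 2, 1, 2, 0, 2, 1, 2, 0, 3, 1, 3, 0, 2, 1, 2, 0, 3, 1, 3, 0, 2, 2, 1, 3, 3, 0, 2, 1, 2, 0, 2, 1, 2, 2, 0, 2, 2, 2, 1, 3, 0, 4, 2, 4, 2, 2, 0, 3, 1, 2] (v6 C) [1, 2, 0, 2, 1, 2, 2, 0, 2, 1, 3, 0, 3, 1, 2, 0, 2, 2, 2, 2, 1, 3, 3, 0, 3, 1, 2, 2, 0, 2, 1, 2, 2, 0, 2, 1, 2, 2, 0, 2, 2, 1, 3, 0, 0, 0, 4] :=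
  C.conv (h40891 C) (h25099 C) _ _
    (by decide +kernel) (by decide +kernel)

theorem h41001 :
    C.T (v4 C) [1, 2, 0, 2, 1, 2, 0, 2, 1, 3, 0, 3, 1, 2, 2, 0, 3, 3, 1, 2, 2, 0, 2, 2, 1, 3, 0, 2, 2, 1, 2, 0, 2, 4, 2, 4, 2, 4, 2, 2] (v6 C) [1, 2, 0, 2, 1, 2, 0, 2, 2, 1, 3, 3, 0, 3, 1, 2, 2, 2, 0, 2, 1, 2, 0, 3, 1, 2, 2, 0, 2, 1, 3, 0, 2, 2, 2, 1, 2, 0, 2, 2, 2, 1, 2, 0, 3, 3, 0, 4] :=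
  C.conv (h39146 C) (h25393 C) _ _
    (by decide +kernel) (by decide +kernel)

theorem h41002 :
    C.T (v6 C) [1, 2, 0, 2, 1, 2, 0, 2, 2, 1, 3, 3, 0, 3, 1, 2, 2, 2, 0, 2, 1, 2, 0, 3, 1, 2, 2, 0, 2, 1, 3, 0, 2, 2, 2, 1, 2, 0, 2, 2, 2, 1, 2, 0, 3, 3, 1, 4] (v4 C) [1, 2, 0, 2, 1, 2, 0, 2, 1, 3, 0, 3, 1, 2, 2, 0, 3, 3, 1, 2, 2, 0, 2, 2, 1, 3, 0, 2, 2, 1, 2, 0, 2, 0, 0, 4, 2, 4, 2, 4, 2, 2] :=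
  C.flip (h41001 C) _ _
    (by decide +kernel) (by decide +kernel)

theorem h41003 :
    C.T (v6 C) [1, 2, 0, 2, 1, 2, 2, 0, 2, 1, 3, 0, 3, 1, 2, 0, 2, 2, 2, 2, 1, 3, 3, 0, 3, 1, 2, 2, 0, 2, 1, 2, 2, 0, 2, 1, 2, 2, 0, 2, 2, 0, 4, 3, 1, 4] (v6 C) [1, 2, 0, 2, 1, 2, 0, 2, 2, 1, 3, 3, 0, 3, 1, 2, 2, 2, 0, 2, 1, 2, 0, 3, 1, 2, 0, 2, 2, 1, 3, 0, 3, 1, 2, 0, 3, 0, 4, 2, 2, 2, 0, 3, 1, 2, 4] :=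
  C.closeT (A := [none, some [4]]) (B := [some [4], none, some [4]])
    (C.pT (h41000 C)
    (C.pH [4] [1, 2, 0, 2, 1, 2, 2, 0, 2, 1, 3, 0, 3, 1, 2, 0, 2, 2, 2, 2, 1, 3, 3, 0, 3, 1, 2, 2, 0, 2, 1, 2, 2, 0, 2, 1, 2, 2, 0, 2, 2, 0, 4, 3, 1, 4] (by decide +kernel)
    (C.pNil (v6 C) [1, 2, 0, 2, 1, 2, 2, 0, 2, 1, 3, 0, 3, 1, 2, 0, 2, 2, 2, 2, 1, 3, 3, 0, 3, 1, 2, 2, 0, 2, 1, 2, 2, 0, 2, 1, 2, 2, 0, 2, 2, 0, 4, 3, 1, 4])))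
    (C.pH [4] [1, 2, 0, 2, 1, 2, 0, 2, 2, 1, 3, 3, 0, 3, 1, 2, 2, 2, 0, 2, 1, 2, 0, 3, 1, 2, 2, 0, 2, 1, 3, 0, 2, 2, 2, 1, 2, 0, 2, 2, 2, 1, 2, 0, 3, 3, 1, 4] (by decide +kernel)
    (C.pT (h41002 C)
    (C.pH [4] [1, 2, 0, 2, 1, 2, 0, 2, 1, 2, 0, 3, 1, 3, 0, 2, 1, 2, 0, 3, 1, 3, 0, 2, 2, 1, 3, 3, 0, 2, 1, 2, 0, 2, 1, 2, 2, 0, 2, 2, 2, 1, 3, 0, 4, 2, 4, 2, 2, 0, 3, 1, 2] (by decide +kernel)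
    (C.pNil (v4 C) [1, 2, 0, 2, 1, 2, 0, 2, 1, 2, 0, 3, 1, 3, 0, 2, 1, 2, 0, 3, 1, 3, 0, 2, 2, 1, 3, 3, 0, 2, 1, 2, 0, 2, 1, 2, 2, 0, 2, 2, 2, 1, 3, 0, 4, 2, 4, 2, 2, 0, 3, 1, 2])))) C.relOne

theorem h41004 :
    C.T (v6 C) [1, 2, 0, 2, 1, 2, 0, 2, 2, 1, 3, 3, 0, 3, 1, 2, 2, 2, 0, 2, 1, 2, 0, 3, 1, 2, 0, 2, 2, 1, 3, 0, 3, 1, 2, 0, 3, 0, 4, 2, 2, 2, 0, 3, 0, 2, 4] (v6 C) [1, 2, 0, 2, 1, 2, 2, 0, 2, 1, 3, 0, 3, 1, 2, 0, 2, 2, 2, 2, 1, 3, 3, 0, 3, 1, 2, 2, 0, 2, 1, 2, 2, 0, 2, 1, 2, 2, 0, 2, 2, 0, 4, 3, 0, 4] :=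
  C.flip (h41003 C) _ _
    (by decide +kernel) (by decide +kernel)

theorem h41005 :
    C.S (v6 C) [1, 2, 0, 2, 1, 2, 0, 2, 1, 2, 2, 0, 3, 3, 1, 2, 2, 2, 0, 2, 1, 2, 2, 0, 2, 1, 2, 2, 0, 3, 3, 1, 2, 2, 0, 2, 4, 2, 4, 3, 4] :=
  C.stInv (h39445 C) _ (by decide +kernel)

theorem h41006 :
    C.T (v6 C) [0, 4, 3, 1] (v6 C) [1, 2, 0, 2, 2, 2, 1, 3, 3, 0, 2, 2, 1, 3, 0, 3, 1, 3, 3, 0, 0, 4, 2, 2, 2, 0, 3, 1, 2, 4] :=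
  C.conv (h41003 C) (h41005 C) _ _
    (by decide +kernel) (by decide +kernel)

theorem h41016 :
    C.S (v6 C) [1, 2, 2, 0, 3, 3, 1, 2, 2, 2, 0, 2, 1, 2, 2, 0, 3, 3, 1, 3, 3, 0, 3, 3, 1, 3, 0, 2, 1, 2, 0, 3, 4, 2, 4, 3, 4] :=
  C.stInv (h40169 C) _ (by decide +kernel)

theorem h41017 :
    C.T (v6 C) [4, 3, 0] (v6 C) [1, 2, 0, 3, 1, 3, 0, 2, 1, 2, 0, 3, 3, 1, 2, 0, 0, 4, 3, 0, 4] :=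
  C.conv (h41004 C) (h41016 C) _ _
    (by decide +kernel) (by decide +kernel)

theorem h41027 :
    C.T (v5 C) [1, 2, 0, 2, 2, 2, 1, 3, 3, 0, 3, 1, 2, 2, 2, 0, 2, 2, 2, 1, 2, 0, 2, 2, 2, 1, 2, 2, 0, 0, 4, 2, 2, 2, 0, 2, 0, 3] (v6 C) [2, 1, 3, 3, 0, 3, 1, 2, 2, 2, 0, 2, 1, 2, 0, 3, 1, 2, 0, 2, 2, 1, 3, 3, 0, 3, 1, 2, 2, 0, 3, 1, 3, 0, 2, 2, 2, 1, 2, 2, 2, 0, 2, 1, 2, 0] :=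
  C.conv (h34572 C) (h33963 C) _ _
    (by decide +kernel) (by decide +kernel)

theorem h41028 :
    C.T (v5 C) [1, 2, 0, 2, 1, 2, 0, 2, 2, 1, 3, 3, 0, 3, 1, 2, 2, 2, 0, 2, 1, 2, 0, 3, 1, 2, 2, 0, 2, 1, 3, 0, 3, 1, 2, 2, 2, 0, 3, 1, 3, 3, 0, 3, 1, 3, 0, 2, 2, 1, 3, 0, 2, 1, 4, 2, 4] (v6 C) [1, 2, 0, 3, 1, 3, 0, 2, 1, 2, 0, 3, 1, 3, 3, 0, 2, 2, 1, 3, 3, 0, 3, 1, 2, 2, 0, 2, 1, 3, 0, 3, 1, 2, 2, 0, 2, 1, 3, 0, 2, 1, 2, 2, 0, 2, 1, 2, 0] :=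
  C.conv (h34572 C) (h34078 C) _ _
    (by decide +kernel) (by decide +kernel)

theorem h41029 :
    C.T (v6 C) [1, 2, 0, 3, 1, 3, 0, 2, 1, 2, 0, 3, 1, 3, 3, 0, 2, 2, 1, 3, 3, 0, 3, 1, 2, 2, 0, 2, 1, 3, 0, 3, 1, 2, 2, 0, 2, 1, 3, 0, 2, 1, 2, 2, 0, 2, 1, 2, 0, 0, 0] (v5 C) [1, 2, 0, 2, 1, 2, 0, 2, 2, 1, 3, 3, 0, 3, 1, 2, 2, 2, 0, 2, 1, 2, 0, 3, 1, 2, 2, 0, 2, 1, 3, 0, 3, 1, 2, 2, 2, 0, 3, 1, 3, 3, 0, 3, 1, 3, 0, 2, 2, 1, 3, 0, 2, 0, 4, 2, 4] :=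
  C.flip (h41028 C) _ _
    (by decide +kernel) (by decide +kernel)

theorem h41030 :
    C.T (v6 C) [2, 1, 3, 3, 0, 3, 1, 2, 2, 2, 0, 2, 1, 2, 0, 3, 1, 2, 0, 2, 2, 1, 3, 3, 0, 3, 1, 2, 2, 0, 3, 1, 3, 0, 2, 2, 2, 1, 2, 0, 0, 4, 2, 2, 0, 2, 0, 2, 1] (v6 C) [1, 2, 0, 3, 1, 3, 0, 2, 1, 2, 0, 3, 1, 3, 3, 0, 2, 2, 1, 3, 3, 0, 3, 1, 2, 2, 0, 2, 1, 3, 0, 3, 1, 2, 2, 0, 2, 1, 3, 0, 2, 0, 4, 2, 2, 0, 2, 0, 2, 0] :=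
  C.closeT (A := [none, some [4]]) (B := [some [4], none, some [4]])
    (C.pT (h41027 C)
    (C.pH [4] [2, 1, 3, 3, 0, 3, 1, 2, 2, 2, 0, 2, 1, 2, 0, 3, 1, 2, 0, 2, 2, 1, 3, 3, 0, 3, 1, 2, 2, 0, 3, 1, 3, 0, 2, 2, 2, 1, 2, 0, 0, 4, 2, 2, 0, 2, 0, 2, 1] (by decide +kernel)
    (C.pNil (v6 C) [2, 1, 3, 3, 0, 3, 1, 2, 2, 2, 0, 2, 1, 2, 0, 3, 1, 2, 0, 2, 2, 1, 3, 3, 0, 3, 1, 2, 2, 0, 3, 1, 3, 0, 2, 2, 2, 1, 2, 0, 0, 4, 2, 2, 0, 2, 0, 2, 1])))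
    (C.pH [4] [1, 2, 0, 3, 1, 3, 0, 2, 1, 2, 0, 3, 1, 3, 3, 0, 2, 2, 1, 3, 3, 0, 3, 1, 2, 2, 0, 2, 1, 3, 0, 3, 1, 2, 2, 0, 2, 1, 3, 0, 2, 1, 2, 2, 0, 2, 1, 2, 0, 0, 0] (by decide +kernel)
    (C.pT (h41029 C)
    (C.pH [4] [1, 2, 0, 2, 2, 2, 1, 3, 3, 0, 3, 1, 2, 2, 2, 0, 2, 2, 2, 1, 2, 0, 2, 2, 2, 1, 2, 2, 0, 0, 4, 2, 2, 2, 0, 2, 0, 3] (by decide +kernel)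
    (C.pNil (v5 C) [1, 2, 0, 2, 2, 2, 1, 3, 3, 0, 3, 1, 2, 2, 2, 0, 2, 2, 2, 1, 2, 0, 2, 2, 2, 1, 2, 2, 0, 0, 4, 2, 2, 2, 0, 2, 0, 3])))) C.relOne

theorem h41032 :
    C.S (v6 C) [1, 2, 0, 2, 1, 2, 0, 2, 1, 3, 0, 3, 1, 2, 2, 0, 2, 2, 1, 2, 2, 2, 0, 3, 3, 3] :=
  C.stInv (h40025 C) _ (by decide +kernel)

theorem h41033 :
    C.T (v6 C) [0, 4, 3, 0] (v6 C) [1, 2, 2, 0, 3, 3, 1, 2, 2, 2, 0, 2, 2, 1, 2, 0, 2, 1, 2, 0, 2, 2, 2, 1, 2, 0, 2, 0, 4, 2, 2, 0, 2, 0, 2, 0] :=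
  C.conv (h41030 C) (h41032 C) _ _
    (by decide +kernel) (by decide +kernel)

theorem h41046 :
    C.T (v6 C) [4, 2] (v3 C) [3, 1, 2, 0, 2, 1, 3, 0, 3, 1, 2, 0, 2, 2, 2, 2, 1, 3, 3, 0, 3, 1, 2, 2, 0, 3, 1, 2, 2, 2, 0, 3, 0, 4, 3, 0, 4, 3, 3, 4] :=
  C.conv (h40839 C) (h39163 C) _ _
    (by decide +kernel) (by decide +kernel)

theorem h41047 :
    C.T (v3 C) [3, 1, 2, 0, 2, 1, 3, 0, 3, 1, 2, 0, 2, 2, 2, 2, 1, 3, 3, 0, 3, 1, 2, 2, 0, 3, 1, 2, 2, 2, 0, 3, 0, 4, 3, 0, 4, 3, 3, 4] (v6 C) [1, 2, 0, 2, 1, 2, 2, 0, 2, 1, 3, 0, 3, 1, 2, 0, 2, 2, 1, 2, 0, 2, 1, 3, 0, 3, 1, 2, 2, 2, 0, 2, 2, 2, 1, 2, 0, 2, 2, 2, 1, 2, 0, 3, 1, 3, 0, 2, 1, 2, 0, 4, 2, 4, 3, 4, 3, 1] :=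
  C.conv (h40831 C) (h17794 C) _ _
    (by decide +kernel) (by decide +kernel)

theorem h41048 :
    C.T (v6 C) [3, 1, 2, 0, 2, 1, 3, 0, 3, 1, 2, 0, 2, 2, 1, 2, 0, 3, 1, 2, 2, 0, 3, 1, 3, 3, 0, 3, 1, 3, 0, 2, 2, 1, 3, 3, 0, 2, 2, 2, 2, 2, 1, 2, 0, 2, 2, 1, 2, 0, 2, 0, 4, 2, 4, 3, 4, 3, 1] (v6 C) [0, 4, 2] :=
  C.closeT (A := [none, none, some [1], some [0, 0]]) (B := [some [0, 0, 0]])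
    (C.pT (h41046 C)
    (C.pT (h41047 C)
    (C.pH [1] [3, 1, 2, 0, 2, 1, 3, 0, 3, 1, 2, 0, 2, 2, 1, 2, 0, 3, 1, 2, 2, 0, 3, 1, 3, 3, 0, 3, 1, 3, 0, 2, 2, 1, 3, 3, 0, 2, 2, 2, 2, 2, 1, 2, 0, 2, 2, 1, 2, 0, 2, 0, 4, 2, 4, 3, 4, 3, 0] (by decide +kernel)
    (C.pH [0, 0] [3, 1, 2, 0, 2, 1, 3, 0, 3, 1, 2, 0, 2, 2, 1, 2, 0, 3, 1, 2, 2, 0, 3, 1, 3, 3, 0, 3, 1, 3, 0, 2, 2, 1, 3, 3, 0, 2, 2, 2, 2, 2, 1, 2, 0, 2, 2, 1, 2, 0, 2, 0, 4, 2, 4, 3, 4, 3, 1] (by decide +kernel)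
    (C.pNil (v6 C) [3, 1, 2, 0, 2, 1, 3, 0, 3, 1, 2, 0, 2, 2, 1, 2, 0, 3, 1, 2, 2, 0, 3, 1, 3, 3, 0, 3, 1, 3, 0, 2, 2, 1, 3, 3, 0, 2, 2, 2, 2, 2, 1, 2, 0, 2, 2, 1, 2, 0, 2, 0, 4, 2, 4, 3, 4, 3, 1])))))
    (C.pH [0, 0, 0] [4, 2] (by decide +kernel)
    (C.pNil (v6 C) [4, 2])) C.relTwo

theorem h41050 :
    C.S (v6 C) [3, 1, 2, 0, 2, 1, 3, 0, 3, 1, 2, 0, 2, 2, 1, 2, 2, 2, 2, 0, 2] :=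
  C.stInv (h39397 C) _ (by decide +kernel)

theorem h41051 :
    C.T (v6 C) [1, 4, 2] (v6 C) [1, 2, 0, 2, 1, 2, 2, 0, 2, 1, 3, 0, 3, 1, 2, 0, 2, 2, 1, 2, 0, 2, 1, 3, 0, 3, 1, 2, 2, 2, 0, 2, 2, 2, 1, 2, 0, 2, 2, 2, 1, 2, 0, 3, 1, 3, 0, 2, 0, 4, 2] :=
  C.conv (h41048 C) (h41050 C) _ _
    (by decide +kernel) (by decide +kernel)

theorem h41059 :
    C.T (v6 C) [2, 4, 2] (v3 C) [3, 3, 1, 2, 2, 0, 3, 1, 3, 3, 0, 3, 1, 3, 3, 0, 3, 3, 1, 2, 0, 3, 3, 1, 2, 2, 0, 0, 4, 3, 0, 4, 3, 3, 4] :=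
  C.conv (h40839 C) (h39163 C) _ _
    (by decide +kernel) (by decide +kernel)

theorem h41060 :
    C.T (v3 C) [3, 3, 1, 2, 2, 0, 3, 1, 3, 3, 0, 3, 1, 3, 3, 0, 3, 3, 1, 2, 0, 3, 3, 1, 2, 0, 4, 3, 3, 4] (v6 C) [1, 2, 0, 2, 1, 2, 0, 2, 2, 1, 3, 3, 0, 2, 1, 2, 0, 2, 1, 3, 3, 3, 0, 3, 3, 3, 1, 3, 0, 3, 0, 4, 3, 3, 1, 4] :=
  C.conv (h40789 C) (h16876 C) _ _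
    (by decide +kernel) (by decide +kernel)

theorem h41061 :
    C.T (v6 C) [1, 2, 0, 2, 1, 2, 0, 2, 1, 2, 2, 0, 3, 3, 1, 2, 2, 2, 0, 2, 1, 2, 2, 2, 2, 0, 3, 1, 2, 2, 0, 3, 3, 3, 3, 4, 3, 3, 0, 4, 3, 1, 3, 4] (v6 C) [4, 2, 4, 2] :=
  C.closeT (A := [none, some [4], none, some [4]]) (B := [some [4]])
    (C.pT (h41059 C)
    (C.pH [4] [3, 3, 1, 2, 2, 0, 3, 1, 3, 3, 0, 3, 1, 3, 3, 0, 3, 3, 1, 2, 0, 3, 3, 1, 2, 0, 4, 3, 3, 4] (by decide +kernel)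
    (C.pT (h41060 C)
    (C.pH [4] [1, 2, 0, 2, 1, 2, 0, 2, 1, 2, 2, 0, 3, 3, 1, 2, 2, 2, 0, 2, 1, 2, 2, 2, 2, 0, 3, 1, 2, 2, 0, 3, 3, 3, 3, 4, 3, 3, 0, 4, 3, 1, 3, 4] (by decide +kernel)
    (C.pNil (v6 C) [1, 2, 0, 2, 1, 2, 0, 2, 1, 2, 2, 0, 3, 3, 1, 2, 2, 2, 0, 2, 1, 2, 2, 2, 2, 0, 3, 1, 2, 2, 0, 3, 3, 3, 3, 4, 3, 3, 0, 4, 3, 1, 3, 4])))))
    (C.pH [4] [2, 4, 2] (by decide +kernel)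
    (C.pNil (v6 C) [2, 4, 2])) C.relOne

theorem h41062 :
    C.T (v6 C) [0, 0, 4, 2, 4, 2] (v6 C) [1, 2, 0, 2, 1, 2, 0, 2, 1, 2, 2, 0, 3, 3, 1, 2, 2, 2, 0, 2, 1, 2, 2, 2, 2, 0, 3, 1, 2, 2, 0, 3, 3, 3, 3, 4, 3, 3, 0, 4, 3, 0, 3, 4] :=
  C.flip (h41061 C) _ _
    (by decide +kernel) (by decide +kernel)

theorem h41063 :
    C.S (v6 C) [3, 1, 3, 0, 2, 2, 1, 3, 0, 2, 1, 2, 2, 0, 2, 1, 3, 0, 3, 1, 2, 0, 2, 4, 2, 4, 3, 4] :=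
  C.stInv (h40268 C) _ (by decide +kernel)

theorem h41064 :
    C.T (v6 C) [4, 2, 4, 2] (v6 C) [2, 1, 3, 3, 0, 3, 1, 2, 2, 2, 0, 2, 1, 2, 0, 3, 1, 2, 2, 0, 2, 2, 1, 2, 0, 3, 1, 2, 0, 2, 4, 2, 4, 2] :=
  C.conv (h41061 C) (h41063 C) _ _
    (by decide +kernel) (by decide +kernel)

theorem h41068 :
    C.S (v6 C) [1, 2, 2, 0, 3, 3, 1, 2, 2, 2, 0, 2, 1, 2, 2, 0, 3, 1, 3, 0, 3, 1, 2, 2, 2, 0, 2, 2, 2, 1, 2, 0] :=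
  C.stInv (h40504 C) _ (by decide +kernel)

theorem h41069 :
    C.T (v6 C) [0, 0, 4, 3, 4, 3, 3] (v6 C) [3, 3, 1, 2, 2, 0, 3, 1, 3, 3, 0, 3, 1, 3, 0, 2, 2, 1, 3, 0, 3, 1, 2, 0, 3, 3, 1, 3, 0, 3, 3, 4, 3, 3, 0, 4, 3, 0, 3, 4] :=
  C.conv (h41062 C) (h41068 C) _ _
    (by decide +kernel) (by decide +kernel)

theorem h41074 :
    C.T (v3 C) [0, 4, 2, 1, 2, 4, 2] (v7 C) [] :=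
  C.defn _ _

theorem h41075 :
    C.T (v7 C) [0, 0] (v3 C) [0, 4, 2, 0, 2, 4, 2] :=
  C.flip (h41074 C) _ _
    (by decide +kernel) (by decide +kernel)

theorem h41076 :
    C.S (v3 C) [1, 2, 0, 2, 1, 2, 0, 2, 1, 2, 2, 0, 3, 3, 1, 2, 2, 2, 0, 2, 2, 1, 2, 0, 3, 1, 2, 2, 0, 2, 2, 2, 1, 3, 3, 0, 2, 2, 1, 2, 0, 4, 2, 0, 2, 4] :=
  C.stInv (h17415 C) _ (by decide +kernel)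

theorem h41077 :
    C.T (v3 C) [0, 4, 2, 1, 2, 4, 2] (v7 C) [1, 2, 0, 2, 2, 2, 1, 3, 0, 3, 1, 3, 3, 0, 3, 3, 1, 2, 0, 3, 1, 2, 2, 0, 2] :=
  C.conv (h41074 C) (h41076 C) _ _
    (by decide +kernel) (by decide +kernel)

theorem h41078 :
    C.E (v7 C) [1, 2, 0, 2, 2, 2, 1, 3, 0, 3, 1, 3, 3, 0, 3, 3, 1, 2, 0, 3, 1, 2, 2, 0, 2] (v7 C) [] :=
  C.sameSrc (h41077 C) (h41074 C)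

theorem h41079 :
    C.S (v3 C) [1, 2, 2, 0, 3, 3, 1, 2, 2, 2, 0, 2, 2, 1, 2, 0, 3, 1, 2, 2, 0, 2, 2, 2, 1, 3, 3, 0, 2, 2, 1, 2, 0, 4, 2, 0, 2, 4] :=
  C.stInv (h17418 C) _ (by decide +kernel)

theorem h41080 :
    C.T (v3 C) [0, 4, 2, 1, 2, 4, 2] (v7 C) [1, 2, 0, 2, 1, 2, 0, 2, 2, 1, 3, 3, 0, 3, 1, 2, 2, 2, 0, 2, 1, 2, 0, 3, 1, 2, 0, 2, 2, 1, 3, 3, 0, 3, 1, 2, 2, 2, 0, 2, 2, 2, 1, 2, 2, 0, 3, 1, 2, 2, 0, 2] :=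
  C.conv (h41074 C) (h41079 C) _ _
    (by decide +kernel) (by decide +kernel)

theorem h41081 :
    C.E (v7 C) [1, 2, 0, 2, 1, 2, 0, 2, 2, 1, 3, 3, 0, 3, 1, 2, 2, 2, 0, 2, 1, 2, 0, 3, 1, 2, 0, 2, 2, 1, 3, 3, 0, 3, 1, 2, 2, 2, 0, 2, 2, 2, 1, 2, 2, 0, 3, 1, 2, 2, 0, 2] (v7 C) [] :=
  C.sameSrc (h41080 C) (h41074 C)

theorem h41082 :
    C.S (v7 C) [1, 2, 0, 2, 2, 2, 1, 3, 0, 3, 1, 3, 3, 0, 3, 3, 1, 2, 0, 3, 1, 2, 2, 0, 2] :=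
  C.stEq (h41078 C) _ (by decide +kernel)

theorem h42108 :
    C.S (v7 C) [1, 2, 0, 2, 1, 2, 0, 2, 2, 1, 3, 3, 0, 3, 1, 2, 2, 2, 0, 2, 1, 2, 0, 3, 1, 2, 0, 2, 2, 1, 3, 3, 0, 3, 1, 2, 2, 2, 0, 2, 2, 2, 1, 2, 2, 0, 3, 1, 2, 2, 0, 2] :=
  C.stEq (h41081 C) _ (by decide +kernel)

theorem h42109 :
    C.S (v7 C) [] :=
  C.stOne _

theorem h43700 :
    C.T (v2 C) [1, 2, 2, 2, 0, 0, 4, 3] (v3 C) [3, 1, 3, 0, 2, 2, 1, 3, 3, 0, 3, 1, 2, 2, 0, 3, 1, 2, 2, 0, 3, 3, 1, 2, 0, 3, 3, 1, 3, 0, 2, 2, 2, 1, 3, 0, 2, 2, 4, 2, 0, 4, 2, 2, 1, 3, 3] :=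
  C.conv (h16363 C) (h18308 C) _ _
    (by decide +kernel) (by decide +kernel)

theorem h43701 :
    C.T (v3 C) [3, 1, 3, 0, 2, 2, 1, 3, 3, 0, 3, 1, 2, 2, 0, 3, 1, 2, 2, 0, 3, 3, 1, 2, 0, 3, 3, 1, 3, 0, 2, 2, 2, 1, 3, 0, 2, 2, 4, 2, 0, 4, 2, 2, 0, 3, 3] (v2 C) [1, 2, 2, 2, 4, 3] :=
  C.flip (h43700 C) _ _
    (by decide +kernel) (by decide +kernel)

theorem h43702 :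
    C.T (v3 C) [1, 2, 0, 2, 2, 2, 1, 3, 0, 2, 2, 1, 2, 2, 0, 3, 3, 1, 2, 2, 0, 2, 2, 2, 2, 2, 1, 2, 0, 3, 3, 4, 2, 4, 2, 0, 2, 4, 3, 3, 1] (v7 C) [1, 2, 0, 2, 1, 2, 0, 2, 1, 2, 0, 3, 1, 3, 0, 2, 1, 2, 0, 3, 1, 3, 0, 2, 2, 1, 3, 3, 0, 2, 1, 2, 0, 2, 1, 2, 2, 0, 2, 1, 2, 2, 2, 0] :=
  C.conv (h41074 C) (h17377 C) _ _
    (by decide +kernel) (by decide +kernel)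

theorem h43703 :
    C.T (v7 C) [1, 2, 0, 2, 1, 2, 0, 2, 1, 2, 0, 3, 1, 3, 0, 2, 1, 2, 0, 3, 1, 3, 0, 2, 2, 1, 3, 3, 0, 2, 1, 2, 0, 2, 1, 2, 2, 0, 2, 1, 2, 2, 2, 0, 0, 0] (v3 C) [1, 2, 0, 2, 2, 2, 1, 3, 0, 2, 2, 1, 2, 2, 0, 3, 3, 1, 2, 2, 0, 2, 2, 2, 2, 2, 1, 2, 0, 3, 3, 4, 2, 4, 2, 0, 2, 4, 3, 3, 0] :=
  C.flip (h43702 C) _ _
    (by decide +kernel) (by decide +kernel)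

theorem h43704 :
    C.T (v2 C) [0, 4, 2, 2, 2, 4, 3] (v7 C) [1, 2, 0, 2, 1, 2, 0, 2, 1, 2, 0, 3, 1, 3, 0, 2, 1, 2, 0, 3, 1, 3, 0, 2, 2, 1, 3, 3, 0, 2, 1, 2, 0, 2, 1, 2, 2, 0, 2, 0, 4, 2, 2, 2, 1] :=
  C.closeT (A := []) (B := [some [4], none, some [4], none, some [4]])
    (C.pNil (v2 C) [0, 4, 2, 2, 2, 4, 3])
    (C.pH [4] [1, 2, 0, 2, 1, 2, 0, 2, 1, 2, 0, 3, 1, 3, 0, 2, 1, 2, 0, 3, 1, 3, 0, 2, 2, 1, 3, 3, 0, 2, 1, 2, 0, 2, 1, 2, 2, 0, 2, 1, 2, 2, 2, 0, 0, 0] (by decide +kernel)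
    (C.pT (h43703 C)
    (C.pH [4] [3, 1, 3, 0, 2, 2, 1, 3, 3, 0, 3, 1, 2, 2, 0, 3, 1, 2, 2, 0, 3, 3, 1, 2, 0, 3, 3, 1, 3, 0, 2, 2, 2, 1, 3, 0, 2, 2, 4, 2, 0, 4, 2, 2, 0, 3, 3] (by decide +kernel)
    (C.pT (h43701 C)
    (C.pH [4] [0, 4, 2, 2, 2, 4, 3] (by decide +kernel)
    (C.pNil (v2 C) [0, 4, 2, 2, 2, 4, 3])))))) C.relOne

theorem h43705 :
    C.T (v7 C) [1, 2, 0, 2, 1, 2, 0, 2, 1, 2, 0, 3, 1, 3, 0, 2, 1, 2, 0, 3, 1, 3, 0, 2, 2, 1, 3, 3, 0, 2, 1, 2, 0, 2, 1, 2, 2, 0, 2, 0, 4, 2, 2, 2, 0] (v2 C) [1, 4, 2, 2, 2, 4, 3] :=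
  C.flip (h43704 C) _ _
    (by decide +kernel) (by decide +kernel)

theorem h43706 :
    C.S (v2 C) [3, 1, 3, 0, 2, 2, 1, 3, 0, 3, 1, 2, 2, 0, 2, 2, 2, 1, 3, 3, 0, 2] :=
  C.stInv (h18976 C) _ (by decide +kernel)

theorem h43707 :
    C.T (v2 C) [0, 4, 2, 2, 2, 4, 3] (v7 C) [1, 2, 0, 2, 1, 2, 0, 2, 1, 2, 2, 0, 3, 3, 1, 2, 2, 2, 0, 2, 1, 2, 2, 0, 3, 3, 3, 1, 2, 2, 0, 3, 1, 3, 3, 0, 3, 1, 3, 0, 2, 2, 1, 2, 2, 0, 3, 3, 1, 2, 2, 0, 2, 2, 2, 2, 2, 1, 3, 0, 2, 2, 0, 4, 2, 2, 2, 1] :=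
  C.conv (h43704 C) (h43706 C) _ _
    (by decide +kernel) (by decide +kernel)

theorem h43708 :
    C.E (v7 C) [1, 2, 0, 2, 1, 2, 0, 2, 1, 2, 2, 0, 3, 3, 1, 2, 2, 2, 0, 2, 1, 2, 2, 0, 3, 3, 3, 1, 2, 2, 0, 3, 1, 3, 3, 0, 3, 1, 3, 0, 2, 2, 1, 2, 2, 0, 3, 3, 1, 2, 2, 0, 2, 2, 2, 2, 2, 1, 3, 0, 2, 2, 0, 4, 2, 2, 2, 1] (v7 C) [1, 2, 0, 2, 1, 2, 0, 2, 1, 2, 0, 3, 1, 3, 0, 2, 1, 2, 0, 3, 1, 3, 0, 2, 2, 1, 3, 3, 0, 2, 1, 2, 0, 2, 1, 2, 2, 0, 2, 0, 4, 2, 2, 2, 1] :=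
  C.sameSrc (h43707 C) (h43704 C)

theorem h43709 :
    C.S (v7 C) [] :=
  C.stInv (h42109 C) _ (by decide +kernel)

theorem h43710 :
    C.T (v7 C) [0, 4, 2, 2, 2, 0] (v2 C) [2, 1, 3, 3, 0, 3, 1, 2, 2, 2, 0, 2, 1, 2, 0, 3, 1, 2, 2, 0, 2, 2, 2, 1, 3, 0, 3, 1, 2, 2, 0, 2, 1, 3, 0, 2, 1, 4, 2, 2, 2, 4, 3] :=
  C.conv (h43705 C) (h43709 C) _ _
    (by decide +kernel) (by decide +kernel)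

theorem h43711 :
    C.S (v7 C) [1, 3, 0, 2, 2, 1, 3, 0, 2, 1, 2, 0, 0, 4, 2, 1, 4, 2, 4, 2, 4, 2] :=
  C.stEq (h43708 C) _ (by decide +kernel)

theorem h43712 :
    C.S (v7 C) [] :=
  C.stOne _

theorem h44067 :
    C.S (v7 C) [1, 2, 0, 2, 2, 2, 1, 3, 0, 3, 1, 3, 3, 0, 3, 3, 1, 2, 0, 3, 1, 2, 2, 0, 2] :=
  C.stMul (h43712 C) (h41082 C) _
    (by decide +kernel)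

theorem h45410 :
    C.T (v2 C) [4, 2, 0, 4, 2, 2, 1] (v6 C) [1, 2, 0, 2, 1, 2, 2, 0, 2, 1, 3, 0, 3, 1, 2, 0, 2, 2, 2, 2, 1, 3, 0, 2, 2, 1, 2, 2, 0, 2, 1, 3, 0, 3, 1, 3, 0, 2, 2, 4, 2, 0, 4, 2, 1] :=
  C.conv (h40921 C) (h17992 C) _ _
    (by decide +kernel) (by decide +kernel)

theorem h45411 :
    C.T (v2 C) [0, 4, 2, 0, 4, 2, 2, 0] (v7 C) [1, 2, 2, 0, 3, 3, 1, 2, 2, 2, 0, 2, 1, 2, 2, 0, 3, 3, 1, 3, 0, 2, 2, 1, 3, 0, 3, 1, 2, 2, 2, 0, 3, 1, 3, 0, 3, 0, 4, 2, 2, 2, 1] :=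
  C.conv (h43704 C) (h18777 C) _ _
    (by decide +kernel) (by decide +kernel)

theorem h45412 :
    C.T (v7 C) [1, 2, 2, 0, 3, 3, 1, 2, 2, 2, 0, 2, 1, 2, 2, 0, 3, 3, 1, 3, 0, 2, 2, 1, 3, 0, 3, 1, 2, 2, 2, 0, 3, 1, 3, 0, 3, 0, 4, 2, 2, 2, 0] (v2 C) [0, 4, 2, 0, 4, 2, 2, 1] :=
  C.flip (h45411 C) _ _
    (by decide +kernel) (by decide +kernel)

theorem h45413 :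
    C.T (v6 C) [1, 2, 0, 2, 1, 2, 2, 0, 2, 1, 3, 0, 3, 1, 2, 0, 2, 2, 2, 2, 1, 3, 0, 2, 2, 1, 2, 2, 0, 2, 1, 3, 0, 3, 1, 3, 0, 2, 2, 4, 2, 0, 4, 2, 1] (v7 C) [1, 2, 2, 0, 3, 3, 1, 2, 2, 2, 0, 2, 1, 2, 2, 0, 2, 1, 3, 3, 0, 2, 2, 1, 3, 3, 0, 3, 1, 3, 0, 4, 2, 2, 2, 0] :=
  C.closeT (A := [none]) (B := [some [1], some [0, 0], none, some [0, 0, 0]])
    (C.pT (h45410 C)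
    (C.pNil (v6 C) [1, 2, 0, 2, 1, 2, 2, 0, 2, 1, 3, 0, 3, 1, 2, 0, 2, 2, 2, 2, 1, 3, 0, 2, 2, 1, 2, 2, 0, 2, 1, 3, 0, 3, 1, 3, 0, 2, 2, 4, 2, 0, 4, 2, 1]))
    (C.pH [1] [1, 2, 2, 0, 3, 3, 1, 2, 2, 2, 0, 2, 1, 2, 2, 0, 3, 3, 1, 3, 0, 2, 2, 1, 3, 0, 3, 1, 2, 2, 2, 0, 3, 1, 3, 0, 3, 0, 4, 2, 2, 2, 1] (by decide +kernel)
    (C.pH [0, 0] [1, 2, 2, 0, 3, 3, 1, 2, 2, 2, 0, 2, 1, 2, 2, 0, 3, 3, 1, 3, 0, 2, 2, 1, 3, 0, 3, 1, 2, 2, 2, 0, 3, 1, 3, 0, 3, 0, 4, 2, 2, 2, 0] (by decide +kernel)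
    (C.pT (h45412 C)
    (C.pH [0, 0, 0] [4, 2, 0, 4, 2, 2, 1] (by decide +kernel)
    (C.pNil (v2 C) [4, 2, 0, 4, 2, 2, 1]))))) C.relTwo

theorem h45414 :
    C.T (v7 C) [1, 2, 2, 0, 3, 3, 1, 2, 2, 2, 0, 2, 1, 2, 2, 0, 2, 1, 3, 3, 0, 2, 2, 1, 3, 3, 0, 3, 1, 3, 0, 4, 2, 2, 2, 1] (v6 C) [1, 2, 0, 2, 1, 2, 2, 0, 2, 1, 3, 0, 3, 1, 2, 0, 2, 2, 2, 2, 1, 3, 0, 2, 2, 1, 2, 2, 0, 2, 1, 3, 0, 3, 1, 3, 0, 2, 2, 4, 2, 0, 4, 2, 0] :=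
  C.flip (h45413 C) _ _
    (by decide +kernel) (by decide +kernel)

theorem h45415 :
    C.S (v6 C) [3, 1, 2, 0, 2, 1, 3, 0, 3, 1, 2, 0, 2, 2, 1, 2, 0, 2, 1, 3, 0, 3, 1, 2, 2, 0, 3, 1, 3, 0, 3, 3, 1, 2, 0, 3, 3, 1, 2, 2, 0, 3] :=
  C.stInv (h40062 C) _ (by decide +kernel)

theorem h45416 :
    C.T (v6 C) [4, 2, 2, 2, 4, 3] (v7 C) [2, 1, 3, 3, 0, 2, 1, 2, 0, 2, 2, 1, 2, 2, 0, 2, 1, 3, 3, 0, 3, 3, 3, 3, 1, 3, 0, 3, 4, 2, 2, 2, 0] :=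
  C.conv (h45413 C) (h45415 C) _ _
    (by decide +kernel) (by decide +kernel)

theorem h45420 :
    C.S (v7 C) [1, 2, 0, 2, 2, 2, 1, 3, 0, 3, 1, 3, 3, 0, 3, 3, 1, 2, 0, 3, 1, 2, 2, 0, 2] :=
  C.stInv (h44067 C) _ (by decide +kernel)

theorem h45421 :
    C.T (v7 C) [4, 2, 0, 4, 2, 4, 2] (v6 C) [2, 1, 3, 3, 0, 2, 1, 2, 0, 2, 2, 1, 3, 0, 3, 1, 2, 2, 0, 2, 1, 3, 0, 3, 1, 3, 0, 3, 4, 2, 0, 4, 2, 0] :=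
  C.conv (h45414 C) (h45420 C) _ _
    (by decide +kernel) (by decide +kernel)

theorem h45425 :
    C.T (v2 C) [1, 2, 2, 0, 3, 3, 1, 2, 2, 2, 0, 2, 1, 2, 2, 0, 3, 3, 1, 3, 0, 2, 2, 1, 3, 0, 2, 2, 1, 3, 3, 0, 2, 1, 2, 2, 0, 3, 3, 1, 3, 0, 3, 4, 2, 2, 2, 4, 3, 0, 2] (v6 C) [1, 2, 0, 2, 1, 2, 0, 2, 1, 2, 2, 0, 3, 3, 1, 2, 2, 2, 0, 2, 1, 2, 2, 0, 3, 3, 1, 3, 0, 2, 2, 1, 2, 0, 3, 3, 1, 2, 0, 3, 3, 1, 3, 0, 2, 2, 2, 1, 2, 0, 2, 4, 2, 2, 2, 0, 3, 4, 3] :=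
  C.conv (h40996 C) (h18473 C) _ _
    (by decide +kernel) (by decide +kernel)

theorem h45426 :
    C.T (v6 C) [2, 1, 3, 3, 0, 2, 1, 2, 0, 2, 2, 1, 2, 2, 0, 2, 1, 3, 3, 0, 2, 1, 2, 0, 3, 4, 2, 1, 4, 2, 2, 4] (v7 C) [1, 2, 0, 2, 1, 2, 2, 0, 2, 1, 3, 0, 3, 1, 2, 0, 2, 2, 1, 2, 0, 2, 2, 1, 2, 2, 0, 2, 1, 3, 0, 3, 1, 2, 0, 2, 1, 2, 2, 0, 2, 1, 2, 0, 4, 2, 2, 2, 0] :=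
  C.conv (h45416 C) (h40082 C) _ _
    (by decide +kernel) (by decide +kernel)

theorem h45427 :
    C.T (v2 C) [1, 2, 0, 2, 1, 2, 0, 2, 2, 1, 3, 3, 0, 3, 1, 2, 2, 2, 0, 2, 1, 2, 0, 3, 1, 2, 2, 0, 2, 1, 3, 0, 3, 1, 2, 2, 0, 3, 3, 1, 3, 3, 0, 3, 3, 1, 2, 0, 3, 1, 2, 2, 2, 0, 3, 4, 3, 3, 4, 2, 4, 2, 2, 0] (v7 C) [1, 2, 2, 0, 3, 3, 1, 2, 2, 2, 0, 2, 2, 2, 2, 1, 3, 0, 2, 1, 2, 0, 2, 0, 4, 2, 2, 2, 1] :=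
  C.conv (h43704 C) (h18831 C) _ _
    (by decide +kernel) (by decide +kernel)

theorem h45428 :
    C.T (v7 C) [1, 2, 2, 0, 3, 3, 1, 2, 2, 2, 0, 2, 2, 2, 2, 1, 3, 0, 2, 1, 2, 0, 2, 0, 4, 2, 2, 2, 0] (v2 C) [1, 2, 0, 2, 1, 2, 0, 2, 2, 1, 3, 3, 0, 3, 1, 2, 2, 2, 0, 2, 1, 2, 0, 3, 1, 2, 2, 0, 2, 1, 3, 0, 3, 1, 2, 2, 0, 3, 3, 1, 3, 3, 0, 3, 3, 1, 2, 0, 3, 1, 2, 2, 2, 0, 3, 4, 3, 3, 4, 2, 4, 2, 2, 1] :=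
  C.flip (h45427 C) _ _
    (by decide +kernel) (by decide +kernel)

theorem h45429 :
    C.E (v7 C) [1, 2, 0, 2, 1, 2, 0, 2, 1, 2, 0, 3, 1, 3, 0, 2, 1, 2, 0, 3, 1, 3, 3, 0, 2, 2, 1, 3, 0, 2, 1, 2, 0, 3, 1, 3, 0, 2, 2, 2, 1, 2, 0, 3, 3, 0, 4, 3, 3, 0, 3, 1, 4, 3] (v7 C) [1, 2, 2, 0, 3, 3, 1, 2, 2, 2, 0, 2, 2, 2, 2, 1, 3, 0, 2, 1, 2, 0, 2, 0, 4, 2, 2, 2, 0] :=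
  C.closeE (A := [none, some [4], none, some [4]]) (B := [none, some [4]])
    (C.pT (h45425 C)
    (C.pH [4] [2, 1, 3, 3, 0, 2, 1, 2, 0, 2, 2, 1, 2, 2, 0, 2, 1, 3, 3, 0, 2, 1, 2, 0, 3, 4, 2, 1, 4, 2, 2, 4] (by decide +kernel)
    (C.pT (h45426 C)
    (C.pH [4] [1, 2, 0, 2, 1, 2, 0, 2, 1, 2, 0, 3, 1, 3, 0, 2, 1, 2, 0, 3, 1, 3, 3, 0, 2, 2, 1, 3, 0, 2, 1, 2, 0, 3, 1, 3, 0, 2, 2, 2, 1, 2, 0, 3, 3, 0, 4, 3, 3, 0, 3, 1, 4, 3] (by decide +kernel)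
    (C.pNil (v7 C) [1, 2, 0, 2, 1, 2, 0, 2, 1, 2, 0, 3, 1, 3, 0, 2, 1, 2, 0, 3, 1, 3, 3, 0, 2, 2, 1, 3, 0, 2, 1, 2, 0, 3, 1, 3, 0, 2, 2, 2, 1, 2, 0, 3, 3, 0, 4, 3, 3, 0, 3, 1, 4, 3])))))
    (C.pT (h45428 C)
    (C.pH [4] [1, 2, 2, 0, 3, 3, 1, 2, 2, 2, 0, 2, 1, 2, 2, 0, 3, 3, 1, 3, 0, 2, 2, 1, 3, 0, 2, 2, 1, 3, 3, 0, 2, 1, 2, 2, 0, 3, 3, 1, 3, 0, 3, 4, 2, 2, 2, 4, 3, 0, 2] (by decide +kernel)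
    (C.pNil (v2 C) [1, 2, 2, 0, 3, 3, 1, 2, 2, 2, 0, 2, 1, 2, 2, 0, 3, 3, 1, 3, 0, 2, 2, 1, 3, 0, 2, 2, 1, 3, 3, 0, 2, 1, 2, 2, 0, 3, 3, 1, 3, 0, 3, 4, 2, 2, 2, 4, 3, 0, 2]))) C.relOne

theorem h45430 :
    C.S (v7 C) [1, 2, 0, 2, 2, 2, 1, 3, 0, 2, 1, 3, 0, 2, 1, 2, 0, 2, 1, 3, 0, 2, 1, 2, 0, 3, 1, 3, 0, 2, 1, 2, 0, 4, 2, 4, 2, 4] :=
  C.stEq (h45429 C) _ (by decide +kernel)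

theorem h46992 :
    C.T (v2 C) [1, 2, 0, 2, 1, 2, 0, 2, 2, 1, 3, 3, 0, 2, 1, 2, 0, 3, 1, 2, 2, 0, 2, 1, 2, 2, 2, 2, 0, 4, 3, 4, 2, 2] (v2 C) [1, 2, 2, 0, 3, 3, 1, 2, 2, 2, 0, 2, 1, 2, 2, 0, 2, 1, 2, 2, 0, 2, 1, 2, 2, 0, 2, 2, 1, 3, 3, 0, 3, 1, 2, 0, 4, 3, 0, 4, 3, 1] :=
  C.conv (h16341 C) (h18981 C) _ _
    (by decide +kernel) (by decide +kernel)

theorem h46993 :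
    C.T (v2 C) [2, 1, 3, 0, 2, 2, 1, 3, 0, 2, 1, 3, 3, 0, 3, 1, 2, 0, 0, 4, 3, 4, 3, 3, 4, 3] (v7 C) [1, 2, 2, 0, 3, 3, 1, 2, 2, 2, 0, 2, 2, 1, 2, 0, 3, 1, 2, 2, 0, 2, 2, 1, 3, 0, 2, 2, 2, 0, 4, 2, 2, 2, 1] :=
  C.conv (h43704 C) (h18793 C) _ _
    (by decide +kernel) (by decide +kernel)

theorem h46994 :
    C.T (v2 C) [1, 2, 0, 2, 1, 2, 0, 2, 1, 3, 0, 3, 1, 2, 2, 0, 3, 3, 1, 3, 3, 0, 2, 2, 1, 3, 0, 3, 4, 2, 2, 4, 3, 4, 3, 3, 0, 2] (v7 C) [1, 2, 0, 2, 1, 2, 2, 0, 2, 1, 3, 0, 3, 1, 2, 0, 2, 2, 1, 2, 0, 3, 1, 2, 2, 0, 3, 1, 3, 3, 0, 3, 1, 3, 0, 3, 1, 2, 2, 0, 2, 2, 2, 1, 2, 0, 2, 2, 2, 1, 2, 2, 0, 0, 4, 2, 2, 2, 1] :=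
  C.conv (h43704 C) (h18756 C) _ _
    (by decide +kernel) (by decide +kernel)

theorem h46995 :
    C.T (v7 C) [1, 2, 0, 2, 1, 2, 2, 0, 2, 1, 3, 0, 3, 1, 2, 0, 2, 2, 1, 2, 0, 3, 1, 2, 2, 0, 3, 1, 3, 3, 0, 3, 1, 3, 0, 3, 1, 2, 2, 0, 2, 2, 2, 1, 2, 0, 2, 2, 2, 1, 2, 2, 0, 0, 4, 2, 2, 2, 0] (v2 C) [1, 2, 0, 2, 1, 2, 0, 2, 1, 3, 0, 3, 1, 2, 2, 0, 3, 3, 1, 3, 3, 0, 2, 2, 1, 3, 0, 3, 4, 2, 2, 4, 3, 4, 3, 3, 1, 2] :=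
  C.flip (h46994 C) _ _
    (by decide +kernel) (by decide +kernel)

theorem h46996 :
    C.E (v7 C) [1, 2, 2, 0, 3, 3, 1, 2, 2, 2, 0, 2, 2, 1, 2, 0, 3, 1, 2, 2, 0, 2, 2, 1, 2, 2, 0, 0, 0, 4, 2, 2, 2, 4] (v7 C) [1, 2, 0, 2, 1, 2, 2, 0, 2, 1, 3, 0, 3, 1, 2, 0, 2, 2, 1, 2, 0, 3, 1, 2, 2, 0, 3, 1, 3, 3, 0, 3, 1, 3, 0, 3, 1, 2, 2, 0, 2, 2, 2, 1, 2, 0, 2, 2, 2, 1, 2, 2, 0, 0, 4, 2, 2, 2, 0] :=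
  C.closeE (A := [none, some [4], none, some [4]]) (B := [none, some [4]])
    (C.pT (h46992 C)
    (C.pH [4] [2, 1, 3, 0, 2, 2, 1, 3, 0, 2, 1, 3, 3, 0, 3, 1, 2, 0, 0, 4, 3, 4, 3, 3, 4, 3] (by decide +kernel)
    (C.pT (h46993 C)
    (C.pH [4] [1, 2, 2, 0, 3, 3, 1, 2, 2, 2, 0, 2, 2, 1, 2, 0, 3, 1, 2, 2, 0, 2, 2, 1, 2, 2, 0, 0, 0, 4, 2, 2, 2, 4] (by decide +kernel)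
    (C.pNil (v7 C) [1, 2, 2, 0, 3, 3, 1, 2, 2, 2, 0, 2, 2, 1, 2, 0, 3, 1, 2, 2, 0, 2, 2, 1, 2, 2, 0, 0, 0, 4, 2, 2, 2, 4])))))
    (C.pT (h46995 C)
    (C.pH [4] [1, 2, 0, 2, 1, 2, 0, 2, 2, 1, 3, 3, 0, 2, 1, 2, 0, 3, 1, 2, 2, 0, 2, 1, 2, 2, 2, 2, 0, 4, 3, 4, 2, 2] (by decide +kernel)
    (C.pNil (v2 C) [1, 2, 0, 2, 1, 2, 0, 2, 2, 1, 3, 3, 0, 2, 1, 2, 0, 3, 1, 2, 2, 0, 2, 1, 2, 2, 2, 2, 0, 4, 3, 4, 2, 2]))) C.relOne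

theorem h46997 :
    C.S (v7 C) [1, 2, 0, 2, 1, 2, 0, 2, 2, 1, 3, 3, 0, 3, 1, 2, 2, 2, 0, 2, 1, 2, 0, 3, 1, 2, 2, 0, 2, 1, 3, 0, 3, 1, 2, 0, 2, 2, 2, 2, 1, 2, 0, 3, 4, 3, 3, 0, 3, 1, 2] :=
  C.stEq (h46996 C) _ (by decide +kernel)

theorem h46998 :
    C.S (v7 C) [] :=
  C.stOne _

theorem h47001 :
    C.S (v7 C) [1, 2, 0, 2, 1, 2, 0, 2, 2, 1, 3, 3, 0, 3, 1, 2, 2, 2, 0, 2, 1, 2, 0, 3, 1, 2, 2, 0, 2, 1, 3, 0, 3, 1, 2, 0, 2, 2, 2, 2, 1, 2, 0, 3, 4, 3, 3, 0, 3, 1, 2] :=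
  C.stMul (h46998 C) (h46997 C) _
    (by decide +kernel)

theorem h47009 :
    C.S (v7 C) [1, 2, 0, 3, 1, 3, 0, 2, 1, 2, 0, 3, 1, 3, 0, 2, 1, 3, 0, 3, 1, 2, 2, 0, 2, 1, 2, 2, 0, 3, 3, 1, 3, 3, 0, 2, 1, 2, 0, 2, 2, 4, 2, 2, 1, 3, 4, 2, 2, 2] :=
  C.stMul (h47001 C) (h45430 C) _
    (by decide +kernel)

theorem h47027 :
    C.S (v7 C) [1, 2, 0, 2, 1, 2, 0, 2, 1, 2, 0, 3, 1, 3, 0, 2, 1, 2, 0, 3, 1, 3, 3, 0, 2, 2, 1, 3, 3, 0, 3, 1, 2, 0, 2, 1, 2, 0, 2, 1, 3, 0, 3, 3, 3, 1, 3, 0, 2, 1, 2, 0, 4, 2, 4, 2, 2, 0, 3, 1, 2] :=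
  C.stMul (h47009 C) (h41082 C) _
    (by decide +kernel)

theorem h47166 :
    C.S (v7 C) [1, 2, 0, 2, 1, 2, 0, 2, 2, 1, 3, 3, 0, 3, 1, 2, 2, 2, 0, 2, 1, 2, 0, 3, 1, 2, 2, 0, 2, 1, 3, 0, 3, 1, 2, 0, 2, 2, 2, 2, 1, 2, 0, 3, 4, 3, 3, 0, 3, 1, 2] :=
  C.stMul (h46998 C) (h46997 C) _
    (by decide +kernel)

theorem h47172 :
    C.S (v7 C) [1, 2, 0, 2, 1, 2, 0, 2, 1, 2, 2, 0, 3, 3, 1, 2, 2, 2, 0, 2, 1, 2, 2, 0, 2, 1, 2, 2, 0, 2, 1, 2, 2, 0, 2, 2, 2, 1, 2, 0, 4, 2, 4, 3, 4, 3, 3, 0] :=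
  C.stMul (h47166 C) (h41082 C) _
    (by decide +kernel)

theorem h47188 :
    C.S (v7 C) [1, 3, 0, 3, 1, 2, 2, 0, 2, 1, 3, 0, 4, 2, 0, 4, 2, 2, 4, 3, 4] :=
  C.stMul (h47172 C) (h46997 C) _
    (by decide +kernel)

theorem h47223 :
    C.S (v7 C) [1, 2, 0, 2, 1, 2, 2, 0, 2, 1, 3, 0, 3, 1, 2, 0, 2, 2, 1, 2, 0, 2, 2, 1, 3, 3, 0, 3, 1, 3, 0, 2, 2, 1, 2, 0, 2, 0, 4, 3, 0, 4, 3, 3, 1, 3] :=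
  C.stMul (h47188 C) (h43711 C) _
    (by decide +kernel)

theorem h47259 :
    C.S (v7 C) [3, 1, 2, 2, 2, 0, 3, 1, 2, 2, 0, 3, 3, 3, 3, 1, 3, 0, 2, 1, 2, 0, 4, 2, 2, 4, 2, 4, 3] :=
  C.stMul (h47223 C) (h46997 C) _
    (by decide +kernel)

theorem h47292 :
    C.S (v7 C) [3, 1, 2, 0, 2, 1, 3, 0, 3, 1, 2, 0, 2, 2, 1, 2, 0, 2, 2, 2, 1, 2, 2, 0, 2, 1, 3, 3, 0, 3, 3, 1, 3, 3, 0, 4, 2, 4, 3, 3, 4, 3, 1, 4] :=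
  C.stMul (h47259 C) (h46997 C) _
    (by decide +kernel)

theorem h47332 :
    C.S (v7 C) [1, 2, 0, 2, 1, 2, 0, 2, 2, 1, 3, 3, 0, 3, 1, 2, 2, 2, 0, 2, 1, 2, 0, 3, 1, 2, 2, 0, 2, 1, 3, 0, 3, 1, 2, 0, 2, 2, 2, 2, 1, 2, 0, 3, 4, 3, 3, 0, 3, 1, 2] :=
  C.stMul (h46998 C) (h46997 C) _
    (by decide +kernel)

theorem h47343 :
    C.S (v7 C) [1, 2, 0, 3, 1, 3, 0, 2, 1, 2, 0, 3, 1, 3, 0, 2, 1, 3, 0, 3, 1, 2, 2, 0, 2, 1, 2, 2, 0, 3, 3, 1, 3, 3, 0, 2, 1, 2, 0, 2, 2, 4, 2, 2, 1, 3, 4, 2, 2, 2] :=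
  C.stMul (h47332 C) (h45430 C) _
    (by decide +kernel)

theorem h47371 :
    C.S (v7 C) [1, 2, 2, 0, 3, 3, 1, 2, 2, 2, 0, 2, 1, 2, 2, 0, 3, 3, 1, 3, 0, 2, 2, 1, 3, 0, 2, 1, 2, 0, 3, 1, 3, 0, 2, 2, 2, 1, 2, 0, 3, 0, 4, 3, 4, 2, 4] :=
  C.stMul (h47343 C) (h46997 C) _
    (by decide +kernel)

theorem h47436 :
    C.S (v7 C) [2, 1, 3, 3, 0, 3, 1, 2, 2, 2, 0, 2, 1, 2, 0, 3, 3, 1, 2, 0, 0, 4, 3, 4, 3, 0, 3, 1, 2] :=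
  C.stMul (h47371 C) (h46997 C) _
    (by decide +kernel)

theorem h47519 :
    C.S (v7 C) [2, 1, 3, 3, 0, 3, 1, 2, 2, 2, 0, 2, 1, 2, 0, 3, 1, 2, 0, 2, 2, 1, 3, 3, 0, 3, 1, 2, 2, 0, 2, 1, 3, 3, 0, 2, 1, 2, 2, 0, 3, 3, 1, 2, 0, 3, 3, 1, 3, 0, 2, 1, 2, 0, 3, 3, 4, 3, 4, 3, 3, 1] :=
  C.stMul (h47436 C) (h41082 C) _
    (by decide +kernel)

theorem h47654 :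
    C.S (v7 C) [1, 2, 0, 2, 1, 2, 0, 2, 2, 1, 3, 3, 0, 3, 1, 2, 2, 2, 0, 2, 1, 2, 0, 3, 1, 2, 2, 0, 2, 1, 3, 0, 3, 1, 2, 0, 2, 2, 2, 2, 1, 2, 0, 3, 4, 3, 3, 0, 3, 1, 2] :=
  C.stMul (h46998 C) (h46997 C) _
    (by decide +kernel)

theorem h47666 :
    C.S (v7 C) [1, 2, 0, 2, 2, 2, 1, 3, 0, 2, 1, 2, 0, 2, 2, 2, 1, 2, 2, 0, 2, 2, 1, 2, 0, 2, 2, 1, 2, 0, 0, 4, 2, 2, 0, 2, 0, 2, 0, 4] :=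
  C.stMul (h47654 C) (h46997 C) _
    (by decide +kernel)

theorem h47696 :
    C.S (v7 C) [1, 2, 0, 2, 1, 2, 0, 2, 2, 1, 3, 3, 0, 3, 1, 2, 2, 2, 0, 2, 1, 2, 0, 3, 1, 2, 2, 0, 2, 2, 1, 3, 3, 0, 2, 1, 2, 0, 3, 1, 2, 2, 0, 2, 2, 2, 1, 3, 3, 0, 2, 2, 2, 1, 2, 2, 0, 0, 4, 2, 2, 0, 4, 3, 4] :=
  C.stMul (h47666 C) (h45430 C) _
    (by decide +kernel)

theorem h47765 :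
    C.S (v7 C) [3, 1, 2, 0, 2, 1, 3, 0, 3, 1, 2, 0, 2, 2, 1, 2, 0, 2, 1, 3, 0, 3, 1, 2, 2, 0, 2, 1, 2, 2, 0, 3, 3, 1, 3, 3, 0, 3, 3, 1, 2, 2, 2, 0, 2, 4, 2, 2, 2, 0, 2, 1, 4, 3] :=
  C.stMul (h47696 C) (h46997 C) _
    (by decide +kernel)

theorem h47849 :
    C.S (v7 C) [1, 2, 0, 2, 1, 2, 0, 2, 2, 1, 3, 3, 0, 3, 1, 2, 2, 2, 0, 2, 1, 2, 0, 3, 1, 2, 0, 2, 2, 1, 3, 3, 0, 3, 1, 2, 2, 2, 0, 2, 2, 2, 1, 2, 0, 2, 2, 2, 1, 2, 0, 2, 4, 2, 2, 2, 0, 2, 0, 4] :=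
  C.stMul (h47765 C) (h41082 C) _
    (by decide +kernel)

theorem h47975 :
    C.S (v7 C) [1, 2, 0, 2, 1, 2, 0, 2, 2, 1, 3, 3, 0, 3, 1, 2, 2, 2, 0, 2, 1, 2, 0, 3, 1, 2, 2, 0, 2, 1, 3, 0, 3, 1, 2, 0, 2, 2, 2, 2, 1, 2, 0, 3, 4, 3, 3, 0, 3, 1, 2] :=
  C.stMul (h46998 C) (h46997 C) _
    (by decide +kernel)

theorem h47984 :
    C.S (v7 C) [1, 2, 0, 2, 2, 2, 1, 3, 0, 2, 1, 2, 0, 2, 2, 2, 1, 2, 2, 0, 2, 2, 1, 2, 0, 2, 2, 1, 2, 0, 0, 4, 2, 2, 0, 2, 0, 2, 0, 4] :=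
  C.stMul (h47975 C) (h46997 C) _
    (by decide +kernel)

theorem h48003 :
    C.S (v7 C) [1, 2, 0, 2, 1, 2, 0, 2, 1, 2, 0, 3, 1, 3, 0, 2, 1, 2, 0, 3, 1, 3, 3, 0, 2, 2, 1, 3, 0, 2, 1, 2, 0, 3, 3, 1, 2, 0, 3, 3, 1, 3, 0, 2, 1, 2, 0, 3, 3, 0, 0, 4, 2, 2, 4, 3] :=
  C.stMul (h47984 C) (h41082 C) _
    (by decide +kernel)

theorem h48042 :
    C.S (v7 C) [2, 1, 3, 3, 0, 3, 1, 2, 2, 2, 0, 2, 1, 2, 0, 3, 1, 2, 0, 2, 2, 1, 3, 0, 2, 2, 1, 2, 2, 0, 2, 1, 2, 0, 2, 1, 2, 0, 3, 3, 0, 4, 2, 4, 3, 3, 4, 3] :=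
  C.stMul (h48003 C) (h45430 C) _
    (by decide +kernel)

theorem h48077 :
    C.S (v7 C) [1, 2, 0, 2, 1, 2, 0, 2, 2, 1, 3, 3, 0, 3, 1, 2, 2, 2, 0, 2, 1, 2, 0, 3, 1, 2, 2, 0, 2, 1, 3, 0, 3, 1, 3, 0, 3, 1, 2, 2, 0, 4, 2, 4, 2, 0, 2, 2] :=
  C.stMul (h48042 C) (h46997 C) _
    (by decide +kernel)

theorem h48303 :
    C.S (v7 C) [1, 2, 0, 2, 2, 2, 1, 3, 0, 3, 1, 3, 3, 0, 3, 3, 1, 2, 0, 3, 1, 2, 2, 0, 2] :=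
  C.stMul (h46998 C) (h41082 C) _
    (by decide +kernel)

theorem h48307 :
    C.S (v7 C) [3, 1, 2, 0, 2, 1, 3, 0, 3, 1, 2, 0, 2, 2, 1, 2, 0, 2, 2, 1, 3, 3, 0, 2, 1, 2, 0, 3, 1, 2, 2, 0, 2, 1, 2, 0] :=
  C.stMul (h48303 C) (h42108 C) _
    (by decide +kernel)

theorem h48320 :
    C.S (v7 C) [1, 2, 0, 2, 1, 2, 0, 2, 1, 2, 2, 0, 3, 3, 1, 2, 2, 2, 0, 2, 2, 1, 2, 0, 2, 1, 2, 0, 3, 1, 3, 3, 0, 3, 1, 3, 0, 2, 1, 2, 0, 3, 1, 3, 0, 2, 1, 2, 0, 4, 2, 4, 2, 4] :=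
  C.stMul (h48307 C) (h45430 C) _
    (by decide +kernel)

theorem h48439 :
    C.S (v7 C) [3, 1, 2, 0, 2, 1, 3, 0, 3, 1, 2, 0, 2, 2, 2, 2, 1, 3, 3, 0, 3, 1, 2, 2, 0, 3, 1, 3, 0, 2, 2, 1, 3, 0, 3, 1, 3, 0, 0, 0, 4, 2, 4] :=
  C.stInv (h47849 C) _ (by decide +kernel)

theorem h48440 :
    C.T (v7 C) [1, 4] (v6 C) [1, 2, 0, 2, 1, 2, 0, 2, 2, 1, 3, 3, 0, 2, 1, 2, 0, 2, 1, 3, 3, 3, 0, 3, 3, 3, 1, 3, 0, 2, 1, 2, 0, 3, 3, 4, 2, 0, 4, 2, 0] :=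
  C.conv (h45421 C) (h48439 C) _ _
    (by decide +kernel) (by decide +kernel)

theorem h48444 :
    C.S (v7 C) [1, 2, 0, 2, 1, 2, 2, 0, 2, 1, 3, 0, 3, 1, 2, 0, 2, 2, 1, 2, 0, 2, 2, 1, 3, 3, 0, 3, 1, 3, 0, 2, 2, 1, 2, 0, 2, 0, 4, 3, 0, 4, 3, 3, 1, 3] :=
  C.stInv (h47519 C) _ (by decide +kernel)

theorem h48445 :
    C.T (v7 C) [4] (v2 C) [1, 2, 0, 2, 2, 2, 1, 3, 0, 3, 3, 1, 3, 3, 0, 3, 3, 1, 2, 2, 0, 2, 2, 2, 1, 2, 4, 2, 2, 2, 4, 3] :=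
  C.conv (h43710 C) (h48444 C) _ _
    (by decide +kernel) (by decide +kernel)

theorem h48449 :
    C.T (v2 C) [1, 2, 0, 2, 1, 2, 0, 2, 2, 1, 3, 3, 0, 3, 1, 2, 2, 2, 0, 2, 1, 2, 0, 3, 1, 2, 2, 0, 2, 1, 3, 0, 3, 1, 2, 2, 0, 2, 1, 2, 2, 0, 2, 1, 3, 3, 0, 3, 3, 3, 3, 1, 3, 0, 2, 4, 2, 2, 2, 1, 2, 4, 2] (v7 C) [1, 2, 0, 2, 1, 2, 0, 2, 2, 1, 3, 3, 0, 3, 1, 2, 2, 2, 0, 2, 1, 2, 0, 3, 1, 2, 0, 2, 2, 1, 3, 0, 2, 2, 1, 3, 0, 3, 1, 2, 2, 0, 2, 1, 3, 0, 2, 1, 2, 2, 2, 0, 2, 0, 4, 2, 2, 2, 1] :=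
  C.conv (h43704 C) (h18966 C) _ _
    (by decide +kernel) (by decide +kernel)

theorem h48450 :
    C.T (v2 C) [2, 1, 3, 3, 0, 3, 1, 2, 2, 2, 0, 2, 1, 2, 0, 3, 1, 2, 0, 2, 2, 1, 3, 3, 0, 3, 1, 2, 2, 0, 3, 3, 1, 2, 2, 2, 0, 3, 1, 2, 2, 0, 2, 1, 3, 0, 0, 4, 2, 2, 2, 1, 4, 3, 4, 3] (v6 C) [1, 2, 2, 0, 3, 3, 1, 2, 2, 2, 0, 2, 1, 2, 2, 0, 3, 3, 3, 1, 2, 2, 0, 3, 1, 3, 3, 0, 3, 1, 3, 0, 2, 1, 3, 3, 3, 0, 3, 1, 3, 3, 0, 3, 1, 3, 0, 4, 2, 2, 2, 0, 3, 4, 3] :=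
  C.conv (h40996 C) (h18616 C) _ _
    (by decide +kernel) (by decide +kernel)

theorem h48451 :
    C.T (v6 C) [1, 2, 2, 0, 3, 3, 1, 2, 2, 2, 0, 2, 1, 2, 2, 0, 3, 3, 3, 1, 2, 2, 0, 3, 1, 3, 3, 0, 3, 1, 3, 0, 2, 1, 3, 3, 3, 0, 3, 1, 3, 3, 0, 3, 1, 3, 0, 4, 2, 2, 2, 1, 3, 4, 3] (v2 C) [2, 1, 3, 3, 0, 3, 1, 2, 2, 2, 0, 2, 1, 2, 0, 3, 1, 2, 0, 2, 2, 1, 3, 3, 0, 3, 1, 2, 2, 0, 3, 3, 1, 2, 2, 2, 0, 3, 1, 2, 2, 0, 2, 1, 3, 0, 0, 4, 2, 2, 2, 0, 4, 3, 4, 3] :=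
  C.flip (h48450 C) _ _
    (by decide +kernel) (by decide +kernel)

theorem h48452 :
    C.T (v7 C) [1, 2, 2, 0, 3, 3, 1, 2, 2, 2, 0, 2, 1, 2, 2, 0, 3, 3, 3, 1, 2, 2, 0, 3, 1, 3, 3, 0, 3, 1, 3, 0, 2, 1, 2, 0, 2, 2, 1, 3, 0, 2, 2, 2, 1, 2, 0, 4, 2, 4, 2, 2, 0, 3, 1, 2] (v6 C) [1, 2, 0, 2, 1, 2, 0, 2, 1, 2, 0, 3, 1, 3, 0, 2, 1, 2, 0, 3, 1, 3, 3, 0, 2, 2, 1, 3, 3, 0, 3, 1, 2, 2, 2, 0, 2, 2, 2, 1, 2, 2, 0, 2, 2, 1, 3, 0, 2, 2, 0, 4, 2, 2, 0, 2, 0, 3] :=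
  C.closeT (A := [none, some [4]]) (B := [some [4], none, some [4]])
    (C.pT (h48449 C)
    (C.pH [4] [1, 2, 2, 0, 3, 3, 1, 2, 2, 2, 0, 2, 1, 2, 2, 0, 3, 3, 3, 1, 2, 2, 0, 3, 1, 3, 3, 0, 3, 1, 3, 0, 2, 1, 2, 0, 2, 2, 1, 3, 0, 2, 2, 2, 1, 2, 0, 4, 2, 4, 2, 2, 0, 3, 1, 2] (by decide +kernel)
    (C.pNil (v7 C) [1, 2, 2, 0, 3, 3, 1, 2, 2, 2, 0, 2, 1, 2, 2, 0, 3, 3, 3, 1, 2, 2, 0, 3, 1, 3, 3, 0, 3, 1, 3, 0, 2, 1, 2, 0, 2, 2, 1, 3, 0, 2, 2, 2, 1, 2, 0, 4, 2, 4, 2, 2, 0, 3, 1, 2])))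
    (C.pH [4] [1, 2, 2, 0, 3, 3, 1, 2, 2, 2, 0, 2, 1, 2, 2, 0, 3, 3, 3, 1, 2, 2, 0, 3, 1, 3, 3, 0, 3, 1, 3, 0, 2, 1, 3, 3, 3, 0, 3, 1, 3, 3, 0, 3, 1, 3, 0, 4, 2, 2, 2, 1, 3, 4, 3] (by decide +kernel)
    (C.pT (h48451 C)
    (C.pH [4] [1, 2, 0, 2, 1, 2, 0, 2, 2, 1, 3, 3, 0, 3, 1, 2, 2, 2, 0, 2, 1, 2, 0, 3, 1, 2, 2, 0, 2, 1, 3, 0, 3, 1, 2, 2, 0, 2, 1, 2, 2, 0, 2, 1, 3, 3, 0, 3, 3, 3, 3, 1, 3, 0, 2, 4, 2, 2, 2, 1, 2, 4, 2] (by decide +kernel)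
    (C.pNil (v2 C) [1, 2, 0, 2, 1, 2, 0, 2, 2, 1, 3, 3, 0, 3, 1, 2, 2, 2, 0, 2, 1, 2, 0, 3, 1, 2, 2, 0, 2, 1, 3, 0, 3, 1, 2, 2, 0, 2, 1, 2, 2, 0, 2, 1, 3, 3, 0, 3, 3, 3, 3, 1, 3, 0, 2, 4, 2, 2, 2, 1, 2, 4, 2])))) C.relOne

theorem h48453 :
    C.T (v6 C) [1, 2, 0, 2, 1, 2, 0, 2, 1, 2, 0, 3, 1, 3, 0, 2, 1, 2, 0, 3, 1, 3, 3, 0, 2, 2, 1, 3, 3, 0, 3, 1, 2, 2, 2, 0, 2, 2, 2, 1, 2, 2, 0, 2, 2, 1, 3, 0, 2, 2, 0, 4, 2, 2, 0, 2, 1, 3] (v7 C) [1, 2, 2, 0, 3, 3, 1, 2, 2, 2, 0, 2, 1, 2, 2, 0, 3, 3, 3, 1, 2, 2, 0, 3, 1, 3, 3, 0, 3, 1, 3, 0, 2, 1, 2, 0, 2, 2, 1, 3, 0, 2, 2, 2, 1, 2, 0, 4, 2, 4, 2, 2, 0, 3, 0, 2] :=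
  C.flip (h48452 C) _ _
    (by decide +kernel) (by decide +kernel)

theorem h48454 :
    C.S (v7 C) [2, 1, 2, 0, 3, 3, 1, 2, 0, 2, 2, 2, 1, 3, 0, 3, 3, 1, 3, 0, 0, 4, 2, 1, 4, 2, 2] :=
  C.stInv (h47027 C) _ (by decide +kernel)

theorem h48455 :
    C.T (v7 C) [] (v6 C) [1, 2, 2, 0, 3, 3, 1, 2, 2, 2, 0, 2, 1, 2, 2, 0, 3, 3, 3, 1, 2, 2, 0, 3, 1, 3, 3, 0, 3, 1, 3, 0, 3, 3, 1, 3, 3, 0, 3, 3, 1, 2, 2, 0, 2, 2, 2, 2, 2, 1, 2, 0, 3, 0, 4, 2, 2, 0, 2, 0, 3] :=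
  C.conv (h48452 C) (h48454 C) _ _
    (by decide +kernel) (by decide +kernel)

theorem h48462 :
    C.S (v6 C) [1, 2, 0, 2, 1, 2, 0, 2, 1, 2, 0, 3, 1, 3, 0, 2, 1, 2, 0, 3, 1, 3, 0, 2, 1, 3, 0, 3, 1, 2, 2, 0, 3, 1, 3, 0, 3, 3, 1, 3, 0] :=
  C.stInv (h39954 C) _ (by decide +kernel)

theorem h48463 :
    C.T (v6 C) [4, 2, 0, 4, 2, 4] (v7 C) [2, 1, 3, 3, 0, 3, 1, 2, 2, 2, 0, 2, 1, 2, 0, 3, 1, 2, 2, 0, 2, 1, 3, 0, 3, 1, 2, 2, 0, 3, 3, 1, 2, 2, 0, 2, 2, 1, 2, 0, 2, 4, 2, 4, 2, 2, 0, 3, 0, 2] :=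
  C.conv (h48453 C) (h48462 C) _ _
    (by decide +kernel) (by decide +kernel)

theorem h48470 :
    C.T (v2 C) [1, 2, 0, 2, 1, 2, 0, 2, 2, 1, 3, 3, 0, 2, 1, 2, 0, 2, 1, 2, 2, 0, 2, 1, 3, 0, 3, 1, 2, 0, 2, 2, 2, 1, 2, 0, 3, 1, 3, 0, 2, 1, 4, 3, 4, 3, 3] (v7 C) [2, 1, 3, 3, 0, 3, 1, 2, 2, 2, 0, 2, 1, 2, 0, 3, 1, 2, 2, 0, 3, 1, 2, 2, 0, 3, 1, 3, 3, 0, 3, 1, 3, 0, 3, 1, 3, 3, 0, 3, 3, 1, 2, 0, 3, 1, 2, 2, 0, 2, 2, 0, 4, 2, 2, 2, 1] :=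
  C.conv (h43704 C) (h18868 C) _ _
    (by decide +kernel) (by decide +kernel)

theorem h48471 :
    C.T (v2 C) [2, 1, 3, 3, 0, 3, 1, 2, 2, 2, 0, 2, 1, 2, 0, 3, 1, 2, 2, 0, 2, 2, 1, 3, 3, 0, 2, 1, 2, 0, 3, 1, 3, 3, 0, 2, 2, 1, 3, 0, 3, 3, 1, 3, 0, 4, 2, 2, 4, 3, 4, 3] (v7 C) [1, 2, 0, 2, 1, 3, 0, 3, 1, 2, 2, 0, 2, 2, 0, 4, 2, 2, 2, 1] :=
  C.conv (h43704 C) (h18948 C) _ _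
    (by decide +kernel) (by decide +kernel)

theorem h48472 :
    C.T (v7 C) [1, 2, 0, 2, 1, 3, 0, 3, 1, 2, 2, 0, 2, 2, 0, 4, 2, 2, 2, 0] (v2 C) [1, 2, 2, 0, 3, 3, 1, 2, 2, 2, 0, 2, 2, 1, 2, 0, 2, 1, 3, 0, 2, 1, 2, 0, 2, 1, 3, 0, 3, 1, 3, 3, 0, 3, 1, 2, 0, 4, 2, 2, 1, 3, 4, 3, 4] :=
  C.flip (h48471 C) _ _
    (by decide +kernel) (by decide +kernel)

theorem h48473 :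
    C.T (v7 C) [1, 2, 0, 3, 1, 3, 0, 2, 1, 2, 0, 3, 1, 3, 0, 2, 1, 3, 0, 2, 2, 2, 1, 2, 0, 2, 2, 2, 1, 3, 0, 2, 0, 4, 2, 4, 2, 0, 2, 2] (v7 C) [1, 2, 0, 3, 1, 3, 0, 2, 1, 2, 0, 3, 1, 3, 0, 3, 1, 2, 2, 0, 3, 1, 3, 3, 0, 3, 1, 3, 0, 2, 2, 1, 3, 3, 0, 2, 1, 2, 2, 0, 3, 3, 1, 2, 0, 2, 2, 2, 1, 3, 0, 2, 0, 4, 2, 4, 2, 1, 2, 2] :=
  C.closeT (A := [none, some [4]]) (B := [some [4], none, some [4]])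
    (C.pT (h48470 C)
    (C.pH [4] [1, 2, 0, 3, 1, 3, 0, 2, 1, 2, 0, 3, 1, 3, 0, 2, 1, 3, 0, 2, 2, 2, 1, 2, 0, 2, 2, 2, 1, 3, 0, 2, 0, 4, 2, 4, 2, 0, 2, 2] (by decide +kernel)
    (C.pNil (v7 C) [1, 2, 0, 3, 1, 3, 0, 2, 1, 2, 0, 3, 1, 3, 0, 2, 1, 3, 0, 2, 2, 2, 1, 2, 0, 2, 2, 2, 1, 3, 0, 2, 0, 4, 2, 4, 2, 0, 2, 2])))
    (C.pH [4] [1, 2, 0, 2, 1, 3, 0, 3, 1, 2, 2, 0, 2, 2, 0, 4, 2, 2, 2, 0] (by decide +kernel)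
    (C.pT (h48472 C)
    (C.pH [4] [1, 2, 0, 2, 1, 2, 0, 2, 2, 1, 3, 3, 0, 2, 1, 2, 0, 2, 1, 2, 2, 0, 2, 1, 3, 0, 3, 1, 2, 0, 2, 2, 2, 1, 2, 0, 3, 1, 3, 0, 2, 1, 4, 3, 4, 3, 3] (by decide +kernel)
    (C.pNil (v2 C) [1, 2, 0, 2, 1, 2, 0, 2, 2, 1, 3, 3, 0, 2, 1, 2, 0, 2, 1, 2, 2, 0, 2, 1, 3, 0, 3, 1, 2, 0, 2, 2, 2, 1, 2, 0, 3, 1, 3, 0, 2, 1, 4, 3, 4, 3, 3])))) C.relOne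

theorem h48475 :
    C.S (v7 C) [2, 1, 3, 3, 0, 3, 1, 2, 2, 2, 0, 2, 1, 2, 0, 3, 1, 2, 2, 0, 2, 2, 1, 3, 3, 0, 2, 1, 2, 0, 3, 1, 2, 0, 2, 1, 2, 0, 3, 1, 3, 0, 2, 1, 2, 0, 4, 3, 4, 3, 4, 3, 4, 2, 2, 0] :=
  C.stInv (h48077 C) _ (by decide +kernel)

theorem h48476 :
    C.T (v7 C) [0] (v7 C) [1, 2, 0, 2, 1, 2, 0, 2, 1, 2, 0, 3, 1, 3, 0, 2, 1, 2, 0, 3, 1, 3, 3, 3, 0, 3, 1, 2, 2, 2, 0, 0, 4, 2, 4, 2, 1, 2, 2] :=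
  C.conv (h48473 C) (h48475 C) _ _
    (by decide +kernel) (by decide +kernel)

theorem h48486 :
    C.T (v2 C) [1, 2, 0, 2, 1, 2, 0, 2, 1, 2, 0, 3, 1, 3, 0, 2, 1, 2, 0, 3, 1, 3, 0, 2, 2, 1, 3, 0, 2, 1, 2, 0, 2, 1, 3, 0, 3, 1, 2, 2, 0, 2, 2, 0, 4, 3, 4, 2, 2] (v7 C) [1, 2, 0, 2, 1, 2, 0, 2, 2, 2, 1, 3, 3, 0, 2, 2, 1, 2, 2, 0, 2, 1, 2, 0, 0, 4, 2, 2, 2, 1] :=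
  C.conv (h43704 C) (h18922 C) _ _
    (by decide +kernel) (by decide +kernel)

theorem h48487 :
    C.T (v2 C) [1, 2, 0, 2, 2, 2, 1, 3, 3, 0, 3, 1, 2, 2, 2, 0, 2, 2, 2, 1, 2, 2, 0, 3, 1, 2, 2, 0, 2, 1, 3, 0, 0, 4, 2, 2, 4, 2, 0, 4, 3] (v6 C) [3, 1, 2, 0, 2, 1, 3, 0, 3, 1, 2, 0, 2, 2, 1, 2, 0, 3, 1, 2, 2, 0, 3, 1, 3, 3, 0, 3, 1, 3, 3, 0, 3, 3, 1, 2, 0, 3, 3, 1, 2, 0, 4, 2, 0, 4, 2, 1] :=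
  C.conv (h40921 C) (h19240 C) _ _
    (by decide +kernel) (by decide +kernel)

theorem h48488 :
    C.T (v6 C) [3, 1, 2, 0, 2, 1, 3, 0, 3, 1, 2, 0, 2, 2, 1, 2, 0, 3, 1, 2, 2, 0, 3, 1, 3, 3, 0, 3, 1, 3, 3, 0, 3, 3, 1, 2, 0, 3, 3, 1, 2, 0, 4, 2, 0, 4, 2, 0] (v2 C) [1, 2, 0, 2, 2, 2, 1, 3, 3, 0, 3, 1, 2, 2, 2, 0, 2, 2, 2, 1, 2, 2, 0, 3, 1, 2, 2, 0, 2, 1, 3, 0, 0, 4, 2, 2, 4, 2, 1, 4, 3] :=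
  C.flip (h48487 C) _ _
    (by decide +kernel) (by decide +kernel)

theorem h48489 :
    C.T (v7 C) [3, 1, 2, 0, 2, 1, 3, 0, 3, 1, 2, 0, 2, 2, 1, 2, 0, 3, 1, 2, 2, 0, 3, 1, 3, 3, 0, 3, 1, 3, 0, 2, 2, 1, 2, 2, 0, 3, 3, 1, 3, 3, 0, 3, 3, 1, 2, 0, 0, 4, 2, 4, 3, 3, 4, 3, 0, 4] (v6 C) [3, 1, 2, 0, 2, 1, 3, 0, 3, 1, 2, 0, 2, 2, 1, 2, 0, 3, 1, 2, 2, 0, 3, 1, 3, 3, 0, 3, 1, 3, 3, 0, 3, 3, 1, 2, 0, 3, 3, 1, 2, 2, 0, 3, 0, 4, 2, 2, 0] :=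
  C.closeT (A := [none, some [4]]) (B := [some [4], none, some [4]])
    (C.pT (h48486 C)
    (C.pH [4] [3, 1, 2, 0, 2, 1, 3, 0, 3, 1, 2, 0, 2, 2, 1, 2, 0, 3, 1, 2, 2, 0, 3, 1, 3, 3, 0, 3, 1, 3, 0, 2, 2, 1, 2, 2, 0, 3, 3, 1, 3, 3, 0, 3, 3, 1, 2, 0, 0, 4, 2, 4, 3, 3, 4, 3, 0, 4] (by decide +kernel)
    (C.pNil (v7 C) [3, 1, 2, 0, 2, 1, 3, 0, 3, 1, 2, 0, 2, 2, 1, 2, 0, 3, 1, 2, 2, 0, 3, 1, 3, 3, 0, 3, 1, 3, 0, 2, 2, 1, 2, 2, 0, 3, 3, 1, 3, 3, 0, 3, 3, 1, 2, 0, 0, 4, 2, 4, 3, 3, 4, 3, 0, 4])))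
    (C.pH [4] [3, 1, 2, 0, 2, 1, 3, 0, 3, 1, 2, 0, 2, 2, 1, 2, 0, 3, 1, 2, 2, 0, 3, 1, 3, 3, 0, 3, 1, 3, 3, 0, 3, 3, 1, 2, 0, 3, 3, 1, 2, 0, 4, 2, 0, 4, 2, 0] (by decide +kernel)
    (C.pT (h48488 C)
    (C.pH [4] [1, 2, 0, 2, 1, 2, 0, 2, 1, 2, 0, 3, 1, 3, 0, 2, 1, 2, 0, 3, 1, 3, 0, 2, 2, 1, 3, 0, 2, 1, 2, 0, 2, 1, 3, 0, 3, 1, 2, 2, 0, 2, 2, 0, 4, 3, 4, 2, 2] (by decide +kernel)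
    (C.pNil (v2 C) [1, 2, 0, 2, 1, 2, 0, 2, 1, 2, 0, 3, 1, 3, 0, 2, 1, 2, 0, 3, 1, 3, 0, 2, 2, 1, 3, 0, 2, 1, 2, 0, 2, 1, 3, 0, 3, 1, 2, 2, 0, 2, 2, 0, 4, 3, 4, 2, 2])))) C.relOne

theorem h48490 :
    C.T (v6 C) [3, 1, 2, 0, 2, 1, 3, 0, 3, 1, 2, 0, 2, 2, 1, 2, 0, 3, 1, 2, 2, 0, 3, 1, 3, 3, 0, 3, 1, 3, 3, 0, 3, 3, 1, 2, 0, 3, 3, 1, 2, 2, 0, 3, 0, 4, 2, 2, 1] (v7 C) [3, 1, 2, 0, 2, 1, 3, 0, 3, 1, 2, 0, 2, 2, 1, 2, 0, 3, 1, 2, 2, 0, 3, 1, 3, 3, 0, 3, 1, 3, 0, 2, 2, 1, 2, 2, 0, 3, 3, 1, 3, 3, 0, 3, 3, 1, 2, 0, 0, 4, 2, 4, 3, 3, 4, 3, 1, 4] :=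
  C.flip (h48489 C) _ _
    (by decide +kernel) (by decide +kernel)

theorem h48491 :
    C.S (v7 C) [1, 2, 0, 2, 1, 2, 0, 2, 1, 2, 0, 3, 1, 3, 0, 2, 1, 2, 0, 3, 1, 3, 0, 2, 2, 1, 3, 3, 0, 2, 1, 2, 0, 2, 1, 2, 0, 2, 2, 1, 3, 0, 3, 3, 0, 4, 2, 2, 2, 0, 3, 0, 4] :=
  C.stInv (h47292 C) _ (by decide +kernel)

theorem h48492 :
    C.T (v7 C) [1] (v6 C) [1, 2, 0, 2, 1, 2, 0, 2, 2, 1, 3, 3, 0, 3, 1, 2, 2, 2, 0, 2, 1, 2, 0, 3, 1, 2, 2, 0, 2, 1, 3, 0, 3, 1, 2, 2, 0, 3, 1, 3, 0, 2, 2, 2, 1, 2, 0, 3, 3, 1, 3, 0, 2, 1, 2, 0, 3, 3, 0, 4, 2, 2, 0] :=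
  C.conv (h48489 C) (h48491 C) _ _
    (by decide +kernel) (by decide +kernel)

theorem h48499 :
    C.S (v6 C) [1, 2, 0, 3, 1, 3, 0, 2, 1, 2, 0, 3, 1, 3, 0, 2, 1, 3, 0, 2, 2, 2, 1, 2, 0, 4, 2, 4, 3, 4] :=
  C.stInv (h39541 C) _ (by decide +kernel)

theorem h48500 :
    C.T (v6 C) [0, 4, 2, 1, 2, 4, 2] (v7 C) [2, 1, 3, 3, 0, 3, 1, 2, 2, 2, 0, 2, 1, 2, 0, 3, 1, 2, 2, 0, 3, 1, 2, 2, 0, 3, 1, 3, 3, 0, 3, 1, 3, 0, 3, 1, 2, 2, 0, 2, 2, 2, 1, 2, 0, 3, 1, 3, 0, 2, 1, 2, 0, 3, 0, 4, 2, 4, 3, 3, 4, 3, 1, 4] :=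
  C.conv (h48490 C) (h48499 C) _ _
    (by decide +kernel) (by decide +kernel)

theorem h48507 :
    C.T (v6 C) [1, 2, 0, 2, 1, 2, 0, 2, 2, 1, 3, 3, 0, 3, 1, 2, 2, 2, 0, 2, 1, 2, 0, 3, 1, 2, 0, 2, 2, 1, 3, 3, 0, 3, 1, 2, 2, 0, 3, 3, 1, 3, 3, 0, 3, 3, 1, 2, 0, 3, 1, 2, 2, 0, 2, 4, 2, 2, 4, 2, 0, 2, 0] (v7 C) [1, 2, 0, 2, 1, 2, 0, 2, 1, 3, 0, 3, 1, 2, 2, 0, 2, 1, 3, 0, 3, 1, 2, 0, 3, 3, 1, 3, 0, 2, 2, 2, 1, 2, 0, 2, 4, 2, 2, 2, 0] :=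
  C.conv (h45416 C) (h40103 C) _ _
    (by decide +kernel) (by decide +kernel)

theorem h48508 :
    C.T (v6 C) [2, 1, 3, 3, 0, 3, 1, 2, 2, 2, 0, 2, 1, 2, 0, 3, 1, 2, 2, 0, 2, 2, 1, 3, 3, 0, 2, 1, 2, 0, 2, 1, 2, 2, 0, 2, 1, 2, 2, 2, 0, 2, 4, 2, 0, 4, 2, 2, 4, 3, 0] (v7 C) [3, 1, 2, 0, 2, 1, 3, 0, 3, 1, 2, 0, 2, 2, 1, 2, 0, 3, 1, 2, 2, 0, 3, 1, 3, 3, 0, 3, 1, 3, 0, 3, 1, 2, 2, 0, 2, 2, 1, 3, 0, 2, 2, 2, 1, 2, 0, 2, 2, 1, 2, 0, 2, 4, 2, 2, 2, 0] :=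
  C.conv (h45416 C) (h40073 C) _ _
    (by decide +kernel) (by decide +kernel)

theorem h48509 :
    C.T (v7 C) [3, 1, 2, 0, 2, 1, 3, 0, 3, 1, 2, 0, 2, 2, 1, 2, 0, 3, 1, 2, 2, 0, 3, 1, 3, 3, 0, 3, 1, 3, 0, 3, 1, 2, 2, 0, 2, 2, 1, 3, 0, 2, 2, 2, 1, 2, 0, 2, 2, 1, 2, 0, 2, 4, 2, 2, 2, 1] (v6 C) [2, 1, 3, 3, 0, 3, 1, 2, 2, 2, 0, 2, 1, 2, 0, 3, 1, 2, 2, 0, 2, 2, 1, 3, 3, 0, 2, 1, 2, 0, 2, 1, 2, 2, 0, 2, 1, 2, 2, 2, 0, 2, 4, 2, 0, 4, 2, 2, 4, 3, 1] :=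
  C.flip (h48508 C) _ _
    (by decide +kernel) (by decide +kernel)

theorem h48510 :
    C.T (v7 C) [3, 1, 2, 0, 2, 1, 3, 0, 3, 1, 2, 0, 2, 2, 2, 2, 1, 3, 0, 2, 2, 1, 3, 0, 3, 1, 2, 2, 0, 2, 1, 3, 0, 2, 2, 2, 1, 2, 0, 3, 1, 3, 0, 2, 2, 0, 4, 2, 2, 2, 0, 2, 4, 2, 2] (v7 C) [1, 2, 0, 3, 1, 3, 0, 2, 1, 2, 0, 3, 1, 3, 0, 2, 1, 3, 0, 3, 1, 2, 2, 0, 3, 3, 1, 2, 0, 2, 2, 1, 2, 0, 2, 2, 1, 2, 0, 0, 4, 2, 4, 2, 0, 2, 2, 1] :=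
  C.closeT (A := [none, some [4]]) (B := [some [4], none, some [4]])
    (C.pT (h48507 C)
    (C.pH [4] [3, 1, 2, 0, 2, 1, 3, 0, 3, 1, 2, 0, 2, 2, 2, 2, 1, 3, 0, 2, 2, 1, 3, 0, 3, 1, 2, 2, 0, 2, 1, 3, 0, 2, 2, 2, 1, 2, 0, 3, 1, 3, 0, 2, 2, 0, 4, 2, 2, 2, 0, 2, 4, 2, 2] (by decide +kernel)
    (C.pNil (v7 C) [3, 1, 2, 0, 2, 1, 3, 0, 3, 1, 2, 0, 2, 2, 2, 2, 1, 3, 0, 2, 2, 1, 3, 0, 3, 1, 2, 2, 0, 2, 1, 3, 0, 2, 2, 2, 1, 2, 0, 3, 1, 3, 0, 2, 2, 0, 4, 2, 2, 2, 0, 2, 4, 2, 2])))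
    (C.pH [4] [3, 1, 2, 0, 2, 1, 3, 0, 3, 1, 2, 0, 2, 2, 1, 2, 0, 3, 1, 2, 2, 0, 3, 1, 3, 3, 0, 3, 1, 3, 0, 3, 1, 2, 2, 0, 2, 2, 1, 3, 0, 2, 2, 2, 1, 2, 0, 2, 2, 1, 2, 0, 2, 4, 2, 2, 2, 1] (by decide +kernel)
    (C.pT (h48509 C)
    (C.pH [4] [1, 2, 0, 2, 1, 2, 0, 2, 2, 1, 3, 3, 0, 3, 1, 2, 2, 2, 0, 2, 1, 2, 0, 3, 1, 2, 0, 2, 2, 1, 3, 3, 0, 3, 1, 2, 2, 0, 3, 3, 1, 3, 3, 0, 3, 3, 1, 2, 0, 3, 1, 2, 2, 0, 2, 4, 2, 2, 4, 2, 0, 2, 0] (by decide +kernel)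
    (C.pNil (v6 C) [1, 2, 0, 2, 1, 2, 0, 2, 2, 1, 3, 3, 0, 3, 1, 2, 2, 2, 0, 2, 1, 2, 0, 3, 1, 2, 0, 2, 2, 1, 3, 3, 0, 3, 1, 2, 2, 0, 3, 3, 1, 3, 3, 0, 3, 3, 1, 2, 0, 3, 1, 2, 2, 0, 2, 4, 2, 2, 4, 2, 0, 2, 0])))) C.relOne

theorem h48512 :
    C.S (v7 C) [1, 2, 0, 2, 1, 2, 0, 2, 1, 2, 2, 0, 3, 3, 1, 2, 2, 2, 0, 2, 2, 1, 2, 0, 2, 1, 2, 0, 3, 1, 3, 3, 0, 3, 1, 3, 0, 2, 1, 2, 0, 3, 1, 3, 0, 2, 1, 2, 0, 4, 2, 4, 2, 4] :=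
  C.stInv (h48320 C) _ (by decide +kernel)

theorem h48513 :
    C.T (v7 C) [0, 4, 2, 4, 2, 1, 3, 4] (v7 C) [1, 2, 0, 2, 1, 2, 0, 2, 1, 2, 0, 3, 1, 3, 0, 2, 1, 2, 0, 3, 1, 3, 3, 0, 2, 2, 1, 3, 0, 3, 1, 3, 3, 0, 3, 3, 1, 3, 0, 2, 1, 2, 0, 2, 2, 2, 1, 2, 0, 0, 4, 2, 4, 2, 0, 2, 2, 1] :=
  C.conv (h48510 C) (h48512 C) _ _
    (by decide +kernel) (by decide +kernel)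

theorem h48521 :
    C.T (v6 C) [4, 3, 1] (v8 C) [] :=
  C.defn _ _

end CfsgLib.HNIndex
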