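import Cfsg.Agent.Lib.HNIndex.Grow

/-!
# The model of the group generated by x, y, z

Pairs of a group element and two permutations give a group of order 177408000 acting on the 1408
points with a trivial stabiliser of six points, so an equation of words can be read off these points.
-/

set_option autoImplicit false
set_option maxRecDepth 100000

namespace CfsgLib.HNIndex

open CfsgLib.HNxyz CfsgLib.Golay

variable {G : Type} [Group G] {a b c : G}

/-- The generating triples. -/
def trio (a b c : G) : Set (G × Equiv.Perm (Fin 100) × Equiv.Perm (Fin 1408)) :=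
  {(a, px, qx), (b, py, qy), (c, pz, qz)}

/-- The group of triples. -/
abbrev Mg (a b c : G) : Type := ↥(Subgroup.closure (trio a b c))

/-- The first triple. -/
noncomputable def mA (a b c : G) : Mg a b c := ⟨(a, px, qx), Subgroup.subset_closure (Or.inl rfl)⟩

/-- The second triple. -/
noncomputable def mB (a b c : G) : Mg a b c := ⟨(b, py, qy), Subgroup.subset_closure (Or.inr (Or.inl rfl))⟩

/-- The third triple. -/
noncomputable def mC (a b c : G) : Mg a b c := ⟨(c, pz, qz), Subgroup.subset_closure (Or.inr (Or.inr rfl))⟩

/-- The element of a word in the group of triples. -/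
noncomputable def mW (a b c : G) (w : List ℕ) : Mg a b c := evalW (elt (mA a b c) (mB a b c) (mC a b c)) w

/-- The projection to the group. -/
noncomputable def pr (a b c : G) : Mg a b c →* G :=
  (MonoidHom.fst G _).comp (Subgroup.closure (trio a b c)).subtype

/-- The projection to the permutations of a hundred points. -/
noncomputable def ph (a b c : G) : Mg a b c →* Equiv.Perm (Fin 100) :=
  ((MonoidHom.fst _ _).comp (MonoidHom.snd G _)).comp (Subgroup.closure (trio a b c)).subtype

/-- The projection to the permutations of the cosets. -/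
noncomputable def rho (a b c : G) : Mg a b c →* Equiv.Perm (Fin 1408) :=
  ((MonoidHom.snd _ _).comp (MonoidHom.snd G _)).comp (Subgroup.closure (trio a b c)).subtype

theorem pr_mW (w : List ℕ) : pr a b c (mW a b c w) = evalW (elt a b c) w :=
  map_evalW (pr a b c) _ _ _ w

theorem rho_mW (w : List ℕ) : rho a b c (mW a b c w) = evalW (elt qx qy qz) w :=
  map_evalW (rho a b c) _ _ _ w

theorem m_rels (h : XYZRels a b c) : XYZRels (mA a b c) (mB a b c) (mC a b c) := by
  intro w hw
  refine (Subgroup.closure (trio a b c)).subtype_injective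
    (((map_evalW (Subgroup.closure (trio a b c)).subtype _ _ _ w).trans ?_).trans (map_one _).symm)
  let f1 : G × Equiv.Perm (Fin 100) × Equiv.Perm (Fin 1408) →* G := MonoidHom.fst _ _
  let f2 : G × Equiv.Perm (Fin 100) × Equiv.Perm (Fin 1408) →* Equiv.Perm (Fin 100) :=
    (MonoidHom.fst _ _).comp (MonoidHom.snd _ _)
  let f3 : G × Equiv.Perm (Fin 100) × Equiv.Perm (Fin 1408) →* Equiv.Perm (Fin 1408) :=
    (MonoidHom.snd _ _).comp (MonoidHom.snd _ _)
  refine Prod.ext ?_ (Prod.ext ?_ ?_)
  · exact (map_evalW f1 (a, px, qx) (b, py, qy) (c, pz, qz) w).trans (h w hw)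
  · exact (map_evalW f2 (a, px, qx) (b, py, qy) (c, pz, qz) w).trans (perm_rels w hw)
  · exact (map_evalW f3 (a, px, qx) (b, py, qy) (c, pz, qz) w).trans (q_rels w hw)

/-- The data of the group of triples. -/
noncomputable def mData (h : XYZRels a b c) : Data (Mg a b c) where
  a := mA a b c
  b := mB a b c
  c := mC a b c
  rels := m_rels h
  top := by
    refine Subgroup.map_injective (Subgroup.closure (trio a b c)).subtype_injective ?_
    rw [MonoidHom.map_closure, ← MonoidHom.range_eq_map, Subgroup.range_subtype,
      Set.image_insert_eq, Set.image_insert_eq, Set.image_singleton]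
    rfl
  φ := ph a b c
  map_a := rfl
  map_b := rfl
  map_c := rfl
  sq_ne := fun e => qx_sq_ne (congrArg (fun g : Mg a b c => g.1.2.2) e)

theorem m_finite (h : XYZRels a b c) : Finite (Mg a b c) := (mData h).finite

theorem m_card (h : XYZRels a b c) : Nat.card (Mg a b c) = 177408000 := by
  haveI := m_finite h
  obtain ⟨h2, -⟩ := (mData h).ker_eq
  have hker : Nat.card (mData h).φ.ker = 2 := by
    rw [← h2]
    refine Nat.card_congr
      { toFun := fun g => ⟨⟨g.1, (mData h).ker_le_N g.2⟩, (mData h).mem_ker_σ.2 g.2⟩
        invFun := fun n => ⟨n.1.1, (mData h).mem_ker_σ.1 n.2⟩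
        left_inv := fun _ => rfl
        right_inv := fun _ => rfl }
  rw [Subgroup.card_eq_card_quotient_mul_card_subgroup (mData h).φ.ker,
    Nat.card_congr (QuotientGroup.quotientKerEquivRange (mData h).φ).toEquiv, hker,
    (mData h).range_eq, HS.card_graphAut]

end CfsgLib.HNIndex
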