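import Cfsg.Prelude.Def_KGroupFacts
import Cfsg.Agent.Lib.HNIndex.Model
import Cfsg.Agent.Lib.HNxyz.Rep
import Cfsg.Agent.Lib.Tails.HSThm

/-!
# Central extensions of the presented Harada–Norton group split

In a central extension the double cover of HS lifts uniquely, which fixes lifts of x and y; the
lifts of z and t are then corrected by central factors until all fourteen relations hold.
-/

set_option autoImplicit false

namespace CfsgLib.HNIndex

open CfsgLib.HNxyz CfsgLib.Golay Subgroup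
open Cfsg.Spor (HN)
open scoped commutatorElement

section Lift

variable {G E : Type} [Group G] [Group E] [Finite E] {a b c : G} (σ : E →* G)

/-- The perfect subgroup of index two. -/
noncomputable abbrev Nm (h : XYZRels a b c) : Subgroup (Mg a b c) := (mData h).N

theorem hom_ext_of_perfect (h : XYZRels a b c) (hA : σ.ker ≤ center E) (f g : ↥(Nm h) →* E)
    (e : ∀ n, σ (f n) = σ (g n)) : f = g := by
  have hc : ∀ n, (f n)⁻¹ * g n ∈ center E := fun n =>
    hA (by rw [MonoidHom.mem_ker, map_mul, map_inv, e n, inv_mul_cancel])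
  let d : ↥(Nm h) →* center E :=
    { toFun := fun n => ⟨(f n)⁻¹ * g n, hc n⟩
      map_one' := Subtype.ext (by simp)
      map_mul' := fun m n => Subtype.ext (by
        show (f (m * n))⁻¹ * g (m * n) = ((f m)⁻¹ * g m) * ((f n)⁻¹ * g n)
        rw [map_mul, map_mul, mul_inv_rev]
        have := mem_center_iff.1 (hc m) (f n)⁻¹
        rw [mul_assoc, ← mul_assoc (f m)⁻¹, ← mul_assoc, this, mul_assoc]) }
  have hk : (⊤ : Subgroup ↥(Nm h)) ≤ d.ker := by
    rw [← (mData h).perfect', _root_.commutator_def, commutator_le]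
    intro u _ v _
    rw [MonoidHom.mem_ker, map_commutatorElement, commutatorElement_eq_one_iff_mul_comm]
    exact Subtype.ext (mem_center_iff.1 (d v).2 _)
  ext n
  have := congrArg Subtype.val (hk (mem_top n) : d n = 1)
  exact inv_mul_eq_one.1 this

/-- The double cover lifts. -/
theorem exists_lift (h : XYZRels a b c) (haa : a * a ≠ 1) (hσ : Function.Surjective σ)
    (hA : σ.ker ≤ center E) : ∃ s : ↥(Nm h) →* E, ∀ n, σ (s n) = pr a b c n.1 := by
  set D := mData h with hD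
  haveI := m_finite h
  let Pp : Subgroup (E × ↥D.N) :=
    { carrier := {p | σ p.1 = pr a b c p.2.1}
      one_mem' := by simp
      mul_mem' := fun {u v} (hu : σ u.1 = _) (hv : σ v.1 = _) => by
        show σ (u.1 * v.1) = pr a b c (u.2.1 * v.2.1)
        rw [map_mul, map_mul, hu, hv]
      inv_mem' := fun {u} (hu : σ u.1 = _) => by
        show σ u.1⁻¹ = pr a b c u.2.1⁻¹
        rw [map_inv, map_inv, hu] }
  let pN : ↥Pp →* ↥D.N := (MonoidHom.snd E _).comp Pp.subtype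
  have hpN : Function.Surjective pN := fun n => by
    obtain ⟨e, he⟩ := hσ (pr a b c n.1)
    exact ⟨⟨(e, n), he⟩, rfl⟩
  let Q : Subgroup ↥Pp := commutator ↥Pp
  let qN : ↥Q →* ↥D.N := pN.comp Q.subtype
  have hqN : Function.Surjective qN := fun n => by
    have : n ∈ (commutator ↥Pp).map pN := by
      rw [_root_.commutator_def, map_commutator, Subgroup.map_top_of_surjective pN hpN,
        ← _root_.commutator_def, D.perfect']
      exact mem_top n
    obtain ⟨q, hq, rfl⟩ := this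
    exact ⟨⟨q, hq⟩, rfl⟩
  -- pairs over the centre are central
  have hker : ∀ p : ↥Pp, D.σ (pN p) = 1 → ∀ q : ↥Pp, q ∈ Q → q * p = p * q := by
    intro p hp q hq
    have hpc : pN p ∈ center ↥D.N := D.σ_kernel_central hp
    have hcen : ∀ r : ↥Pp, σ (r.1.1 * p.1.1 * r.1.1⁻¹ * p.1.1⁻¹) = 1 := fun r => by
      have hr : σ r.1.1 = pr a b c r.1.2.1 := r.2
      have hp' : σ p.1.1 = pr a b c p.1.2.1 := p.2
      rw [map_mul, map_mul, map_mul, map_inv, map_inv, hr, hp', ← map_inv, ← map_inv, ← map_mul,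
        ← map_mul, ← map_mul]
      have := congrArg Subtype.val (mem_center_iff.1 hpc r.1.2)
      simp only [Subgroup.coe_mul] at this
      rw [show r.1.2.1 * p.1.2.1 * r.1.2.1⁻¹ * p.1.2.1⁻¹ = 1 from by
        rw [show (r.1.2.1 * p.1.2.1 : Mg a b c) = p.1.2.1 * r.1.2.1 from this]; group, map_one]
    let χ : ↥Pp →* center E :=
      { toFun := fun r => ⟨r.1.1 * p.1.1 * r.1.1⁻¹ * p.1.1⁻¹, hA (MonoidHom.mem_ker.2 (hcen r))⟩
        map_one' := Subtype.ext (by simp)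
        map_mul' := fun r r' => Subtype.ext (by
          show (r.1.1 * r'.1.1) * p.1.1 * (r.1.1 * r'.1.1)⁻¹ * p.1.1⁻¹ =
            (r.1.1 * p.1.1 * r.1.1⁻¹ * p.1.1⁻¹) * (r'.1.1 * p.1.1 * r'.1.1⁻¹ * p.1.1⁻¹)
          have hc := mem_center_iff.1 (hA (MonoidHom.mem_ker.2 (hcen r'))) r.1.1
          have hc2 := mem_center_iff.1 (hA (MonoidHom.mem_ker.2 (hcen r')))
            (r.1.1 * p.1.1 * r.1.1⁻¹ * p.1.1⁻¹)
          rw [hc2, show (r.1.1 * r'.1.1) * p.1.1 * (r.1.1 * r'.1.1)⁻¹ * p.1.1⁻¹ =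
            (r.1.1 * (r'.1.1 * p.1.1 * r'.1.1⁻¹ * p.1.1⁻¹)) * p.1.1 * r.1.1⁻¹ * p.1.1⁻¹ from by group,
            hc]
          group) }
    have hQk : Q ≤ χ.ker := by
      show commutator ↥Pp ≤ χ.ker
      rw [_root_.commutator_def, commutator_le]
      intro u _ v _
      rw [MonoidHom.mem_ker, map_commutatorElement, commutatorElement_eq_one_iff_mul_comm]
      exact Subtype.ext (mem_center_iff.1 (χ v).2 _)
    have h1 := congrArg Subtype.val (hQk hq : χ q = 1)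
    refine Subtype.ext (Prod.ext ?_ ?_)
    · exact mul_inv_eq_iff_eq_mul.1 (mul_inv_eq_one.1 h1)
    · exact mem_center_iff.1 hpc q.1.2
  have hQperf : commutator ↥Q = ⊤ := by
    refine Subgroup.map_injective Q.subtype_injective ?_
    rw [map_subtype_commutator, ← MonoidHom.range_eq_map, range_subtype]
    refine le_antisymm (commutator_le_self _) ?_
    show commutator ↥Pp ≤ ⁅Q, Q⁆
    rw [_root_.commutator_def, commutator_le]
    intro u _ v _
    obtain ⟨u', hu'⟩ := hqN (pN u)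
    obtain ⟨v', hv'⟩ := hqN (pN v)
    have hz : ∀ (w : ↥Pp) (w' : ↥Q), qN w' = pN w → ∀ r : ↥Pp,
        (w'.1⁻¹ * w) * r = r * (w'.1⁻¹ * w) := by
      intro w w' hw r
      have h1 : pN (w'.1⁻¹ * w) = 1 := by
        rw [map_mul, map_inv, show pN w'.1 = pN w from hw, inv_mul_cancel]
      have hin : (w'.1⁻¹ * w).1.1 ∈ center E := hA (by
        rw [MonoidHom.mem_ker, show σ (w'.1⁻¹ * w).1.1 = pr a b c (w'.1⁻¹ * w).1.2.1 from (w'.1⁻¹ * w).2,
          show (w'.1⁻¹ * w).1.2 = (1 : ↥D.N) from h1]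
        exact map_one _)
      refine Subtype.ext (Prod.ext (mem_center_iff.1 hin _).symm ?_)
      show (w'.1⁻¹ * w).1.2 * r.1.2 = r.1.2 * (w'.1⁻¹ * w).1.2
      rw [show (w'.1⁻¹ * w).1.2 = (1 : ↥D.N) from h1, one_mul, mul_one]
    have : ⁅u, v⁆ = ⁅u'.1, v'.1⁆ := by
      have zu := hz u u' hu'
      have zv := hz v v' hv'
      have eu : u = u'.1 * (u'.1⁻¹ * u) := by group
      have ev : v = v'.1 * (v'.1⁻¹ * v) := by group
      generalize u'.1⁻¹ * u = i at zu eu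
      generalize v'.1⁻¹ * v = j at zv ev
      subst eu ev
      simp only [commutatorElement_def, mul_inv_rev]
      calc u'.1 * i * (v'.1 * j) * (i⁻¹ * u'.1⁻¹) * (j⁻¹ * v'.1⁻¹)
          = u'.1 * (i * (v'.1 * j)) * i⁻¹ * u'.1⁻¹ * (j⁻¹ * v'.1⁻¹) := by group
        _ = u'.1 * v'.1 * (j * u'.1⁻¹) * (j⁻¹ * v'.1⁻¹) := by rw [zu]; group
        _ = u'.1 * v'.1 * u'.1⁻¹ * v'.1⁻¹ := by rw [zv]; group
    rw [this]
    exact commutator_mem_commutator u'.2 v'.2
  let τ : ↥Q →* ↥HS.hsGroup := D.σ.comp qN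
  have hτ : Cfsg.IsStemExtension τ := by
    refine ⟨D.σ_surjective.comp hqN, ?_, by rw [hQperf]; exact le_top⟩
    intro q hq
    rw [mem_center_iff]
    exact fun r => Subtype.ext (hker q.1 hq r.1 r.2)
  obtain ⟨-, hdvd⟩ := CfsgLib.Schur.Tails.HS.bound τ hτ
  have hcard : Nat.card τ.ker ≤ 2 := Nat.le_of_dvd (by norm_num) hdvd
  have hinj : Function.Injective qN := by
    rw [← MonoidHom.ker_eq_bot_iff, eq_bot_iff]
    intro q hq
    rw [mem_bot]
    by_contra hne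
    obtain ⟨hk2, hmem⟩ := D.ker_eq
    obtain ⟨w, hw⟩ := hqN ⟨D.a * D.a, D.ker_le_N hmem⟩
    have hwk : w ∈ τ.ker := by
      rw [MonoidHom.mem_ker, MonoidHom.comp_apply, hw]
      exact D.mem_ker_σ.2 hmem
    have hqk : q ∈ τ.ker := by rw [MonoidHom.mem_ker, MonoidHom.comp_apply, hq, map_one]
    have hw1 : qN w ≠ 1 := fun e => D.sq_ne (congrArg Subtype.val (hw.symm.trans e))
    have h3 : ({⟨q, hqk⟩, ⟨w, hwk⟩, 1} : Set τ.ker).ncard = 3 := by
      rw [Set.ncard_eq_three]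
      refine ⟨_, _, _, ?_, ?_, ?_, rfl⟩
      · exact fun e => hw1 (by have e' : q = w := congrArg Subtype.val e; rw [← e']; exact hq)
      · exact fun e => hne (congrArg Subtype.val e)
      · exact fun e => hw1 (by rw [show w = 1 from congrArg Subtype.val e, map_one])
    have := Set.ncard_le_card ({⟨q, hqk⟩, ⟨w, hwk⟩, 1} : Set τ.ker)
    omega
  let e := MulEquiv.ofBijective qN ⟨hinj, hqN⟩
  refine ⟨((MonoidHom.fst E _).comp Pp.subtype).comp (Q.subtype.comp e.symm.toMonoidHom), fun n => ?_⟩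
  have h1 : σ (e.symm n).1.1.1 = pr a b c (e.symm n).1.1.2.1 := (e.symm n).1.2
  have h2 : (e.symm n).1.1.2 = n := e.apply_symm_apply n
  exact h1.trans (by rw [h2])

end Lift

section Split

variable {E : Type} [Group E] [Finite E] (σ : E →* Cfsg.Spor.HN)

/-- A generator. -/
abbrev gen0 (i : HN.Gen) : Cfsg.Spor.HN := PresentedGroup.of i

/-- The group of triples of the presented group. -/
abbrev M0 : Type := Mg (gen0 .x) (gen0 .y) (gen0 .z)

theorem rel0 {r : FreeGroup HN.Gen} (h : r ∈ HN.extra) : PresentedGroup.mk hnRels r = 1 :=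
  PresentedGroup.mk_eq_one_iff.2 (Subgroup.subset_normalClosure (Or.inr h))

/-- In the group of triples the element z and the words in x, y. -/
theorem triple_rels :
    let a := mA (gen0 .x) (gen0 .y) (gen0 .z); let b := mB (gen0 .x) (gen0 .y) (gen0 .z)
    let c := mC (gen0 .x) (gen0 .y) (gen0 .z)
    c * c = 1 ∧ c * a * c⁻¹ = a⁻¹ ∧ a * a * (a * a) = 1 ∧ b ^ 6 = 1 := by
  have h := m_rels (h := hn_xyz)
  have hc : _ * _ = _ := z_sq h
  have h8 := h [4, 0, 4, 0] (by decide)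
  have h1 := h [2, 2, 2, 2, 2, 2] (by decide)
  have h4 := pow_four h
  simp only [evalW, elt, List.map_cons, List.map_nil, List.prod_cons, List.prod_nil, mul_one] at h8 h1
  refine ⟨hc, ?_, by rw [← mul_assoc]; exact h4, by simpa [pow_succ, mul_assoc] using h1⟩
  rw [inv_eq_of_mul_eq_one_right hc]
  refine eq_inv_of_mul_eq_one_left ?_
  simpa [mul_assoc] using h8

set_option maxHeartbeats 2000000 in
/-- Lifts satisfying all the relations. -/
theorem exists_section (hσ : Function.Surjective σ) (hA : σ.ker ≤ center E) :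
    ∃ f : Cfsg.Spor.HN →* E, ∀ g, σ (f g) = g := by
  obtain ⟨s, hs⟩ := exists_lift σ hn_xyz x_sq_ne hσ hA
  obtain ⟨hcc, hca, ha4, hb6⟩ := triple_rels
  set a := mA (gen0 .x) (gen0 .y) (gen0 .z) with hadef
  set b := mB (gen0 .x) (gen0 .y) (gen0 .z) with hbdef
  set c := mC (gen0 .x) (gen0 .y) (gen0 .z) with hcdef
  have hN := (mData hn_xyz).normal_N
  let aN : ↥(Nm hn_xyz) := ⟨a, (mData hn_xyz).mem_a⟩
  let bN : ↥(Nm hn_xyz) := ⟨b, (mData hn_xyz).mem_b⟩
  let cn : ↥(Nm hn_xyz) → ↥(Nm hn_xyz) := fun n => ⟨c * n.1 * c⁻¹, hN.conj_mem _ n.2 c⟩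
  set X := s aN with hX
  set Y := s bN with hY
  have σX : σ X = gen0 .x := hs aN
  have σY : σ Y = gen0 .y := hs bN
  have conjZ : ∀ Z, σ Z = gen0 .z → ∀ n, Z * s n * Z⁻¹ = s (cn n) := by
    intro Z hZ
    let cN : ↥(Nm hn_xyz) →* ↥(Nm hn_xyz) :=
      MonoidHom.mk' cn fun m n => Subtype.ext (by
        show c * (m.1 * n.1) * c⁻¹ = c * m.1 * c⁻¹ * (c * n.1 * c⁻¹)
        group)
    have := hom_ext_of_perfect σ hn_xyz hA ((MulAut.conj Z).toMonoidHom.comp s) (s.comp cN) fun n => by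
      show σ (Z * s n * Z⁻¹) = σ (s (cN n))
      rw [hs, map_mul, map_mul, map_inv, hZ, hs]
      show _ = pr (gen0 .x) (gen0 .y) (gen0 .z) (c * n.1 * c⁻¹)
      rw [map_mul, map_mul, map_inv]
      rfl
    exact fun n => DFunLike.congr_fun this n
  have hX4 : X * X * (X * X) = 1 := by
    rw [hX, ← map_mul, ← map_mul, show aN * aN * (aN * aN) = 1 from Subtype.ext ha4, map_one]
  have hY6 : Y ^ 6 = 1 := by
    rw [hY, ← map_pow, show bN ^ 6 = 1 from Subtype.ext hb6, map_one]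
  have hZX : ∀ Z, σ Z = gen0 .z → Z * X * Z⁻¹ = X⁻¹ := fun Z hZ => by
    rw [hX, conjZ Z hZ, ← map_inv]
    exact congrArg s (Subtype.ext hca)
  obtain ⟨Z, σZ⟩ := hσ (gen0 .z)
  obtain ⟨T, σT⟩ := hσ (gen0 .t)
  have cen : ∀ u, σ u = 1 → ∀ v : E, v * u = u * v := fun u hu =>
    mem_center_iff.1 (hA (MonoidHom.mem_ker.2 hu))
  have r5 : gen0 .t ^ 5 = 1 := rel0 (r := HN.t ^ 5) (by simp [HN.extra])
  have rx : (gen0 .x)⁻¹ * gen0 .t * gen0 .x * gen0 .t ^ 2 = 1 :=
    rel0 (r := (HN.x⁻¹ * HN.t * HN.x) * (HN.t ^ 2)) (by simp [HN.extra])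
  have ry : (gen0 .t)⁻¹ * (gen0 .y)⁻¹ * gen0 .t * gen0 .y = 1 :=
    rel0 (r := HN.t⁻¹ * HN.y⁻¹ * HN.t * HN.y) (by simp [HN.extra])
  have rz : (gen0 .z * gen0 .t) ^ 3 = 1 := rel0 (r := (HN.z * HN.t) ^ 3) (by simp [HN.extra])
  have rz2 : gen0 .z ^ 2 = 1 := rel0 (r := HN.z ^ 2) (by simp [HN.extra])
  -- correct t
  set β := T ^ 5 with hβ
  set δ := X⁻¹ * T * X * T ^ 2 with hδ
  have hβ1 : σ β = 1 := by rw [hβ, map_pow, σT, r5]
  have hδ1 : σ δ = 1 := by rw [hδ, map_mul, map_mul, map_mul, map_inv, map_pow, σX, σT, rx]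
  have hβδ : β ^ 3 = δ ^ 5 := by
    have h1 : X⁻¹ * T * X = δ * (T ^ 2)⁻¹ := by rw [hδ, mul_inv_cancel_right]
    have hc : Commute δ (T ^ 2)⁻¹ := (cen δ hδ1 _).symm
    have h2 : β = δ ^ 5 * (β ^ 2)⁻¹ := by
      calc β = X⁻¹ * β * X := by rw [cen β hβ1 X⁻¹, inv_mul_cancel_right]
        _ = (X⁻¹ * T * X) ^ 5 := by
          rw [hβ]; simpa using map_pow (MulAut.conj X⁻¹) T 5
        _ = δ ^ 5 * (β ^ 2)⁻¹ := by
          rw [h1, hc.mul_pow, inv_pow, hβ, ← pow_mul, ← pow_mul]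
    calc β ^ 3 = β * β ^ 2 := by group
      _ = δ ^ 5 * (β ^ 2)⁻¹ * β ^ 2 := by rw [← h2]
      _ = δ ^ 5 := by group
  set k := (δ ^ 2)⁻¹ * β with hk
  have hk1 : σ k = 1 := by rw [hk, map_mul, map_inv, map_pow, hδ1, hβ1]; simp
  have hdb : Commute δ β := (cen δ hδ1 β).symm
  have hk3 : δ * k ^ 3 = 1 := by
    rw [hk, ((hdb.pow_left 2).inv_left).mul_pow, hβδ]
    group
  have hk5 : β * k ^ 5 = 1 := by
    rw [hk, ((hdb.pow_left 2).inv_left).mul_pow]
    have e : (((δ ^ 2)⁻¹) ^ 5 : E) = ((δ ^ 5) ^ 2)⁻¹ := by group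
    rw [e, ← hβδ]
    group
  set T' := T * k with hT'
  have σT' : σ T' = gen0 .t := by rw [hT', map_mul, σT, hk1, mul_one]
  have kc : ∀ v : E, Commute v k := fun v => cen k hk1 v
  have T5 : T' ^ 5 = 1 := by rw [hT', (kc T).mul_pow, ← hβ, hk5]
  have TX : X⁻¹ * T' * X * T' ^ 2 = 1 := by
    rw [hT', (kc T).mul_pow]
    calc X⁻¹ * (T * k) * X * (T ^ 2 * k ^ 2) = X⁻¹ * T * (k * X) * T ^ 2 * k ^ 2 := by group
      _ = X⁻¹ * T * X * (k * T ^ 2) * k ^ 2 := by rw [← (kc X).eq]; group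
      _ = δ * (k * k ^ 2) := by rw [← (kc (T ^ 2)).eq, hδ]; group
      _ = 1 := by rw [← pow_succ', hk3]
  have TY : T'⁻¹ * Y⁻¹ * T' * Y = 1 := by
    set γ := T'⁻¹ * Y⁻¹ * T' * Y with hγ
    have hγ1 : σ γ = 1 := by
      rw [hγ, map_mul, map_mul, map_mul, map_inv, map_inv, σT', σY, ry]
    have e1 : T'⁻¹ * Y⁻¹ * T' = γ * Y⁻¹ := by rw [hγ, mul_inv_cancel_right]
    have gc : ∀ v : E, Commute γ v := fun v => (cen γ hγ1 v).symm
    have h6 : γ ^ 6 = 1 := by
      have : (T'⁻¹ * Y⁻¹ * T') ^ 6 = T'⁻¹ * Y⁻¹ ^ 6 * T' := by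
        simpa using (map_pow (MulAut.conj T'⁻¹) Y⁻¹ 6).symm
      rw [e1, (gc _).mul_pow, inv_pow, hY6] at this
      simpa using this
    have conjN : ∀ n : ℕ, (T' ^ n)⁻¹ * Y⁻¹ * T' ^ n = γ ^ n * Y⁻¹ := by
      intro n
      induction n with
      | zero => simp
      | succ n ih =>
        calc (T' ^ (n + 1))⁻¹ * Y⁻¹ * T' ^ (n + 1)
            = T'⁻¹ * ((T' ^ n)⁻¹ * Y⁻¹ * T' ^ n) * T' := by rw [pow_succ]; group
          _ = T'⁻¹ * γ ^ n * (Y⁻¹ * T') := by rw [ih]; group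
          _ = γ ^ n * T'⁻¹ * (Y⁻¹ * T') := by rw [((gc T'⁻¹).pow_left n).eq]
          _ = γ ^ n * (T'⁻¹ * Y⁻¹ * T') := by group
          _ = γ ^ (n + 1) * Y⁻¹ := by rw [e1, pow_succ]; group
    have h5 := conjN 5
    rw [T5, inv_one, one_mul, mul_one] at h5
    have h5' : γ ^ 5 = 1 := mul_eq_right.1 h5.symm
    calc γ = γ ^ 6 * (γ ^ 5)⁻¹ := by group
      _ = 1 := by rw [h6, h5', inv_one, mul_one]
  -- correct z
  set α := Z * Z with hα
  have hα1 : σ α = 1 := by rw [hα, map_mul, σZ, ← pow_two, rz2]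
  set ε := (Z * T') ^ 3 with hε
  have hε1 : σ ε = 1 := by rw [hε, map_pow, map_mul, σZ, σT', rz]
  have hεα : ε ^ 2 = α ^ 3 := by
    set S := X * X with hS
    have tS : S⁻¹ * T' * S = T'⁻¹ := by
      have h1 : X⁻¹ * T' * X = (T' ^ 2)⁻¹ := eq_inv_of_mul_eq_one_left TX
      calc S⁻¹ * T' * S = X⁻¹ * (X⁻¹ * T' * X) * X := by rw [hS]; group
        _ = X⁻¹ * (T' ^ 2)⁻¹ * X := by rw [h1]
        _ = ((X⁻¹ * T' * X) ^ 2)⁻¹ := by simp only [pow_two]; group
        _ = T' ^ 4 := by rw [h1]; group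
        _ = T'⁻¹ := by rw [eq_inv_iff_mul_eq_one, ← pow_succ, T5]
    have zS : S⁻¹ * Z * S = Z := by
      have h1 : Z * S * Z⁻¹ = S := by
        calc Z * S * Z⁻¹ = (Z * X * Z⁻¹) * (Z * X * Z⁻¹) := by rw [hS]; group
          _ = S⁻¹ := by rw [hZX Z σZ, hS]; group
          _ = S := inv_eq_of_mul_eq_one_right hX4
      have h2 : Z * S = S * Z := mul_inv_eq_iff_eq_mul.1 h1
      rw [mul_assoc, h2, inv_mul_cancel_left]
    have e1 : (Z * T'⁻¹) ^ 3 = ε := by
      have : S⁻¹ * ε * S = (S⁻¹ * (Z * T') * S) ^ 3 := by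
        rw [hε]; simpa using map_pow (MulAut.conj S⁻¹) (Z * T') 3
      rw [show S⁻¹ * (Z * T') * S = (S⁻¹ * Z * S) * (S⁻¹ * T' * S) from by group, tS, zS] at this
      rw [← this, mul_assoc, ← cen ε hε1 S, inv_mul_cancel_left]
    have e2 : (T' * Z) ^ 3 = ε := by
      calc (T' * Z) ^ 3 = T' * ε * T'⁻¹ := by rw [hε]; simp only [pow_succ, pow_zero, one_mul]; group
        _ = ε := by rw [cen ε hε1 T', mul_inv_cancel_right]
    have ac : ∀ v : E, Commute v α := fun v => cen α hα1 v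
    have e3 : ε⁻¹ * α ^ 3 = ε := by
      calc ε⁻¹ * α ^ 3 = ((Z * T'⁻¹)⁻¹) ^ 3 * α ^ 3 := by rw [inv_pow, e1]
        _ = ((Z * T'⁻¹)⁻¹ * α) ^ 3 := by rw [(ac _).mul_pow]
        _ = ε := by rw [← e2, hα]; group
    calc ε ^ 2 = ε * (ε⁻¹ * α ^ 3) := by rw [e3, pow_two]
      _ = α ^ 3 := mul_inv_cancel_left _ _
  set m := α * ε⁻¹ with hm
  have hm1 : σ m = 1 := by rw [hm, map_mul, map_inv, hα1, hε1]; simp
  have mc : ∀ v : E, Commute v m := fun v => cen m hm1 v
  set Z' := Z * m with hZ'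
  have σZ' : σ Z' = gen0 .z := by rw [hZ', map_mul, σZ, hm1, mul_one]
  have aeC : Commute α ε⁻¹ := Commute.inv_right (show Commute α ε from cen ε hε1 α)
  have Z2 : Z' * Z' = 1 := by
    calc Z' * Z' = Z * (m * Z) * m := by rw [hZ']; group
      _ = α * (m * m) := by rw [← (mc Z).eq, hα]; group
      _ = α * (α * α * (ε⁻¹ * ε⁻¹)) := by
        rw [hm, ← pow_two, aeC.mul_pow, pow_two, pow_two]
      _ = α ^ 3 * (ε ^ 2)⁻¹ := by simp only [pow_succ, pow_zero, one_mul]; group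
      _ = 1 := by rw [hεα, mul_inv_cancel]
  have ZT : (Z' * T') ^ 3 = 1 := by
    rw [show Z' * T' = Z * T' * m from by rw [hZ', mul_assoc Z m T', ← (mc T').eq, ← mul_assoc],
      (mc _).mul_pow, ← hε, hm, aeC.mul_pow, ← hεα]
    group
  let F : HN.Gen → E := fun i => match i with
    | .x => X
    | .y => Y
    | .z => Z'
    | .t => T'
  have hF : ∀ r ∈ hnRels, FreeGroup.lift F r = 1 := by
    rintro r (⟨x, hx, -⟩ | hr)
    · exact absurd hx (by simp [Cfsg.Spor.coxNodes, HN.edges])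
    have hw : ∀ n : ↥(Nm hn_xyz), n = 1 → s n = 1 := fun n e => by rw [e, map_one]
    have hM := m_rels (h := hn_xyz)
    have hcn : ∀ w : ↥(Nm hn_xyz), Z'⁻¹ * s w * Z' = s (cn w) := fun w => by
      rw [inv_eq_of_mul_eq_one_right Z2]
      calc Z' * s w * Z' = Z' * s w * Z'⁻¹ := by rw [inv_eq_of_mul_eq_one_right Z2]
        _ = _ := conjZ Z' σZ' w
    simp only [HN.extra, Set.mem_setOf_eq, List.mem_cons, List.not_mem_nil, or_false] at hr
    have R : ∀ (w : List ℕ), w ∈ xyzRels → evalW (elt a b c) w = 1 := hM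
    rcases hr with rfl | rfl | rfl | rfl | rfl | rfl | rfl | rfl | rfl | rfl | rfl | rfl | rfl | rfl <;>
      simp only [HN.x, HN.y, HN.z, HN.t, map_mul, map_inv, map_pow, FreeGroup.lift_apply_of, F]
    · exact hY6
    · rw [hX, hY, ← map_pow, ← map_inv, ← map_mul, ← map_mul, ← map_mul]
      refine hw _ (Subtype.ext ?_)
      simpa [evalW, elt, pow_succ, mul_assoc] using R [0, 0, 2, 0, 0, 3] (by decide)
    · rw [hX, hY, ← map_inv, ← map_inv, ← map_mul, ← map_mul, ← map_mul, ← map_pow]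
      refine hw _ (Subtype.ext ?_)
      simpa [evalW, elt, pow_succ, mul_assoc] using
        R [1, 3, 0, 2, 1, 3, 0, 2, 1, 3, 0, 2] (by decide)
    · rw [hX, hY, ← map_inv, ← map_pow, ← map_pow, ← map_mul, ← map_mul, ← map_mul, ← map_pow]
      refine hw _ (Subtype.ext ?_)
      simpa [evalW, elt, pow_succ, mul_assoc] using
        R [1, 2, 2, 0, 2, 2, 2, 1, 2, 2, 0, 2, 2, 2, 1, 2, 2, 0, 2, 2, 2] (by decide)
    · rw [hX, hY, ← map_mul, ← map_pow]
      refine hw _ (Subtype.ext ?_)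
      simpa [evalW, elt, pow_succ, mul_assoc] using
        R [0, 2, 0, 2, 0, 2, 0, 2, 0, 2, 0, 2, 0, 2, 0, 2] (by decide)
    · rw [hX, hY, ← map_pow, ← map_mul, ← map_mul, ← map_mul, ← map_pow]
      refine hw _ (Subtype.ext ?_)
      simpa [evalW, elt, pow_succ, mul_assoc] using
        R [0, 2, 0, 2, 2, 2, 0, 2, 0, 2, 2, 2, 0, 2, 0, 2, 2, 2, 0, 2, 0, 2, 2, 2] (by decide)
    · rw [pow_two]; exact Z2
    · calc (Z' * X) ^ 2 = (Z' * X * Z'⁻¹) * (Z' * Z') * X := by rw [pow_two]; group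
        _ = 1 := by rw [hZX Z' σZ', Z2, mul_one, inv_mul_cancel]
    · set w := bN * aN * bN * aN * bN ^ 2 * aN * bN⁻¹ with hwdef
      have e : Y * X * Y * X * Y ^ 2 * X * Y⁻¹ = s w := by simp [hwdef, hX, hY]
      rw [e, hX, ← map_inv s w, hcn, ← map_pow, ← map_inv, ← map_mul, ← map_mul]
      refine hw _ (Subtype.ext ?_)
      have := R [5, 2, 1, 3, 3, 1, 3, 1, 3, 4, 2, 0, 2, 0, 2, 2, 0, 3, 1, 1] (by decide)
      have hci : c⁻¹ = c := inv_eq_of_mul_eq_one_right hcc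
      simpa [evalW, elt, pow_succ, mul_assoc, hwdef, cn, aN, bN, hci] using this
    · set v := bN ^ 3 * aN * bN * aN * bN with hvdef
      have e : Y ^ 3 * X * Y * X * Y = s v := by simp [hvdef, hX, hY]
      rw [e, hX, ← map_inv s v]
      set u2 := v * aN * v⁻¹
      calc Z' * ((s v⁻¹ * Z' * s v * s aN) ^ 3)
          = (Z' * s v⁻¹ * Z'⁻¹) * (Z' * Z') * s u2 * (Z' * s u2 * Z'⁻¹) * (Z' * Z') *
              (s v * s aN) := by
            simp only [pow_succ, pow_zero, one_mul, u2, map_mul, map_inv]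
            group
        _ = 1 := by
            rw [Z2, conjZ Z' σZ', conjZ Z' σZ', mul_one, mul_one, ← map_mul, ← map_mul, ← map_mul,
              ← map_mul]
            refine hw _ (Subtype.ext ?_)
            have := R [4, 3, 1, 3, 1, 3, 3, 3, 4, 2, 2, 2, 0, 2, 0, 2, 0, 3, 1, 3, 1, 3, 3, 3, 4,
              2, 2, 2, 0, 2, 0, 2, 0, 3, 1, 3, 1, 3, 3, 3, 4, 2, 2, 2, 0, 2, 0, 2, 0] (by decide)
            have hci : c⁻¹ = c := inv_eq_of_mul_eq_one_right hcc
            simpa [evalW, elt, pow_succ, mul_assoc, hvdef, cn, u2, aN, bN, hci] using this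
    · exact T5
    · exact TX
    · exact TY
    · exact ZT
  refine ⟨PresentedGroup.toGroup hF, fun g => ?_⟩
  refine DFunLike.congr_fun (PresentedGroup.ext (φ := σ.comp (PresentedGroup.toGroup hF))
    (ψ := MonoidHom.id _) fun i => ?_) g
  simp only [MonoidHom.comp_apply, PresentedGroup.toGroup.of, MonoidHom.id_apply]
  cases i
  exacts [σX, σY, σZ', σT']

end Split

/-- A stem extension of the presented group is an isomorphism. -/
theorem multiplier_trivial (hfin : Finite Cfsg.Spor.HN) :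
    Cfsg.HasCyclicSchurMultiplier Cfsg.Spor.HN 1 := by
  haveI : Subsingleton (Multiplicative (ZMod 1)) := inferInstanceAs (Subsingleton (Fin 1))
  refine ⟨⟨Cfsg.Spor.HN, inferInstance, hfin, MonoidHom.id _,
    ⟨fun g => ⟨g, rfl⟩, fun g hg => ?_, fun g hg => ?_⟩, ?_⟩, ?_⟩
  · rw [MonoidHom.mem_ker] at hg; cases hg; exact one_mem _
  · rw [MonoidHom.mem_ker] at hg; cases hg; exact one_mem _
  · haveI : Subsingleton (MonoidHom.id Cfsg.Spor.HN).ker :=
      ⟨fun u v => Subtype.ext ((MonoidHom.mem_ker.1 u.2).trans (MonoidHom.mem_ker.1 v.2).symm)⟩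
    haveI := uniqueOfSubsingleton (1 : (MonoidHom.id Cfsg.Spor.HN).ker)
    haveI := uniqueOfSubsingleton (1 : Multiplicative (ZMod 1))
    exact ⟨MulEquiv.ofUnique⟩
  · intro E _ _ σ hσ
    obtain ⟨hsur, hcen, hcom⟩ := hσ
    obtain ⟨f, hf⟩ := exists_section σ hsur hcen
    have hker : σ.ker = ⊥ := by
      rw [eq_bot_iff]
      intro u hu
      have hle : commutator E ≤ f.range := by
        rw [_root_.commutator_def, commutator_le]
        intro p _ q _
        refine ⟨⁅σ p, σ q⁆, ?_⟩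
        have hp : f (σ p) * (f (σ p))⁻¹ = 1 := mul_inv_cancel _
        have cp : (f (σ p))⁻¹ * p ∈ center E := hcen (by
          rw [MonoidHom.mem_ker, map_mul, map_inv, hf, inv_mul_cancel])
        have cq : (f (σ q))⁻¹ * q ∈ center E := hcen (by
          rw [MonoidHom.mem_ker, map_mul, map_inv, hf, inv_mul_cancel])
        rw [map_commutatorElement]
        generalize f (σ p) = P at cp
        generalize f (σ q) = Q at cq
        have h1 := mem_center_iff.1 cp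
        have h2 := mem_center_iff.1 cq
        obtain ⟨i, rfl⟩ : ∃ i, p = P * i := ⟨P⁻¹ * p, by group⟩
        obtain ⟨j, rfl⟩ : ∃ j, q = Q * j := ⟨Q⁻¹ * q, by group⟩
        simp only [inv_mul_cancel_left] at h1 h2
        simp only [commutatorElement_def, mul_inv_rev]
        calc P * Q * P⁻¹ * Q⁻¹ = P * Q * (P⁻¹ * (j * j⁻¹)) * Q⁻¹ := by group
          _ = P * Q * (j * P⁻¹) * (j⁻¹ * Q⁻¹) := by rw [← h2 P⁻¹]; group
          _ = P * (Q * j * (i * i⁻¹)) * P⁻¹ * (j⁻¹ * Q⁻¹) := by group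
          _ = P * i * (Q * j) * (i⁻¹ * P⁻¹) * (j⁻¹ * Q⁻¹) := by
            rw [← mul_assoc (Q * j) i, h1 (Q * j)]; group
      obtain ⟨g, rfl⟩ := hle (hcom hu)
      rw [MonoidHom.mem_ker, hf] at hu
      rw [hu, map_one]
      exact one_mem _
    haveI : Subsingleton σ.ker := by rw [hker]; infer_instance
    exact ⟨1, fun u => ⟨1, Subsingleton.elim _ _⟩⟩

end CfsgLib.HNIndex
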