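import Cfsg.Agent.Lib.HNIndex.Tables
import Cfsg.Agent.Lib.HNxyz.Main

/-!
# The permutations of the 1408 cosets

The three generators x, y, z of 2.HS:2 as permutations of 1408 points, satisfying the relations.
-/

set_option autoImplicit false
set_option maxRecDepth 100000

namespace CfsgLib.HNIndex

open CfsgLib.HNxyz

/-- The image of a point under a letter (the letters act on the right). -/
def stepL (g i : ℕ) : ℕ := ((cells g).getD (i / 32) 0 >>> (11 * (i % 32))) % 2048

/-- The image of a point under a word. -/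
def img : List ℕ → ℕ → ℕ
  | [], i => i
  | g :: w, i => img w (stepL g i)

theorem step_checks : ((List.range 6).all fun g => (List.range 1408).all fun i =>
    Nat.blt (stepL g i) 1408 && Nat.beq (stepL (g ^^^ 1) (stepL g i)) i) = true := by
  decide +kernel

theorem stepL_lt {g i : ℕ} (hg : g < 6) (hi : i < 1408) :
    stepL g i < 1408 ∧ stepL (g ^^^ 1) (stepL g i) = i := by
  have h := List.all_eq_true.1 (List.all_eq_true.1 step_checks g (List.mem_range.2 hg)) i
    (List.mem_range.2 hi)
  simp only [Bool.and_eq_true, Nat.blt_eq, Nat.beq_eq] at h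
  exact h

theorem xor_lt {g : ℕ} (hg : g < 6) : g ^^^ 1 < 6 := by
  revert g; decide

theorem xor_xor {g : ℕ} (hg : g < 6) : g ^^^ 1 ^^^ 1 = g := by
  revert g; decide

/-- The permutation of a letter: a point goes to its image under the inverse letter. -/
def qperm (g : ℕ) (hg : g < 6) : Equiv.Perm (Fin 1408) where
  toFun i := ⟨stepL (g ^^^ 1) i.1, (stepL_lt (xor_lt hg) i.2).1⟩
  invFun i := ⟨stepL g i.1, (stepL_lt hg i.2).1⟩
  left_inv i := Fin.ext (by
    have := (stepL_lt (xor_lt hg) i.2).2
    rwa [xor_xor hg] at this)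
  right_inv i := Fin.ext (stepL_lt hg i.2).2

/-- The permutation of x. -/
def qx : Equiv.Perm (Fin 1408) := qperm 0 (by decide)

/-- The permutation of y. -/
def qy : Equiv.Perm (Fin 1408) := qperm 2 (by decide)

/-- The permutation of z. -/
def qz : Equiv.Perm (Fin 1408) := qperm 4 (by decide)

theorem elt_q {g : ℕ} (hg : g < 6) : elt qx qy qz g = qperm g hg := by
  interval_cases g
  · rfl
  · ext i; rfl
  · rfl
  · ext i; rfl
  · rfl
  · ext i; rfl

theorem img_lt : ∀ {w : List ℕ}, (∀ g ∈ w, g < 6) → ∀ {i : ℕ}, i < 1408 → img w i < 1408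
  | [], _, _, hi => hi
  | g :: w, h, _, hi => img_lt (fun a ha => h a (List.mem_cons_of_mem _ ha))
      (stepL_lt (h g List.mem_cons_self) hi).1

/-- The image under a word is the value of the inverse of its product. -/
theorem img_spec : ∀ {w : List ℕ}, (∀ g ∈ w, g < 6) → ∀ i : Fin 1408,
    (((evalW (elt qx qy qz) w)⁻¹ i : Fin 1408) : ℕ) = img w i
  | [], _, i => by simp [evalW_nil, img]
  | g :: w, h, i => by
    have hg := h g List.mem_cons_self
    rw [evalW_cons, mul_inv_rev, Equiv.Perm.mul_apply,
      img_spec (fun a ha => h a (List.mem_cons_of_mem _ ha)), img]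
    refine congrArg (img w) ?_
    rw [elt_q hg]
    rfl

theorem rel_checks : (xyzRels.all fun w => (w.all fun g => Nat.blt g 6) &&
    (List.range 1408).all fun i => Nat.beq (img w i) i) = true := by
  decide +kernel

theorem q_rels : XYZRels qx qy qz := by
  intro w hw
  have h := List.all_eq_true.1 rel_checks w hw
  simp only [Bool.and_eq_true, List.all_eq_true, Nat.blt_eq, Nat.beq_eq, List.mem_range] at h
  rw [← inv_eq_one]
  ext i
  exact (img_spec h.1 i).trans (h.2 i.1 i.2)

theorem qx_sq_ne : qx * qx ≠ 1 := by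
  intro h
  have h0 : img [0, 0] 0 ≠ 0 := by decide +kernel
  refine h0 ?_
  have e := img_spec (w := [0, 0]) (by decide) ⟨0, by decide⟩
  rw [evalW_cons, evalW_cons, evalW_nil, mul_one, show elt qx qy qz 0 = qx from rfl, h, inv_one] at e
  exact e.symm

end CfsgLib.HNIndex
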