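import Cfsg.Agent.Lib.HNIndex.Fix

/-!
# Rules for deriving equations between points

A point is the image of one of a few vertices under an element of the group generated by x, y, z.
-/

set_option autoImplicit false

namespace CfsgLib.HNIndex

open CfsgLib.HNxyz

/-- The inverse of a word. -/
def invW (w : List ℕ) : List ℕ := w.reverse.map fun g => g ^^^ 1

theorem elt_xor {G : Type*} [Group G] (a b c : G) {g : ℕ} (hg : g < 6) :
    elt a b c (g ^^^ 1) = (elt a b c g)⁻¹ := by
  interval_cases g <;> simp [elt]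

theorem evalW_invW {G : Type*} [Group G] (a b c : G) :
    ∀ {w : List ℕ}, (∀ g ∈ invW w, g < 6) →
      evalW (elt a b c) (invW w) = (evalW (elt a b c) w)⁻¹
  | [], _ => by simp [invW, evalW_nil]
  | g :: w, h => by
    have e : invW (g :: w) = invW w ++ [g ^^^ 1] := by simp [invW]
    rw [e] at h ⊢
    have hg : g ^^^ 1 < 6 := h _ (List.mem_append_right _ List.mem_cons_self)
    have hg' : g < 6 := by
      have := xor_lt hg
      rwa [Nat.xor_assoc, Nat.xor_self, Nat.xor_zero] at this
    rw [evalW_append, evalW_invW a b c fun x hx => h x (List.mem_append_left _ hx),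
      evalW_cons, evalW_cons, evalW_nil, mul_one, elt_xor a b c hg', mul_inv_rev]

/-- Four elements satisfying the relations, and a point fixed by the first three. -/
structure Ctx (G : Type) (X : Type) [Group G] [MulAction G X] where
  /-- x -/
  a : G
  /-- y -/
  b : G
  /-- z -/
  c : G
  /-- t -/
  t : G
  /-- the point -/
  p0 : X
  rels : XYZRels a b c
  fix_a : a • p0 = p0
  fix_b : b • p0 = p0
  fix_c : c • p0 = p0
  t_five : t ^ 5 = 1
  t_conj : a⁻¹ * t * a * t ^ 2 = 1
  t_comm : t⁻¹ * b⁻¹ * t * b = 1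
  zt_three : (c * t) ^ 3 = 1

namespace Ctx

variable {G X : Type} [Group G] [MulAction G X] (C : Ctx G X)

/-- The element of a word. -/
def W (w : List ℕ) : G := evalW (elt C.a C.b C.c) w

theorem W_append (u v : List ℕ) : C.W (u ++ v) = C.W u * C.W v := evalW_append _ u v

theorem W_invW {w : List ℕ} (h : ∀ g ∈ invW w, g < 6) : C.W (invW w) = (C.W w)⁻¹ :=
  evalW_invW _ _ _ h

theorem conj_inv : C.a⁻¹ * C.t * C.a = (C.t ^ 2)⁻¹ := eq_inv_of_mul_eq_one_left C.t_conj

theorem conj_sq : C.a⁻¹ * C.t ^ 2 * C.a = C.t := by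
  have : C.a⁻¹ * C.t ^ 2 * C.a = (C.a⁻¹ * C.t * C.a) ^ 2 := by rw [pow_two, pow_two]; group
  rw [this, C.conj_inv, inv_pow, ← pow_mul, inv_eq_iff_mul_eq_one, ← pow_succ, C.t_five]

theorem tb : Commute C.t C.b := by
  have h : C.t⁻¹ * C.b⁻¹ * C.t * C.b = 1 := C.t_comm
  calc C.t * C.b = C.b * C.t * (C.t⁻¹ * C.b⁻¹ * C.t * C.b) := by group
    _ = C.b * C.t := by rw [h, mul_one]

theorem tab : Commute C.t (C.a⁻¹ * C.b * C.a) := by
  have h := (C.tb.pow_left 2).map (MulAut.conj C.a⁻¹).toMonoidHom
  simp only [MulEquiv.coe_toMonoidHom, MulAut.conj_apply, inv_inv] at h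
  rwa [C.conj_sq] at h

/-- The element of a word fixing the first point commutes with t. -/
theorem commute_fix0 {n : List ℕ} (e : fix0 n = true) : Commute C.t (C.W n) :=
  commute_of_fix0 C.rels C.tb C.tab e

theorem W_same {u v : List ℕ} (e : same u v = true) : C.W u = C.W v := eq_of_same C.rels e

theorem a_four : C.a * C.a * C.a * C.a = 1 := pow_four C.rels

theorem t_turn : C.t * (C.a * C.a) * C.t = C.a * C.a := by
  have h : (C.a * C.a)⁻¹ * C.t * (C.a * C.a) = C.t⁻¹ := by
    calc (C.a * C.a)⁻¹ * C.t * (C.a * C.a) = C.a⁻¹ * (C.a⁻¹ * C.t * C.a) * C.a := by group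
      _ = (C.a⁻¹ * C.t ^ 2 * C.a)⁻¹ := by rw [C.conj_inv]; group
      _ = C.t⁻¹ := by rw [C.conj_sq]
  calc C.t * (C.a * C.a) * C.t = (C.a * C.a) * ((C.a * C.a)⁻¹ * C.t * (C.a * C.a)) * C.t := by
        group
    _ = C.a * C.a := by rw [h]; group

/-- An equation between points. -/
def E (p : X) (u : List ℕ) (q : X) (v : List ℕ) : Prop := C.W u • p = C.W v • q

/-- An element fixing a point. -/
def S (p : X) (w : List ℕ) : Prop := C.W w • p = p

/-- The image of a point under t. -/
def T (p : X) (u : List ℕ) (q : X) (v : List ℕ) : Prop := C.t • C.W u • p = C.W v • q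

theorem stOne (p : X) : C.S p [] := by simp [S, W, evalW_nil]

theorem stRoot {w : List ℕ} (_ : (w.all fun g => Nat.blt g 6) = true) : C.S C.p0 w := by
  show C.W w • C.p0 = C.p0
  induction w with
  | nil => simp [W, evalW_nil]
  | cons g w ih =>
    rename_i h
    rw [List.all_cons, Bool.and_eq_true, Nat.blt_eq] at h
    rw [W, evalW_cons, mul_smul, show evalW (elt C.a C.b C.c) w = C.W w from rfl, ih h.2]
    obtain ⟨hg, -⟩ := h
    interval_cases g <;> simp [elt, C.fix_a, C.fix_b, C.fix_c, inv_smul_eq_iff]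

theorem stMul {p : X} {u v : List ℕ} (hu : C.S p u) (hv : C.S p v) (w : List ℕ)
    (e : same w (u ++ v) = true) : C.S p w := by
  show C.W w • p = p
  rw [C.W_same e, C.W_append, mul_smul, hv, hu]

theorem same_right {u v : List ℕ} (e : same u v = true) : ∀ g ∈ v, g < 6 := by
  simp only [same, Bool.and_eq_true, List.all_eq_true, Nat.blt_eq] at e
  exact e.1.2

theorem stInv {p : X} {u : List ℕ} (hu : C.S p u) (w : List ℕ) (e : same w (invW u) = true) :
    C.S p w := by
  show C.W w • p = p
  rw [C.W_same e, C.W_invW (same_right e), inv_smul_eq_iff, hu]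

theorem stEq {p : X} {u v : List ℕ} (h : C.E p u p v) (w : List ℕ)
    (e : same w (invW u ++ v) = true) : C.S p w := by
  show C.W w • p = p
  rw [C.W_same e, C.W_append, C.W_invW fun g hg => same_right e g (List.mem_append_left _ hg),
    mul_smul, inv_smul_eq_iff]
  exact h.symm

theorem defn (p : X) (r : List ℕ) : C.T p r (C.t • C.W r • p) [] := by
  simp [T, W, evalW_nil]

theorem flip {p q : X} {u v : List ℕ} (h : C.T p u q v) (u' v' : List ℕ)
    (e : same u' ([0, 0] ++ v) = true) (e' : same v' ([0, 0] ++ u) = true) : C.T q u' p v' := by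
  show C.t • C.W u' • q = C.W v' • p
  have h2 : C.W [0, 0] = C.a * C.a := by simp [W, evalW, elt]
  rw [C.W_same e, C.W_same e', C.W_append, C.W_append, h2, mul_smul, mul_smul]
  rw [show C.W v • q = C.t • C.W u • p from (h : C.t • C.W u • p = C.W v • q).symm]
  simp only [← mul_smul, ← mul_assoc]
  rw [show C.t * C.a * C.a * C.t = C.a * C.a from by simpa [mul_assoc] using C.t_turn]

theorem conv {p q : X} {u v l : List ℕ} (h : C.T p u q v) (hl : C.S p l) (u' v' : List ℕ)
    (e : fix0 (u' ++ invW l ++ invW u) = true)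
    (e' : same v' (u' ++ invW l ++ invW u ++ v) = true) : C.T p u' q v' := by
  show C.t • C.W u' • p = C.W v' • q
  have hn := C.commute_fix0 e
  simp only [fix0, Bool.and_eq_true, List.all_eq_true, Nat.blt_eq] at e
  have h6 := e.1
  have key : C.W u' = C.W (u' ++ invW l ++ invW u) * C.W u * C.W l := by
    rw [C.W_append, C.W_append,
      C.W_invW fun g hg => h6 g (List.mem_append_left _ (List.mem_append_right _ hg)),
      C.W_invW fun g hg => h6 g (List.mem_append_right _ hg)]
    group
  rw [C.W_same e', C.W_append, mul_smul, ← (h : C.t • C.W u • p = C.W v • q), key,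
    mul_smul, mul_smul, hl, ← mul_smul, hn.eq, mul_smul]

theorem sameSrc {p q q' : X} {u v v' : List ℕ} (h : C.T p u q v) (h' : C.T p u q' v') :
    C.E q v q' v' := by
  show C.W v • q = C.W v' • q'
  rw [← (h : C.t • C.W u • p = C.W v • q), ← (h' : C.t • C.W u • p = C.W v' • q')]

/-- The product of a list of steps, the first step acting first. -/
def prodOps : List (Option (List ℕ)) → G
  | [] => 1
  | none :: r => prodOps r * C.t
  | some g :: r => prodOps r * C.W g

theorem prodOps_append : ∀ A B : List (Option (List ℕ)),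
    C.prodOps (A ++ B) = C.prodOps B * C.prodOps A
  | [], B => by simp [prodOps]
  | none :: r, B => by
    rw [List.cons_append, prodOps, prodOps_append r B, prodOps, mul_assoc]
  | some g :: r, B => by
    rw [List.cons_append, prodOps, prodOps_append r B, prodOps, mul_assoc]

/-- A path of steps between points. -/
def Path (l : List (Option (List ℕ))) (p : X) (u : List ℕ) (q : X) (v : List ℕ) : Prop :=
  C.prodOps l • C.W u • p = C.W v • q

theorem pNil (p : X) (u : List ℕ) : C.Path [] p u p u := by simp [Path, prodOps]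

theorem pT {p q r : X} {u v w : List ℕ} {l : List (Option (List ℕ))} (h : C.T p u q v)
    (hr : C.Path l q v r w) : C.Path (none :: l) p u r w := by
  show C.prodOps (none :: l) • C.W u • p = C.W w • r
  rw [prodOps, mul_smul, (h : C.t • C.W u • p = C.W v • q)]
  exact hr

theorem pH {p r : X} {u w : List ℕ} {l : List (Option (List ℕ))} (g v : List ℕ)
    (e : same v (g ++ u) = true) (hr : C.Path l p v r w) : C.Path (some g :: l) p u r w := by
  show C.prodOps (some g :: l) • C.W u • p = C.W w • r
  rw [prodOps, mul_smul, ← mul_smul (C.W g), ← C.W_append, ← C.W_same e]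
  exact hr

theorem closeT {p f q : X} {pu fu qv : List ℕ} {A B : List (Option (List ℕ))}
    (hA : C.Path A p pu f fu) (hB : C.Path B q qv p pu)
    (hR : C.prodOps (A ++ none :: B) = 1) : C.T f fu q qv := by
  show C.t • C.W fu • f = C.W qv • q
  rw [prodOps_append, prodOps, mul_assoc] at hR
  have h2 : C.t * C.prodOps A * C.prodOps B = 1 := mul_eq_one_comm.1 hR
  rw [← (hA : C.prodOps A • C.W pu • p = C.W fu • f),
    ← (hB : C.prodOps B • C.W qv • q = C.W pu • p), ← mul_smul, ← mul_smul, h2,
    one_smul]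

theorem closeE {p f q : X} {pu fu qv : List ℕ} {A B : List (Option (List ℕ))}
    (hA : C.Path A p pu f fu) (hB : C.Path B q qv p pu)
    (hR : C.prodOps (A ++ B) = 1) : C.E f fu q qv := by
  show C.W fu • f = C.W qv • q
  rw [prodOps_append] at hR
  have h2 : C.prodOps A * C.prodOps B = 1 := mul_eq_one_comm.1 hR
  rw [← (hA : C.prodOps A • C.W pu • p = C.W fu • f),
    ← (hB : C.prodOps B • C.W qv • q = C.W pu • p), ← mul_smul, h2, one_smul]

theorem relOne : C.prodOps [none, some [4], none, some [4], none, some [4]] = 1 := by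
  have h := C.zt_three
  simp only [pow_succ, pow_zero, one_mul] at h
  simpa [prodOps, W, evalW, elt, mul_assoc] using h

theorem relTwo : C.prodOps [none, none, some [1], some [0, 0], none, some [0, 0, 0]] = 1 := by
  have h3 : C.a * C.a * C.a = C.a⁻¹ := eq_inv_of_mul_eq_one_left C.a_four
  have h := C.t_conj
  rw [pow_two] at h
  have e : C.prodOps [none, none, some [1], some [0, 0], none, some [0, 0, 0]] =
      C.a * C.a * C.a * C.t * (C.a * C.a) * C.a⁻¹ * C.t * C.t := by
    simp [prodOps, W, evalW, elt, mul_assoc]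
  rw [e, h3, ← h]
  group

end Ctx

end CfsgLib.HNIndex
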