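import Cfsg.Agent.Lib.HNIndex.Index

/-!
# The orbit reached in each direction (generated)
-/

set_option autoImplicit false
set_option maxRecDepth 100000
set_option linter.style.longLine false

namespace CfsgLib.HNIndex

open CfsgLib.HNxyz

variable {G X : Type} [Group G] [MulAction G X] (C : Ctx G X)

/-- In a direction a point is moved into a given orbit. -/
def GoodTo (p q : X) (c : ℕ) : Prop :=
  ∀ w : List ℕ, (∀ g ∈ w, g < 6) → img w 0 = c → C.t • C.W w • p ∈ orbSet C q

theorem goodTo_seed {p q : X} {u v : List ℕ} (h : C.T p u q v) (r : ℕ)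
    (e : ((u.all fun g => Nat.blt g 6) && Nat.beq (img u 0) r) = true) : GoodTo C p q r := by
  simp only [Bool.and_eq_true, Nat.beq_eq] at e
  intro w hw hwr
  have hu := and_lt e.1
  have hn : fix0 (w ++ invW u) = true := by
    simp only [fix0, Bool.and_eq_true, List.all_eq_true, Nat.blt_eq, Nat.beq_eq]
    refine ⟨fun g hg => ?_, ?_⟩
    · rcases List.mem_append.1 hg with hg | hg
      exacts [hw g hg, invW_lt hu g hg]
    · rw [img_append, hwr, ← e.2, img_invW hu (by decide)]
  rw [show C.W w = C.W (w ++ invW u) * C.W u from by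
      rw [C.W_append, C.W_invW (invW_lt hu), inv_mul_cancel_right],
    mul_smul, ← mul_smul, (C.commute_fix0 hn).eq, mul_smul, (h : C.t • C.W u • p = C.W v • q),
    ← mul_smul, ← C.W_append]
  exact mem_orbSet C

theorem goodTo_all {p q : X} {seeds : List ℕ} {gens : List (List ℕ)} {rows : List (ℕ × ℕ)} {m : ℕ}
    (hseed : ∀ r ∈ seeds, GoodTo C p q r) (hgen : ∀ g ∈ gens, C.S p g)
    (h6 : (gens.all fun g => g.all fun x => Nat.blt x 6) = true)
    (hlt : (seeds.all fun r => Nat.blt r 1408) = true)
    (hgrow : grow gens rows (seedSet seeds 0) = some m) :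
    ∀ c, m.testBit c = true → GoodTo C p q c := by
  let P : ℕ → Prop := fun c => c < 1408 ∧ GoodTo C p q c
  have hP : ∀ g ∈ gens, ∀ c, P c → P (img g c) := by
    intro g hg c ⟨hc, hgood⟩
    have hg6 := and_lt (List.all_eq_true.1 h6 g hg)
    refine ⟨img_lt hg6 hc, fun w hw hwc => ?_⟩
    have h1 := hgood (w ++ invW g) (fun x hx => by
      rcases List.mem_append.1 hx with hx | hx
      exacts [hw x hx, invW_lt hg6 x hx]) (by rw [img_append, hwc, img_invW hg6 hc])
    rwa [C.W_append, C.W_invW (invW_lt hg6), mul_smul,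
      inv_smul_eq_iff.2 (hgen g hg).symm] at h1
  obtain ⟨hall, -⟩ := grow_spec hP hgrow (fun i hi => by
    rcases seedSet_mem hi with hi | hi
    · exact ⟨Nat.blt_eq.mp (List.all_eq_true.1 hlt i hi), hseed i hi⟩
    · simp at hi)
  exact fun c hc => (hall c hc).2

/-- The directions from vertex 0 into the orbit of vertex 1. -/
def mask0_1 : ℕ := 0xffffffffffffffffffffffffffffffffffffffffffffffffffffffffffffffffffffffffffffffffffffffffffffffffffffffffffffffffffffffffffffffffffffffffffffffffffffffffffffffffffffffffffffffffffffffffffffffffffffffffffffffffffffffffffffffffffffffffffffffffffffffffffffffffffffffffffffffffffffffffffffffffffffffffffffffffffffffffffffffffffffffffffffffffffffffffffffffff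

/-- A tree for these directions. -/
def trow0_1 : List (ℕ × ℕ) := [
    (0, 0), (0, 2), (4, 0), (4, 2), (2, 0), (2, 1), (5, 0), (5, 2), (45, 1), (3, 1), (7, 0),
    (7, 1), (7, 2), (6, 1), (44, 0), (44, 1), (44, 2), (13, 0), (13, 1), (13, 2), (103, 1),
    (103, 2), (78, 0), (78, 1), (78, 2), (184, 0), (184, 1), (49, 0), (49, 1), (49, 2), (46, 1),
    (46, 2), (43, 0), (43, 1), (43, 2), (368, 0), (368, 1), (12, 1), (115, 0), (115, 1), (115, 2),
    (332, 1), (101, 1), (101, 2), (233, 1), (118, 1), (118, 2), (77, 0), (77, 1), (77, 2),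
    (1176, 0), (1176, 1), (185, 1), (196, 0), (196, 1), (196, 2), (8, 1), (104, 0), (104, 1),
    (104, 2), (186, 1), (48, 1), (48, 2), (270, 1), (81, 1), (81, 2), (42, 0), (42, 1), (42, 2),
    (789, 0), (789, 1), (280, 1), (579, 0), (579, 1), (579, 2), (11, 1), (11, 2), (173, 1),
    (116, 0), (116, 1), (116, 2), (832, 1), (370, 0), (370, 1), (370, 2), (102, 0), (102, 2),
    (114, 1), (143, 0), (143, 1), (143, 2), (119, 0), (119, 1), (119, 2), (1177, 1), (76, 1),
    (76, 2), (79, 0), (79, 1), (79, 2), (54, 0), (54, 1), (1020, 1), (1178, 0), (1178, 2),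
    (27, 0), (27, 1), (27, 2), (793, 1), (793, 2), (1048, 0), (1048, 1), (1048, 2), (917, 0),
    (917, 1), (10, 1), (10, 2), (187, 1), (105, 0), (105, 1), (105, 2), (1018, 1), (749, 0),
    (749, 1), (749, 2), (47, 0), (47, 2), (160, 1), (62, 0), (62, 1), (62, 2), (82, 0), (82, 1),
    (82, 2), (790, 1), (41, 1), (41, 2), (241, 0), (241, 1), (241, 2), (19, 0), (19, 1), (849, 1),
    (794, 0), (794, 2), (150, 0), (150, 1), (150, 2), (371, 1), (371, 2), (580, 0), (580, 1),
    (580, 2), (485, 0), (485, 1), (15, 2), (16, 1), (174, 0), (174, 1), (174, 2), (171, 1),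
    (117, 0), (117, 2), (163, 1), (868, 0), (868, 2), (578, 1), (646, 0), (646, 1), (646, 2),
    (1007, 1), (159, 2), (273, 0), (113, 0), (113, 1), (113, 2), (28, 1), (28, 2), (144, 0),
    (144, 1), (144, 2), (34, 0), (34, 1), (193, 1), (193, 2), (120, 0), (120, 1), (120, 2),
    (232, 0), (232, 1), (1267, 0), (1267, 2), (75, 0), (75, 1), (75, 2), (110, 1), (204, 1),
    (204, 2), (1179, 0), (1179, 1), (55, 1), (323, 0), (323, 1), (323, 2), (1021, 0), (1021, 1),
    (1021, 2), (885, 1), (885, 2), (517, 0), (517, 1), (140, 1), (26, 0), (26, 1), (26, 2),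
    (136, 1), (1166, 0), (1166, 1), (1166, 2), (558, 1), (722, 1), (722, 2), (337, 0), (337, 1),
    (337, 2), (1128, 0), (1128, 1), (1038, 1), (535, 0), (535, 1), (535, 2), (9, 2), (51, 1),
    (188, 0), (188, 1), (188, 2), (94, 1), (172, 0), (172, 2), (111, 1), (831, 0), (831, 2),
    (197, 1), (750, 0), (750, 1), (750, 2), (1262, 1), (50, 2), (271, 0), (161, 0), (161, 1),
    (161, 2), (151, 1), (151, 2), (61, 0), (61, 1), (61, 2), (157, 0), (157, 1), (333, 1),
    (333, 2), (83, 0), (83, 1), (83, 2), (570, 0), (570, 1), (1031, 0), (1031, 2), (40, 0),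
    (40, 1), (40, 2), (164, 1), (318, 1), (318, 2), (795, 0), (795, 1), (20, 1), (320, 0),
    (320, 2), (850, 0), (850, 1), (850, 2), (818, 1), (818, 2), (1197, 0), (1197, 1), (63, 1),
    (149, 0), (149, 1), (149, 2), (69, 1), (736, 0), (736, 1), (736, 2), (860, 1), (581, 1),
    (581, 2), (744, 0), (744, 1), (744, 2), (589, 0), (589, 1), (484, 1), (861, 0), (861, 1),
    (861, 2), (17, 1), (17, 2), (315, 1), (175, 0), (175, 1), (398, 1), (170, 0), (170, 1),
    (240, 1), (426, 1), (324, 0), (324, 1), (324, 2), (869, 1), (636, 1), (346, 0), (346, 1),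
    (346, 2), (237, 0), (237, 1), (237, 2), (632, 1), (1006, 0), (1006, 1), (1006, 2), (272, 1),
    (243, 1), (319, 2), (112, 0), (112, 2), (559, 0), (30, 1), (30, 2), (31, 1), (145, 1),
    (145, 2), (753, 0), (753, 1), (753, 2), (295, 0), (295, 1), (137, 1), (35, 0), (35, 1),
    (35, 2), (194, 0), (194, 1), (194, 2), (996, 1), (1090, 2), (121, 0), (121, 2), (573, 0),
    (573, 1), (313, 1), (231, 0), (231, 1), (231, 2), (1309, 1), (1309, 2), (1382, 0), (1382, 1),
    (74, 1), (74, 2), (181, 0), (181, 2), (920, 0), (920, 1), (109, 0), (109, 1), (109, 2),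
    (205, 2), (575, 1), (1241, 1), (1180, 0), (1180, 1), (1180, 2), (56, 0), (56, 1), (56, 2),
    (304, 1), (304, 2), (322, 2), (1233, 0), (1233, 1), (1210, 1), (1003, 1), (910, 1), (1188, 0),
    (1188, 1), (1188, 2), (510, 1), (1346, 1), (516, 0), (516, 1), (516, 2), (141, 1), (141, 2),
    (25, 1), (268, 0), (268, 1), (268, 2), (258, 1), (135, 0), (135, 1), (135, 2), (409, 2),
    (1167, 0), (1167, 1), (1167, 2), (1139, 0), (1139, 1), (557, 0), (557, 1), (557, 2), (605, 1),
    (514, 1), (752, 1), (752, 2), (279, 1), (279, 2), (1344, 0), (1344, 1), (1129, 0), (1129, 1),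
    (1129, 2), (1037, 0), (1037, 1), (1037, 2), (302, 2), (534, 0), (534, 1), (534, 2), (536, 0),
    (536, 1), (52, 1), (52, 2), (278, 1), (189, 0), (189, 1), (1097, 1), (92, 0), (92, 1),
    (192, 1), (668, 1), (327, 0), (327, 2), (1017, 1), (830, 1), (247, 0), (247, 1), (247, 2),
    (751, 0), (751, 1), (751, 2), (513, 1), (1261, 0), (1261, 1), (1261, 2), (286, 1), (341, 1),
    (326, 2), (162, 0), (162, 2), (153, 1), (153, 2), (154, 1), (60, 1), (60, 2), (644, 0),
    (644, 1), (644, 2), (438, 0), (438, 1), (66, 1), (158, 0), (158, 1), (158, 2), (334, 0),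
    (334, 1), (334, 2), (1089, 1), (369, 2), (84, 0), (84, 2), (1030, 0), (1030, 1), (450, 1),
    (571, 0), (571, 1), (571, 2), (1329, 1), (1329, 2), (1227, 0), (1227, 1), (39, 1), (39, 2),
    (128, 0), (128, 2), (648, 0), (648, 1), (165, 0), (165, 1), (165, 2), (796, 1), (962, 1),
    (797, 0), (797, 1), (797, 2), (21, 0), (21, 1), (21, 2), (444, 1), (444, 2), (927, 0),
    (927, 1), (872, 1), (851, 1), (1396, 1), (817, 0), (817, 1), (817, 2), (635, 1), (1114, 1),
    (1196, 0), (1196, 1), (1196, 2), (65, 1), (65, 2), (148, 1), (366, 0), (366, 1), (366, 2),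
    (356, 1), (70, 0), (70, 1), (70, 2), (857, 2), (737, 0), (737, 1), (737, 2), (626, 0),
    (626, 1), (1034, 0), (1034, 1), (1034, 2), (1047, 1), (1067, 1), (238, 1), (238, 2), (429, 1),
    (429, 2), (1354, 0), (1354, 1), (590, 0), (590, 1), (590, 2), (942, 0), (942, 1), (942, 2),
    (442, 2), (1303, 0), (1303, 1), (1303, 2), (483, 0), (483, 1), (18, 0), (18, 2), (316, 0),
    (316, 1), (316, 2), (176, 0), (176, 2), (397, 0), (397, 1), (397, 2), (169, 1), (331, 0),
    (331, 2), (275, 2), (425, 0), (425, 1), (425, 2), (487, 1), (870, 0), (870, 1), (870, 2),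
    (1117, 1), (1117, 2), (345, 0), (345, 1), (345, 2), (347, 1), (770, 1), (208, 1), (208, 2),
    (1080, 1), (1060, 0), (1060, 1), (1060, 2), (1077, 0), (1077, 1), (1077, 2), (643, 1),
    (702, 1), (702, 2), (402, 1), (402, 2), (1101, 1), (452, 1), (452, 2), (418, 0), (418, 1),
    (1352, 1), (29, 0), (29, 2), (32, 0), (32, 1), (32, 2), (146, 0), (146, 1), (146, 2),
    (257, 1), (709, 1), (709, 2), (297, 0), (297, 1), (296, 1), (1175, 1), (139, 0), (139, 1),
    (139, 2), (36, 1), (36, 2), (808, 0), (808, 2), (809, 0), (809, 1), (234, 1), (234, 2),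
    (195, 2), (408, 0), (997, 0), (997, 1), (997, 2), (129, 1), (129, 2), (339, 0), (1004, 1),
    (574, 0), (574, 2), (312, 0), (312, 1), (312, 2), (905, 1), (905, 2), (230, 0), (230, 1),
    (230, 2), (935, 0), (935, 1), (1310, 0), (1310, 1), (1310, 2), (1381, 1), (993, 1), (1221, 0),
    (1221, 1), (1221, 2), (73, 1), (939, 1), (100, 1), (100, 2), (1093, 0), (1093, 1), (921, 1),
    (938, 1), (108, 1), (108, 2), (227, 0), (227, 2), (214, 0), (214, 1), (576, 0), (576, 2),
    (987, 0), (987, 2), (735, 1), (735, 2), (726, 1), (726, 2), (380, 1), (57, 1), (328, 2),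
    (657, 1), (305, 1), (531, 1), (1387, 1), (1103, 1), (1232, 0), (1232, 2), (1211, 0),
    (1211, 1), (1211, 2), (1002, 0), (1002, 2), (911, 0), (911, 1), (911, 2), (1265, 2), (884, 0),
    (884, 2), (301, 0), (301, 1), (511, 0), (511, 1), (511, 2), (1347, 0), (1347, 1), (1347, 2),
    (1336, 2), (595, 0), (595, 1), (595, 2), (1334, 0), (1334, 1), (142, 0), (142, 2), (24, 0),
    (24, 2), (269, 1), (217, 1), (780, 1), (98, 1), (723, 2), (1014, 1), (1203, 2), (1098, 0),
    (1098, 1), (913, 0), (913, 1), (1140, 0), (1140, 1), (1190, 2), (556, 0), (556, 1), (1272, 0),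
    (606, 1), (679, 0), (679, 1), (679, 2), (1343, 1), (206, 2), (1279, 1), (1345, 0), (1345, 1),
    (1345, 2), (1130, 1), (1130, 2), (1208, 1), (1208, 2), (1266, 0), (1266, 1), (1036, 0),
    (1036, 1), (682, 1), (916, 2), (533, 0), (533, 2), (681, 0), (537, 0), (537, 1), (53, 2),
    (314, 0), (314, 1), (314, 2), (191, 0), (904, 0), (904, 1), (904, 2), (91, 1), (93, 0),
    (93, 2), (667, 1), (1016, 0), (1016, 1), (1016, 2), (829, 1), (829, 2), (246, 1), (246, 2),
    (248, 1), (338, 1), (378, 1), (378, 2), (1280, 1), (1271, 0), (1271, 1), (1271, 2), (1277, 0),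
    (1277, 1), (1277, 2), (455, 1), (285, 1), (285, 2), (785, 1), (785, 2), (466, 1), (468, 1),
    (524, 0), (524, 1), (152, 0), (152, 2), (155, 0), (155, 1), (155, 2), (59, 1), (355, 1),
    (477, 1), (477, 2), (387, 0), (387, 1), (439, 1), (781, 1), (67, 0), (67, 1), (67, 2),
    (132, 2), (952, 0), (952, 2), (614, 0), (614, 1), (335, 1), (335, 2), (1055, 2), (856, 0),
    (1088, 0), (1088, 1), (1088, 2), (95, 1), (95, 2), (1063, 0), (819, 0), (819, 2), (449, 0),
    (449, 1), (449, 2), (474, 1), (474, 2), (677, 0), (677, 1), (677, 2), (1362, 0), (1362, 1),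
    (1328, 0), (1328, 1), (1328, 2), (1256, 1), (1399, 1), (896, 0), (896, 1), (896, 2), (38, 1),
    (776, 1), (330, 1), (330, 2), (376, 0), (376, 1), (718, 1), (607, 1), (166, 2), (225, 0),
    (225, 2), (224, 0), (224, 1), (791, 0), (791, 2), (848, 0), (848, 2), (747, 1), (932, 2),
    (393, 2), (384, 1), (498, 1), (488, 1), (873, 0), (873, 1), (873, 2), (877, 0), (877, 2),
    (1392, 0), (1392, 1), (1392, 2), (1019, 2), (966, 0), (966, 2), (441, 0), (441, 1), (634, 0),
    (634, 1), (634, 2), (1115, 0), (1115, 1), (1115, 2), (1116, 2), (1195, 0), (1195, 1),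
    (1160, 0), (1160, 1), (64, 2), (367, 1), (705, 1), (1379, 1), (958, 2), (1182, 1), (853, 2),
    (403, 0), (403, 1), (694, 0), (694, 1), (627, 0), (627, 1), (821, 2), (769, 0), (769, 1),
    (1062, 0), (937, 1), (562, 0), (562, 1), (562, 2), (1283, 1), (428, 2), (1079, 1), (1337, 0),
    (1337, 1), (1337, 2), (591, 1), (591, 2), (866, 1), (866, 2), (1028, 0), (1028, 1), (1125, 0),
    (1125, 1), (946, 2), (941, 0), (941, 2), (586, 0), (623, 0), (623, 1), (446, 1), (290, 1),
    (1053, 1), (317, 2), (85, 1), (1065, 1), (396, 0), (396, 1), (396, 2), (892, 1), (134, 1),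
    (798, 1), (424, 2), (871, 0), (871, 2), (707, 1), (1132, 0), (1132, 1), (1132, 2), (899, 1),
    (344, 0), (344, 1), (1229, 1), (348, 0), (348, 1), (599, 0), (599, 1), (599, 2), (207, 2),
    (1081, 0), (1081, 1), (1081, 2), (1059, 1), (1304, 1), (1304, 2), (879, 1), (928, 0),
    (928, 2), (642, 0), (642, 1), (701, 0), (701, 1), (1237, 0), (1237, 1), (670, 0), (670, 1),
    (670, 2), (660, 1), (211, 1), (434, 0), (434, 1), (434, 2), (1359, 0), (1359, 1), (226, 1),
    (754, 1), (931, 2), (975, 0), (975, 2), (840, 1), (810, 1), (235, 2), (407, 0), (998, 1),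
    (998, 2), (1149, 0), (1149, 1), (130, 0), (130, 1), (719, 1), (712, 1), (1384, 1), (311, 0),
    (907, 0), (907, 2), (908, 1), (310, 1), (229, 0), (229, 1), (229, 2), (1291, 0), (1291, 1),
    (934, 0), (1311, 1), (1311, 2), (1000, 2), (1239, 0), (411, 2), (1220, 1), (983, 1), (802, 0),
    (802, 1), (802, 2), (742, 1), (1134, 1), (1092, 0), (1092, 1), (922, 1), (1050, 1), (1050, 2),
    (329, 1), (763, 1), (391, 1), (844, 1), (432, 2), (381, 1), (255, 1), (656, 1), (306, 1),
    (1288, 1), (1302, 1), (1282, 2), (1246, 0), (1246, 1), (979, 1), (300, 0), (300, 1),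
    (1405, 0), (1405, 2), (1404, 0), (1404, 2), (1222, 1), (1056, 1), (1056, 2), (1068, 0),
    (1068, 2), (618, 0), (618, 1), (1315, 1), (775, 0), (775, 2), (1052, 1), (1250, 2), (1375, 0),
    (1375, 2), (1368, 1), (406, 1), (406, 2), (1091, 0), (1141, 1), (1141, 2), (1174, 1),
    (1174, 2), (555, 1), (1238, 1), (1238, 2), (568, 2), (680, 2), (125, 1), (1236, 2), (1397, 1),
    (1397, 2), (360, 1), (360, 2), (834, 0), (551, 0), (551, 1), (1024, 1), (664, 1), (985, 1),
    (1308, 2), (508, 1), (1035, 0), (1035, 2), (837, 1), (1235, 2), (715, 0), (1348, 1), (759, 2),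
    (538, 1), (661, 1), (400, 1), (236, 2), (122, 1), (684, 1), (309, 1), (1217, 1), (183, 1),
    (1209, 0), (1209, 2), (1157, 1), (828, 0), (828, 1), (716, 1), (245, 1), (1033, 0), (1033, 1),
    (1033, 2), (1281, 0), (1281, 1), (1270, 1), (1322, 1), (1322, 2), (1023, 1), (1234, 2),
    (456, 1), (933, 0), (933, 1), (470, 0), (470, 2), (886, 1), (782, 0), (321, 1), (478, 1),
    (1357, 2), (1398, 0), (1398, 2), (1015, 1), (336, 2), (1012, 0), (1400, 1), (675, 0), (96, 0),
    (96, 1), (584, 1), (841, 1), (1258, 1), (448, 0), (472, 0), (472, 2), (1389, 1), (447, 1),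
    (640, 0), (640, 2), (1257, 0), (1257, 1), (1388, 0), (1301, 1), (1301, 2), (1402, 2),
    (944, 0), (1228, 2), (895, 1), (777, 1), (1044, 0), (1044, 1), (1044, 2), (1341, 1), (616, 1),
    (375, 1), (1253, 1), (608, 1), (608, 2), (392, 1), (491, 1), (223, 1), (655, 1), (1249, 1),
    (1215, 2), (976, 0), (976, 1), (862, 1), (388, 0), (388, 1), (1407, 0), (1407, 2), (1406, 0),
    (1406, 2), (969, 1), (969, 2), (1372, 1), (458, 1), (980, 2), (1245, 0), (1245, 2), (1183, 1),
    (738, 1), (373, 0), (767, 1), (767, 2), (1112, 1), (936, 2), (563, 2), (561, 2), (88, 1),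
    (930, 2), (1386, 2), (1342, 1), (1342, 2), (1073, 0), (592, 0), (592, 1), (880, 1), (265, 1),
    (1027, 1), (1330, 2), (1124, 1), (1008, 2), (672, 1), (929, 2), (898, 0), (1198, 1), (622, 2),
    (755, 1), (460, 0), (676, 1), (395, 0), (395, 2), (529, 1), (891, 0), (963, 1), (963, 2),
    (706, 0), (706, 1), (519, 1), (202, 1), (343, 0), (349, 1), (349, 2), (600, 2), (1058, 1),
    (464, 1), (1120, 1), (1109, 1), (1318, 0), (1318, 2), (569, 1), (1292, 0), (1292, 1),
    (659, 0), (659, 2), (212, 0), (212, 2), (435, 1), (901, 0), (901, 1), (1319, 1), (1360, 0),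
    (1360, 2), (710, 1), (1255, 1), (811, 1), (729, 1), (507, 1), (730, 1), (228, 2), (971, 1),
    (1147, 1), (420, 2), (801, 1), (801, 2), (957, 2), (1299, 0), (1049, 2), (649, 1), (1105, 0),
    (1105, 1), (390, 0), (390, 2), (1365, 1), (382, 0), (382, 2), (1323, 1), (1084, 0), (1084, 2),
    (453, 0), (1289, 0), (1289, 2), (494, 2), (1118, 1), (978, 0), (978, 2), (299, 2), (1242, 2),
    (654, 0), (1268, 2), (1324, 0), (1324, 1), (1051, 1), (974, 1), (1168, 1), (1173, 0),
    (1173, 1), (1173, 2), (126, 1), (359, 1), (552, 0), (1025, 2), (984, 2), (250, 1), (539, 1),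
    (539, 2), (604, 1), (604, 2), (220, 0), (220, 1), (594, 1), (835, 2), (363, 1), (457, 1),
    (1403, 0), (564, 1), (1355, 1), (863, 0), (863, 2), (261, 1), (1145, 1), (1320, 1), (1111, 1),
    (545, 1), (548, 1), (179, 1), (179, 2), (950, 2), (560, 1), (490, 1), (222, 2), (1096, 0),
    (1096, 2), (1248, 2), (527, 1), (1107, 2), (298, 2), (1380, 1), (766, 2), (89, 1), (292, 1),
    (881, 2), (1026, 2), (480, 1), (480, 2), (461, 1), (1243, 1), (964, 2), (218, 2), (350, 2),
    (540, 1), (540, 2), (1108, 2), (1087, 1), (733, 1), (1340, 1), (1353, 2), (351, 2), (812, 1),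
    (506, 0), (800, 2), (650, 2), (542, 1), (1364, 2), (1378, 1), (505, 0), (992, 2), (362, 0),
    (799, 2), (219, 2), (479, 1), (479, 2), (1165, 1), (611, 1), (180, 2)]

theorem mask0_1_ok : ([0].all fun r => Nat.blt r 1408) &&
    (grow gens0 trow0_1 (seedSet [0] 0) == some mask0_1) = true := by
  decide +kernel

theorem toOrb0_1 : ∀ c, mask0_1.testBit c = true → GoodTo C (vert C 0) (vert C 1) c := by
  have h := mask0_1_ok
  simp only [Bool.and_eq_true, beq_iff_eq, decide_eq_true_eq] at h
  refine goodTo_all C (seeds := [0]) (gens := gens0) (rows := trow0_1) ?_ ?_ (by decide +kernel) h.1 h.2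
  · intro r hr
    simp only [List.mem_cons, List.not_mem_nil, or_false] at hr
    subst hr
    exact goodTo_seed C (h1421 C) 0 (by decide +kernel)
  · intro g hg
    simp only [gens0, List.mem_cons, List.not_mem_nil, or_false] at hg
    rcases hg with rfl | rfl | rfl
    · exact h0 C
    · exact h1 C
    · exact h2 C

/-- The directions from vertex 1 into the orbit of vertex 0. -/
def mask1_0 : ℕ := 0x20

/-- A tree for these directions. -/
def trow1_0 : List (ℕ × ℕ) := []

theorem mask1_0_ok : ([5].all fun r => Nat.blt r 1408) &&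
    (grow gens1 trow1_0 (seedSet [5] 0) == some mask1_0) = true := by
  decide +kernel

theorem toOrb1_0 : ∀ c, mask1_0.testBit c = true → GoodTo C (vert C 1) (vert C 0) c := by
  have h := mask1_0_ok
  simp only [Bool.and_eq_true, beq_iff_eq, decide_eq_true_eq] at h
  refine goodTo_all C (seeds := [5]) (gens := gens1) (rows := trow1_0) ?_ ?_ (by decide +kernel) h.1 h.2
  · intro r hr
    simp only [List.mem_cons, List.not_mem_nil, or_false] at hr
    subst hr
    exact goodTo_seed C (h1422 C) 5 (by decide +kernel)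
  · intro g hg
    simp only [gens1, List.mem_cons, List.not_mem_nil, or_false] at hg
    rcases hg with rfl | rfl | rfl
    · exact h1432 C
    · exact h2458 C
    · exact h4010 C

/-- The directions from vertex 1 into the orbit of vertex 1. -/
def mask1_1 : ℕ := 0x600000000000000000000020c000000000000000000000000000c000000000308000000000000000000000000000000000000000000000001000000000000000000000000000000000000000000000000000800000000000000000004400000000400000000010000000000040c0000000000e011c0004000f1ee0600001c33000004097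

/-- A tree for these directions. -/
def trow1_1 : List (ℕ × ℕ) := [
    (2, 0), (2, 1), (314, 1), (314, 2), (139, 1), (70, 0), (70, 1), (70, 2), (122, 0), (122, 1),
    (41, 0), (41, 1), (41, 2), (278, 1), (278, 2), (14, 1), (14, 2), (123, 1), (123, 2), (84, 0),
    (84, 1), (84, 2), (78, 1), (78, 2), (69, 0), (69, 1), (77, 1), (37, 1), (37, 2), (47, 2),
    (82, 0), (799, 2), (183, 1), (183, 2), (1053, 0), (1053, 1), (81, 0), (81, 2), (90, 1),
    (90, 2), (236, 0), (236, 1), (399, 0), (399, 1), (399, 2), (804, 2), (124, 1), (958, 1),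
    (128, 2)]

theorem mask1_1_ok : ([0, 1, 2, 4].all fun r => Nat.blt r 1408) &&
    (grow gens1 trow1_1 (seedSet [0, 1, 2, 4] 0) == some mask1_1) = true := by
  decide +kernel

theorem toOrb1_1 : ∀ c, mask1_1.testBit c = true → GoodTo C (vert C 1) (vert C 1) c := by
  have h := mask1_1_ok
  simp only [Bool.and_eq_true, beq_iff_eq, decide_eq_true_eq] at h
  refine goodTo_all C (seeds := [0, 1, 2, 4]) (gens := gens1) (rows := trow1_1) ?_ ?_ (by decide +kernel) h.1 h.2
  · intro r hr
    simp only [List.mem_cons, List.not_mem_nil, or_false] at hr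
    rcases hr with rfl | rfl | rfl | rfl
    · exact goodTo_seed C (h5520 C) 0 (by decide +kernel)
    · exact goodTo_seed C (h5521 C) 1 (by decide +kernel)
    · exact goodTo_seed C (h5543 C) 2 (by decide +kernel)
    · exact goodTo_seed C (h5558 C) 4 (by decide +kernel)
  · intro g hg
    simp only [gens1, List.mem_cons, List.not_mem_nil, or_false] at hg
    rcases hg with rfl | rfl | rfl
    · exact h1432 C
    · exact h2458 C
    · exact h4010 C

/-- The directions from vertex 1 into the orbit of vertex 2. -/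
def mask1_2 : ℕ := 0xf8fffcf9c43fff8fc3185ee40fc7ff3be4e063c7fdbf7c3f01c03fe000e00067c9fe1ffeff3fb1c07fe0783f00007c000001c007c01ffe030007e0efe07ff001ffc0000ff80000007ff000000001f003fc0000000000001f81fc400020ff80003fff0000003ff8000000fff800ff93fff007fff0000e000007fc003ffc0000fff80001fff800000000007fff0000007fff000001fffe0000000000000000000000000000000000000000000000000000

/-- A tree for these directions. -/
def trow1_2 : List (ℕ × ℕ) := [
    (209, 0), (209, 1), (209, 2), (301, 1), (301, 2), (929, 0), (929, 1), (929, 2), (631, 0),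
    (631, 1), (631, 2), (548, 0), (548, 1), (1270, 0), (1270, 1), (1270, 2), (291, 1), (291, 2),
    (250, 0), (250, 1), (250, 2), (655, 0), (655, 1), (655, 2), (970, 1), (970, 2), (467, 0),
    (467, 1), (517, 0), (517, 1), (517, 2), (1321, 1), (1321, 2), (552, 0), (552, 1), (552, 2),
    (1383, 1), (1095, 0), (1095, 1), (1095, 2), (1140, 0), (1140, 1), (1140, 2), (1248, 0),
    (1248, 1), (1248, 2), (708, 0), (708, 1), (708, 2), (1106, 1), (1106, 2), (219, 0), (219, 1),
    (219, 2), (1151, 1), (1151, 2), (1207, 1), (1207, 2), (385, 0), (385, 1), (385, 2), (1234, 0),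
    (1234, 1), (1234, 2), (783, 0), (783, 1), (783, 2), (414, 0), (694, 1), (694, 2), (360, 0),
    (360, 1), (991, 1), (991, 2), (487, 1), (487, 2), (410, 0), (410, 1), (1393, 0), (1393, 1),
    (1393, 2), (1131, 0), (1131, 1), (1131, 2), (915, 1), (915, 2), (1249, 0), (1249, 1),
    (1249, 2), (1173, 0), (1173, 1), (1173, 2), (1127, 0), (1127, 1), (917, 1), (917, 2),
    (1117, 0), (1117, 1), (1117, 2), (216, 0), (216, 1), (216, 2), (1307, 1), (1307, 2),
    (1289, 0), (1289, 1), (1289, 2), (1192, 1), (1305, 0), (1305, 1), (1305, 2), (1261, 0),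
    (1261, 1), (1261, 2), (520, 1), (520, 2), (1056, 0), (1056, 1), (1056, 2), (495, 0), (493, 0),
    (493, 1), (493, 2), (626, 0), (626, 1), (626, 2), (867, 1), (867, 2), (1008, 0), (1361, 0),
    (1361, 1), (1361, 2), (912, 0), (912, 2), (437, 0), (437, 1), (1103, 0), (1247, 0), (1247, 1),
    (1283, 1), (1283, 2), (707, 0), (707, 1), (707, 2), (260, 2), (251, 1), (251, 2), (889, 0),
    (781, 0), (1388, 1), (1388, 2), (1119, 0), (1119, 1), (1119, 2), (1281, 0), (1281, 1),
    (259, 0), (1230, 1), (1230, 2), (1337, 0), (1337, 1), (764, 1), (764, 2), (864, 0), (864, 1),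
    (864, 2), (1392, 0), (353, 1), (347, 0), (347, 1), (347, 2), (381, 1), (381, 2), (1279, 0),
    (1279, 1), (1279, 2), (1194, 0), (1194, 1), (1194, 2), (442, 1), (442, 2), (893, 0), (893, 1),
    (893, 2), (828, 0), (828, 2), (909, 0), (909, 1), (782, 1), (1269, 1), (224, 0), (224, 1),
    (224, 2), (822, 1), (533, 2), (257, 0), (257, 1), (257, 2), (351, 0), (706, 1), (1143, 0),
    (1143, 1), (974, 0), (974, 1), (974, 2), (1319, 0), (1319, 1), (590, 2), (931, 1), (1362, 0),
    (1406, 1), (587, 0), (587, 1), (587, 2), (1322, 0), (387, 1), (1175, 1), (1175, 2), (213, 0),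
    (213, 1), (213, 2), (625, 0), (358, 0), (358, 1), (358, 2), (656, 1), (656, 2), (498, 0),
    (498, 1), (498, 2), (1363, 0), (1363, 1), (1363, 2), (1190, 0), (435, 1), (1389, 0),
    (1389, 1), (1389, 2), (595, 0), (595, 1), (1112, 1), (1112, 2), (551, 1), (551, 2), (1274, 1),
    (1274, 2), (1078, 2), (1067, 0), (1067, 1), (1067, 2), (534, 1), (534, 2), (1114, 1),
    (1114, 2), (509, 0), (509, 2), (663, 0), (1246, 2), (297, 0), (297, 1), (297, 2), (866, 1),
    (866, 2), (532, 2), (531, 0), (860, 1), (860, 2), (1191, 0), (1191, 2), (1219, 1), (1219, 2),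
    (1094, 1), (1094, 2), (1196, 1), (1196, 2), (971, 0), (971, 1), (591, 0), (591, 1), (591, 2),
    (1285, 0), (296, 0), (296, 1), (296, 2), (1174, 1), (1174, 2), (918, 2), (1297, 0), (1297, 1),
    (1297, 2), (218, 1), (1123, 0), (1123, 1), (1123, 2), (421, 2), (1298, 1), (1298, 2),
    (1387, 1), (1387, 2), (354, 1), (354, 2), (1294, 2), (1352, 1), (1352, 2), (1375, 0),
    (1375, 1), (1375, 2), (380, 1), (380, 2), (1217, 1), (1217, 2), (1353, 0), (1353, 1),
    (1353, 2), (969, 0), (861, 1), (1229, 1), (1229, 2), (1277, 1), (1277, 2), (1137, 0),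
    (386, 0), (829, 0), (829, 1), (829, 2), (972, 2), (511, 0), (511, 1), (1295, 1), (1295, 2),
    (594, 0), (594, 1), (1364, 0), (1364, 1), (222, 1), (1326, 1), (1082, 1), (1082, 2),
    (1130, 1), (1130, 2), (512, 0), (512, 1), (1107, 0), (1107, 1), (1107, 2), (1216, 0),
    (1216, 2), (248, 1), (248, 2), (391, 2), (349, 0), (382, 0), (382, 2), (556, 0), (556, 1),
    (556, 2), (1197, 1), (1197, 2), (1324, 0), (1324, 1), (1324, 2), (295, 2), (862, 1), (862, 2),
    (496, 1), (496, 2), (550, 1), (916, 0), (916, 1), (1280, 0), (1144, 0), (1144, 1), (1144, 2),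
    (1235, 0), (1235, 1), (1403, 0), (914, 0), (914, 1), (1150, 0), (941, 0), (1037, 1),
    (1077, 1), (553, 1), (693, 1), (693, 2), (628, 1), (1096, 0), (1096, 1), (1096, 2), (383, 1),
    (1006, 0), (827, 2), (1079, 0), (934, 0), (934, 1), (934, 2), (1293, 0), (1141, 1), (518, 1),
    (465, 1), (830, 0), (830, 1), (830, 2), (412, 1), (412, 2), (1118, 0), (1118, 1), (1256, 1),
    (1347, 0), (1347, 1), (292, 1), (490, 1), (490, 2), (1354, 0), (1354, 1), (220, 0), (220, 1),
    (220, 2), (1126, 1), (1126, 2), (911, 2), (910, 1), (1288, 1), (1193, 0), (1343, 1),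
    (1343, 2), (1407, 1), (1407, 2), (1250, 1), (977, 1), (977, 2), (1122, 1), (1122, 2),
    (1080, 1), (1237, 0), (1396, 0), (1396, 1), (299, 0), (299, 2), (352, 1), (352, 2), (1397, 1),
    (547, 0), (890, 0), (549, 1), (549, 2), (1115, 1), (632, 2), (389, 0), (513, 0), (1292, 1),
    (258, 1), (258, 2), (1236, 1), (592, 2), (1069, 2), (261, 0), (261, 1), (261, 2), (821, 1),
    (821, 2), (1228, 2), (1331, 1), (1129, 2), (980, 1), (980, 2), (935, 0), (935, 1), (935, 2),
    (1084, 1), (1124, 1), (300, 0), (1284, 1), (662, 2), (1254, 0), (1303, 0), (510, 1), (992, 1),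
    (826, 1), (826, 2), (1070, 2), (944, 0), (990, 2), (416, 2), (559, 1), (780, 2), (823, 2),
    (896, 2), (926, 1), (926, 2), (289, 0), (289, 1), (289, 2), (357, 0), (390, 1), (390, 2),
    (1153, 2), (440, 2), (1365, 1), (1057, 0), (1358, 0), (439, 2), (1345, 1)]

theorem mask1_2_ok : ([209].all fun r => Nat.blt r 1408) &&
    (grow gens1 trow1_2 (seedSet [209] 0) == some mask1_2) = true := by
  decide +kernel

theorem toOrb1_2 : ∀ c, mask1_2.testBit c = true → GoodTo C (vert C 1) (vert C 2) c := by
  have h := mask1_2_ok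
  simp only [Bool.and_eq_true, beq_iff_eq, decide_eq_true_eq] at h
  refine goodTo_all C (seeds := [209]) (gens := gens1) (rows := trow1_2) ?_ ?_ (by decide +kernel) h.1 h.2
  · intro r hr
    simp only [List.mem_cons, List.not_mem_nil, or_false] at hr
    subst hr
    exact goodTo_seed C (h5571 C) 209 (by decide +kernel)
  · intro g hg
    simp only [gens1, List.mem_cons, List.not_mem_nil, or_false] at hg
    rcases hg with rfl | rfl | rfl
    · exact h1432 C
    · exact h2458 C
    · exact h4010 C

/-- The directions from vertex 1 into the orbit of vertex 3. -/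
def mask1_3 : ℕ := 0x40003021980000038472001801800c01109903002408300f233c01c2206cc80160120010040063b00068300060602333b520cc00f20018000000410018001320030d3100730061b00019e002f3e079003eb030cf30678801e01279b4000184cc000998660000199e0790004300040000f60000f6721ec7f8001b780003005000045a000006c113380378000f202178000e423e800018ce0020000cf039980000000600000000003998000000ccf0000

/-- A tree for these directions. -/
def trow1_3 : List (ℕ × ℕ) := [
    (16, 0), (16, 1), (263, 1), (263, 2), (699, 0), (699, 1), (1025, 0), (1025, 1), (1025, 2),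
    (1029, 0), (1029, 1), (247, 1), (247, 2), (55, 0), (55, 1), (55, 2), (64, 1), (64, 2),
    (1110, 0), (1110, 1), (1110, 2), (797, 0), (797, 1), (797, 2), (1009, 1), (1009, 2), (464, 0),
    (464, 1), (464, 2), (722, 0), (722, 1), (722, 2), (885, 0), (885, 1), (885, 2), (670, 1),
    (670, 2), (143, 0), (143, 1), (19, 0), (19, 1), (447, 0), (447, 1), (447, 2), (620, 0),
    (620, 1), (620, 2), (609, 1), (609, 2), (920, 0), (920, 1), (920, 2), (109, 1), (109, 2),
    (429, 1), (429, 2), (286, 1), (286, 2), (480, 0), (480, 1), (480, 2), (1198, 0), (1198, 1),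
    (1198, 2), (166, 1), (583, 1), (583, 2), (1148, 0), (1148, 1), (1148, 2), (18, 1), (18, 2),
    (1212, 0), (794, 0), (794, 1), (794, 2), (1073, 1), (1073, 2), (738, 0), (738, 1), (738, 2),
    (580, 0), (1136, 0), (1136, 1), (1136, 2), (152, 0), (836, 1), (836, 2), (540, 1), (540, 2),
    (787, 0), (728, 1), (728, 2), (303, 0), (303, 1), (303, 2), (842, 0), (842, 1), (842, 2),
    (1017, 1), (1017, 2), (564, 0), (564, 1), (564, 2), (319, 0), (319, 1), (319, 2), (287, 0),
    (287, 1), (287, 2), (1215, 1), (1215, 2), (1016, 1), (1016, 2), (264, 0), (264, 1), (759, 0),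
    (759, 1), (759, 2), (246, 0), (246, 1), (246, 2), (1169, 0), (207, 0), (207, 1), (207, 2),
    (1166, 0), (1166, 1), (232, 1), (232, 2), (163, 1), (1042, 0), (1181, 0), (565, 1), (565, 2),
    (616, 0), (616, 1), (616, 2), (320, 0), (698, 0), (698, 2), (1187, 0), (1187, 1), (1187, 2),
    (546, 1), (676, 1), (1325, 1), (1325, 2), (772, 1), (772, 2), (680, 1), (680, 2), (162, 1),
    (208, 0), (857, 0), (857, 1), (857, 2), (461, 0), (461, 1), (325, 0), (325, 1), (1162, 2),
    (245, 0), (879, 0), (879, 1), (879, 2), (1329, 2), (753, 1), (753, 2), (998, 1), (984, 1),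
    (1041, 0), (1041, 2), (1167, 0), (1167, 1), (1167, 2), (615, 0), (615, 1), (615, 2), (735, 1),
    (1049, 1), (1049, 2), (652, 1), (652, 2), (392, 2), (576, 0), (576, 1), (576, 2), (504, 0),
    (504, 1), (986, 0), (986, 1), (986, 2), (1163, 1), (404, 0), (404, 2), (646, 0), (374, 1),
    (968, 0), (968, 1), (968, 2), (161, 0), (161, 2), (60, 1), (60, 2), (453, 0), (451, 0),
    (451, 1), (451, 2), (1260, 0), (1260, 1), (785, 2), (1286, 1), (1024, 0), (203, 2), (758, 0),
    (758, 1), (758, 2), (1264, 1), (1264, 2), (688, 0), (688, 1), (688, 2), (809, 2), (526, 0),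
    (526, 1), (526, 2), (1213, 0), (185, 2), (147, 0), (147, 1), (147, 2), (919, 1), (876, 0),
    (876, 1), (876, 2), (281, 1), (432, 1), (432, 2), (967, 1), (967, 2), (1012, 0), (1012, 1),
    (1012, 2), (563, 0), (563, 1), (563, 2), (841, 1), (606, 0), (606, 2), (426, 0), (1088, 0),
    (904, 2), (566, 0), (481, 0), (237, 0), (237, 2), (321, 2), (835, 0), (835, 1), (59, 0),
    (619, 1), (1214, 0), (148, 1), (682, 0), (682, 1), (1341, 1), (1341, 2), (584, 2), (1146, 0),
    (458, 0), (458, 1), (1299, 0), (1299, 1), (1299, 2), (506, 1), (506, 2), (233, 1), (233, 2),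
    (1312, 1), (1312, 2), (700, 2), (987, 0), (878, 0), (231, 1), (365, 0), (1120, 0), (1120, 1),
    (469, 1), (469, 2), (1340, 1), (1340, 2), (1225, 0), (938, 1), (938, 2), (795, 0), (1224, 2),
    (1028, 2), (811, 0), (197, 2), (448, 1), (448, 2), (679, 0), (324, 2), (833, 0), (110, 1),
    (502, 2), (199, 1), (199, 2), (1064, 0), (815, 2), (1033, 1), (1093, 0), (1241, 0), (483, 1),
    (341, 1), (341, 2), (266, 1), (266, 2), (1402, 0), (305, 1), (1311, 0), (1311, 1), (328, 2),
    (160, 0), (1330, 1), (1201, 2), (852, 0), (338, 1), (482, 2), (1159, 2), (507, 1), (306, 2),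
    (755, 0), (793, 2), (623, 1), (605, 2), (733, 1), (733, 2), (1089, 0), (370, 0), (739, 2),
    (368, 1), (368, 2), (1368, 2), (1074, 0), (1300, 0), (27, 1), (884, 2)]

theorem mask1_3_ok : ([16].all fun r => Nat.blt r 1408) &&
    (grow gens1 trow1_3 (seedSet [16] 0) == some mask1_3) = true := by
  decide +kernel

theorem toOrb1_3 : ∀ c, mask1_3.testBit c = true → GoodTo C (vert C 1) (vert C 3) c := by
  have h := mask1_3_ok
  simp only [Bool.and_eq_true, beq_iff_eq, decide_eq_true_eq] at h
  refine goodTo_all C (seeds := [16]) (gens := gens1) (rows := trow1_3) ?_ ?_ (by decide +kernel) h.1 h.2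
  · intro r hr
    simp only [List.mem_cons, List.not_mem_nil, or_false] at hr
    subst hr
    exact goodTo_seed C (h10090 C) 16 (by decide +kernel)
  · intro g hg
    simp only [gens1, List.mem_cons, List.not_mem_nil, or_false] at hg
    rcases hg with rfl | rfl | rfl
    · exact h1432 C
    · exact h2458 C
    · exact h4010 C

/-- The directions from vertex 1 into the orbit of vertex 4. -/
def mask1_4 : ℕ := 0x30000042240007004a0811a702000040a160c08000000c00c0c0003dd1933182000c00000804804801900c099f981ccc4ac333820c000443ff81b001e000ecc000f2ce000cf39e4800e600c50c0086c0014fcf30cc98760600298649f0067b3000066798fc006661f860003cf002c000098000098d013807802484003cf7a0007ba5e000793eecc03c800000d89e8000019c0160000731e053ffc30fc667186e3ff9bff80001f80667e00c3f330b848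

/-- A tree for these directions. -/
def trow1_4 : List (ℕ × ℕ) := [
    (3, 0), (3, 1), (6, 0), (6, 1), (20, 0), (20, 1), (20, 2), (334, 1), (334, 2), (155, 1),
    (194, 1), (194, 2), (32, 1), (470, 1), (470, 2), (62, 0), (62, 1), (111, 0), (111, 1),
    (135, 0), (135, 1), (135, 2), (95, 0), (95, 1), (76, 0), (76, 1), (76, 2), (158, 0), (158, 1),
    (158, 2), (129, 0), (129, 1), (171, 0), (171, 1), (171, 2), (621, 0), (621, 1), (621, 2),
    (142, 0), (142, 1), (142, 2), (671, 1), (671, 2), (28, 0), (539, 1), (539, 2), (645, 0),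
    (645, 1), (645, 2), (333, 1), (333, 2), (50, 1), (50, 2), (96, 1), (96, 2), (121, 0),
    (121, 1), (121, 2), (115, 1), (115, 2), (136, 0), (136, 1), (116, 1), (193, 1), (193, 2),
    (159, 1), (159, 2), (130, 1), (130, 2), (176, 0), (176, 1), (176, 2), (104, 1), (104, 2),
    (157, 0), (157, 1), (105, 1), (644, 1), (644, 2), (1400, 0), (1400, 1), (665, 0), (665, 1),
    (665, 2), (1026, 1), (1026, 2), (310, 0), (310, 1), (310, 2), (1135, 0), (1338, 0), (1338, 1),
    (1338, 2), (737, 0), (737, 1), (737, 2), (570, 1), (570, 2), (741, 0), (741, 1), (741, 2),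
    (747, 0), (747, 1), (1031, 1), (1031, 2), (114, 0), (282, 0), (72, 1), (72, 2), (102, 2),
    (119, 0), (950, 2), (330, 1), (330, 2), (400, 0), (400, 1), (118, 0), (118, 2), (127, 1),
    (127, 2), (99, 1), (99, 2), (15, 2), (174, 0), (957, 2), (100, 1), (100, 2), (335, 0),
    (335, 1), (173, 0), (173, 2), (180, 1), (180, 2), (898, 0), (898, 1), (898, 2), (754, 0),
    (754, 1), (754, 2), (561, 1), (561, 2), (1164, 0), (1164, 1), (1164, 2), (200, 1), (200, 2),
    (322, 0), (322, 1), (569, 0), (569, 1), (569, 2), (544, 0), (544, 1), (544, 2), (1180, 0),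
    (1180, 1), (674, 1), (674, 2), (713, 0), (713, 1), (713, 2), (818, 1), (818, 2), (270, 1),
    (270, 2), (1373, 0), (1373, 1), (1373, 2), (877, 0), (1182, 1), (1182, 2), (603, 0), (603, 1),
    (603, 2), (1327, 1), (1327, 2), (1313, 2), (372, 1), (283, 1), (283, 2), (848, 0), (149, 1),
    (1001, 0), (1001, 1), (25, 0), (25, 1), (25, 2), (1210, 1), (361, 1), (361, 2), (346, 1),
    (1055, 0), (1055, 1), (205, 0), (205, 1), (205, 2), (803, 2), (177, 1), (723, 1), (195, 0),
    (195, 1), (275, 0), (275, 1), (275, 2), (947, 2), (1032, 1), (952, 1), (1179, 0), (1179, 1),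
    (1179, 2), (937, 0), (937, 1), (937, 2), (1273, 1), (1273, 2), (790, 0), (790, 1), (790, 2),
    (393, 1), (393, 2), (337, 0), (337, 1), (337, 2), (329, 1), (329, 2), (683, 1), (683, 2),
    (1030, 0), (1030, 1), (1030, 2), (582, 0), (582, 1), (582, 2), (445, 0), (445, 1), (445, 2),
    (1366, 0), (145, 1), (1185, 1), (1185, 2), (773, 1), (882, 0), (1047, 0), (1047, 1),
    (1047, 2), (279, 1), (272, 1), (272, 2), (1268, 1), (1268, 2), (653, 1), (653, 2), (664, 1),
    (814, 0), (995, 1), (1039, 1), (1039, 2), (750, 1), (1378, 1), (1378, 2), (1176, 0),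
    (1176, 1), (903, 1), (903, 2), (774, 1), (774, 2), (1045, 1), (1045, 2), (1282, 1), (1282, 2),
    (479, 0), (479, 1), (479, 2), (243, 1), (456, 1), (456, 2), (567, 1), (567, 2), (313, 0),
    (444, 1), (1203, 1), (1203, 2), (1051, 0), (1051, 1), (1051, 2), (196, 0), (196, 1),
    (1309, 0), (1309, 1), (1309, 2), (1040, 1), (1040, 2), (326, 1), (326, 2), (855, 1), (855, 2),
    (850, 0), (881, 0), (881, 2), (1022, 0), (581, 0), (581, 1), (581, 2), (181, 2), (331, 2),
    (709, 2), (678, 1), (1099, 0), (1099, 1), (1099, 2), (1275, 0), (1275, 2), (714, 1), (714, 2),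
    (1265, 0), (1265, 1), (1183, 1), (1183, 2), (779, 1), (710, 0), (710, 1), (599, 0), (599, 1),
    (599, 2), (311, 0), (280, 0), (280, 1), (280, 2), (457, 0), (1062, 0), (1062, 1), (1223, 0),
    (407, 2), (730, 2), (58, 1), (58, 2), (742, 0), (1184, 1), (371, 2), (817, 2), (687, 0),
    (687, 1), (641, 1), (641, 2), (377, 0), (377, 1), (377, 2), (398, 0), (398, 1), (398, 2),
    (397, 1), (397, 2), (267, 1), (267, 2), (344, 0), (1266, 1), (1266, 2), (1155, 0), (228, 0),
    (743, 1), (375, 1), (443, 0), (443, 1), (443, 2), (720, 2), (756, 0), (756, 1), (756, 2),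
    (1349, 0), (1013, 0), (921, 1), (921, 2), (244, 0), (244, 1), (244, 2), (883, 2), (578, 0),
    (578, 1), (1048, 1), (1048, 2), (719, 0), (1348, 2), (460, 0), (460, 1), (165, 1), (648, 0),
    (648, 1), (648, 2), (430, 1), (430, 2), (29, 2), (112, 2), (600, 0), (600, 1), (770, 1),
    (770, 2), (843, 1), (843, 2), (905, 0), (851, 0), (269, 0), (1015, 0), (1211, 2), (1052, 0),
    (1052, 2), (924, 0), (924, 2), (468, 1), (1172, 2), (796, 1), (796, 2), (684, 2), (1165, 1),
    (1165, 2), (1018, 0), (1251, 1), (500, 1), (500, 2), (736, 1), (736, 2), (206, 1), (206, 2),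
    (403, 2), (376, 1), (376, 2), (543, 0), (140, 2), (839, 2), (1011, 2), (545, 0), (545, 2),
    (613, 1), (749, 0), (791, 0), (791, 1), (791, 2), (602, 1), (731, 1), (702, 1), (702, 2),
    (727, 2), (525, 1), (201, 1), (323, 0), (870, 1), (1258, 1), (649, 0)]

theorem mask1_4_ok : ([3, 6, 20].all fun r => Nat.blt r 1408) &&
    (grow gens1 trow1_4 (seedSet [3, 6, 20] 0) == some mask1_4) = true := by
  decide +kernel

theorem toOrb1_4 : ∀ c, mask1_4.testBit c = true → GoodTo C (vert C 1) (vert C 4) c := by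
  have h := mask1_4_ok
  simp only [Bool.and_eq_true, beq_iff_eq, decide_eq_true_eq] at h
  refine goodTo_all C (seeds := [3, 6, 20]) (gens := gens1) (rows := trow1_4) ?_ ?_ (by decide +kernel) h.1 h.2
  · intro r hr
    simp only [List.mem_cons, List.not_mem_nil, or_false] at hr
    rcases hr with rfl | rfl | rfl
    · exact goodTo_seed C (h25673 C) 3 (by decide +kernel)
    · exact goodTo_seed C (h25536 C) 6 (by decide +kernel)
    · exact goodTo_seed C (h19555 C) 20 (by decide +kernel)
  · intro g hg
    simp only [gens1, List.mem_cons, List.not_mem_nil, or_false] at hg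
    rcases hg with rfl | rfl | rfl
    · exact h1432 C
    · exact h2458 C
    · exact h4010 C

/-- The directions from vertex 1 into the orbit of vertex 5. -/
def mask1_5 : ℕ := 0x40000000000000000001000001800000000000000000000000000000000000001c3000000000000000000300000000000000000000000000000000000000000000000000000000000000000000000000000000000000000000000000000380000000034000000020c0000000001b8000300000000780000000070e1001c00003c0c00000700

/-- A tree for these directions. -/
def trow1_5 : List (ℕ × ℕ) := [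
    (8, 0), (8, 1), (8, 2), (132, 1), (132, 2), (801, 1), (801, 2), (43, 0), (43, 1), (234, 1),
    (724, 0), (724, 1), (724, 2), (241, 0), (241, 1), (241, 2), (134, 0), (134, 1), (134, 2),
    (94, 1), (94, 2), (187, 0), (92, 1), (92, 2), (807, 1), (807, 2), (80, 1), (80, 2), (315, 1),
    (315, 2), (274, 0), (274, 1), (274, 2), (317, 0), (317, 1), (988, 2), (87, 1), (34, 0),
    (34, 1), (808, 1), (131, 1), (45, 0), (188, 0), (188, 2), (192, 1), (1066, 1), (1066, 2),
    (86, 0), (316, 1)]

theorem mask1_5_ok : ([8].all fun r => Nat.blt r 1408) &&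
    (grow gens1 trow1_5 (seedSet [8] 0) == some mask1_5) = true := by
  decide +kernel

theorem toOrb1_5 : ∀ c, mask1_5.testBit c = true → GoodTo C (vert C 1) (vert C 5) c := by
  have h := mask1_5_ok
  simp only [Bool.and_eq_true, beq_iff_eq, decide_eq_true_eq] at h
  refine goodTo_all C (seeds := [8]) (gens := gens1) (rows := trow1_5) ?_ ?_ (by decide +kernel) h.1 h.2
  · intro r hr
    simp only [List.mem_cons, List.not_mem_nil, or_false] at hr
    subst hr
    exact goodTo_seed C (h25681 C) 8 (by decide +kernel)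
  · intro g hg
    simp only [gens1, List.mem_cons, List.not_mem_nil, or_false] at hg
    rcases hg with rfl | rfl | rfl
    · exact h1432 C
    · exact h2458 C
    · exact h4010 C

/-- The directions from vertex 2 into the orbit of vertex 1. -/
def mask2_1 : ℕ := 0x2000000000000000000000000000000000000000000000000000000000000000000000020

/-- A tree for these directions. -/
def trow2_1 : List (ℕ × ℕ) := [
    (5, 3)]

theorem mask2_1_ok : ([5].all fun r => Nat.blt r 1408) &&
    (grow gens2 trow2_1 (seedSet [5] 0) == some mask2_1) = true := by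
  decide +kernel

theorem toOrb2_1 : ∀ c, mask2_1.testBit c = true → GoodTo C (vert C 2) (vert C 1) c := by
  have h := mask2_1_ok
  simp only [Bool.and_eq_true, beq_iff_eq, decide_eq_true_eq] at h
  refine goodTo_all C (seeds := [5]) (gens := gens2) (rows := trow2_1) ?_ ?_ (by decide +kernel) h.1 h.2
  · intro r hr
    simp only [List.mem_cons, List.not_mem_nil, or_false] at hr
    subst hr
    exact goodTo_seed C (h5572 C) 5 (by decide +kernel)
  · intro g hg
    simp only [gens2, List.mem_cons, List.not_mem_nil, or_false] at hg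
    rcases hg with rfl | rfl | rfl | rfl
    · exact h5582 C
    · exact h6928 C
    · exact h8466 C
    · exact h17991 C

/-- The directions from vertex 2 into the orbit of vertex 2. -/
def mask2_2 : ℕ := 0x823010290400302002080bc0b10415000210044140082748088c58028014222801012100870088a811b060600091c90008240b008148958635340881f4088028a101a8a02c47038dcec240086002c000703090500a0206700082100c354e5ce0a00040538405c4000b8430510003090980108020c08c53865012009d61094808228a40aa2a054c84006a0080c4800141028482069500325a011488009982018642f4898a00000a8062a20080c122881b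

/-- A tree for these directions. -/
def trow2_2 : List (ℕ × ℕ) := [
    (0, 3), (1, 3), (3, 0), (3, 1), (3, 3), (4, 3), (11, 0), (11, 1), (11, 2), (11, 3), (21, 0),
    (21, 1), (21, 2), (21, 3), (119, 0), (119, 1), (119, 2), (119, 3), (39, 0), (39, 1), (39, 2),
    (39, 3), (151, 0), (151, 1), (151, 2), (151, 3), (104, 0), (104, 1), (104, 2), (104, 3),
    (180, 0), (180, 1), (180, 2), (180, 3), (99, 0), (99, 1), (99, 3), (338, 0), (338, 1),
    (338, 3), (279, 0), (279, 1), (279, 2), (279, 3), (1076, 0), (1076, 1), (1076, 2), (1076, 3),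
    (668, 0), (668, 1), (668, 3), (1226, 0), (1226, 1), (1226, 2), (1226, 3), (156, 0), (156, 1),
    (156, 3), (118, 0), (118, 2), (118, 3), (803, 0), (803, 1), (803, 3), (832, 1), (832, 2),
    (832, 3), (121, 1), (121, 3), (840, 3), (1198, 0), (1198, 2), (1198, 3), (478, 0), (478, 3),
    (968, 0), (155, 0), (155, 3), (171, 1), (171, 2), (171, 3), (949, 2), (949, 3), (49, 0),
    (49, 1), (49, 3), (652, 0), (652, 2), (652, 3), (175, 2), (175, 3), (31, 0), (31, 2), (31, 3),
    (336, 3), (449, 0), (449, 1), (193, 2), (193, 3), (1032, 0), (198, 0), (198, 1), (646, 2),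
    (195, 3), (433, 1), (433, 2), (433, 3), (850, 0), (850, 1), (850, 2), (850, 3), (654, 0),
    (654, 1), (654, 3), (1079, 0), (1079, 1), (1079, 2), (1079, 3), (1203, 1), (1203, 2),
    (1203, 3), (444, 0), (444, 1), (444, 2), (444, 3), (196, 0), (1407, 0), (1407, 1), (1407, 2),
    (1407, 3), (1161, 1), (1161, 2), (1161, 3), (756, 0), (756, 1), (756, 2), (756, 3), (249, 0),
    (249, 1), (249, 2), (249, 3), (927, 0), (927, 2), (927, 3), (827, 0), (827, 1), (827, 2),
    (827, 3), (859, 0), (859, 3), (201, 0), (201, 2), (201, 3), (204, 2), (400, 2), (879, 0),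
    (126, 3), (116, 2), (116, 3), (17, 0), (75, 2), (75, 3), (136, 3), (729, 1), (247, 1),
    (757, 0), (954, 3), (1019, 3), (952, 3), (327, 0), (327, 1), (327, 2), (571, 0), (571, 1),
    (495, 0), (495, 1), (495, 3), (798, 1), (798, 2), (798, 3), (446, 0), (446, 3), (1099, 0),
    (1099, 3), (295, 0), (295, 1), (295, 2), (295, 3), (645, 1), (645, 2), (645, 3), (710, 0),
    (710, 3), (935, 0), (935, 3), (1077, 3), (485, 0), (485, 1), (485, 2), (485, 3), (1304, 3),
    (854, 0), (226, 1), (226, 2), (523, 0), (523, 1), (347, 0), (347, 1), (347, 3), (831, 0),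
    (831, 3), (562, 0), (1323, 0), (1323, 1), (1323, 2), (1323, 3), (608, 1), (608, 3), (1061, 3),
    (357, 1), (357, 2), (357, 3), (216, 0), (216, 1), (216, 3), (403, 1), (403, 2), (403, 3),
    (1401, 0), (1401, 1), (1401, 3), (928, 0), (928, 1), (928, 2), (928, 3), (456, 1), (456, 2),
    (456, 3), (839, 0), (839, 3), (322, 0), (1128, 0), (1128, 3), (1376, 3), (1288, 3), (414, 0),
    (414, 1), (225, 0), (225, 1), (225, 3), (1038, 1), (1038, 2), (1038, 3), (1113, 0), (1113, 1),
    (1113, 3), (107, 2), (107, 3), (387, 3), (888, 0), (888, 1), (888, 2), (471, 0), (471, 2),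
    (471, 3), (659, 3), (569, 1), (569, 3), (614, 3), (647, 0), (647, 3), (926, 0), (57, 1),
    (57, 2), (408, 0), (1202, 0), (674, 2), (1000, 0), (1000, 1), (1000, 2), (381, 0), (381, 1),
    (1013, 2), (1013, 3), (962, 0), (962, 3), (765, 1), (1185, 3), (970, 1), (970, 3), (1211, 3),
    (262, 0), (1290, 0), (1290, 3), (669, 1), (669, 2), (764, 3), (1039, 0), (1039, 1), (1039, 2),
    (1039, 3), (586, 0), (1047, 0), (708, 1), (708, 2), (1273, 2), (1069, 3), (637, 3), (650, 1),
    (650, 3), (740, 3), (359, 0), (1349, 3), (1321, 1), (61, 3), (1337, 0), (1337, 2), (825, 1),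
    (825, 2), (991, 0), (991, 3), (567, 1), (567, 3), (830, 2), (1165, 3), (823, 1), (436, 3),
    (355, 1), (355, 3), (1258, 0), (1196, 1), (1196, 2), (398, 3), (1308, 3), (1095, 0),
    (1095, 1), (371, 1), (371, 3), (1396, 3), (657, 0), (657, 1), (223, 0), (457, 3), (1379, 3),
    (911, 0), (1070, 0), (114, 0), (1040, 3), (877, 2), (893, 1)]

theorem mask2_2_ok : ([0, 1, 3, 4, 11, 21].all fun r => Nat.blt r 1408) &&
    (grow gens2 trow2_2 (seedSet [0, 1, 3, 4, 11, 21] 0) == some mask2_2) = true := by
  decide +kernel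

theorem toOrb2_2 : ∀ c, mask2_2.testBit c = true → GoodTo C (vert C 2) (vert C 2) c := by
  have h := mask2_2_ok
  simp only [Bool.and_eq_true, beq_iff_eq, decide_eq_true_eq] at h
  refine goodTo_all C (seeds := [0, 1, 3, 4, 11, 21]) (gens := gens2) (rows := trow2_2) ?_ ?_ (by decide +kernel) h.1 h.2
  · intro r hr
    simp only [List.mem_cons, List.not_mem_nil, or_false] at hr
    rcases hr with rfl | rfl | rfl | rfl | rfl | rfl
    · exact goodTo_seed C (h10048 C) 0 (by decide +kernel)
    · exact goodTo_seed C (h10060 C) 1 (by decide +kernel)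
    · exact goodTo_seed C (h19546 C) 3 (by decide +kernel)
    · exact goodTo_seed C (h10076 C) 4 (by decide +kernel)
    · exact goodTo_seed C (h17960 C) 11 (by decide +kernel)
    · exact goodTo_seed C (h16341 C) 21 (by decide +kernel)
  · intro g hg
    simp only [gens2, List.mem_cons, List.not_mem_nil, or_false] at hg
    rcases hg with rfl | rfl | rfl | rfl
    · exact h5582 C
    · exact h6928 C
    · exact h8466 C
    · exact h17991 C

/-- The directions from vertex 2 into the orbit of vertex 3. -/
def mask2_3 : ℕ := 0x2000000000080000000000000000200000000000090000000000040000000000000000001000100004000000200000000000000104000000000000000000a04000000c00200010161810000100101400100300000000009200000200000000000004000100002000040002000000000000200080808000000000400000010020000c000002900800021600080000058400000018022400100000002291c00040065e9400500019a2020004680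

/-- A tree for these directions. -/
def trow2_3 : List (ℕ × ℕ) := [
    (7, 0), (7, 1), (7, 2), (7, 3), (9, 0), (9, 1), (9, 2), (9, 3), (805, 0), (805, 1), (805, 2),
    (805, 3), (47, 2), (47, 3), (83, 0), (83, 1), (83, 3), (230, 0), (230, 1), (230, 2), (230, 3),
    (80, 0), (80, 1), (80, 2), (80, 3), (806, 2), (806, 3), (725, 0), (725, 1), (725, 3),
    (200, 0), (200, 1), (200, 2), (200, 3), (847, 3), (14, 2), (14, 3), (78, 0), (78, 3),
    (1377, 0), (1377, 1), (1377, 3), (846, 0), (342, 1), (342, 3), (123, 1), (236, 0), (816, 3),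
    (473, 3), (752, 0), (752, 1), (752, 2), (1212, 3), (44, 3), (724, 2), (724, 3), (277, 0),
    (277, 3), (443, 0), (443, 1), (443, 3), (43, 0), (1335, 1), (1335, 3), (800, 1), (189, 0),
    (542, 3), (1265, 3), (361, 0), (361, 1), (361, 2), (683, 3), (1215, 1), (1215, 3), (303, 1),
    (303, 3), (772, 3), (760, 3), (199, 0), (199, 1), (199, 2), (263, 1), (106, 3), (677, 1),
    (677, 3), (883, 1), (883, 3), (874, 3), (653, 3), (312, 0), (312, 1), (312, 2), (343, 1),
    (93, 3), (1166, 0), (1166, 1), (238, 0), (238, 1)]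

theorem mask2_3_ok : ([7, 9].all fun r => Nat.blt r 1408) &&
    (grow gens2 trow2_3 (seedSet [7, 9] 0) == some mask2_3) = true := by
  decide +kernel

theorem toOrb2_3 : ∀ c, mask2_3.testBit c = true → GoodTo C (vert C 2) (vert C 3) c := by
  have h := mask2_3_ok
  simp only [Bool.and_eq_true, beq_iff_eq, decide_eq_true_eq] at h
  refine goodTo_all C (seeds := [7, 9]) (gens := gens2) (rows := trow2_3) ?_ ?_ (by decide +kernel) h.1 h.2
  · intro r hr
    simp only [List.mem_cons, List.not_mem_nil, or_false] at hr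
    rcases hr with rfl | rfl
    · exact goodTo_seed C (h16322 C) 7 (by decide +kernel)
    · exact goodTo_seed C (h16363 C) 9 (by decide +kernel)
  · intro g hg
    simp only [gens2, List.mem_cons, List.not_mem_nil, or_false] at hg
    rcases hg with rfl | rfl | rfl | rfl
    · exact h5582 C
    · exact h6928 C
    · exact h8466 C
    · exact h17991 C

/-- The directions from vertex 2 into the orbit of vertex 4. -/
def mask2_4 : ℕ := 0x1000000000000400080000000000000000010000000000000000800000000000003048000000000010000000208000000000000040000000000008002000000010000000000000000000808000000000000800000000000000180000400000000000000000000000000000000000000000000080000100040000100000448000000000000000080000000000004080000000001c00000200000a16a0600000411000100004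

/-- A tree for these directions. -/
def trow2_4 : List (ℕ × ℕ) := [
    (2, 0), (2, 1), (2, 3), (82, 0), (82, 1), (82, 2), (82, 3), (91, 0), (91, 1), (91, 2),
    (91, 3), (140, 0), (140, 1), (140, 2), (140, 3), (138, 0), (138, 1), (138, 3), (81, 0),
    (81, 2), (81, 3), (804, 0), (804, 1), (804, 3), (1176, 1), (1176, 2), (1176, 3), (84, 1),
    (84, 3), (959, 3), (837, 0), (837, 2), (837, 3), (1052, 0), (1052, 3), (1043, 0), (139, 0),
    (139, 3), (318, 2), (1053, 2), (1266, 0), (89, 3), (77, 2), (77, 3), (113, 0), (40, 2),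
    (40, 3), (69, 3), (1111, 1)]

theorem mask2_4_ok : ([2].all fun r => Nat.blt r 1408) &&
    (grow gens2 trow2_4 (seedSet [2] 0) == some mask2_4) = true := by
  decide +kernel

theorem toOrb2_4 : ∀ c, mask2_4.testBit c = true → GoodTo C (vert C 2) (vert C 4) c := by
  have h := mask2_4_ok
  simp only [Bool.and_eq_true, beq_iff_eq, decide_eq_true_eq] at h
  refine goodTo_all C (seeds := [2]) (gens := gens2) (rows := trow2_4) ?_ ?_ (by decide +kernel) h.1 h.2
  · intro r hr
    simp only [List.mem_cons, List.not_mem_nil, or_false] at hr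
    subst hr
    exact goodTo_seed C (h25513 C) 2 (by decide +kernel)
  · intro g hg
    simp only [gens2, List.mem_cons, List.not_mem_nil, or_false] at hg
    rcases hg with rfl | rfl | rfl | rfl
    · exact h5582 C
    · exact h6928 C
    · exact h8466 C
    · exact h17991 C

/-- The directions from vertex 2 into the orbit of vertex 6. -/
def mask2_6 : ℕ := 0x618ae994fb5384de5d21a40e4ef3e2ddfd009a92be1798b6665327d97c2b1dd37490deba783a6656ee4c0c9d8d2430ddf698f4af38b22a480acb777c0ab54e851ec4414d92803840003c2a861ef83aed84cc2fae54495182ed7dc2d382b08313497fb72c23ba1ba63401cd82af88c4760dcf5ecd1d53a42126ad5a6096c233d60c64b851c522b2691215362d181ff82ec553049968f748059c2b76766475e050a10952759000151a8d5c244f12893140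

/-- A tree for these directions. -/
def trow2_6 : List (ℕ × ℕ) := [
    (6, 0), (6, 1), (6, 3), (8, 0), (8, 1), (8, 3), (13, 0), (13, 1), (13, 2), (13, 3), (16, 0),
    (16, 1), (16, 2), (16, 3), (25, 0), (25, 1), (25, 2), (25, 3), (174, 0), (174, 1), (174, 2),
    (174, 3), (74, 0), (74, 1), (74, 2), (74, 3), (28, 0), (28, 1), (28, 2), (28, 3), (276, 0),
    (276, 1), (276, 2), (276, 3), (1066, 0), (1066, 1), (1066, 2), (1066, 3), (110, 0), (110, 1),
    (110, 2), (110, 3), (955, 0), (955, 1), (955, 2), (955, 3), (102, 2), (102, 3), (120, 0),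
    (120, 1), (120, 3), (396, 0), (396, 1), (396, 2), (396, 3), (453, 0), (453, 1), (453, 2),
    (453, 3), (775, 0), (775, 1), (775, 2), (775, 3), (1097, 0), (1097, 1), (1097, 2), (1097, 3),
    (224, 0), (224, 1), (224, 2), (224, 3), (468, 0), (468, 1), (468, 2), (468, 3), (791, 0),
    (791, 1), (791, 2), (791, 3), (898, 0), (898, 1), (898, 2), (898, 3), (514, 0), (514, 1),
    (514, 2), (514, 3), (33, 0), (33, 1), (33, 3), (173, 0), (173, 2), (173, 3), (947, 0),
    (947, 1), (947, 3), (1018, 1), (1018, 2), (1018, 3), (176, 1), (176, 3), (953, 3), (1348, 0),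
    (1348, 2), (1348, 3), (754, 0), (754, 3), (882, 0), (32, 0), (32, 3), (45, 0), (45, 1),
    (45, 3), (35, 0), (35, 2), (35, 3), (68, 0), (68, 1), (68, 3), (573, 1), (573, 2), (573, 3),
    (134, 1), (134, 3), (191, 3), (1371, 0), (1371, 2), (1371, 3), (789, 0), (789, 3), (584, 0),
    (316, 0), (316, 3), (844, 3), (50, 2), (50, 3), (115, 0), (115, 3), (743, 0), (743, 1),
    (743, 3), (845, 0), (244, 1), (244, 3), (96, 1), (1055, 0), (613, 3), (906, 3), (770, 0),
    (770, 1), (770, 2), (1301, 3), (1017, 0), (1017, 1), (1017, 2), (1017, 3), (1020, 0),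
    (1020, 1), (1020, 2), (1020, 3), (332, 0), (332, 1), (332, 2), (332, 3), (864, 0), (864, 1),
    (864, 2), (864, 3), (231, 2), (231, 3), (1098, 0), (1098, 1), (1098, 2), (1098, 3), (999, 2),
    (999, 3), (1234, 0), (1234, 1), (1234, 2), (1234, 3), (872, 1), (872, 2), (872, 3), (755, 0),
    (755, 1), (755, 2), (755, 3), (1074, 2), (1074, 3), (290, 0), (290, 1), (290, 2), (290, 3),
    (1173, 0), (1173, 2), (1173, 3), (415, 0), (415, 1), (415, 2), (415, 3), (297, 0), (297, 1),
    (1260, 0), (1260, 1), (1260, 2), (1260, 3), (611, 0), (611, 1), (611, 2), (611, 3), (747, 0),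
    (747, 1), (747, 2), (747, 3), (572, 0), (572, 1), (572, 3), (518, 0), (518, 1), (518, 2),
    (518, 3), (141, 2), (141, 3), (701, 0), (701, 1), (701, 2), (701, 3), (1366, 0), (1366, 2),
    (1366, 3), (1123, 1), (1123, 2), (1123, 3), (54, 1), (54, 2), (112, 0), (112, 1), (112, 2),
    (112, 3), (149, 2), (149, 3), (1393, 2), (1393, 3), (254, 0), (254, 3), (1228, 0), (1228, 1),
    (1228, 2), (1228, 3), (1107, 0), (1107, 1), (1107, 3), (1259, 0), (1259, 1), (1259, 2),
    (1259, 3), (240, 2), (335, 2), (1023, 0), (179, 3), (105, 2), (105, 3), (52, 0), (170, 2),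
    (170, 3), (157, 3), (545, 1), (188, 2), (169, 2), (63, 0), (132, 3), (187, 2), (187, 3),
    (788, 0), (234, 2), (234, 3), (92, 3), (981, 1), (1282, 1), (1282, 3), (475, 1), (475, 3),
    (1045, 3), (1171, 3), (373, 0), (373, 1), (373, 2), (1087, 1), (38, 3), (1241, 1), (1241, 2),
    (1241, 3), (1148, 0), (1148, 1), (1148, 2), (483, 0), (483, 1), (483, 2), (896, 0), (896, 1),
    (896, 2), (896, 3), (716, 2), (716, 3), (246, 0), (246, 1), (246, 3), (794, 0), (794, 2),
    (794, 3), (1255, 0), (1255, 3), (698, 1), (698, 2), (698, 3), (56, 0), (56, 1), (56, 2),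
    (56, 3), (541, 2), (541, 3), (554, 2), (969, 0), (969, 1), (969, 2), (969, 3), (934, 0),
    (934, 3), (1024, 1), (1024, 3), (166, 0), (166, 1), (166, 2), (166, 3), (1233, 0), (1233, 1),
    (1233, 3), (732, 1), (732, 2), (732, 3), (1092, 0), (1092, 1), (1092, 3), (1384, 0),
    (1384, 2), (1384, 3), (516, 0), (516, 2), (1188, 3), (555, 0), (555, 1), (1289, 0), (588, 1),
    (588, 2), (434, 0), (434, 1), (620, 0), (620, 2), (620, 3), (506, 0), (506, 1), (506, 2),
    (506, 3), (308, 0), (308, 1), (308, 2), (308, 3), (1116, 0), (1116, 2), (1116, 3), (1340, 1),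
    (1340, 2), (1340, 3), (19, 2), (19, 3), (887, 0), (887, 3), (994, 0), (994, 1), (1083, 0),
    (780, 1), (780, 2), (780, 3), (288, 0), (288, 1), (143, 1), (143, 2), (1218, 1), (1218, 2),
    (250, 0), (250, 1), (1297, 0), (1297, 1), (304, 2), (304, 3), (1305, 0), (1305, 1), (1305, 2),
    (432, 2), (428, 0), (910, 0), (1178, 1), (1178, 2), (326, 1), (326, 2), (1135, 0), (489, 0),
    (489, 1), (489, 2), (489, 3), (476, 2), (476, 3), (855, 0), (855, 1), (855, 3), (351, 1),
    (351, 2), (351, 3), (1168, 1), (1168, 2), (407, 0), (407, 1), (407, 2), (407, 3), (1354, 3),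
    (696, 3), (301, 0), (301, 1), (301, 2), (301, 3), (781, 0), (781, 3), (1134, 0), (1134, 1),
    (1134, 2), (1134, 3), (726, 0), (726, 1), (726, 2), (726, 3), (1059, 0), (1059, 1), (1059, 3),
    (813, 2), (813, 3), (323, 0), (323, 3), (397, 0), (397, 3), (1364, 1), (1364, 2), (283, 1),
    (206, 2), (206, 3), (1221, 1), (1221, 2), (625, 0), (625, 1), (625, 3), (536, 0), (536, 1),
    (536, 2), (536, 3), (1275, 0), (1275, 2), (1275, 3), (741, 0), (741, 1), (741, 2), (741, 3),
    (618, 2), (618, 3), (1004, 0), (1004, 3), (269, 2), (269, 3), (1306, 3), (891, 1), (891, 3),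
    (358, 1), (358, 3), (1315, 0), (1315, 1), (1315, 3), (1081, 1), (1081, 2), (1081, 3),
    (267, 3), (210, 3), (298, 0), (298, 2), (1036, 0), (439, 2), (258, 0), (258, 3), (905, 1),
    (905, 3), (1027, 3), (570, 0), (870, 0), (870, 1), (870, 3), (346, 0), (346, 1), (638, 1),
    (987, 0), (987, 1), (494, 0), (494, 1), (494, 2), (494, 3), (482, 2), (482, 3), (787, 0),
    (787, 1), (1187, 2), (623, 2), (391, 0), (391, 1), (391, 2), (1252, 2), (1213, 0), (1213, 1),
    (1213, 2), (1213, 3), (912, 1), (688, 2), (688, 3), (504, 3), (386, 2), (386, 3), (1200, 2),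
    (1200, 3), (938, 1), (938, 2), (938, 3), (162, 1), (293, 0), (293, 3), (1276, 0), (1276, 3),
    (1274, 0), (1274, 1), (1086, 3), (1220, 1), (1220, 2), (392, 2), (860, 2), (1279, 0),
    (1279, 1), (215, 1), (215, 2), (1050, 2), (1050, 3), (255, 0), (1346, 0), (1346, 3), (222, 0),
    (1158, 2), (919, 2), (1372, 0), (809, 2), (441, 1), (583, 1), (686, 1), (679, 3), (863, 3),
    (186, 1), (1313, 0), (1005, 1), (581, 2), (703, 0), (703, 1), (703, 2), (703, 3), (513, 3),
    (1369, 2), (1369, 3), (599, 0), (1105, 1), (819, 2), (819, 3), (378, 3), (558, 1), (558, 2),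
    (1389, 1), (1389, 2), (1243, 0), (1015, 0), (1015, 1), (1015, 2), (1015, 3), (538, 0),
    (1310, 2), (1164, 0), (1342, 3), (1063, 0), (1063, 1), (1063, 3), (409, 3), (1006, 2),
    (661, 0), (1152, 2), (774, 3), (499, 3), (1333, 0), (940, 1), (940, 3), (671, 2), (866, 3),
    (213, 0), (1400, 3), (749, 3), (1406, 1), (108, 3), (212, 1), (886, 2), (1217, 3), (907, 3),
    (655, 0), (655, 1), (1143, 0), (1143, 1), (1143, 3), (641, 3), (773, 0), (1257, 1), (678, 3),
    (1022, 2), (1022, 3), (228, 3), (1056, 1), (838, 1), (838, 3), (1295, 0), (995, 3), (543, 3),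
    (1375, 2), (1037, 0), (1037, 1), (531, 0), (406, 3), (937, 3), (936, 3), (1058, 2)]

theorem mask2_6_ok : ([6, 8, 13, 16, 25].all fun r => Nat.blt r 1408) &&
    (grow gens2 trow2_6 (seedSet [6, 8, 13, 16, 25] 0) == some mask2_6) = true := by
  decide +kernel

theorem toOrb2_6 : ∀ c, mask2_6.testBit c = true → GoodTo C (vert C 2) (vert C 6) c := by
  have h := mask2_6_ok
  simp only [Bool.and_eq_true, beq_iff_eq, decide_eq_true_eq] at h
  refine goodTo_all C (seeds := [6, 8, 13, 16, 25]) (gens := gens2) (rows := trow2_6) ?_ ?_ (by decide +kernel) h.1 h.2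
  · intro r hr
    simp only [List.mem_cons, List.not_mem_nil, or_false] at hr
    rcases hr with rfl | rfl | rfl | rfl | rfl
    · exact goodTo_seed C (h39061 C) 6 (by decide +kernel)
    · exact goodTo_seed C (h40880 C) 8 (by decide +kernel)
    · exact goodTo_seed C (h40810 C) 13 (by decide +kernel)
    · exact goodTo_seed C (h40996 C) 16 (by decide +kernel)
    · exact goodTo_seed C (h40921 C) 25 (by decide +kernel)
  · intro g hg
    simp only [gens2, List.mem_cons, List.not_mem_nil, or_false] at hg
    rcases hg with rfl | rfl | rfl | rfl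
    · exact h5582 C
    · exact h6928 C
    · exact h8466 C
    · exact h17991 C

/-- The directions from vertex 2 into the orbit of vertex 7. -/
def mask2_7 : ℕ := 0x1c45064000ac4b01a05650210008082200e9612401e040010120802402c080048a6e004500451100000293020202062001430040460540010000800201423112403012124130041031009400000505020a020000a104280d120024004001000c1680088040002009c078022c1074128072202112202000508140a50208300421d0010104100801128000495002000610382021200208842000000089020800000000200000000000100000000c440000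

/-- A tree for these directions. -/
def trow2_7 : List (ℕ × ℕ) := [
    (18, 0), (18, 1), (18, 2), (18, 3), (202, 0), (202, 1), (202, 2), (202, 3), (852, 0),
    (852, 1), (852, 2), (852, 3), (477, 0), (477, 1), (477, 2), (477, 3), (1332, 0), (1332, 1),
    (1332, 2), (1332, 3), (424, 0), (424, 1), (424, 2), (424, 3), (1009, 0), (1009, 1), (1009, 2),
    (1009, 3), (1029, 0), (1029, 1), (1029, 2), (1029, 3), (417, 0), (417, 1), (417, 2), (417, 3),
    (394, 1), (394, 2), (394, 3), (904, 0), (904, 1), (904, 2), (904, 3), (574, 0), (574, 2),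
    (574, 3), (1126, 0), (1126, 1), (1126, 2), (1126, 3), (207, 2), (207, 3), (26, 0), (26, 2),
    (26, 3), (1167, 2), (1167, 3), (519, 0), (519, 1), (519, 2), (519, 3), (438, 0), (438, 2),
    (438, 3), (960, 0), (960, 1), (960, 2), (960, 3), (382, 0), (382, 1), (382, 3), (1199, 0),
    (1199, 1), (1199, 2), (1199, 3), (836, 1), (836, 2), (836, 3), (682, 0), (682, 1), (682, 2),
    (1267, 0), (1267, 1), (1267, 2), (1208, 0), (1208, 1), (1208, 2), (1208, 3), (876, 1),
    (876, 2), (876, 3), (160, 1), (1120, 2), (1120, 3), (784, 0), (784, 1), (784, 2), (784, 3),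
    (229, 1), (229, 2), (229, 3), (998, 0), (998, 1), (998, 2), (998, 3), (266, 3), (990, 0),
    (292, 2), (929, 0), (929, 1), (929, 2), (929, 3), (1100, 0), (1299, 0), (1299, 1), (1299, 2),
    (1299, 3), (873, 1), (761, 0), (761, 1), (761, 2), (761, 3), (1262, 0), (1262, 1), (728, 2),
    (728, 3), (1402, 0), (1402, 1), (22, 0), (22, 2), (22, 3), (532, 0), (532, 3), (109, 1),
    (109, 3), (501, 3), (1237, 1), (1343, 0), (1139, 1), (1139, 3), (1353, 0), (1353, 1),
    (1353, 3), (733, 0), (733, 2), (733, 3), (670, 0), (670, 2), (670, 3), (1147, 0), (1147, 1),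
    (1147, 3), (60, 1), (60, 3), (1177, 0), (1177, 2), (1177, 3), (1216, 0), (1216, 3), (440, 0),
    (440, 1), (440, 3), (360, 0), (360, 3), (1008, 2), (894, 0), (894, 3), (920, 0), (920, 3),
    (1358, 1), (1358, 2), (253, 0), (404, 3), (1382, 3), (384, 0), (384, 1), (384, 2), (865, 3),
    (232, 0), (232, 2), (232, 3), (829, 1), (829, 2), (563, 2), (563, 3), (328, 0), (328, 1),
    (328, 3), (862, 0), (862, 2), (1141, 1), (1141, 2), (1141, 3), (842, 2), (842, 3), (1071, 0),
    (1071, 1), (429, 0), (735, 2), (452, 2), (405, 2), (509, 0), (509, 1), (509, 2), (509, 3),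
    (1068, 3), (1033, 2), (812, 1), (812, 2), (812, 3), (717, 3), (163, 3), (380, 0), (918, 0),
    (706, 1), (426, 1), (426, 2), (426, 3), (565, 0), (685, 1), (1385, 3), (549, 1), (383, 0),
    (302, 1), (1261, 0), (1174, 2), (1145, 0), (722, 1), (1386, 0), (1386, 1), (897, 2), (824, 0),
    (824, 1), (700, 3), (167, 1), (909, 1), (1106, 3), (636, 1), (1363, 1), (211, 0), (211, 1),
    (974, 3), (237, 1), (296, 1), (697, 2), (697, 3), (1281, 3), (986, 3), (533, 1)]

theorem mask2_7_ok : ([18].all fun r => Nat.blt r 1408) &&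
    (grow gens2 trow2_7 (seedSet [18] 0) == some mask2_7) = true := by
  decide +kernel

theorem toOrb2_7 : ∀ c, mask2_7.testBit c = true → GoodTo C (vert C 2) (vert C 7) c := by
  have h := mask2_7_ok
  simp only [Bool.and_eq_true, beq_iff_eq, decide_eq_true_eq] at h
  refine goodTo_all C (seeds := [18]) (gens := gens2) (rows := trow2_7) ?_ ?_ (by decide +kernel) h.1 h.2
  · intro r hr
    simp only [List.mem_cons, List.not_mem_nil, or_false] at hr
    subst hr
    exact goodTo_seed C (h43704 C) 18 (by decide +kernel)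
  · intro g hg
    simp only [gens2, List.mem_cons, List.not_mem_nil, or_false] at hg
    rcases hg with rfl | rfl | rfl | rfl
    · exact h5582 C
    · exact h6928 C
    · exact h8466 C
    · exact h17991 C

/-- The directions from vertex 3 into the orbit of vertex 1. -/
def mask3_1 : ℕ := 0x20000000000008000000000024

/-- A tree for these directions. -/
def trow3_1 : List (ℕ × ℕ) := [
    (2, 3), (2, 4), (5, 4)]

theorem mask3_1_ok : ([2].all fun r => Nat.blt r 1408) &&
    (grow gens3 trow3_1 (seedSet [2] 0) == some mask3_1) = true := by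
  decide +kernel

theorem toOrb3_1 : ∀ c, mask3_1.testBit c = true → GoodTo C (vert C 3) (vert C 1) c := by
  have h := mask3_1_ok
  simp only [Bool.and_eq_true, beq_iff_eq, decide_eq_true_eq] at h
  refine goodTo_all C (seeds := [2]) (gens := gens3) (rows := trow3_1) ?_ ?_ (by decide +kernel) h.1 h.2
  · intro r hr
    simp only [List.mem_cons, List.not_mem_nil, or_false] at hr
    subst hr
    exact goodTo_seed C (h16309 C) 2 (by decide +kernel)
  · intro g hg
    simp only [gens3, List.mem_cons, List.not_mem_nil, or_false] at hg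
    rcases hg with rfl | rfl | rfl | rfl | rfl
    · exact h10101 C
    · exact h11335 C
    · exact h13041 C
    · exact h14756 C
    · exact h16411 C

/-- The directions from vertex 3 into the orbit of vertex 2. -/
def mask3_2 : ℕ := 0x2c0004460800400200080003080c41a639800d2c00010da840d030400000405b802000000020000181902e1d402099d2c0890440a226450c30860042000000a2482234a0a920048028a008ca1022800003045400cc08835002040100000865910034330cdc013100840000200010200002030000000040000001003eb40000cef000018306400440020009141000000a4900000011de046e2000010002481ffe800c18f1ec8c20004c19000006080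

/-- A tree for these directions. -/
def trow3_2 : List (ℕ × ℕ) := [
    (7, 0), (7, 1), (7, 2), (7, 3), (7, 4), (13, 0), (13, 1), (13, 2), (13, 3), (13, 4), (70, 0),
    (70, 1), (70, 2), (70, 3), (70, 4), (89, 0), (89, 2), (89, 3), (89, 4), (190, 0), (190, 1),
    (190, 2), (190, 3), (190, 4), (186, 4), (944, 0), (944, 1), (944, 2), (135, 0), (135, 1),
    (135, 2), (135, 3), (135, 4), (126, 0), (126, 2), (126, 3), (126, 4), (369, 0), (369, 1),
    (369, 2), (369, 3), (369, 4), (368, 4), (1239, 0), (1239, 1), (1239, 2), (182, 0), (182, 2),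
    (182, 3), (182, 4), (91, 0), (91, 2), (91, 3), (91, 4), (799, 1), (799, 3), (799, 4),
    (614, 4), (862, 0), (862, 1), (862, 2), (862, 4), (122, 2), (122, 3), (958, 3), (958, 4),
    (1185, 4), (485, 0), (485, 1), (485, 2), (485, 4), (46, 0), (46, 1), (46, 2), (46, 3),
    (46, 4), (318, 3), (318, 4), (14, 0), (14, 1), (14, 3), (14, 4), (1202, 4), (1144, 1),
    (1144, 2), (873, 0), (873, 1), (873, 2), (977, 1), (977, 2), (1365, 4), (628, 0), (628, 2),
    (951, 0), (951, 2), (951, 3), (951, 4), (39, 0), (39, 2), (39, 3), (39, 4), (950, 1),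
    (950, 3), (950, 4), (809, 4), (979, 0), (979, 1), (979, 2), (979, 4), (95, 2), (95, 3),
    (723, 3), (723, 4), (1287, 4), (917, 0), (917, 1), (917, 2), (917, 4), (103, 0), (103, 1),
    (103, 2), (103, 3), (103, 4), (204, 3), (204, 4), (50, 0), (50, 1), (50, 3), (50, 4),
    (1300, 4), (1067, 1), (1067, 2), (1211, 0), (1211, 1), (1211, 2), (1247, 1), (1247, 2),
    (1319, 4), (1141, 0), (1141, 2), (83, 3), (138, 0), (138, 2), (138, 3), (138, 4), (641, 4),
    (590, 1), (590, 2), (590, 4), (847, 3), (90, 2), (90, 3), (939, 4), (1140, 4), (1053, 2),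
    (1053, 3), (1053, 4), (1075, 4), (1019, 0), (1019, 1), (1019, 2), (1019, 4), (973, 4),
    (965, 0), (965, 3), (882, 4), (1359, 2), (370, 0), (370, 1), (370, 2), (370, 4), (1370, 1),
    (278, 2), (278, 3), (314, 0), (314, 3), (314, 4), (78, 3), (280, 4), (962, 4), (82, 3),
    (1054, 3), (1054, 4), (272, 4), (722, 1), (722, 2), (1215, 1), (1215, 2), (700, 4), (738, 0),
    (738, 2), (1195, 2), (120, 3), (156, 0), (156, 2), (156, 3), (156, 4), (685, 4), (1129, 1),
    (1129, 2), (1129, 4), (844, 3), (127, 2), (127, 3), (718, 4), (348, 4), (400, 2), (400, 3),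
    (400, 4), (986, 4), (1265, 0), (1265, 1), (1265, 2), (1265, 4), (990, 4), (956, 0), (956, 3),
    (1214, 4), (933, 2), (749, 0), (749, 1), (749, 2), (749, 4), (864, 1), (333, 2), (333, 3),
    (334, 0), (334, 3), (334, 4), (115, 3), (185, 4), (1241, 4), (119, 3), (401, 3), (401, 4),
    (341, 4), (647, 1), (647, 2), (1282, 1), (1282, 2), (748, 4), (406, 0), (406, 2), (595, 2),
    (81, 3), (81, 4), (88, 3), (577, 4), (879, 1), (879, 2), (879, 4), (79, 3), (245, 4), (36, 3),
    (1010, 4), (734, 4), (123, 3), (284, 2), (1238, 1), (236, 3), (183, 3), (408, 4), (1011, 4),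
    (202, 2), (118, 3), (118, 4), (125, 3), (198, 4), (1023, 1), (1023, 2), (1023, 4), (117, 3),
    (403, 4), (71, 3), (1263, 4), (1046, 4), (96, 3), (701, 2), (608, 1), (1055, 3), (330, 3),
    (698, 4), (1264, 4), (375, 2), (849, 4), (1020, 4)]

theorem mask3_2_ok : ([7, 13].all fun r => Nat.blt r 1408) &&
    (grow gens3 trow3_2 (seedSet [7, 13] 0) == some mask3_2) = true := by
  decide +kernel

theorem toOrb3_2 : ∀ c, mask3_2.testBit c = true → GoodTo C (vert C 3) (vert C 2) c := by
  have h := mask3_2_ok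
  simp only [Bool.and_eq_true, beq_iff_eq, decide_eq_true_eq] at h
  refine goodTo_all C (seeds := [7, 13]) (gens := gens3) (rows := trow3_2) ?_ ?_ (by decide +kernel) h.1 h.2
  · intro r hr
    simp only [List.mem_cons, List.not_mem_nil, or_false] at hr
    rcases hr with rfl | rfl
    · exact goodTo_seed C (h16330 C) 7 (by decide +kernel)
    · exact goodTo_seed C (h17947 C) 13 (by decide +kernel)
  · intro g hg
    simp only [gens3, List.mem_cons, List.not_mem_nil, or_false] at hg
    rcases hg with rfl | rfl | rfl | rfl | rfl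
    · exact h10101 C
    · exact h11335 C
    · exact h13041 C
    · exact h14756 C
    · exact h16411 C

/-- The directions from vertex 3 into the orbit of vertex 3. -/
def mask3_3 : ℕ := 0x200100000000000200003205042010000844020000000080030028c0200000800400900042400220004040c0800800000500100280111180800010001000800800904c0111020019084110b010001000080420000500000800000800000040000cc84a000200124a0000000000000a00000000000800000220204000404000000000000058810003800000048b2000000120f0000026211b8000201000400580000000030e101100400184840000b18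

/-- A tree for these directions. -/
def trow3_3 : List (ℕ × ℕ) := [
    (3, 3), (3, 4), (8, 0), (8, 1), (8, 2), (8, 3), (8, 4), (38, 0), (38, 2), (38, 3), (4, 4),
    (315, 0), (315, 2), (315, 3), (315, 4), (316, 0), (316, 2), (316, 3), (316, 4), (43, 0),
    (43, 1), (43, 2), (43, 3), (43, 4), (233, 4), (209, 0), (209, 1), (205, 0), (205, 1),
    (205, 3), (803, 1), (803, 3), (87, 0), (87, 1), (87, 2), (87, 3), (87, 4), (317, 0), (317, 2),
    (317, 3), (317, 4), (1089, 4), (410, 0), (410, 2), (134, 0), (134, 1), (134, 2), (134, 3),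
    (134, 4), (85, 0), (85, 1), (85, 3), (85, 4), (856, 4), (1388, 1), (1388, 2), (1388, 4),
    (964, 0), (964, 1), (964, 3), (964, 4), (189, 0), (189, 3), (189, 4), (963, 0), (963, 3),
    (832, 4), (441, 0), (441, 1), (441, 2), (30, 0), (30, 1), (631, 4), (1297, 0), (1297, 2),
    (845, 3), (72, 3), (955, 3), (1066, 1), (1066, 2), (1066, 3), (132, 3), (86, 0), (86, 2),
    (86, 3), (745, 4), (517, 0), (276, 2), (276, 3), (276, 4), (187, 3), (187, 4), (1012, 4),
    (597, 1), (597, 2), (1155, 0), (1155, 2), (1219, 1), (1219, 2), (9, 3), (9, 4), (277, 3),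
    (277, 4), (93, 0), (93, 3), (93, 4), (1341, 4), (895, 0), (801, 3), (724, 3), (724, 4),
    (584, 4), (343, 1), (343, 2), (343, 4), (1191, 0), (808, 2), (169, 3), (234, 3), (1187, 4),
    (823, 1), (44, 3), (573, 4), (92, 3), (870, 0), (870, 1), (870, 2), (1302, 4), (581, 4),
    (989, 0), (989, 2), (192, 3), (80, 0), (80, 3), (241, 3), (131, 3), (831, 0), (235, 3),
    (1253, 4), (1177, 4), (626, 1), (1051, 1), (1051, 2), (1000, 1), (1000, 2), (273, 4),
    (679, 4), (68, 3), (1093, 4), (1401, 0), (987, 4), (1310, 0), (968, 2), (874, 1), (613, 4),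
    (188, 3), (346, 1)]

theorem mask3_3_ok : ([3, 8, 38].all fun r => Nat.blt r 1408) &&
    (grow gens3 trow3_3 (seedSet [3, 8, 38] 0) == some mask3_3) = true := by
  decide +kernel

theorem toOrb3_3 : ∀ c, mask3_3.testBit c = true → GoodTo C (vert C 3) (vert C 3) c := by
  have h := mask3_3_ok
  simp only [Bool.and_eq_true, beq_iff_eq, decide_eq_true_eq] at h
  refine goodTo_all C (seeds := [3, 8, 38]) (gens := gens3) (rows := trow3_3) ?_ ?_ (by decide +kernel) h.1 h.2
  · intro r hr
    simp only [List.mem_cons, List.not_mem_nil, or_false] at hr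
    rcases hr with rfl | rfl | rfl
    · exact goodTo_seed C (h16375 C) 3 (by decide +kernel)
    · exact goodTo_seed C (h16390 C) 8 (by decide +kernel)
    · exact goodTo_seed C (h25644 C) 38 (by decide +kernel)
  · intro g hg
    simp only [gens3, List.mem_cons, List.not_mem_nil, or_false] at hg
    rcases hg with rfl | rfl | rfl | rfl | rfl
    · exact h10101 C
    · exact h11335 C
    · exact h13041 C
    · exact h14756 C
    · exact h16411 C

/-- The directions from vertex 3 into the orbit of vertex 4. -/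
def mask3_4 : ℕ := 0x8200000000000000000000000000000000000000000000000000040000000000000000000000002000000000000000000000000000000000000000000000000000004000000000000000000000000000000000000400000000000000000000000000081020401a0000048200000020204041220190110443

/-- A tree for these directions. -/
def trow3_4 : List (ℕ × ℕ) := [
    (0, 3), (0, 4), (1, 3), (1, 4), (20, 0), (20, 1), (20, 2), (20, 3), (20, 4), (6, 4), (45, 4),
    (28, 2), (28, 3), (28, 4), (282, 3), (282, 4), (645, 3), (645, 4), (41, 4), (164, 0), (62, 0),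
    (62, 3), (137, 4), (139, 4), (54, 0), (959, 4), (171, 0), (111, 3), (105, 0)]

theorem mask3_4_ok : ([0, 1, 20].all fun r => Nat.blt r 1408) &&
    (grow gens3 trow3_4 (seedSet [0, 1, 20] 0) == some mask3_4) = true := by
  decide +kernel

theorem toOrb3_4 : ∀ c, mask3_4.testBit c = true → GoodTo C (vert C 3) (vert C 4) c := by
  have h := mask3_4_ok
  simp only [Bool.and_eq_true, beq_iff_eq, decide_eq_true_eq] at h
  refine goodTo_all C (seeds := [0, 1, 20]) (gens := gens3) (rows := trow3_4) ?_ ?_ (by decide +kernel) h.1 h.2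
  · intro r hr
    simp only [List.mem_cons, List.not_mem_nil, or_false] at hr
    rcases hr with rfl | rfl | rfl
    · exact goodTo_seed C (h23912 C) 0 (by decide +kernel)
    · exact goodTo_seed C (h23949 C) 1 (by decide +kernel)
    · exact goodTo_seed C (h25633 C) 20 (by decide +kernel)
  · intro g hg
    simp only [gens3, List.mem_cons, List.not_mem_nil, or_false] at hg
    rcases hg with rfl | rfl | rfl | rfl | rfl
    · exact h10101 C
    · exact h11335 C
    · exact h13041 C
    · exact h14756 C
    · exact h16411 C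

/-- The directions from vertex 3 into the orbit of vertex 5. -/
def mask3_5 : ℕ := 0x100000000000000000000040000000003000020000000000000000000000000000000000000000000000000000000000000000000000000000000000080000100000008000000000000000000000000000000000000000000000000000000000000000000000000400000000000800002000800000

/-- A tree for these directions. -/
def trow3_5 : List (ℕ × ℕ) := [
    (23, 0), (23, 2), (23, 3), (451, 0), (451, 1), (451, 3), (785, 1), (785, 3), (932, 3),
    (59, 3), (428, 3)]

theorem mask3_5_ok : ([23].all fun r => Nat.blt r 1408) &&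
    (grow gens3 trow3_5 (seedSet [23] 0) == some mask3_5) = true := by
  decide +kernel

theorem toOrb3_5 : ∀ c, mask3_5.testBit c = true → GoodTo C (vert C 3) (vert C 5) c := by
  have h := mask3_5_ok
  simp only [Bool.and_eq_true, beq_iff_eq, decide_eq_true_eq] at h
  refine goodTo_all C (seeds := [23]) (gens := gens3) (rows := trow3_5) ?_ ?_ (by decide +kernel) h.1 h.2
  · intro r hr
    simp only [List.mem_cons, List.not_mem_nil, or_false] at hr
    subst hr
    exact goodTo_seed C (h33089 C) 23 (by decide +kernel)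
  · intro g hg
    simp only [gens3, List.mem_cons, List.not_mem_nil, or_false] at hg
    rcases hg with rfl | rfl | rfl | rfl | rfl
    · exact h10101 C
    · exact h11335 C
    · exact h13041 C
    · exact h14756 C
    · exact h16411 C

/-- The directions from vertex 3 into the orbit of vertex 6. -/
def mask3_6 : ℕ := 0xcd340ab5a29c187345958c1aaa84261b4010264f093a38e505483070d9b973316802d49aab8a5cdc90a120f114295dd44280b22a92c08482253872095a9cb6cc55d2281080c509e4074960c4524cd844b41488b20ca107764aead8248f256b51242268188f022e480fa691b3cd92ae4d409f9b4099541bc05c59a96740103ad973105ed2a2438acc03ca054b220ce84b4b09401725a0800e011df5a8ceaac1260013591e4000160ca2b204062b289000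

/-- A tree for these directions. -/
def trow3_6 : List (ℕ × ℕ) := [
    (12, 0), (12, 1), (12, 2), (12, 3), (12, 4), (19, 0), (19, 3), (19, 4), (21, 0), (21, 1),
    (21, 2), (21, 3), (21, 4), (24, 0), (24, 1), (24, 2), (24, 3), (24, 4), (73, 0), (73, 2),
    (73, 3), (193, 0), (193, 2), (193, 3), (193, 4), (194, 0), (194, 2), (194, 3), (194, 4),
    (104, 0), (104, 1), (104, 2), (104, 3), (104, 4), (270, 4), (888, 0), (888, 1), (143, 2),
    (143, 3), (143, 4), (116, 4), (27, 0), (27, 2), (27, 4), (25, 0), (25, 1), (25, 2), (25, 3),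
    (25, 4), (902, 0), (902, 2), (902, 3), (902, 4), (1045, 0), (1045, 1), (1045, 2), (1045, 3),
    (1045, 4), (224, 4), (640, 0), (640, 1), (640, 2), (640, 4), (377, 3), (377, 4), (525, 3),
    (107, 3), (133, 4), (275, 0), (275, 1), (275, 3), (947, 1), (947, 3), (1032, 0), (1032, 1),
    (1032, 2), (1032, 3), (1032, 4), (195, 0), (195, 2), (195, 3), (195, 4), (313, 4), (826, 0),
    (826, 2), (100, 0), (100, 1), (100, 2), (100, 3), (100, 4), (129, 0), (129, 1), (129, 3),
    (129, 4), (1156, 4), (1216, 1), (1216, 2), (1216, 4), (957, 0), (957, 1), (957, 3), (957, 4),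
    (175, 0), (175, 3), (175, 4), (802, 0), (802, 3), (1176, 4), (1157, 0), (1157, 1), (1157, 2),
    (153, 0), (153, 1), (514, 4), (1254, 0), (1254, 2), (55, 1), (55, 2), (55, 3), (136, 4),
    (151, 0), (34, 0), (34, 2), (34, 4), (110, 1), (1087, 0), (1087, 1), (1087, 2), (1087, 3),
    (1087, 4), (545, 0), (545, 2), (545, 3), (545, 4), (479, 0), (479, 1), (479, 2), (479, 3),
    (479, 4), (257, 4), (1172, 0), (1172, 1), (1172, 2), (1172, 4), (475, 0), (475, 2), (475, 3),
    (267, 0), (267, 1), (267, 3), (267, 4), (435, 4), (798, 0), (798, 1), (798, 4), (1180, 0),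
    (1180, 1), (1180, 2), (1180, 3), (1180, 4), (1040, 2), (1040, 3), (1040, 4), (940, 0),
    (940, 1), (940, 2), (940, 3), (940, 4), (298, 4), (393, 1), (393, 2), (393, 4), (1243, 0),
    (1243, 1), (1243, 2), (1243, 4), (1161, 0), (1161, 1), (1161, 2), (542, 0), (542, 2),
    (542, 4), (522, 0), (522, 1), (522, 4), (310, 0), (310, 1), (310, 2), (310, 4), (806, 4),
    (949, 3), (99, 3), (954, 3), (1090, 1), (1090, 2), (1090, 3), (98, 3), (130, 0), (130, 2),
    (130, 3), (568, 4), (1197, 0), (427, 2), (427, 3), (427, 4), (173, 3), (173, 4), (1099, 4),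
    (1305, 1), (1305, 2), (697, 0), (697, 2), (894, 1), (894, 2), (15, 3), (15, 4), (178, 3),
    (178, 4), (331, 0), (331, 3), (331, 4), (1134, 4), (1394, 0), (179, 3), (948, 3), (948, 4),
    (712, 4), (1091, 1), (1091, 2), (1091, 4), (822, 0), (952, 2), (74, 3), (335, 3), (814, 4),
    (1240, 1), (49, 3), (1030, 4), (170, 3), (1188, 0), (1188, 1), (1188, 2), (1249, 4), (919, 4),
    (651, 0), (651, 2), (699, 3), (787, 3), (66, 0), (94, 1), (743, 2), (743, 3), (29, 0),
    (29, 3), (29, 4), (664, 0), (664, 2), (664, 3), (358, 4), (362, 0), (362, 1), (362, 2),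
    (362, 4), (905, 1), (905, 2), (905, 3), (905, 4), (567, 2), (567, 3), (567, 4), (1112, 4),
    (924, 0), (924, 2), (924, 4), (714, 0), (714, 1), (714, 2), (714, 3), (714, 4), (1309, 0),
    (1309, 2), (1309, 3), (1309, 4), (523, 1), (523, 2), (523, 3), (1121, 4), (1327, 1),
    (1327, 2), (1327, 4), (765, 0), (765, 1), (765, 2), (765, 4), (225, 0), (225, 4), (444, 0),
    (444, 2), (444, 4), (476, 1), (476, 4), (1335, 0), (1335, 2), (1149, 3), (1149, 4), (52, 0),
    (52, 1), (52, 3), (687, 1), (687, 2), (687, 3), (687, 4), (337, 0), (337, 3), (337, 4),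
    (975, 4), (1164, 2), (1164, 4), (486, 0), (486, 1), (486, 4), (621, 0), (621, 4), (586, 0),
    (586, 2), (1005, 4), (470, 0), (470, 3), (1350, 3), (1031, 1), (1031, 3), (1031, 4), (887, 4),
    (754, 4), (1223, 0), (1223, 3), (890, 4), (582, 0), (582, 2), (877, 3), (877, 4), (149, 0),
    (149, 2), (149, 3), (149, 4), (307, 0), (307, 1), (307, 2), (307, 3), (1105, 4), (997, 4),
    (491, 1), (491, 2), (491, 4), (53, 0), (53, 1), (1378, 2), (1323, 0), (1323, 1), (1323, 2),
    (1084, 0), (1084, 2), (1084, 4), (1137, 0), (1137, 1), (1137, 4), (1383, 0), (1383, 1),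
    (1383, 2), (1383, 4), (819, 0), (819, 1), (61, 0), (61, 2), (61, 4), (644, 1), (644, 4),
    (145, 2), (329, 4), (112, 0), (460, 0), (665, 2), (665, 4), (1015, 1), (1015, 2), (240, 3),
    (159, 0), (159, 3), (172, 3), (97, 3), (868, 0), (336, 3), (983, 4), (790, 4), (248, 1),
    (459, 1), (459, 2), (1402, 1), (1402, 2), (271, 4), (562, 4), (33, 3), (376, 4), (1385, 0),
    (848, 4), (1328, 0), (1043, 2), (1311, 1), (816, 4), (607, 0), (607, 3), (569, 3), (783, 4),
    (898, 0), (898, 1), (898, 2), (898, 3), (269, 3), (251, 0), (251, 1), (251, 2), (251, 4),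
    (709, 0), (770, 3), (770, 4), (322, 1), (322, 3), (1218, 4), (1183, 0), (1349, 3), (1380, 4),
    (941, 0), (941, 2), (941, 4), (536, 0), (689, 1), (689, 4), (906, 1), (906, 2), (906, 3),
    (1313, 3), (713, 3), (1278, 4), (457, 3), (311, 0), (311, 2), (311, 3), (993, 4), (396, 3),
    (468, 2), (468, 3), (1228, 1), (1228, 2), (1228, 4), (353, 0), (353, 4), (488, 0), (488, 2),
    (488, 4), (498, 1), (498, 4), (658, 0), (658, 2), (1210, 4), (1165, 4), (397, 0), (165, 1),
    (165, 2), (556, 4), (1026, 3), (1160, 3), (649, 3), (649, 4), (600, 3), (1173, 4), (1400, 1),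
    (602, 3), (1280, 4), (1113, 2), (1113, 4), (1342, 0), (1342, 4), (1077, 0), (1077, 2),
    (1376, 4), (839, 2), (1315, 3), (1022, 3), (1396, 4), (388, 4), (1062, 3), (634, 0), (634, 2),
    (691, 4), (740, 3), (1268, 3), (438, 4), (1102, 3), (327, 3), (323, 3), (1152, 4), (418, 0),
    (418, 1), (863, 2), (1348, 1), (961, 0), (961, 1), (356, 0), (356, 2), (356, 4), (705, 1),
    (705, 4), (296, 2), (762, 4), (661, 0), (1355, 0), (1119, 2), (1119, 4), (391, 1), (391, 2),
    (174, 3), (1166, 1), (747, 3), (455, 3), (226, 3), (779, 3), (216, 0), (1283, 4), (500, 3),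
    (656, 0), (1261, 0), (1375, 1), (1375, 4), (364, 3), (57, 3), (238, 3), (538, 3), (1171, 3),
    (1381, 4), (382, 4), (1362, 0), (384, 1), (384, 2), (1307, 4), (693, 1), (911, 2), (916, 1)]

theorem mask3_6_ok : ([12, 19, 21, 24, 73].all fun r => Nat.blt r 1408) &&
    (grow gens3 trow3_6 (seedSet [12, 19, 21, 24, 73] 0) == some mask3_6) = true := by
  decide +kernel

theorem toOrb3_6 : ∀ c, mask3_6.testBit c = true → GoodTo C (vert C 3) (vert C 6) c := by
  have h := mask3_6_ok
  simp only [Bool.and_eq_true, beq_iff_eq, decide_eq_true_eq] at h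
  refine goodTo_all C (seeds := [12, 19, 21, 24, 73]) (gens := gens3) (rows := trow3_6) ?_ ?_ (by decide +kernel) h.1 h.2
  · intro r hr
    simp only [List.mem_cons, List.not_mem_nil, or_false] at hr
    rcases hr with rfl | rfl | rfl | rfl | rfl
    · exact goodTo_seed C (h40789 C) 12 (by decide +kernel)
    · exact goodTo_seed C (h39098 C) 19 (by decide +kernel)
    · exact goodTo_seed C (h40831 C) 21 (by decide +kernel)
    · exact goodTo_seed C (h39031 C) 24 (by decide +kernel)
    · exact goodTo_seed C (h39071 C) 73 (by decide +kernel)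
  · intro g hg
    simp only [gens3, List.mem_cons, List.not_mem_nil, or_false] at hg
    rcases hg with rfl | rfl | rfl | rfl | rfl
    · exact h10101 C
    · exact h11335 C
    · exact h13041 C
    · exact h14756 C
    · exact h16411 C

/-- The directions from vertex 3 into the orbit of vertex 7. -/
def mask3_7 : ℕ := 0x30c9254a190367889a4a704505095820a50801902405c7022003c00020468cc2920520655051a1016f42c20002022022200344450134480100048486a04341332000510c2420041a20300400201024934b6b0108b30238010015071b60da9008820110044010108040512e4c306d5010bf60448f662be43381a40288b80005268000a12d400401338035dab4000017b4b44020e8da5c0000000000460111000000002000000000011100000004460000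

/-- A tree for these directions. -/
def trow3_7 : List (ℕ × ℕ) := [
    (17, 0), (17, 1), (17, 2), (17, 3), (17, 4), (1025, 0), (1025, 1), (1025, 2), (1025, 3),
    (1025, 4), (716, 0), (716, 2), (716, 3), (716, 4), (473, 0), (473, 1), (473, 2), (473, 3),
    (473, 4), (467, 4), (835, 0), (835, 1), (835, 2), (835, 4), (1199, 0), (1199, 1), (1199, 2),
    (1199, 3), (1199, 4), (1163, 0), (1163, 2), (1163, 3), (1163, 4), (1198, 1), (1198, 2),
    (1198, 3), (352, 4), (367, 0), (367, 1), (367, 2), (367, 4), (265, 0), (265, 1), (265, 3),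
    (265, 4), (237, 0), (237, 1), (237, 2), (237, 3), (237, 4), (516, 4), (757, 0), (757, 1),
    (757, 2), (757, 4), (325, 0), (325, 1), (325, 2), (325, 3), (325, 4), (688, 0), (688, 2),
    (688, 3), (688, 4), (22, 1), (22, 3), (22, 4), (821, 4), (681, 0), (681, 1), (681, 2),
    (681, 4), (1126, 0), (1126, 1), (1126, 2), (1126, 4), (526, 0), (526, 1), (526, 2), (526, 4),
    (452, 0), (452, 4), (998, 0), (998, 1), (998, 4), (483, 1), (483, 2), (483, 4), (904, 1),
    (904, 3), (904, 4), (753, 2), (753, 3), (753, 4), (878, 0), (878, 2), (878, 3), (878, 4),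
    (1361, 4), (1120, 0), (1120, 1), (1120, 2), (1120, 4), (853, 0), (853, 1), (853, 3),
    (1162, 2), (1162, 3), (1162, 4), (547, 4), (739, 1), (739, 2), (739, 4), (506, 0), (506, 2),
    (506, 3), (506, 4), (463, 0), (463, 1), (463, 3), (386, 0), (386, 1), (386, 2), (386, 4),
    (1009, 1), (1009, 4), (733, 4), (761, 0), (761, 2), (761, 4), (309, 0), (309, 1), (309, 2),
    (1231, 3), (574, 2), (574, 3), (574, 4), (1304, 4), (1071, 0), (1071, 2), (1071, 4), (504, 0),
    (504, 1), (504, 3), (504, 4), (566, 3), (144, 0), (144, 1), (144, 2), (144, 3), (1354, 4),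
    (1133, 1), (1133, 2), (1096, 0), (1096, 1), (1096, 2), (1096, 4), (268, 0), (268, 2),
    (308, 0), (308, 2), (308, 4), (60, 0), (60, 1), (60, 2), (1225, 0), (1225, 1), (1225, 2),
    (1225, 4), (540, 0), (540, 1), (540, 3), (502, 0), (502, 3), (502, 4), (670, 1), (670, 3),
    (1101, 4), (394, 1), (394, 3), (673, 0), (673, 2), (673, 3), (673, 4), (974, 4), (1021, 0),
    (1021, 2), (1021, 4), (1312, 3), (385, 4), (1277, 0), (1277, 1), (1277, 2), (1277, 4),
    (230, 0), (1181, 0), (303, 0), (1334, 0), (1334, 1), (1334, 2), (1334, 4), (980, 0), (980, 1),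
    (980, 2), (980, 4), (211, 0), (211, 4), (1153, 0), (1153, 1), (1153, 4), (1006, 1), (1006, 2),
    (1006, 4), (1340, 4), (425, 2), (425, 4), (338, 1), (505, 0), (1213, 2), (109, 0), (1384, 2),
    (901, 2), (162, 0), (162, 4), (449, 0), (449, 1), (449, 4), (478, 2), (478, 3), (935, 4),
    (392, 1), (620, 3), (217, 4), (501, 0), (501, 1), (680, 3), (778, 2), (778, 3), (778, 4),
    (1285, 4), (1224, 1), (1083, 0), (1083, 1), (1083, 2), (1083, 4), (758, 4), (833, 4),
    (981, 1), (18, 3), (643, 2), (643, 3), (365, 0), (365, 3), (261, 4), (1008, 1), (1008, 2),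
    (1008, 4), (721, 2), (858, 3), (1200, 2), (1200, 3), (437, 4), (639, 0), (477, 3), (1145, 3),
    (768, 1), (768, 4), (212, 4), (252, 0), (252, 2), (252, 4), (1291, 0), (1291, 1), (1291, 2),
    (1201, 2), (1170, 4), (423, 3), (415, 4), (1386, 0), (1386, 2), (1386, 4), (810, 0), (810, 3),
    (900, 3), (1108, 4), (481, 2), (481, 4), (1041, 3), (775, 3), (1049, 3), (1357, 1), (1357, 2),
    (297, 0), (297, 2), (971, 0), (971, 2), (971, 4), (439, 0), (439, 1), (439, 2), (943, 0),
    (943, 1), (943, 2), (943, 4), (897, 2), (897, 3), (1329, 3), (938, 3), (494, 4), (1167, 3),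
    (324, 3), (231, 3), (1029, 3), (1358, 4), (1382, 0), (1382, 2), (1382, 4), (994, 0), (918, 0),
    (1158, 0), (829, 0), (829, 1), (829, 2), (829, 4), (659, 4), (210, 2), (210, 4), (1343, 1),
    (978, 0), (912, 2), (657, 0), (413, 2), (704, 2), (290, 0), (290, 4), (960, 0), (960, 1),
    (960, 4), (1159, 3), (1085, 1), (1353, 0), (1353, 1), (729, 3), (1274, 4), (292, 1), (992, 4),
    (1086, 4), (1360, 1), (1088, 3), (264, 3), (511, 2), (564, 3), (302, 0), (1347, 2), (383, 4),
    (1148, 3), (1070, 2), (1070, 4), (842, 3)]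

theorem mask3_7_ok : ([17].all fun r => Nat.blt r 1408) &&
    (grow gens3 trow3_7 (seedSet [17] 0) == some mask3_7) = true := by
  decide +kernel

theorem toOrb3_7 : ∀ c, mask3_7.testBit c = true → GoodTo C (vert C 3) (vert C 7) c := by
  have h := mask3_7_ok
  simp only [Bool.and_eq_true, beq_iff_eq, decide_eq_true_eq] at h
  refine goodTo_all C (seeds := [17]) (gens := gens3) (rows := trow3_7) ?_ ?_ (by decide +kernel) h.1 h.2
  · intro r hr
    simp only [List.mem_cons, List.not_mem_nil, or_false] at hr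
    subst hr
    exact goodTo_seed C (h41074 C) 17 (by decide +kernel)
  · intro g hg
    simp only [gens3, List.mem_cons, List.not_mem_nil, or_false] at hg
    rcases hg with rfl | rfl | rfl | rfl | rfl
    · exact h10101 C
    · exact h11335 C
    · exact h13041 C
    · exact h14756 C
    · exact h16411 C

/-- The directions from vertex 4 into the orbit of vertex 1. -/
def mask4_1 : ℕ := 0x8000000000000000000000000000000000000000000000000000000000000000000000000000002000000000000000000000000000000000000000000000000000000000000000000000000000000000000000000400000000000000000000000000081000000a000004c000400020204000000010000424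

/-- A tree for these directions. -/
def trow4_1 : List (ℕ × ℕ) := [
    (2, 0), (2, 3), (94, 3), (164, 3), (69, 0), (69, 1), (69, 2), (69, 3), (77, 1), (77, 3),
    (137, 3), (139, 3), (959, 3), (111, 0), (114, 3)]

theorem mask4_1_ok : ([2, 94, 164].all fun r => Nat.blt r 1408) &&
    (grow gens4 trow4_1 (seedSet [2, 94, 164] 0) == some mask4_1) = true := by
  decide +kernel

theorem toOrb4_1 : ∀ c, mask4_1.testBit c = true → GoodTo C (vert C 4) (vert C 1) c := by
  have h := mask4_1_ok
  simp only [Bool.and_eq_true, beq_iff_eq, decide_eq_true_eq] at h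
  refine goodTo_all C (seeds := [2, 94, 164]) (gens := gens4) (rows := trow4_1) ?_ ?_ (by decide +kernel) h.1 h.2
  · intro r hr
    simp only [List.mem_cons, List.not_mem_nil, or_false] at hr
    rcases hr with rfl | rfl | rfl
    · exact goodTo_seed C (h25497 C) 2 (by decide +kernel)
    · exact goodTo_seed C (h25661 C) 94 (by decide +kernel)
    · exact goodTo_seed C (h25550 C) 164 (by decide +kernel)
  · intro g hg
    simp only [gens4, List.mem_cons, List.not_mem_nil, or_false] at hg
    rcases hg with rfl | rfl | rfl | rfl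
    · exact h19566 C
    · exact h20600 C
    · exact h22194 C
    · exact h23965 C

/-- The directions from vertex 4 into the orbit of vertex 2. -/
def mask4_2 : ℕ := 0xcd344a94a0bc887300058410820426530070340f593218919300213259a170302c9ac49a8b885c88800800f370a95dd10d0c80988202848665396a591210208455d4aa12cacfc8640749483096c75840041480440881831613aac0441b20615375104a4a8f866a580fa6d0b30f908e41009f9b2098541bc85c5131660190ea1979445e5200538acc46c22449b149c8090ba99007248180ae05cdf4a0c22800071c03151a0b1ec6422a32c12000a0d080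

/-- A tree for these directions. -/
def trow4_2 : List (ℕ × ℕ) := [
    (7, 0), (7, 1), (7, 2), (7, 3), (958, 0), (958, 1), (958, 2), (958, 3), (40, 0), (40, 3),
    (47, 2), (47, 3), (186, 0), (106, 1), (106, 2), (106, 3), (1054, 0), (1054, 2), (1054, 3),
    (46, 0), (46, 1), (46, 3), (882, 0), (14, 0), (14, 1), (14, 2), (14, 3), (1047, 0), (70, 0),
    (70, 1), (70, 2), (70, 3), (340, 0), (1400, 0), (1400, 1), (1400, 2), (1400, 3), (846, 0),
    (846, 3), (399, 2), (399, 3), (23, 0), (236, 3), (1053, 1), (1053, 2), (1053, 3), (1011, 0),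
    (278, 1), (278, 3), (122, 3), (280, 0), (921, 0), (921, 1), (921, 2), (921, 3), (82, 2),
    (82, 3), (89, 2), (89, 3), (91, 0), (91, 1), (91, 2), (91, 3), (272, 0), (108, 0), (108, 1),
    (108, 2), (108, 3), (804, 2), (804, 3), (79, 2), (79, 3), (123, 2), (123, 3), (614, 0),
    (53, 0), (53, 1), (53, 2), (53, 3), (1182, 1), (1182, 2), (1182, 3), (601, 0), (601, 2),
    (601, 3), (225, 0), (225, 1), (225, 2), (225, 3), (693, 0), (182, 3), (932, 0), (37, 3),
    (451, 0), (284, 0), (284, 1), (284, 2), (284, 3), (407, 0), (314, 0), (314, 3), (128, 1),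
    (128, 3), (1010, 0), (503, 0), (503, 1), (503, 2), (503, 3), (83, 3), (996, 0), (719, 0),
    (499, 0), (499, 1), (499, 2), (499, 3), (665, 1), (665, 2), (665, 3), (790, 0), (790, 3),
    (568, 2), (568, 3), (74, 0), (799, 3), (398, 0), (84, 3), (1185, 0), (847, 3), (81, 3),
    (124, 3), (939, 0), (460, 0), (460, 1), (460, 2), (460, 3), (850, 2), (850, 3), (600, 2),
    (600, 3), (731, 0), (731, 1), (731, 2), (731, 3), (215, 0), (805, 3), (785, 0), (78, 3),
    (668, 0), (183, 3), (537, 0), (184, 0), (184, 1), (184, 2), (184, 3), (1348, 1), (1348, 2),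
    (1348, 3), (363, 3), (476, 2), (476, 3), (418, 0), (1179, 3), (456, 0), (456, 1), (456, 2),
    (456, 3), (158, 0), (1149, 0), (1149, 2), (1149, 3), (544, 0), (544, 1), (544, 3), (1107, 0),
    (422, 0), (422, 3), (536, 2), (536, 3), (667, 1), (667, 2), (667, 3), (353, 0), (1143, 0),
    (1143, 1), (1143, 2), (1143, 3), (1024, 0), (1024, 1), (1024, 2), (1024, 3), (59, 0),
    (738, 1), (738, 2), (738, 3), (374, 1), (374, 3), (1016, 0), (1016, 3), (65, 2), (65, 3),
    (1359, 0), (1373, 0), (1373, 2), (1373, 3), (88, 3), (408, 0), (318, 3), (617, 0), (834, 0),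
    (834, 1), (834, 3), (1168, 2), (1168, 3), (1087, 2), (1087, 3), (1165, 2), (1165, 3),
    (1364, 0), (52, 0), (52, 3), (585, 0), (585, 3), (149, 2), (149, 3), (522, 0), (522, 2),
    (522, 3), (843, 3), (294, 0), (654, 3), (165, 0), (165, 2), (165, 3), (1119, 0), (267, 3),
    (1043, 1), (1043, 2), (1043, 3), (1032, 0), (948, 0), (948, 1), (948, 2), (1075, 0), (653, 1),
    (653, 2), (653, 3), (239, 0), (1176, 0), (1176, 1), (1176, 2), (1176, 3), (791, 0), (849, 0),
    (678, 0), (727, 1), (727, 2), (727, 3), (1268, 1), (1102, 0), (1102, 3), (640, 0), (640, 3),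
    (1355, 0), (774, 0), (774, 2), (774, 3), (1227, 0), (443, 1), (443, 3), (587, 0), (819, 3),
    (457, 2), (457, 3), (779, 1), (779, 2), (863, 0), (863, 1), (863, 3), (428, 0), (1212, 1),
    (1212, 2), (1212, 3), (1018, 0), (582, 0), (582, 1), (582, 2), (582, 3), (742, 0), (603, 2),
    (603, 3), (1258, 2), (1258, 3), (648, 0), (271, 0), (271, 3), (397, 3), (838, 2), (838, 3),
    (916, 0), (1208, 0), (1062, 2), (1062, 3), (892, 0), (892, 1), (892, 2), (892, 3), (172, 0),
    (1350, 0), (1350, 3), (622, 0), (622, 2), (622, 3), (1134, 3), (130, 0), (947, 0), (947, 2),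
    (947, 3), (364, 3), (310, 0), (310, 1), (310, 2), (310, 3), (61, 1), (61, 3), (756, 3),
    (259, 0), (780, 0), (780, 1), (780, 3), (323, 3), (1147, 0), (362, 3), (1261, 0), (1045, 0),
    (1045, 3), (380, 0), (1130, 1), (1130, 2), (1130, 3), (696, 0), (696, 3), (558, 0), (558, 1),
    (558, 2), (558, 3), (609, 2), (609, 3), (879, 2), (879, 3), (247, 2), (247, 3), (1019, 0),
    (1019, 2), (700, 3), (1260, 3), (628, 0), (999, 3), (594, 0), (208, 3), (580, 1), (580, 3),
    (909, 0), (909, 1), (1327, 1), (1327, 2), (1327, 3), (607, 3), (599, 0), (754, 0), (754, 3),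
    (962, 0), (446, 3), (814, 3), (475, 2), (475, 3), (1281, 0), (713, 3), (1035, 0), (358, 0),
    (877, 3), (1298, 0), (1298, 1), (366, 3), (1034, 0), (1040, 3), (438, 0), (569, 3), (1289, 0),
    (1289, 1), (1123, 0), (322, 0), (875, 0), (875, 3), (384, 0), (1305, 0), (1305, 1), (1305, 3),
    (975, 0), (270, 3), (952, 0), (99, 3), (178, 0), (178, 2), (170, 0), (855, 2), (545, 1),
    (545, 3), (218, 0), (226, 2), (226, 3), (1316, 3), (689, 2), (689, 3), (664, 2), (664, 3),
    (1164, 0), (21, 3), (1156, 2), (1156, 3), (1061, 0), (1061, 1), (243, 1), (249, 1), (249, 3),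
    (1269, 0), (1269, 3), (221, 0), (496, 1), (496, 3), (488, 0), (370, 2), (873, 3), (1209, 3),
    (1223, 2), (1223, 3), (567, 3), (1031, 3), (995, 3), (393, 3), (824, 0), (112, 3), (894, 0),
    (894, 3), (538, 3), (942, 0), (1293, 2), (1293, 3), (570, 3), (97, 0), (336, 0), (954, 3),
    (285, 0), (1030, 3), (523, 2), (327, 3), (686, 0), (251, 0), (1180, 3), (298, 0), (1216, 3),
    (1060, 3), (248, 3), (706, 2), (862, 2), (245, 3), (1215, 3), (1220, 0), (1249, 2), (1249, 3),
    (632, 0), (589, 3), (674, 3), (1228, 0), (1363, 3), (691, 0), (826, 3), (1244, 0), (1038, 3),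
    (421, 0), (1157, 3), (485, 2), (492, 3), (459, 0), (12, 0), (73, 1), (73, 2), (73, 3),
    (291, 0), (1322, 0), (551, 3), (1007, 3), (825, 3), (637, 3), (549, 3), (1197, 3), (1311, 1),
    (288, 3), (1028, 0), (593, 3), (1237, 3), (888, 3), (275, 3), (1056, 3)]

theorem mask4_2_ok : ([7].all fun r => Nat.blt r 1408) &&
    (grow gens4 trow4_2 (seedSet [7] 0) == some mask4_2) = true := by
  decide +kernel

theorem toOrb4_2 : ∀ c, mask4_2.testBit c = true → GoodTo C (vert C 4) (vert C 2) c := by
  have h := mask4_2_ok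
  simp only [Bool.and_eq_true, beq_iff_eq, decide_eq_true_eq] at h
  refine goodTo_all C (seeds := [7]) (gens := gens4) (rows := trow4_2) ?_ ?_ (by decide +kernel) h.1 h.2
  · intro r hr
    simp only [List.mem_cons, List.not_mem_nil, or_false] at hr
    subst hr
    exact goodTo_seed C (h25522 C) 7 (by decide +kernel)
  · intro g hg
    simp only [gens4, List.mem_cons, List.not_mem_nil, or_false] at hg
    rcases hg with rfl | rfl | rfl | rfl
    · exact h19566 C
    · exact h20600 C
    · exact h22194 C
    · exact h23965 C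

/-- The directions from vertex 4 into the orbit of vertex 3. -/
def mask4_3 : ℕ := 0x812002000000800002400404000800a6000020000103000000040400008000020100000000000004440e00004200220000000040000009020080000000001200001021003000000000048101000480030104008000100000040200004080800800008500080000000000000000001000000400200000020180c000100000000080010100000000002000100210000014000000400000000000000921c01010000002200000001c1048240588000843

/-- A tree for these directions. -/
def trow4_3 : List (ℕ × ℕ) := [
    (0, 3), (1, 3), (60, 0), (60, 1), (60, 2), (60, 3), (6, 0), (45, 0), (681, 0), (681, 1),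
    (681, 2), (681, 3), (716, 0), (716, 2), (716, 3), (775, 0), (775, 1), (775, 2), (775, 3),
    (439, 0), (157, 0), (157, 1), (157, 2), (157, 3), (34, 0), (34, 1), (34, 2), (34, 3),
    (1225, 1), (1225, 2), (1225, 3), (876, 0), (876, 3), (900, 0), (900, 1), (900, 2), (900, 3),
    (1277, 0), (852, 0), (852, 1), (852, 3), (309, 1), (309, 2), (309, 3), (516, 0), (853, 0),
    (853, 3), (1136, 0), (1136, 3), (897, 2), (897, 3), (490, 0), (1232, 0), (1232, 3), (105, 1),
    (105, 3), (31, 3), (32, 3), (42, 1), (42, 3), (66, 3), (67, 3), (477, 3), (761, 2), (761, 3),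
    (1224, 3), (1186, 3), (1377, 3), (449, 2), (1326, 0), (662, 0), (662, 1), (662, 3), (1041, 3),
    (1253, 2), (1253, 3), (1066, 0), (1145, 2), (1145, 3), (778, 2), (778, 3), (1291, 0),
    (864, 0), (864, 2), (864, 3), (615, 1), (1314, 0), (610, 0), (610, 1), (810, 3), (953, 3),
    (54, 0), (807, 3), (163, 0), (440, 0), (252, 0), (1329, 1), (1194, 3), (792, 3), (132, 0),
    (1399, 0), (595, 3), (635, 2), (635, 3), (655, 0), (51, 3), (160, 3), (1273, 0), (990, 3)]

theorem mask4_3_ok : ([0, 1, 60].all fun r => Nat.blt r 1408) &&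
    (grow gens4 trow4_3 (seedSet [0, 1, 60] 0) == some mask4_3) = true := by
  decide +kernel

theorem toOrb4_3 : ∀ c, mask4_3.testBit c = true → GoodTo C (vert C 4) (vert C 3) c := by
  have h := mask4_3_ok
  simp only [Bool.and_eq_true, beq_iff_eq, decide_eq_true_eq] at h
  refine goodTo_all C (seeds := [0, 1, 60]) (gens := gens4) (rows := trow4_3) ?_ ?_ (by decide +kernel) h.1 h.2
  · intro r hr
    simp only [List.mem_cons, List.not_mem_nil, or_false] at hr
    rcases hr with rfl | rfl | rfl
    · exact goodTo_seed C (h23937 C) 0 (by decide +kernel)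
    · exact goodTo_seed C (h23924 C) 1 (by decide +kernel)
    · exact goodTo_seed C (h25622 C) 60 (by decide +kernel)
  · intro g hg
    simp only [gens4, List.mem_cons, List.not_mem_nil, or_false] at hg
    rcases hg with rfl | rfl | rfl | rfl
    · exact h19566 C
    · exact h20600 C
    · exact h22194 C
    · exact h23965 C

/-- The directions from vertex 4 into the orbit of vertex 4. -/
def mask4_4 : ℕ := 0x100000208000084800004000000040004c00008018010040001000200200100011000004000004022002020040002000001000048c900000000000000001800000000040088004a00000900400046008401820800108000022000010000002000001000002000c40000040010000000000000040000040000000800200000001000100000000404000001001200000400000000c02850000100000040010008081001020090018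

/-- A tree for these directions. -/
def trow4_4 : List (ℕ × ℕ) := [
    (3, 0), (3, 3), (29, 0), (29, 1), (29, 2), (29, 3), (55, 3), (136, 0), (136, 1), (136, 2),
    (136, 3), (1309, 0), (1309, 1), (1309, 2), (1309, 3), (1001, 2), (1001, 3), (145, 0),
    (145, 1), (145, 2), (145, 3), (783, 0), (116, 1), (116, 3), (154, 3), (155, 3), (798, 2),
    (798, 3), (345, 0), (345, 2), (345, 3), (740, 1), (740, 3), (993, 0), (839, 3), (1150, 0),
    (671, 0), (671, 2), (671, 3), (1160, 0), (1160, 2), (1160, 3), (940, 0), (940, 2), (940, 3),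
    (552, 1), (552, 2), (552, 3), (840, 3), (19, 0), (1026, 0), (486, 0), (577, 2), (577, 3),
    (1072, 3), (694, 0), (730, 0), (730, 2), (730, 3), (767, 0), (908, 0), (908, 1), (908, 3),
    (515, 0), (515, 1), (683, 1), (683, 3), (1222, 0), (1222, 2), (1202, 1), (1202, 3), (677, 1),
    (677, 2), (1117, 0), (714, 2), (714, 3), (254, 0), (1332, 0), (16, 3), (1275, 0), (1275, 3),
    (414, 1), (1013, 3), (514, 0), (514, 1), (514, 3), (1172, 3), (359, 0), (914, 0), (1283, 3),
    (629, 3), (1076, 3), (922, 3), (1206, 3), (1132, 3), (1254, 3), (510, 3)]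

theorem mask4_4_ok : ([3, 29, 55].all fun r => Nat.blt r 1408) &&
    (grow gens4 trow4_4 (seedSet [3, 29, 55] 0) == some mask4_4) = true := by
  decide +kernel

theorem toOrb4_4 : ∀ c, mask4_4.testBit c = true → GoodTo C (vert C 4) (vert C 4) c := by
  have h := mask4_4_ok
  simp only [Bool.and_eq_true, beq_iff_eq, decide_eq_true_eq] at h
  refine goodTo_all C (seeds := [3, 29, 55]) (gens := gens4) (rows := trow4_4) ?_ ?_ (by decide +kernel) h.1 h.2
  · intro r hr
    simp only [List.mem_cons, List.not_mem_nil, or_false] at hr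
    rcases hr with rfl | rfl | rfl
    · exact goodTo_seed C (h25585 C) 3 (by decide +kernel)
    · exact goodTo_seed C (h25569 C) 29 (by decide +kernel)
    · exact goodTo_seed C (h25604 C) 55 (by decide +kernel)
  · intro g hg
    simp only [gens4, List.mem_cons, List.not_mem_nil, or_false] at hg
    rcases hg with rfl | rfl | rfl | rfl
    · exact h19566 C
    · exact h20600 C
    · exact h22194 C
    · exact h23965 C

/-- The directions from vertex 4 into the orbit of vertex 5. -/
def mask4_5 : ℕ := 0x20000100000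

/-- A tree for these directions. -/
def trow4_5 : List (ℕ × ℕ) := [
    (20, 3)]

theorem mask4_5_ok : ([20].all fun r => Nat.blt r 1408) &&
    (grow gens4 trow4_5 (seedSet [20] 0) == some mask4_5) = true := by
  decide +kernel

theorem toOrb4_5 : ∀ c, mask4_5.testBit c = true → GoodTo C (vert C 4) (vert C 5) c := by
  have h := mask4_5_ok
  simp only [Bool.and_eq_true, beq_iff_eq, decide_eq_true_eq] at h
  refine goodTo_all C (seeds := [20]) (gens := gens4) (rows := trow4_5) ?_ ?_ (by decide +kernel) h.1 h.2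
  · intro r hr
    simp only [List.mem_cons, List.not_mem_nil, or_false] at hr
    subst hr
    exact goodTo_seed C (h31545 C) 20 (by decide +kernel)
  · intro g hg
    simp only [gens4, List.mem_cons, List.not_mem_nil, or_false] at hg
    rcases hg with rfl | rfl | rfl | rfl
    · exact h19566 C
    · exact h20600 C
    · exact h22194 C
    · exact h23965 C

/-- The directions from vertex 4 into the orbit of vertex 6. -/
def mask4_6 : ℕ := 0x324a95695f43770cffe83beb597bd1a4118fcb90a6cce42e6cb3dac926460ecf91642b655475a3677ba2f10c8b14a208f0d37d653dbd7b5018c605a6e9634f69aa2b45cc3500361bf8b6b34e2830233b58ea7b2b737e6889e411259b649e160c82cdb530607195a5f0592e4cf06d71a2bf60609f46abe435a22e0e99ae6f15a6863ba02cfdac7533b81ddaa648a637b6a0566fe89a5e7f51ba320346101560e8e3e828c5b0e10981050418ca47462300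

/-- A tree for these directions. -/
def trow4_6 : List (ℕ × ℕ) := [
    (8, 0), (8, 1), (8, 2), (8, 3), (25, 0), (25, 1), (25, 2), (25, 3), (64, 0), (64, 1), (64, 2),
    (64, 3), (315, 0), (315, 1), (315, 2), (315, 3), (85, 2), (85, 3), (80, 0), (80, 1), (80, 2),
    (80, 3), (233, 0), (586, 0), (586, 1), (586, 2), (586, 3), (899, 0), (899, 2), (899, 3),
    (1161, 0), (1161, 1), (1161, 2), (1161, 3), (257, 0), (872, 0), (872, 1), (872, 2), (872, 3),
    (878, 2), (878, 3), (148, 0), (148, 1), (148, 2), (148, 3), (419, 0), (9, 2), (9, 3),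
    (189, 0), (189, 2), (189, 3), (131, 1), (131, 3), (1089, 0), (317, 3), (584, 0), (188, 0),
    (188, 2), (188, 3), (801, 0), (801, 2), (801, 3), (169, 0), (169, 2), (169, 3), (286, 0),
    (506, 0), (506, 1), (506, 2), (506, 3), (906, 1), (906, 2), (906, 3), (1313, 0), (1313, 3),
    (1315, 0), (1315, 1), (1315, 2), (1315, 3), (1077, 0), (1004, 0), (1004, 1), (1004, 3),
    (396, 1), (396, 2), (396, 3), (1196, 0), (1005, 0), (1005, 3), (621, 0), (621, 3), (1369, 2),
    (1369, 3), (1323, 0), (926, 0), (926, 3), (1181, 2), (1181, 3), (246, 0), (246, 2), (246, 3),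
    (1169, 1), (1169, 3), (1256, 0), (1200, 3), (1285, 0), (836, 0), (836, 2), (836, 3),
    (1334, 0), (1334, 2), (1334, 3), (717, 0), (717, 2), (717, 3), (1122, 1), (1122, 2),
    (1122, 3), (35, 0), (35, 1), (35, 3), (273, 0), (274, 2), (274, 3), (187, 3), (573, 0),
    (86, 0), (86, 2), (86, 3), (759, 0), (17, 0), (17, 1), (17, 2), (17, 3), (1012, 0), (1272, 0),
    (1272, 1), (1272, 2), (1272, 3), (92, 1), (92, 3), (964, 0), (964, 2), (964, 3), (232, 0),
    (725, 1), (725, 3), (191, 1), (191, 2), (191, 3), (812, 0), (724, 3), (87, 2), (87, 3),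
    (776, 0), (670, 0), (670, 1), (670, 2), (670, 3), (144, 1), (144, 2), (144, 3), (541, 0),
    (541, 2), (541, 3), (721, 0), (721, 1), (721, 2), (721, 3), (437, 0), (269, 3), (543, 2),
    (543, 3), (902, 3), (813, 3), (1335, 3), (997, 2), (1336, 0), (289, 0), (289, 1), (289, 3),
    (1338, 3), (983, 2), (983, 3), (1090, 0), (649, 2), (649, 3), (923, 2), (923, 3), (1257, 0),
    (1370, 0), (1370, 2), (1370, 3), (741, 1), (1376, 0), (307, 0), (307, 1), (1015, 3), (984, 0),
    (918, 0), (198, 2), (198, 3), (833, 3), (913, 0), (1162, 0), (1162, 2), (1162, 3), (1174, 0),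
    (893, 0), (893, 1), (893, 3), (1116, 0), (1116, 1), (473, 1), (473, 3), (1372, 0), (1372, 2),
    (1300, 1), (1300, 3), (230, 1), (230, 2), (829, 0), (1159, 2), (1159, 3), (253, 0), (1331, 0),
    (988, 0), (988, 3), (241, 0), (241, 3), (1014, 0), (18, 0), (18, 1), (18, 2), (18, 3),
    (133, 3), (525, 0), (1177, 0), (685, 0), (685, 1), (685, 2), (685, 3), (235, 3), (134, 3),
    (623, 0), (447, 0), (447, 1), (447, 2), (447, 3), (753, 1), (753, 3), (56, 0), (56, 2),
    (56, 3), (26, 0), (26, 1), (26, 2), (26, 3), (467, 0), (1148, 0), (1148, 1), (1148, 2),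
    (1148, 3), (576, 2), (576, 3), (461, 2), (461, 3), (1120, 0), (1120, 1), (1120, 2), (1120, 3),
    (1037, 0), (44, 3), (920, 0), (806, 3), (316, 3), (1187, 0), (652, 0), (652, 1), (652, 2),
    (652, 3), (168, 3), (666, 0), (43, 2), (43, 3), (277, 3), (339, 0), (789, 0), (789, 1),
    (789, 2), (789, 3), (987, 0), (808, 3), (745, 0), (788, 0), (788, 1), (788, 2), (788, 3),
    (1049, 1), (1049, 2), (1049, 3), (482, 0), (482, 2), (482, 3), (308, 0), (308, 2), (308, 3),
    (1118, 0), (320, 0), (320, 2), (320, 3), (1009, 0), (1009, 3), (258, 0), (1033, 0), (1033, 3),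
    (564, 1), (564, 3), (624, 0), (680, 0), (680, 2), (680, 3), (688, 2), (688, 3), (1267, 1),
    (1267, 2), (1267, 3), (1318, 0), (1318, 1), (1318, 2), (1318, 3), (1094, 0), (351, 0),
    (1210, 1), (827, 3), (372, 3), (98, 0), (1381, 0), (1195, 3), (1346, 2), (1346, 3), (391, 0),
    (815, 0), (815, 3), (692, 1), (1042, 3), (631, 0), (631, 1), (631, 3), (758, 3), (261, 0),
    (1230, 0), (1343, 3), (1142, 3), (1276, 3), (777, 3), (1317, 3), (828, 3), (234, 3), (702, 0),
    (93, 3), (426, 0), (368, 0), (368, 2), (368, 3), (1198, 1), (1198, 3), (464, 3), (304, 0),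
    (304, 1), (304, 3), (524, 0), (24, 0), (1039, 0), (1039, 1), (1039, 2), (1039, 3), (566, 0),
    (566, 2), (566, 3), (676, 3), (642, 2), (642, 3), (1097, 0), (1097, 1), (1097, 2), (1097, 3),
    (951, 0), (1204, 0), (1341, 0), (526, 0), (526, 1), (526, 2), (526, 3), (1003, 1), (1003, 2),
    (1003, 3), (325, 0), (325, 2), (325, 3), (1071, 0), (1071, 2), (1071, 3), (1226, 0),
    (1133, 0), (1133, 3), (217, 0), (319, 0), (319, 3), (1312, 3), (214, 0), (185, 0), (185, 2),
    (185, 3), (324, 0), (324, 2), (324, 3), (739, 3), (295, 0), (415, 0), (415, 1), (415, 2),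
    (415, 3), (1213, 1), (1213, 2), (1213, 3), (673, 3), (606, 0), (606, 2), (606, 3), (1404, 0),
    (605, 3), (844, 0), (365, 3), (663, 0), (303, 0), (303, 2), (303, 3), (546, 0), (546, 3),
    (237, 2), (237, 3), (972, 0), (972, 1), (972, 2), (972, 3), (332, 0), (166, 3), (377, 0),
    (856, 0), (1263, 2), (1263, 3), (306, 3), (729, 1), (729, 3), (107, 0), (880, 0), (880, 1),
    (880, 2), (880, 3), (192, 3), (832, 0), (679, 0), (321, 2), (321, 3), (1371, 3), (711, 3),
    (1241, 3), (115, 0), (841, 3), (968, 0), (265, 2), (265, 3), (1214, 3), (732, 0), (109, 3),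
    (867, 0), (392, 3), (502, 3), (1104, 0), (715, 3), (930, 0), (698, 3), (481, 3), (971, 0),
    (1126, 0), (1126, 1), (1126, 3), (328, 3), (1073, 3), (1264, 3), (484, 0), (484, 1), (484, 2),
    (484, 3), (483, 3), (682, 3), (528, 0), (703, 2), (703, 3), (795, 1), (795, 3), (596, 0),
    (904, 1), (675, 3), (1325, 2), (1325, 3), (910, 0), (707, 1), (707, 3), (555, 2), (555, 3),
    (297, 0), (1064, 0), (973, 3), (1297, 3), (1114, 3), (874, 0), (874, 1), (874, 2), (874, 3),
    (1093, 0), (1201, 1), (1201, 2), (1201, 3), (998, 3), (242, 3), (231, 0), (231, 3), (946, 0),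
    (263, 0), (263, 3), (733, 3), (935, 0), (935, 1), (613, 0), (613, 1), (613, 2), (613, 3),
    (471, 1), (471, 3), (283, 2), (283, 3), (1000, 3), (1193, 0), (1340, 3), (453, 2), (453, 3),
    (1245, 0), (1395, 0), (616, 3), (772, 0), (772, 3), (405, 2), (405, 3), (126, 0), (126, 1),
    (504, 3), (1163, 3), (501, 1), (501, 3), (450, 3), (1020, 3), (120, 0), (842, 3), (1231, 3),
    (264, 3), (1357, 0), (889, 0), (889, 1), (889, 3), (411, 0), (1110, 3), (227, 3), (1008, 0),
    (1391, 1), (1391, 3), (744, 3), (728, 1), (728, 3), (912, 0), (755, 3), (423, 3), (210, 0),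
    (72, 0), (72, 1), (72, 3), (550, 2), (938, 3), (1158, 0), (1002, 3), (162, 3), (1354, 0),
    (945, 1), (945, 3), (1321, 2), (1321, 3), (1191, 2), (196, 1), (196, 2), (203, 3), (400, 0),
    (981, 3), (433, 0), (433, 1), (433, 2), (1266, 0), (346, 3), (161, 3), (354, 0), (950, 0),
    (448, 3), (723, 0), (597, 0), (597, 2), (1154, 1), (1154, 2), (1154, 3), (592, 1), (592, 2),
    (592, 3), (1081, 0), (979, 3), (420, 3), (557, 0), (1296, 0), (1262, 2), (1058, 3), (505, 3),
    (348, 3), (933, 3), (871, 3), (452, 3), (563, 3), (1393, 0), (1393, 1), (1393, 3), (1299, 3),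
    (1374, 3), (1308, 3), (659, 0), (513, 2), (513, 3), (797, 3), (845, 3), (462, 3), (205, 3),
    (1207, 3), (378, 0), (1247, 3), (969, 3), (493, 3), (891, 3), (803, 3), (704, 0), (1151, 0),
    (520, 3), (1239, 3), (1288, 1), (955, 3), (38, 3), (917, 3), (1068, 3), (591, 3), (830, 3),
    (1141, 3), (1295, 3), (1366, 0), (1319, 3)]

theorem mask4_6_ok : ([8, 25, 64].all fun r => Nat.blt r 1408) &&
    (grow gens4 trow4_6 (seedSet [8, 25, 64] 0) == some mask4_6) = true := by
  decide +kernel

theorem toOrb4_6 : ∀ c, mask4_6.testBit c = true → GoodTo C (vert C 4) (vert C 6) c := by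
  have h := mask4_6_ok
  simp only [Bool.and_eq_true, beq_iff_eq, decide_eq_true_eq] at h
  refine goodTo_all C (seeds := [8, 25, 64]) (gens := gens4) (rows := trow4_6) ?_ ?_ (by decide +kernel) h.1 h.2
  · intro r hr
    simp only [List.mem_cons, List.not_mem_nil, or_false] at hr
    rcases hr with rfl | rfl | rfl
    · exact goodTo_seed C (h40859 C) 8 (by decide +kernel)
    · exact goodTo_seed C (h40891 C) 25 (by decide +kernel)
    · exact goodTo_seed C (h39146 C) 64 (by decide +kernel)
  · intro g hg
    simp only [gens4, List.mem_cons, List.not_mem_nil, or_false] at hg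
    rcases hg with rfl | rfl | rfl | rfl
    · exact h19566 C
    · exact h20600 C
    · exact h22194 C
    · exact h23965 C

/-- The directions from vertex 5 into the orbit of vertex 1. -/
def mask5_1 : ℕ := 0x10000000080000000000000000000000000020000000004800000000000000000060000040000000040000000000000000000000000000000000200000000000000000002000000000040000020000000000000000000000000400000000000000006000000001000004002000040820000001000408004001000465

/-- A tree for these directions. -/
def trow5_1 : List (ℕ × ℕ) := [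
    (0, 3), (0, 4), (0, 5), (6, 4), (6, 5), (5, 5), (58, 0), (58, 1), (58, 2), (2, 5), (38, 0),
    (38, 1), (38, 2), (107, 0), (107, 1), (107, 2), (206, 2), (206, 4), (206, 5), (402, 1),
    (168, 0), (168, 1), (168, 2), (955, 2), (955, 4), (955, 5), (803, 1), (377, 4), (702, 1),
    (806, 4), (988, 1)]

theorem mask5_1_ok : ([0].all fun r => Nat.blt r 1408) &&
    (grow gens5 trow5_1 (seedSet [0] 0) == some mask5_1) = true := by
  decide +kernel

theorem toOrb5_1 : ∀ c, mask5_1.testBit c = true → GoodTo C (vert C 5) (vert C 1) c := by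
  have h := mask5_1_ok
  simp only [Bool.and_eq_true, beq_iff_eq, decide_eq_true_eq] at h
  refine goodTo_all C (seeds := [0]) (gens := gens5) (rows := trow5_1) ?_ ?_ (by decide +kernel) h.1 h.2
  · intro r hr
    simp only [List.mem_cons, List.not_mem_nil, or_false] at hr
    subst hr
    exact goodTo_seed C (h33059 C) 0 (by decide +kernel)
  · intro g hg
    simp only [gens5, List.mem_cons, List.not_mem_nil, or_false] at hg
    rcases hg with rfl | rfl | rfl | rfl | rfl | rfl
    · exact h25692 C
    · exact h26718 C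
    · exact h28393 C
    · exact h30009 C
    · exact h31575 C
    · exact h33096 C

/-- The directions from vertex 5 into the orbit of vertex 3. -/
def mask5_3 : ℕ := 0x34cd674a1dabe78c9a4f704587097860ad6811d27565c713b247e9126946ccf2979d74655051ad1d6f5ac393668a61732f2fd4d503b668a5e3158cc6a6c341336134d31e6eeb841a2e716c04b6d524934b6b056cf306b9011315075b70da996af3315a5e5096709a45756eec326d5014ff6154af672bed7381a56a88b99045268954a12d40558933c635fab59541d7b4b7e9b0e8da5d04ae45ddfc56e3511e071c00a3160f1ee4635142c3139456d080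

/-- A tree for these directions. -/
def trow5_3 : List (ℕ × ℕ) := [
    (7, 0), (7, 1), (7, 2), (7, 3), (7, 4), (7, 5), (90, 1), (90, 2), (90, 3), (90, 4), (90, 5),
    (137, 0), (137, 1), (137, 3), (137, 4), (137, 5), (91, 0), (91, 1), (91, 3), (91, 4), (91, 5),
    (186, 4), (186, 5), (179, 0), (179, 1), (179, 2), (179, 5), (946, 0), (946, 1), (946, 2),
    (946, 4), (959, 0), (959, 3), (959, 4), (959, 5), (965, 0), (965, 1), (965, 3), (965, 4),
    (965, 5), (1275, 4), (1275, 5), (335, 0), (335, 1), (335, 5), (411, 0), (411, 1), (411, 2),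
    (411, 4), (958, 1), (958, 2), (958, 3), (958, 4), (958, 5), (799, 1), (799, 2), (799, 3),
    (799, 5), (28, 4), (28, 5), (175, 0), (175, 1), (175, 5), (1140, 0), (1140, 1), (1140, 2),
    (847, 1), (847, 2), (847, 3), (847, 4), (847, 5), (14, 2), (14, 3), (14, 4), (14, 5),
    (939, 4), (939, 5), (193, 2), (193, 5), (70, 0), (70, 1), (70, 2), (70, 4), (611, 0),
    (611, 1), (611, 2), (611, 5), (1198, 0), (1198, 1), (1198, 2), (1198, 4), (15, 1), (15, 4),
    (15, 5), (178, 0), (178, 1), (178, 4), (178, 5), (240, 5), (1389, 0), (1389, 1), (1389, 4),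
    (1389, 5), (434, 1), (434, 2), (434, 4), (434, 5), (379, 0), (379, 1), (379, 2), (379, 4),
    (379, 5), (763, 0), (763, 1), (763, 4), (258, 0), (258, 1), (258, 2), (258, 4), (36, 1),
    (36, 3), (36, 4), (36, 5), (645, 4), (645, 5), (104, 1), (104, 5), (862, 0), (862, 1),
    (862, 2), (862, 4), (862, 5), (123, 3), (123, 4), (314, 1), (314, 2), (314, 3), (314, 5),
    (922, 4), (922, 5), (331, 2), (278, 1), (855, 0), (855, 1), (855, 5), (1312, 0), (1312, 1),
    (1312, 2), (1312, 4), (194, 2), (194, 4), (33, 4), (33, 5), (1037, 0), (1037, 1), (1037, 4),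
    (1125, 2), (1125, 5), (1192, 0), (1192, 1), (1192, 2), (1192, 4), (1192, 5), (930, 0),
    (930, 1), (930, 4), (1291, 0), (1291, 1), (1291, 2), (1291, 4), (83, 3), (83, 4), (83, 5),
    (82, 0), (82, 3), (82, 5), (882, 4), (882, 5), (97, 5), (1256, 4), (139, 3), (128, 0),
    (128, 1), (128, 3), (1075, 5), (1324, 0), (1324, 1), (1324, 2), (1030, 0), (1030, 1),
    (1030, 5), (245, 0), (245, 1), (245, 2), (1090, 1), (1090, 2), (1090, 4), (1090, 5), (98, 5),
    (352, 0), (352, 1), (352, 2), (352, 4), (1318, 1), (1326, 1), (1326, 4), (1326, 5), (1220, 0),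
    (1220, 1), (1220, 4), (1220, 5), (84, 1), (84, 3), (124, 3), (124, 5), (791, 4), (791, 5),
    (180, 0), (994, 2), (994, 4), (81, 1), (81, 3), (81, 4), (272, 4), (272, 5), (174, 0),
    (174, 5), (1081, 0), (1081, 1), (1081, 2), (1081, 4), (313, 2), (313, 5), (614, 0), (614, 1),
    (614, 2), (614, 4), (74, 1), (88, 5), (1053, 2), (236, 5), (176, 0), (176, 2), (271, 1),
    (271, 4), (271, 5), (562, 0), (562, 1), (562, 4), (562, 5), (796, 5), (1065, 0), (1065, 1),
    (1065, 4), (1065, 5), (1371, 1), (1371, 2), (1371, 4), (1371, 5), (65, 0), (65, 1), (65, 2),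
    (65, 4), (65, 5), (328, 0), (328, 1), (328, 4), (144, 0), (144, 1), (144, 2), (144, 4),
    (130, 5), (1343, 0), (1343, 1), (1343, 2), (46, 5), (357, 0), (357, 1), (357, 2), (550, 0),
    (550, 1), (550, 2), (550, 4), (913, 2), (1395, 0), (1395, 1), (1395, 2), (1395, 4), (1395, 5),
    (1195, 0), (1195, 1), (1195, 2), (100, 0), (100, 1), (100, 2), (1246, 0), (1246, 2), (511, 1),
    (511, 4), (467, 1), (467, 5), (1352, 1), (1226, 5), (261, 4), (261, 5), (1143, 0), (1143, 4),
    (1143, 5), (861, 0), (861, 1), (629, 0), (629, 1), (629, 5), (419, 1), (419, 4), (1305, 0),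
    (1305, 1), (1305, 2), (1305, 4), (960, 2), (1234, 4), (1234, 5), (1404, 5), (766, 1),
    (1304, 1), (190, 3), (190, 5), (1013, 4), (1013, 5), (1274, 2), (1176, 1), (1176, 5),
    (1019, 0), (1019, 1), (1019, 2), (1019, 4), (1019, 5), (952, 0), (952, 5), (223, 0), (223, 1),
    (223, 2), (223, 4), (1382, 1), (1382, 5), (1101, 1), (1359, 0), (1359, 1), (1359, 4),
    (1359, 5), (528, 4), (537, 4), (182, 3), (79, 3), (408, 5), (376, 2), (996, 1), (957, 1),
    (957, 5), (47, 5), (1156, 2), (1156, 4), (372, 4), (372, 5), (1272, 0), (1272, 1), (1272, 4),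
    (448, 2), (448, 5), (1212, 0), (1212, 1), (1212, 2), (1212, 4), (1212, 5), (482, 0), (482, 1),
    (482, 4), (309, 0), (309, 1), (309, 2), (309, 4), (172, 5), (669, 0), (669, 2), (669, 4),
    (439, 0), (439, 2), (439, 4), (696, 0), (696, 2), (696, 4), (1116, 1), (1116, 2), (260, 2),
    (260, 5), (662, 5), (485, 0), (485, 4), (485, 5), (1086, 1), (1086, 2), (1007, 2), (1007, 4),
    (508, 1), (1206, 0), (1078, 4), (929, 2), (929, 4), (252, 1), (252, 4), (219, 1), (219, 2),
    (851, 4), (851, 5), (253, 0), (253, 1), (253, 4), (69, 3), (398, 5), (1242, 2), (1242, 4),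
    (622, 5), (872, 4), (212, 1), (212, 2), (212, 4), (138, 3), (89, 2), (89, 3), (717, 0),
    (717, 1), (717, 2), (859, 5), (386, 1), (1004, 1), (1004, 2), (1004, 4), (1004, 5), (741, 5),
    (1025, 0), (1025, 1), (1025, 2), (1025, 4), (858, 1), (900, 1), (900, 4), (900, 5), (999, 0),
    (999, 1), (999, 4), (999, 5), (802, 5), (781, 0), (551, 4), (222, 1), (1392, 1), (557, 4),
    (214, 0), (214, 1), (214, 2), (350, 5), (1331, 4), (1254, 0), (1254, 2), (604, 3), (678, 5),
    (295, 1), (612, 0), (230, 2), (230, 4), (992, 1), (40, 3), (849, 4), (570, 0), (570, 5),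
    (1073, 0), (1073, 1), (1073, 2), (1073, 4), (1153, 0), (1153, 5), (1108, 5), (921, 1),
    (599, 5), (1010, 2), (407, 5), (1063, 0), (1063, 2), (437, 0), (1386, 0), (456, 5), (338, 0),
    (338, 1), (338, 2), (280, 5), (1110, 0), (1110, 1), (1110, 2), (540, 0), (540, 1), (540, 2),
    (540, 4), (246, 2), (676, 0), (676, 1), (676, 2), (676, 4), (676, 5), (202, 0), (202, 1),
    (202, 2), (1134, 0), (1134, 1), (1134, 2), (1209, 0), (1209, 2), (721, 1), (721, 4), (17, 1),
    (17, 5), (319, 1), (447, 5), (1162, 4), (1162, 5), (638, 0), (638, 4), (638, 5), (643, 0),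
    (643, 1), (472, 0), (472, 1), (472, 5), (64, 1), (64, 4), (459, 0), (459, 1), (459, 2),
    (459, 4), (449, 2), (715, 4), (715, 5), (1148, 5), (264, 1), (265, 1), (1255, 4), (293, 4),
    (290, 1), (927, 2), (297, 5), (1245, 5), (633, 2), (978, 1), (978, 5), (973, 5), (1244, 1),
    (660, 1), (1353, 1), (1056, 2), (934, 5), (1118, 2), (1118, 5), (1216, 5), (596, 0),
    (1202, 5), (778, 2), (1043, 0), (1043, 5), (1368, 0), (1368, 1), (1368, 2), (1368, 4),
    (1021, 1), (1021, 5), (325, 1), (284, 0), (284, 1), (284, 4), (284, 5), (564, 4), (624, 1),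
    (1277, 1), (814, 1), (814, 5), (340, 5), (32, 5), (1179, 5), (166, 0), (166, 2), (166, 4),
    (60, 0), (60, 2), (60, 4), (857, 0), (857, 2), (857, 4), (1372, 1), (1372, 2), (462, 2),
    (462, 5), (152, 5), (370, 0), (370, 4), (370, 5), (833, 1), (833, 2), (579, 2), (579, 4),
    (729, 1), (1050, 0), (897, 4), (1159, 2), (1159, 4), (761, 1), (761, 4), (772, 1), (772, 2),
    (210, 2), (984, 0), (984, 1), (984, 4), (546, 2), (546, 4), (733, 1), (733, 2), (733, 4),
    (318, 3), (208, 5), (367, 1), (813, 5), (606, 0), (1367, 4), (760, 1), (876, 1), (682, 4),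
    (56, 0), (56, 1), (56, 2), (463, 5), (560, 4), (651, 0), (651, 2), (26, 1), (758, 1),
    (998, 0), (998, 5), (504, 5), (506, 0), (1071, 0), (266, 4), (263, 4), (162, 1), (324, 2),
    (268, 5), (566, 5), (583, 2), (505, 1), (505, 5), (734, 5), (1146, 1), (306, 1), (501, 1),
    (619, 2), (199, 5), (670, 2), (670, 5), (1091, 5), (680, 0), (541, 1), (681, 1), (746, 5),
    (425, 2)]

theorem mask5_3_ok : ([7].all fun r => Nat.blt r 1408) &&
    (grow gens5 trow5_3 (seedSet [7] 0) == some mask5_3) = true := by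
  decide +kernel

theorem toOrb5_3 : ∀ c, mask5_3.testBit c = true → GoodTo C (vert C 5) (vert C 3) c := by
  have h := mask5_3_ok
  simp only [Bool.and_eq_true, beq_iff_eq, decide_eq_true_eq] at h
  refine goodTo_all C (seeds := [7]) (gens := gens5) (rows := trow5_3) ?_ ?_ (by decide +kernel) h.1 h.2
  · intro r hr
    simp only [List.mem_cons, List.not_mem_nil, or_false] at hr
    subst hr
    exact goodTo_seed C (h33078 C) 7 (by decide +kernel)
  · intro g hg
    simp only [gens5, List.mem_cons, List.not_mem_nil, or_false] at hg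
    rcases hg with rfl | rfl | rfl | rfl | rfl | rfl
    · exact h25692 C
    · exact h26718 C
    · exact h28393 C
    · exact h30009 C
    · exact h31575 C
    · exact h33096 C

/-- The directions from vertex 5 into the orbit of vertex 4. -/
def mask5_4 : ℕ := 0x4280010000000000000000000004000000000300002000000000000000000000000000000000000000000000000000000000000000000000000000000000008000011000000800000000000000000000002000020080000000000000000800000000081000800000000040800000200080120200081081a

/-- A tree for these directions. -/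
def trow5_4 : List (ℕ × ℕ) := [
    (1, 3), (1, 4), (1, 5), (45, 4), (45, 5), (4, 5), (167, 0), (167, 1), (167, 2), (3, 5),
    (73, 0), (73, 1), (73, 2), (23, 0), (23, 1), (23, 2), (207, 2), (207, 4), (207, 5), (285, 1),
    (106, 0), (106, 1), (106, 2), (954, 2), (954, 4), (954, 5), (947, 1), (428, 4), (785, 1),
    (805, 4), (804, 1)]

theorem mask5_4_ok : ([1].all fun r => Nat.blt r 1408) &&
    (grow gens5 trow5_4 (seedSet [1] 0) == some mask5_4) = true := by
  decide +kernel

theorem toOrb5_4 : ∀ c, mask5_4.testBit c = true → GoodTo C (vert C 5) (vert C 4) c := by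
  have h := mask5_4_ok
  simp only [Bool.and_eq_true, beq_iff_eq, decide_eq_true_eq] at h
  refine goodTo_all C (seeds := [1]) (gens := gens5) (rows := trow5_4) ?_ ?_ (by decide +kernel) h.1 h.2
  · intro r hr
    simp only [List.mem_cons, List.not_mem_nil, or_false] at hr
    subst hr
    exact goodTo_seed C (h31559 C) 1 (by decide +kernel)
  · intro g hg
    simp only [gens5, List.mem_cons, List.not_mem_nil, or_false] at hg
    rcases hg with rfl | rfl | rfl | rfl | rfl | rfl
    · exact h25692 C
    · exact h26718 C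
    · exact h28393 C
    · exact h30009 C
    · exact h31575 C
    · exact h33096 C

/-- The directions from vertex 5 into the orbit of vertex 6. -/
def mask5_6 : ℕ := 0xcb3298b5e254187365b08fba78f6879f5297ee2d8a9a38ec4db816ed96b9330d68628b9aafae52e290a53c6c99759e8cd0d02b2aec49975a10c27329593cbecc9ecb2ce191141be5d18e93834928db6cb494fa930c9946feaceaf8a48b2566950ccea5a1af698f65ba8a9113cd928feb009eab5098d412845e5a8477466b3ad974ab5ed2bfaa76cc39c8054a4ab2284b48164f1725a21b51ba2202281ca2e1d8e3fb50c1f0e1189ca2b41c8c6a282300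

/-- A tree for these directions. -/
def trow5_6 : List (ℕ × ℕ) := [
    (8, 1), (8, 2), (8, 3), (8, 4), (8, 5), (42, 0), (42, 1), (42, 2), (42, 3), (42, 4), (42, 5),
    (315, 0), (315, 1), (315, 3), (315, 4), (315, 5), (233, 4), (233, 5), (334, 0), (334, 1),
    (334, 4), (334, 5), (353, 0), (353, 1), (353, 2), (353, 4), (92, 1), (92, 3), (92, 4),
    (92, 5), (317, 0), (317, 1), (317, 2), (317, 3), (317, 4), (317, 5), (67, 0), (67, 1),
    (67, 3), (67, 4), (67, 5), (163, 4), (163, 5), (117, 0), (117, 1), (117, 4), (117, 5),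
    (828, 0), (828, 1), (828, 2), (828, 4), (828, 5), (131, 1), (131, 3), (131, 4), (131, 5),
    (9, 0), (9, 1), (9, 2), (9, 3), (9, 4), (9, 5), (1089, 4), (1089, 5), (135, 0), (135, 2),
    (135, 4), (135, 5), (169, 0), (169, 1), (169, 2), (169, 4), (698, 0), (698, 1), (698, 4),
    (698, 5), (225, 0), (225, 1), (225, 2), (225, 4), (400, 2), (400, 4), (400, 5), (951, 1),
    (951, 5), (134, 1), (134, 5), (1147, 0), (1147, 1), (1147, 2), (1147, 4), (1147, 5), (289, 2),
    (289, 5), (597, 0), (597, 1), (597, 2), (597, 4), (597, 5), (916, 0), (916, 1), (916, 4),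
    (916, 5), (414, 0), (414, 1), (414, 2), (414, 4), (192, 1), (192, 3), (192, 4), (192, 5),
    (920, 4), (920, 5), (156, 5), (1035, 0), (1035, 1), (1035, 2), (1035, 4), (1035, 5), (235, 3),
    (235, 4), (235, 5), (94, 3), (94, 4), (94, 5), (35, 0), (35, 1), (35, 3), (35, 4), (35, 5),
    (1012, 4), (1012, 5), (50, 1), (50, 5), (1236, 0), (1236, 1), (1236, 2), (85, 1), (85, 3),
    (85, 4), (85, 5), (800, 3), (800, 5), (431, 4), (431, 5), (204, 1), (204, 2), (204, 5),
    (976, 0), (976, 1), (976, 2), (976, 4), (795, 0), (795, 1), (795, 4), (795, 5), (618, 0),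
    (618, 1), (618, 2), (618, 4), (618, 5), (118, 5), (330, 0), (330, 5), (1322, 0), (1322, 1),
    (1322, 2), (1322, 4), (1127, 1), (1127, 2), (1127, 5), (1107, 0), (1107, 1), (1107, 2),
    (1107, 4), (1107, 5), (1297, 0), (1297, 1), (1297, 4), (1297, 5), (1218, 0), (1218, 1),
    (1218, 2), (807, 2), (807, 5), (93, 0), (93, 2), (93, 3), (759, 4), (759, 5), (13, 1),
    (13, 2), (382, 0), (382, 1), (382, 4), (382, 5), (801, 3), (801, 4), (801, 5), (86, 3),
    (86, 5), (189, 3), (189, 4), (189, 5), (273, 4), (273, 5), (95, 4), (95, 5), (1079, 0),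
    (1079, 1), (1079, 4), (809, 0), (809, 2), (809, 4), (809, 5), (776, 0), (776, 1), (776, 2),
    (776, 4), (125, 2), (1055, 0), (191, 1), (724, 5), (80, 5), (44, 5), (333, 1), (333, 2),
    (1263, 2), (1263, 4), (1263, 5), (685, 1), (685, 5), (1341, 1), (1341, 5), (422, 0), (422, 1),
    (422, 2), (422, 4), (422, 5), (142, 2), (142, 5), (1051, 0), (1051, 1), (1051, 2), (1051, 4),
    (1051, 5), (1348, 0), (1348, 1), (1348, 4), (1348, 5), (312, 0), (312, 1), (312, 2), (312, 4),
    (132, 5), (942, 0), (942, 1), (942, 2), (942, 5), (181, 2), (863, 0), (863, 2), (863, 4),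
    (187, 0), (187, 4), (187, 5), (1115, 4), (975, 1), (975, 2), (975, 4), (384, 0), (384, 1),
    (384, 2), (384, 4), (384, 5), (466, 1), (466, 5), (1128, 2), (75, 5), (1196, 0), (1196, 1),
    (1196, 4), (1196, 5), (224, 2), (224, 5), (556, 5), (1388, 0), (1388, 1), (1388, 5),
    (1280, 0), (1280, 5), (891, 0), (891, 1), (891, 5), (493, 1), (493, 2), (493, 5), (438, 2),
    (1407, 4), (1407, 5), (1284, 0), (1284, 2), (1284, 4), (552, 0), (552, 4), (1175, 0),
    (1175, 1), (1175, 2), (188, 2), (188, 3), (575, 4), (575, 5), (1121, 1), (1121, 2), (198, 5),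
    (1168, 0), (1168, 1), (1168, 2), (1168, 4), (1168, 5), (417, 0), (417, 1), (625, 2), (294, 5),
    (1036, 1), (1036, 4), (1397, 0), (1397, 1), (1397, 4), (1204, 4), (1204, 5), (1094, 1),
    (1094, 2), (110, 4), (110, 5), (410, 0), (410, 2), (277, 3), (234, 3), (234, 5), (1014, 4),
    (1014, 5), (341, 1), (341, 5), (1102, 0), (1102, 1), (1102, 2), (844, 5), (1281, 4),
    (1112, 5), (1317, 4), (1317, 5), (695, 1), (43, 3), (584, 4), (584, 5), (177, 5), (961, 0),
    (1074, 5), (1241, 1), (1241, 2), (1241, 5), (871, 0), (871, 1), (871, 2), (871, 4), (119, 0),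
    (521, 0), (521, 1), (521, 2), (416, 5), (1117, 1), (1117, 4), (1117, 5), (972, 1), (972, 5),
    (1283, 1), (1020, 5), (616, 0), (616, 5), (664, 0), (664, 1), (664, 2), (664, 4), (713, 1),
    (713, 2), (713, 5), (601, 0), (601, 1), (601, 2), (601, 4), (601, 5), (989, 0), (989, 1),
    (989, 4), (989, 5), (905, 0), (905, 1), (905, 2), (281, 2), (281, 5), (298, 0), (298, 1),
    (298, 4), (76, 5), (634, 2), (1332, 1), (1332, 2), (1332, 4), (1250, 1), (1250, 4), (970, 2),
    (421, 4), (941, 5), (1364, 4), (1364, 5), (708, 0), (708, 1), (658, 1), (658, 5), (548, 1),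
    (548, 5), (1391, 0), (1391, 2), (1391, 4), (1084, 0), (1084, 4), (694, 1), (694, 4),
    (1336, 1), (68, 3), (964, 3), (964, 5), (368, 1), (368, 2), (1165, 0), (1165, 1), (1165, 4),
    (1165, 5), (926, 2), (656, 0), (812, 4), (812, 5), (908, 1), (623, 5), (1152, 0), (573, 4),
    (573, 5), (840, 5), (841, 4), (841, 5), (238, 0), (238, 1), (238, 4), (1033, 2), (405, 0),
    (339, 1), (987, 5), (286, 5), (332, 5), (450, 1), (450, 2), (963, 5), (1345, 2), (1189, 1),
    (1189, 2), (615, 5), (1062, 0), (1062, 1), (1062, 2), (1062, 5), (203, 2), (1378, 0),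
    (1378, 2), (1378, 4), (1177, 0), (1177, 4), (1177, 5), (843, 4), (267, 1), (267, 2), (267, 4),
    (165, 0), (165, 1), (165, 2), (165, 4), (165, 5), (322, 1), (322, 5), (750, 2), (605, 5),
    (899, 0), (899, 1), (899, 4), (899, 5), (21, 2), (21, 5), (1149, 5), (343, 0), (343, 1),
    (343, 5), (337, 0), (337, 5), (373, 0), (373, 1), (373, 5), (141, 1), (141, 2), (141, 5),
    (149, 2), (1373, 4), (1373, 5), (1349, 0), (1349, 2), (1349, 4), (228, 0), (228, 4), (607, 0),
    (607, 1), (607, 2), (257, 0), (257, 2), (257, 4), (1100, 1), (1100, 5), (486, 4), (486, 5),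
    (1243, 1), (241, 5), (216, 1), (780, 0), (1288, 1), (1207, 4), (1362, 0), (1362, 1),
    (1362, 5), (765, 1), (1219, 1), (592, 5), (824, 2), (824, 4), (418, 1), (515, 5), (1303, 1),
    (1247, 2), (860, 4), (1227, 2), (535, 1), (1077, 1), (1321, 0), (1068, 0), (911, 5), (762, 5),
    (823, 5), (1114, 4), (1061, 4), (808, 3), (479, 1), (479, 2), (57, 0), (57, 1), (982, 2),
    (499, 5), (311, 1), (311, 4), (523, 0), (523, 1), (523, 4), (269, 1), (269, 2), (1155, 0),
    (1155, 2), (1205, 5), (576, 5), (834, 4), (545, 5), (936, 4), (936, 5), (875, 1), (484, 5),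
    (563, 5), (819, 0), (1097, 0), (539, 0), (539, 1), (539, 2), (1022, 5), (1160, 1), (1160, 4),
    (1160, 5), (650, 1), (650, 5), (770, 1), (1045, 0), (1045, 1), (1045, 4), (55, 5), (582, 2),
    (710, 1), (710, 2), (710, 4), (603, 1), (603, 4), (995, 2), (569, 4), (924, 5), (503, 4),
    (503, 5), (443, 0), (443, 1), (1335, 1), (1335, 5), (395, 1), (395, 5), (1259, 0), (1259, 2),
    (1259, 4), (542, 0), (542, 4), (345, 1), (345, 4), (1315, 1), (513, 0), (1187, 5), (747, 2),
    (1183, 0), (684, 1), (997, 0), (787, 5), (1186, 5), (1135, 2), (837, 1), (837, 2), (25, 0),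
    (25, 2), (25, 4), (113, 1), (113, 5), (798, 4), (798, 5), (640, 1), (426, 5), (709, 1),
    (937, 0), (433, 1), (598, 4), (397, 0), (397, 1), (397, 5), (1172, 1), (1000, 1), (1184, 5),
    (1258, 2), (1258, 4), (53, 1), (1222, 5), (671, 1), (1282, 2), (578, 4), (850, 2), (455, 1),
    (586, 1), (883, 0), (572, 0), (839, 5), (329, 5), (874, 5), (818, 4), (561, 4), (371, 5),
    (1048, 0)]

theorem mask5_6_ok : ([8].all fun r => Nat.blt r 1408) &&
    (grow gens5 trow5_6 (seedSet [8] 0) == some mask5_6) = true := by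
  decide +kernel

theorem toOrb5_6 : ∀ c, mask5_6.testBit c = true → GoodTo C (vert C 5) (vert C 6) c := by
  have h := mask5_6_ok
  simp only [Bool.and_eq_true, beq_iff_eq, decide_eq_true_eq] at h
  refine goodTo_all C (seeds := [8]) (gens := gens5) (rows := trow5_6) ?_ ?_ (by decide +kernel) h.1 h.2
  · intro r hr
    simp only [List.mem_cons, List.not_mem_nil, or_false] at hr
    subst hr
    exact goodTo_seed C (h34572 C) 8 (by decide +kernel)
  · intro g hg
    simp only [gens5, List.mem_cons, List.not_mem_nil, or_false] at hg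
    rcases hg with rfl | rfl | rfl | rfl | rfl | rfl
    · exact h25692 C
    · exact h26718 C
    · exact h28393 C
    · exact h30009 C
    · exact h31575 C
    · exact h33096 C

/-- The directions from vertex 6 into the orbit of vertex 2. -/
def mask6_2 : ℕ := 0x90180a11009040000d080aa60a10040488210a02030b0011404c20811040000000030040301c120040880824008622023c084c1c0c0a4883023850038400e0018b863000800e3300c0c082080c390314800200400044e0809b202440124e201f000123e020a002238008001c03a40054000745400006000430200306e6a442489001105200c4012400030fe62e880442e0018221408339c0060000c1001e8000000180ac00000781c68800c0301c1800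

/-- A tree for these directions. -/
def trow6_2 : List (ℕ × ℕ) := [
    (11, 0), (11, 1), (11, 2), (11, 3), (18, 0), (18, 1), (18, 2), (18, 3), (20, 0), (20, 1),
    (20, 2), (20, 3), (38, 0), (38, 1), (38, 3), (185, 0), (185, 1), (185, 2), (185, 3), (275, 0),
    (275, 1), (275, 2), (275, 3), (948, 0), (948, 2), (948, 3), (99, 0), (99, 3), (147, 1),
    (147, 2), (722, 0), (722, 1), (722, 2), (722, 3), (605, 0), (605, 2), (605, 3), (1367, 0),
    (1367, 1), (1367, 2), (1367, 3), (1314, 0), (1314, 1), (1314, 2), (1314, 3), (678, 0),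
    (678, 1), (678, 2), (678, 3), (665, 0), (665, 2), (665, 3), (719, 0), (719, 1), (719, 2),
    (719, 3), (413, 0), (413, 1), (413, 2), (413, 3), (803, 0), (803, 1), (803, 2), (803, 3),
    (204, 0), (204, 2), (204, 3), (51, 0), (51, 2), (1042, 0), (1042, 1), (1042, 2), (1042, 3),
    (615, 0), (615, 2), (615, 3), (787, 0), (787, 1), (787, 3), (488, 0), (488, 1), (488, 2),
    (949, 1), (949, 3), (953, 2), (953, 3), (167, 1), (240, 3), (73, 3), (325, 2), (546, 1),
    (546, 2), (546, 3), (368, 0), (368, 2), (368, 3), (643, 0), (896, 1), (896, 3), (203, 0),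
    (203, 2), (203, 3), (1003, 1), (1003, 2), (1003, 3), (1107, 0), (1107, 1), (1107, 2),
    (1107, 3), (1339, 0), (1339, 1), (1339, 2), (1339, 3), (1033, 0), (1033, 3), (876, 0),
    (876, 3), (299, 0), (299, 1), (299, 2), (299, 3), (1216, 0), (1216, 1), (1216, 3), (294, 0),
    (294, 3), (662, 0), (662, 2), (1002, 1), (1002, 2), (1002, 3), (1018, 1), (1018, 2),
    (1018, 3), (200, 0), (200, 2), (200, 3), (1275, 0), (1275, 1), (1275, 2), (437, 1), (536, 0),
    (536, 1), (536, 2), (536, 3), (283, 1), (283, 2), (283, 3), (1079, 0), (1079, 1), (1079, 2),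
    (1079, 3), (996, 0), (996, 1), (996, 2), (996, 3), (393, 0), (393, 3), (1202, 0), (1202, 1),
    (1202, 2), (1202, 3), (465, 0), (465, 1), (465, 2), (465, 3), (295, 0), (295, 1), (295, 2),
    (295, 3), (911, 0), (911, 2), (911, 3), (927, 0), (927, 2), (927, 3), (1075, 0), (1075, 1),
    (1075, 2), (1075, 3), (72, 1), (72, 2), (72, 3), (71, 0), (71, 3), (101, 0), (726, 1),
    (840, 3), (1180, 0), (445, 1), (146, 0), (233, 2), (233, 3), (466, 1), (776, 3), (575, 3),
    (576, 3), (795, 0), (795, 2), (795, 3), (717, 0), (717, 2), (1249, 1), (63, 1), (63, 2),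
    (63, 3), (1137, 0), (1137, 1), (697, 0), (697, 1), (697, 2), (697, 3), (693, 2), (693, 3),
    (229, 0), (229, 1), (229, 2), (229, 3), (405, 3), (450, 1), (209, 1), (209, 3), (682, 3),
    (563, 0), (563, 1), (563, 2), (928, 0), (928, 2), (358, 0), (910, 2), (1317, 3), (1020, 3),
    (199, 1), (199, 3), (143, 0), (143, 3), (64, 0), (64, 2), (356, 0), (772, 3), (971, 1),
    (255, 1), (1336, 2), (1041, 1), (1041, 3), (1086, 1), (1220, 2), (328, 3), (696, 0), (696, 2),
    (653, 2), (653, 3), (599, 2), (1404, 1), (1404, 3), (831, 2), (831, 3), (1338, 1), (1338, 3),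
    (1396, 1), (882, 2), (882, 3), (621, 3), (62, 2), (62, 3), (1376, 3), (409, 1), (617, 3),
    (1203, 0), (1203, 2), (398, 0), (1282, 3), (262, 1), (262, 2), (895, 1), (895, 2), (961, 0),
    (961, 2), (186, 1), (364, 3), (703, 0), (703, 1), (703, 2), (703, 3), (577, 0), (929, 0),
    (851, 3), (516, 1), (516, 2), (418, 2), (960, 1), (641, 1), (742, 3), (881, 0), (881, 2),
    (111, 3), (222, 1), (222, 2), (1021, 0), (642, 3), (967, 3), (809, 2), (974, 1), (1385, 3),
    (585, 2), (1011, 3), (1047, 1)]

theorem mask6_2_ok : ([11, 18, 20, 38, 185].all fun r => Nat.blt r 1408) &&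
    (grow gens6 trow6_2 (seedSet [11, 18, 20, 38, 185] 0) == some mask6_2) = true := by
  decide +kernel

theorem toOrb6_2 : ∀ c, mask6_2.testBit c = true → GoodTo C (vert C 6) (vert C 2) c := by
  have h := mask6_2_ok
  simp only [Bool.and_eq_true, beq_iff_eq, decide_eq_true_eq] at h
  refine goodTo_all C (seeds := [11, 18, 20, 38, 185]) (gens := gens6) (rows := trow6_2) ?_ ?_ (by decide +kernel) h.1 h.2
  · intro r hr
    simp only [List.mem_cons, List.not_mem_nil, or_false] at hr
    rcases hr with rfl | rfl | rfl | rfl | rfl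
    · exact goodTo_seed C (h39053 C) 11 (by decide +kernel)
    · exact goodTo_seed C (h40991 C) 18 (by decide +kernel)
    · exact goodTo_seed C (h40916 C) 20 (by decide +kernel)
    · exact goodTo_seed C (h40872 C) 38 (by decide +kernel)
    · exact goodTo_seed C (h40818 C) 185 (by decide +kernel)
  · intro g hg
    simp only [gens6, List.mem_cons, List.not_mem_nil, or_false] at hg
    rcases hg with rfl | rfl | rfl | rfl
    · exact h34583 C
    · exact h35617 C
    · exact h37323 C
    · exact h39162 C

/-- The directions from vertex 6 into the orbit of vertex 3. -/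
def mask6_3 : ℕ := 0x10010000100100100008000000000000000000080000000000000040080100000000000a0000000000044000000002000000000002440000800220000000000000008010008000000609080000001000020800010000000001220000020000000000000000000010000200800000540100000000802008040000000000202000008000000100000000001414080000010400004000040c0000282000e011c002000051ee06000000300040000c3

/-- A tree for these directions. -/
def trow6_3 : List (ℕ × ℕ) := [
    (0, 3), (1, 3), (6, 1), (6, 3), (7, 0), (7, 1), (7, 2), (7, 3), (210, 0), (210, 1), (210, 2),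
    (210, 3), (159, 3), (122, 0), (122, 1), (122, 2), (122, 3), (41, 0), (41, 3), (137, 0),
    (137, 1), (137, 2), (137, 3), (541, 0), (541, 2), (541, 3), (1103, 0), (1103, 1), (1103, 3),
    (492, 0), (492, 2), (492, 3), (1101, 0), (1101, 3), (921, 0), (921, 1), (278, 1), (278, 2),
    (278, 3), (128, 0), (128, 3), (190, 0), (190, 1), (190, 2), (161, 3), (124, 0), (124, 1),
    (124, 2), (124, 3), (1384, 0), (1384, 2), (1384, 3), (182, 1), (182, 3), (82, 0), (82, 3),
    (183, 0), (183, 2), (183, 3), (676, 2), (1328, 0), (1328, 1), (1328, 2), (1159, 0), (859, 3),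
    (385, 0), (385, 3), (848, 3), (925, 0), (925, 3), (439, 3), (796, 0), (962, 2), (123, 3),
    (1050, 3), (236, 0), (153, 0), (138, 3), (78, 3), (79, 0), (26, 1), (324, 0), (1054, 3),
    (716, 2), (81, 3), (504, 0), (673, 1)]

theorem mask6_3_ok : ([0, 1, 6, 7, 210].all fun r => Nat.blt r 1408) &&
    (grow gens6 trow6_3 (seedSet [0, 1, 6, 7, 210] 0) == some mask6_3) = true := by
  decide +kernel

theorem toOrb6_3 : ∀ c, mask6_3.testBit c = true → GoodTo C (vert C 6) (vert C 3) c := by
  have h := mask6_3_ok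
  simp only [Bool.and_eq_true, beq_iff_eq, decide_eq_true_eq] at h
  refine goodTo_all C (seeds := [0, 1, 6, 7, 210]) (gens := gens6) (rows := trow6_3) ?_ ?_ (by decide +kernel) h.1 h.2
  · intro r hr
    simp only [List.mem_cons, List.not_mem_nil, or_false] at hr
    rcases hr with rfl | rfl | rfl | rfl | rfl
    · exact goodTo_seed C (h39040 C) 0 (by decide +kernel)
    · exact goodTo_seed C (h39073 C) 1 (by decide +kernel)
    · exact goodTo_seed C (h39106 C) 6 (by decide +kernel)
    · exact goodTo_seed C (h40839 C) 7 (by decide +kernel)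
    · exact goodTo_seed C (h40797 C) 210 (by decide +kernel)
  · intro g hg
    simp only [gens6, List.mem_cons, List.not_mem_nil, or_false] at hg
    rcases hg with rfl | rfl | rfl | rfl
    · exact h34583 C
    · exact h35617 C
    · exact h37323 C
    · exact h39162 C

/-- The directions from vertex 6 into the orbit of vertex 4. -/
def mask6_4 : ℕ := 0x100000000000000000000000000000000000000000000080000000000000000000300000400000000c000000000000000000000000000000000020000000000010000000000000000000000004000000000000400000000040040000000800000000c00100000300000000300004180000000000000400000300450c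

/-- A tree for these directions. -/
def trow6_4 : List (ℕ × ℕ) := [
    (2, 1), (2, 3), (3, 1), (3, 3), (8, 0), (8, 1), (8, 2), (8, 3), (14, 3), (50, 3), (132, 0),
    (132, 1), (132, 2), (132, 3), (133, 0), (133, 2), (133, 3), (807, 0), (807, 1), (807, 3),
    (476, 0), (476, 1), (476, 2), (988, 2), (988, 3), (326, 1), (168, 3), (725, 3), (724, 3)]

theorem mask6_4_ok : ([2, 3, 8].all fun r => Nat.blt r 1408) &&
    (grow gens6 trow6_4 (seedSet [2, 3, 8] 0) == some mask6_4) = true := by
  decide +kernel

theorem toOrb6_4 : ∀ c, mask6_4.testBit c = true → GoodTo C (vert C 6) (vert C 4) c := by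
  have h := mask6_4_ok
  simp only [Bool.and_eq_true, beq_iff_eq, decide_eq_true_eq] at h
  refine goodTo_all C (seeds := [2, 3, 8]) (gens := gens6) (rows := trow6_4) ?_ ?_ (by decide +kernel) h.1 h.2
  · intro r hr
    simp only [List.mem_cons, List.not_mem_nil, or_false] at hr
    rcases hr with rfl | rfl | rfl
    · exact goodTo_seed C (h40900 C) 2 (by decide +kernel)
    · exact goodTo_seed C (h39138 C) 3 (by decide +kernel)
    · exact goodTo_seed C (h40851 C) 8 (by decide +kernel)
  · intro g hg
    simp only [gens6, List.mem_cons, List.not_mem_nil, or_false] at hg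
    rcases hg with rfl | rfl | rfl | rfl
    · exact h34583 C
    · exact h35617 C
    · exact h37323 C
    · exact h39162 C

/-- The directions from vertex 6 into the orbit of vertex 5. -/
def mask6_5 : ℕ := 0x80000000000000000000000000000000000000000000000000000000000000000000000000000000000000000000000000000000000000000000000000000000000000000000000000000000000000000000000000000000000000000000000000000000000000000000000000000000000000000000020

/-- A tree for these directions. -/
def trow6_5 : List (ℕ × ℕ) := [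
    (5, 3)]

theorem mask6_5_ok : ([5].all fun r => Nat.blt r 1408) &&
    (grow gens6 trow6_5 (seedSet [5] 0) == some mask6_5) = true := by
  decide +kernel

theorem toOrb6_5 : ∀ c, mask6_5.testBit c = true → GoodTo C (vert C 6) (vert C 5) c := by
  have h := mask6_5_ok
  simp only [Bool.and_eq_true, beq_iff_eq, decide_eq_true_eq] at h
  refine goodTo_all C (seeds := [5]) (gens := gens6) (rows := trow6_5) ?_ ?_ (by decide +kernel) h.1 h.2
  · intro r hr
    simp only [List.mem_cons, List.not_mem_nil, or_false] at hr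
    subst hr
    exact goodTo_seed C (h34573 C) 5 (by decide +kernel)
  · intro g hg
    simp only [gens6, List.mem_cons, List.not_mem_nil, or_false] at hg
    rcases hg with rfl | rfl | rfl | rfl
    · exact h34583 C
    · exact h35617 C
    · exact h37323 C
    · exact h39162 C

/-- The directions from vertex 6 into the orbit of vertex 6. -/
def mask6_6 : ℕ := 0x4de764eceb6dbcdfa2b6b459718ff37367dc51fd74b0738ea7b35e7e82bbdd71edfcbfbf4f8144fabb36b31bbb51d839c3d783836371b34094c6a7fc49bb1fe47471cdfd77b0cc771f373c1463067ceb6ecde30f560b023d20c7da89c191de40ff7e9c0cda0efddc7a72ffe29c53df8bf888a23deff1b6794f5fb4e9195bb5b560cead85df3af682c59cf0199002bb291fe0219cbb280634002a000c1d800180e3fa44418a0118003801e03048e1a010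

/-- A tree for these directions. -/
def trow6_6 : List (ℕ × ℕ) := [
    (4, 3), (13, 0), (13, 1), (13, 2), (13, 3), (15, 0), (15, 1), (15, 2), (15, 3), (16, 0),
    (16, 1), (16, 2), (16, 3), (27, 0), (27, 1), (27, 2), (27, 3), (45, 1), (45, 3), (47, 0),
    (47, 1), (47, 2), (47, 3), (102, 0), (102, 1), (102, 2), (102, 3), (196, 0), (196, 1),
    (196, 2), (196, 3), (197, 0), (197, 1), (197, 2), (197, 3), (201, 0), (201, 2), (201, 3),
    (223, 0), (223, 1), (223, 2), (223, 3), (95, 0), (95, 1), (95, 2), (95, 3), (76, 0), (76, 3),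
    (154, 0), (154, 1), (154, 2), (154, 3), (522, 0), (522, 2), (522, 3), (179, 0), (179, 3),
    (802, 3), (194, 3), (408, 2), (451, 0), (451, 1), (451, 2), (451, 3), (797, 0), (797, 2),
    (797, 3), (59, 0), (59, 3), (37, 1), (37, 2), (792, 0), (792, 1), (792, 2), (792, 3),
    (853, 0), (853, 2), (853, 3), (920, 0), (920, 1), (920, 2), (920, 3), (213, 0), (213, 1),
    (213, 2), (213, 3), (80, 3), (89, 0), (89, 3), (604, 3), (314, 3), (1156, 2), (126, 0),
    (126, 3), (1044, 3), (334, 3), (856, 2), (869, 0), (869, 1), (869, 2), (869, 3), (683, 0),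
    (683, 2), (683, 3), (654, 0), (654, 1), (654, 2), (654, 3), (1403, 0), (1403, 1), (1403, 2),
    (1403, 3), (985, 0), (985, 1), (985, 2), (985, 3), (681, 0), (681, 2), (681, 3), (583, 0),
    (583, 1), (583, 2), (583, 3), (509, 0), (509, 2), (509, 3), (1168, 0), (1168, 1), (1168, 2),
    (1168, 3), (337, 0), (337, 1), (337, 2), (337, 3), (256, 0), (256, 1), (256, 2), (256, 3),
    (411, 0), (411, 1), (411, 2), (411, 3), (1130, 0), (1130, 2), (1130, 3), (1158, 0), (1158, 1),
    (1158, 2), (1158, 3), (734, 0), (734, 1), (734, 2), (734, 3), (333, 1), (333, 2), (333, 3),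
    (181, 0), (181, 3), (369, 0), (369, 1), (369, 2), (113, 3), (177, 0), (177, 1), (177, 2),
    (177, 3), (1400, 0), (1400, 2), (1400, 3), (951, 1), (951, 3), (119, 0), (119, 3), (330, 0),
    (330, 2), (330, 3), (903, 2), (1310, 0), (1310, 1), (1310, 2), (1369, 0), (932, 1), (932, 3),
    (429, 2), (429, 3), (106, 1), (469, 3), (23, 3), (46, 2), (1177, 1), (1177, 2), (1177, 3),
    (1215, 0), (1215, 2), (1215, 3), (1204, 0), (1204, 1), (1204, 2), (1152, 1), (1152, 3),
    (1091, 0), (1091, 1), (1091, 2), (1091, 3), (152, 1), (152, 2), (1151, 0), (1151, 1),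
    (1151, 2), (1151, 3), (1093, 1), (1093, 2), (1093, 3), (162, 0), (162, 3), (573, 0), (573, 1),
    (573, 2), (573, 3), (1248, 0), (1248, 1), (1248, 2), (529, 0), (529, 1), (529, 2), (867, 0),
    (867, 2), (867, 3), (587, 0), (587, 2), (1012, 1), (1012, 2), (1012, 3), (457, 1), (457, 2),
    (226, 0), (226, 2), (226, 3), (603, 0), (603, 1), (603, 2), (521, 3), (871, 0), (871, 3),
    (345, 1), (345, 2), (345, 3), (291, 0), (291, 1), (291, 2), (291, 3), (905, 0), (905, 1),
    (905, 2), (905, 3), (1052, 3), (687, 0), (687, 2), (687, 3), (1094, 0), (1094, 1), (1094, 2),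
    (1281, 0), (1281, 2), (1281, 3), (1035, 3), (1356, 0), (1356, 2), (1102, 0), (1102, 3),
    (1167, 1), (1167, 2), (1167, 3), (761, 0), (761, 2), (761, 3), (1049, 0), (1049, 1),
    (1049, 2), (866, 3), (1368, 0), (1368, 3), (579, 1), (579, 2), (579, 3), (211, 0), (211, 2),
    (211, 3), (303, 0), (303, 1), (303, 2), (872, 3), (306, 0), (306, 1), (306, 2), (306, 3),
    (946, 0), (946, 1), (946, 2), (1389, 0), (1389, 1), (1389, 2), (350, 0), (350, 2), (350, 3),
    (477, 0), (477, 1), (477, 2), (477, 3), (307, 1), (307, 2), (307, 3), (1348, 0), (1348, 3),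
    (269, 0), (269, 1), (269, 2), (595, 1), (595, 3), (1048, 0), (1048, 1), (1048, 2), (1048, 3),
    (1251, 0), (1251, 3), (689, 0), (689, 1), (689, 2), (689, 3), (1112, 0), (1112, 1), (1112, 2),
    (1112, 3), (1322, 0), (1322, 1), (1322, 2), (1322, 3), (442, 0), (442, 2), (442, 3), (484, 0),
    (484, 2), (484, 3), (543, 0), (543, 2), (543, 3), (1277, 1), (1277, 2), (1140, 0), (1140, 2),
    (1140, 3), (1195, 0), (1195, 1), (1195, 2), (454, 3), (412, 0), (412, 3), (1104, 1),
    (1104, 2), (1104, 3), (464, 0), (464, 1), (464, 2), (464, 3), (549, 0), (549, 1), (549, 2),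
    (549, 3), (354, 3), (511, 0), (511, 2), (511, 3), (879, 0), (879, 1), (879, 2), (981, 0),
    (981, 2), (981, 3), (452, 3), (404, 0), (404, 2), (943, 0), (943, 3), (96, 3), (936, 3),
    (1055, 0), (30, 0), (156, 3), (115, 3), (117, 0), (61, 1), (327, 0), (401, 3), (1160, 2),
    (118, 3), (503, 0), (838, 1), (775, 0), (775, 2), (775, 3), (623, 0), (623, 2), (926, 1),
    (926, 3), (574, 0), (574, 2), (574, 3), (833, 1), (833, 2), (217, 0), (217, 1), (232, 1),
    (232, 2), (232, 3), (1169, 3), (110, 1), (110, 2), (110, 3), (557, 2), (557, 3), (163, 2),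
    (163, 3), (811, 1), (811, 3), (339, 0), (250, 1), (999, 1), (553, 0), (553, 2), (532, 0),
    (532, 2), (763, 0), (763, 3), (857, 2), (483, 3), (1089, 2), (919, 0), (1230, 1), (151, 3),
    (941, 0), (436, 1), (1382, 0), (1382, 2), (864, 0), (515, 3), (382, 1), (752, 3), (945, 1),
    (1406, 1), (1406, 2), (1200, 0), (228, 0), (902, 0), (902, 2), (664, 0), (664, 3), (371, 1),
    (371, 2), (371, 3), (351, 0), (479, 0), (479, 1), (479, 2), (843, 3), (907, 2), (907, 3),
    (650, 1), (650, 3), (311, 3), (707, 1), (571, 0), (571, 3), (545, 0), (545, 1), (545, 2),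
    (545, 3), (634, 0), (634, 2), (1229, 0), (422, 2), (422, 3), (1366, 2), (406, 3), (1210, 0),
    (1210, 2), (993, 0), (993, 1), (993, 2), (870, 3), (1333, 1), (1333, 3), (1095, 0), (1095, 1),
    (931, 1), (1124, 0), (627, 2), (990, 1), (990, 2), (880, 1), (880, 3), (519, 1), (1268, 0),
    (1268, 2), (904, 3), (729, 0), (1347, 3), (1166, 0), (1166, 3), (885, 1), (885, 3), (220, 0),
    (938, 0), (938, 1), (938, 2), (620, 3), (638, 2), (638, 3), (1260, 3), (1312, 1), (1312, 3),
    (973, 1), (1225, 0), (1225, 3), (1299, 0), (1299, 1), (1299, 2), (1299, 3), (1360, 0),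
    (1360, 1), (1360, 2), (825, 2), (365, 3), (565, 2), (565, 3), (1286, 3), (721, 2), (249, 1),
    (249, 2), (738, 3), (1028, 1), (1245, 1), (1085, 1), (894, 1), (894, 2), (1399, 1), (301, 1),
    (593, 2), (1120, 1), (1120, 2), (526, 2), (202, 2), (245, 3), (1038, 2), (538, 0), (538, 3),
    (1027, 0), (1027, 2), (694, 1), (694, 3), (329, 0), (329, 2), (329, 3), (1262, 0), (1262, 1),
    (1350, 0), (1350, 2), (1350, 3), (618, 3), (344, 2), (344, 3), (441, 2), (441, 3), (1039, 0),
    (1039, 2), (1039, 3), (730, 1), (730, 2), (730, 3), (771, 0), (771, 3), (1183, 0), (1183, 2),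
    (834, 0), (834, 2), (1236, 1), (1236, 2), (471, 3), (1111, 0), (1316, 0), (1316, 3),
    (1069, 1), (1069, 3), (1355, 1), (1355, 3), (216, 0), (216, 2), (1297, 0), (1189, 1),
    (1189, 2), (1123, 2), (1218, 1), (1000, 1), (1023, 3), (1059, 1), (512, 1), (512, 2),
    (1164, 1), (1164, 2), (818, 3), (706, 0), (1138, 0), (1007, 0), (1007, 2), (704, 0), (704, 3),
    (1379, 1), (1379, 2), (1379, 3), (619, 0), (508, 0), (508, 1), (508, 2), (1157, 3), (1304, 2),
    (1304, 3), (1285, 1), (1285, 3), (558, 3), (1201, 1), (1057, 0), (1057, 3), (1143, 0),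
    (1143, 1), (1143, 2), (1143, 3), (463, 0), (463, 2), (1209, 0), (1390, 2), (1390, 3),
    (633, 2), (1351, 3), (594, 0), (594, 2), (758, 0), (758, 1), (758, 2), (766, 3), (820, 1),
    (820, 3), (580, 0), (580, 1), (566, 1), (480, 0), (392, 2), (1073, 1), (1073, 2), (930, 1),
    (930, 3), (1329, 1), (1293, 0), (1293, 2), (332, 3), (824, 0), (773, 3), (751, 1), (671, 0),
    (1135, 2), (1127, 1), (1280, 2), (403, 0), (359, 2), (460, 3), (251, 1), (1131, 0), (670, 1),
    (321, 3), (461, 0), (461, 2), (1270, 0), (858, 1), (690, 0), (690, 1), (884, 0), (434, 2),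
    (474, 3), (386, 1), (635, 0), (1273, 0), (1273, 2), (1309, 0), (1298, 1), (1298, 2), (433, 2),
    (443, 3), (1381, 2), (397, 3), (252, 3), (1346, 1), (589, 0), (1254, 2), (1402, 1), (1213, 2),
    (300, 0), (810, 2), (1060, 3), (1016, 1), (231, 0)]

theorem mask6_6_ok : ([4, 13, 15, 16, 27, 45, 47, 102, 196, 197, 201, 223].all fun r => Nat.blt r 1408) &&
    (grow gens6 trow6_6 (seedSet [4, 13, 15, 16, 27, 45, 47, 102, 196, 197, 201, 223] 0) == some mask6_6) = true := by
  decide +kernel

theorem toOrb6_6 : ∀ c, mask6_6.testBit c = true → GoodTo C (vert C 6) (vert C 6) c := by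
  have h := mask6_6_ok
  simp only [Bool.and_eq_true, beq_iff_eq, decide_eq_true_eq] at h
  refine goodTo_all C (seeds := [4, 13, 15, 16, 27, 45, 47, 102, 196, 197, 201, 223]) (gens := gens6) (rows := trow6_6) ?_ ?_ (by decide +kernel) h.1 h.2
  · intro r hr
    simp only [List.mem_cons, List.not_mem_nil, or_false] at hr
    rcases hr with rfl | rfl | rfl | rfl | rfl | rfl | rfl | rfl | rfl | rfl | rfl | rfl
    · exact goodTo_seed C (h39119 C) 4 (by decide +kernel)
    · exact goodTo_seed C (h41051 C) 13 (by decide +kernel)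
    · exact goodTo_seed C (h41006 C) 15 (by decide +kernel)
    · exact goodTo_seed C (h40960 C) 16 (by decide +kernel)
    · exact goodTo_seed C (h40931 C) 27 (by decide +kernel)
    · exact goodTo_seed C (h40944 C) 45 (by decide +kernel)
    · exact goodTo_seed C (h41033 C) 47 (by decide +kernel)
    · exact goodTo_seed C (h41017 C) 102 (by decide +kernel)
    · exact goodTo_seed C (h41064 C) 196 (by decide +kernel)
    · exact goodTo_seed C (h40976 C) 197 (by decide +kernel)
    · exact goodTo_seed C (h41069 C) 201 (by decide +kernel)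
    · exact goodTo_seed C (h40981 C) 223 (by decide +kernel)
  · intro g hg
    simp only [gens6, List.mem_cons, List.not_mem_nil, or_false] at hg
    rcases hg with rfl | rfl | rfl | rfl
    · exact h34583 C
    · exact h35617 C
    · exact h37323 C
    · exact h39162 C

/-- The directions from vertex 6 into the orbit of vertex 7. -/
def mask6_7 : ℕ := 0x220090020402022040404100046008080002240088440c60180081006d00220e0200400080620905044144c0002805c40000306080840410210100001044001a0008020200400080200841010040800010301c9029800d420018012400200180008040130551000005840001400000200230088200084180800008100000080009304220200108092a60000000300014001248020450000ab915fc306061704e0000031270e0001e01721c0f80020000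

/-- A tree for these directions. -/
def trow6_7 : List (ℕ × ℕ) := [
    (17, 0), (17, 1), (17, 2), (17, 3), (34, 0), (34, 1), (34, 2), (34, 3), (53, 0), (53, 1),
    (53, 2), (53, 3), (447, 0), (447, 1), (447, 2), (447, 3), (1238, 0), (1238, 3), (873, 0),
    (873, 1), (873, 2), (873, 3), (175, 0), (175, 2), (175, 3), (68, 0), (68, 1), (68, 2),
    (68, 3), (1066, 0), (1066, 3), (92, 0), (92, 1), (92, 2), (92, 3), (743, 0), (743, 1),
    (743, 2), (743, 3), (647, 0), (647, 1), (647, 2), (647, 3), (648, 0), (648, 2), (648, 3),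
    (1320, 0), (1320, 1), (1320, 2), (1320, 3), (914, 0), (914, 1), (914, 2), (914, 3), (1110, 1),
    (1110, 2), (1110, 3), (733, 0), (733, 3), (757, 0), (757, 1), (757, 2), (49, 3), (897, 0),
    (897, 1), (897, 2), (897, 3), (952, 0), (952, 2), (952, 3), (1199, 1), (1199, 3), (462, 0),
    (462, 3), (1377, 0), (1377, 2), (1377, 3), (129, 2), (31, 0), (31, 1), (31, 2), (1032, 0),
    (187, 1), (187, 2), (134, 0), (134, 3), (235, 0), (235, 1), (235, 2), (997, 3), (67, 0),
    (67, 3), (714, 0), (714, 1), (714, 2), (714, 3), (93, 1), (93, 3), (43, 3), (189, 0),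
    (189, 2), (189, 3), (500, 1), (500, 2), (677, 0), (677, 2), (747, 3), (600, 0), (731, 1),
    (731, 2), (731, 3), (184, 0), (184, 2), (184, 3), (455, 0), (1221, 1), (1221, 3), (376, 0),
    (376, 2), (376, 3), (1030, 1), (1030, 2), (1030, 3), (978, 0), (978, 1), (978, 2), (978, 3),
    (1005, 0), (1005, 1), (1005, 2), (1005, 3), (562, 0), (562, 3), (839, 0), (839, 3), (218, 0),
    (218, 1), (218, 2), (218, 3), (1388, 0), (1388, 1), (1388, 3), (357, 0), (357, 3), (783, 0),
    (783, 2), (819, 1), (819, 2), (819, 3), (728, 3), (171, 3), (501, 0), (32, 0), (1181, 3),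
    (1145, 3), (320, 0), (158, 1), (172, 0), (505, 3), (180, 2), (680, 3), (195, 0), (97, 1),
    (800, 0), (86, 0), (86, 2), (191, 0), (602, 0), (94, 3), (277, 3), (361, 1), (323, 0),
    (315, 2), (85, 3), (674, 1), (66, 3), (924, 0), (1349, 0), (1179, 0), (1179, 2), (1179, 3),
    (1161, 0), (1161, 2), (1302, 1), (140, 1), (140, 2), (140, 3), (1070, 0), (1070, 1),
    (1155, 0), (1155, 1), (1155, 2), (1155, 3), (1153, 2), (1153, 3), (395, 0), (395, 1),
    (395, 2), (395, 3), (1099, 3), (313, 1), (379, 1), (379, 3), (1062, 3), (568, 0), (568, 1),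
    (568, 2), (1234, 0), (1234, 2), (260, 0), (1227, 2), (1370, 3), (790, 3), (373, 1), (373, 3),
    (150, 0), (150, 3), (142, 0), (142, 2), (258, 0), (1045, 3), (1243, 1), (491, 1), (1326, 2),
    (740, 1), (740, 3), (1342, 1), (1391, 2), (225, 3), (1154, 0), (1154, 2), (1031, 0), (456, 3),
    (883, 3), (1182, 2), (991, 1), (1401, 3)]

theorem mask6_7_ok : ([17, 34, 53].all fun r => Nat.blt r 1408) &&
    (grow gens6 trow6_7 (seedSet [17, 34, 53] 0) == some mask6_7) = true := by
  decide +kernel

theorem toOrb6_7 : ∀ c, mask6_7.testBit c = true → GoodTo C (vert C 6) (vert C 7) c := by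
  have h := mask6_7_ok
  simp only [Bool.and_eq_true, beq_iff_eq, decide_eq_true_eq] at h
  refine goodTo_all C (seeds := [17, 34, 53]) (gens := gens6) (rows := trow6_7) ?_ ?_ (by decide +kernel) h.1 h.2
  · intro r hr
    simp only [List.mem_cons, List.not_mem_nil, or_false] at hr
    rcases hr with rfl | rfl | rfl
    · exact goodTo_seed C (h48500 C) 17 (by decide +kernel)
    · exact goodTo_seed C (h48463 C) 34 (by decide +kernel)
    · exact goodTo_seed C (h45416 C) 53 (by decide +kernel)
  · intro g hg
    simp only [gens6, List.mem_cons, List.not_mem_nil, or_false] at hg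
    rcases hg with rfl | rfl | rfl | rfl
    · exact h34583 C
    · exact h35617 C
    · exact h37323 C
    · exact h39162 C

/-- The directions from vertex 6 into the orbit of vertex 8. -/
def mask6_8 : ℕ := 0x8010008000000000000000000000000000000000000000000000000000000000000000000000000008000000000000000000000000000000000000000200000000000000000000000004000000000000000000000000000000000000000000000000000000000000000000000000000000000000000000000010000000000000000004040000000000000000000000000000000000000000000000000000000200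

/-- A tree for these directions. -/
def trow6_8 : List (ℕ × ℕ) := [
    (9, 0), (9, 1), (9, 2), (9, 3), (801, 0), (801, 3), (963, 3), (316, 3), (698, 2)]

theorem mask6_8_ok : ([9].all fun r => Nat.blt r 1408) &&
    (grow gens6 trow6_8 (seedSet [9] 0) == some mask6_8) = true := by
  decide +kernel

theorem toOrb6_8 : ∀ c, mask6_8.testBit c = true → GoodTo C (vert C 6) (vert C 8) c := by
  have h := mask6_8_ok
  simp only [Bool.and_eq_true, beq_iff_eq, decide_eq_true_eq] at h
  refine goodTo_all C (seeds := [9]) (gens := gens6) (rows := trow6_8) ?_ ?_ (by decide +kernel) h.1 h.2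
  · intro r hr
    simp only [List.mem_cons, List.not_mem_nil, or_false] at hr
    subst hr
    exact goodTo_seed C (h48521 C) 9 (by decide +kernel)
  · intro g hg
    simp only [gens6, List.mem_cons, List.not_mem_nil, or_false] at hg
    rcases hg with rfl | rfl | rfl | rfl
    · exact h34583 C
    · exact h35617 C
    · exact h37323 C
    · exact h39162 C

/-- The directions from vertex 7 into the orbit of vertex 2. -/
def mask7_2 : ℕ := 0x18022104683e0880a000013182882481a000a106848f032447528a08001d2409238202201c840b4124048190000044020811864c325843820484c020050308022a30c4054a2007513a80042060022085240180002208400c3cd401104042b40104800a520c20238440038c0428822481310000024a1a160010c2280c004000001265402820008820242410400000210022a0c00404028028264812490432000165a2402184204901684200d1121244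

/-- A tree for these directions. -/
def trow7_2 : List (ℕ × ℕ) := [
    (2, 0), (2, 2), (2, 3), (2, 4), (82, 2), (82, 3), (82, 4), (358, 0), (358, 3), (358, 4),
    (398, 0), (398, 4), (881, 0), (881, 2), (881, 3), (881, 4), (521, 0), (521, 3), (521, 4),
    (832, 0), (832, 4), (870, 0), (870, 2), (870, 3), (870, 4), (1396, 2), (1396, 3), (1396, 4),
    (856, 4), (1185, 0), (1185, 2), (1185, 4), (551, 0), (551, 2), (551, 3), (551, 4), (581, 2),
    (581, 4), (1210, 0), (1210, 3), (1210, 4), (1304, 0), (1304, 4), (1154, 0), (1154, 2),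
    (1154, 3), (1154, 4), (1077, 2), (1077, 3), (1077, 4), (576, 4), (17, 0), (17, 2), (17, 4),
    (1117, 0), (1117, 2), (1117, 3), (1117, 4), (1164, 2), (1164, 4), (611, 0), (611, 3),
    (611, 4), (1347, 0), (1347, 4), (802, 0), (802, 2), (802, 3), (802, 4), (450, 4), (1309, 0),
    (1309, 2), (1309, 4), (1356, 0), (1356, 2), (1356, 4), (877, 2), (877, 3), (877, 4), (817, 0),
    (817, 4), (553, 0), (553, 2), (553, 3), (553, 4), (547, 2), (547, 4), (1056, 0), (1056, 3),
    (1056, 4), (1308, 0), (1308, 4), (858, 0), (858, 2), (858, 4), (757, 4), (1217, 0), (1217, 2),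
    (1217, 4), (854, 4), (187, 4), (46, 0), (46, 3), (46, 4), (1187, 0), (1187, 2), (1187, 3),
    (1187, 4), (1354, 3), (1354, 4), (935, 0), (935, 3), (935, 4), (54, 0), (54, 4), (459, 0),
    (459, 2), (459, 3), (459, 4), (1074, 4), (452, 0), (452, 2), (594, 0), (594, 2), (760, 2),
    (760, 3), (760, 4), (1333, 0), (1333, 4), (349, 4), (690, 2), (690, 4), (9, 0), (9, 3),
    (9, 4), (1179, 0), (1179, 4), (885, 2), (885, 4), (953, 2), (953, 4), (819, 4), (552, 4),
    (971, 0), (971, 3), (971, 4), (112, 0), (112, 2), (112, 4), (105, 3), (105, 4), (925, 0),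
    (925, 3), (425, 4), (642, 2), (642, 3), (642, 4), (118, 2), (12, 4), (977, 2), (511, 0),
    (511, 4), (286, 2), (286, 4), (912, 4), (604, 4), (1234, 4), (1080, 4), (1200, 0), (1200, 4),
    (237, 2), (237, 4), (686, 4), (710, 4), (744, 4), (256, 0), (256, 3), (256, 4), (830, 4),
    (410, 4), (449, 3), (449, 4), (77, 4), (1098, 4), (959, 4), (1198, 4), (834, 4), (672, 4),
    (797, 4), (210, 4), (70, 0), (70, 4), (245, 4), (64, 0), (64, 4), (517, 4), (1017, 4),
    (1088, 4), (171, 0), (171, 4), (309, 3), (309, 4), (754, 3), (754, 4), (821, 0), (821, 4),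
    (241, 0), (241, 2), (241, 3), (241, 4), (102, 2), (1137, 2), (1269, 0), (1103, 4), (999, 4),
    (715, 4), (1297, 4), (218, 4), (140, 4), (411, 4), (533, 4), (1312, 4), (876, 4), (1279, 4),
    (938, 4), (1224, 4), (1086, 4), (292, 4), (1376, 2), (1376, 3), (1376, 4), (1135, 4), (53, 4),
    (904, 4), (1239, 4), (20, 4), (623, 4), (152, 4), (833, 3), (833, 4), (1206, 2), (1206, 3),
    (1206, 4), (994, 4), (645, 4), (88, 4), (692, 4), (721, 2), (721, 4), (1253, 4), (609, 4),
    (178, 4), (1144, 3), (1144, 4), (1162, 4), (693, 4), (28, 4), (31, 4), (1353, 4), (137, 4),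
    (360, 4), (1160, 3), (1160, 4), (824, 4), (1385, 4), (1395, 3), (1395, 4), (777, 4), (990, 4),
    (514, 2), (158, 4), (577, 4), (974, 4), (419, 4), (1157, 4), (773, 4), (93, 4), (177, 4),
    (1052, 4), (961, 3), (961, 4), (365, 4), (421, 3), (421, 4), (164, 4), (943, 4), (1370, 4),
    (1063, 4), (1255, 4), (993, 4), (1163, 4), (1366, 4), (120, 4), (1108, 4), (366, 4),
    (1365, 4), (914, 4), (465, 4), (601, 4), (1282, 4), (1272, 4), (980, 4), (117, 4), (883, 4),
    (1201, 4), (1202, 4), (538, 0), (538, 2), (1335, 4), (1193, 2), (1004, 4), (691, 4), (644, 4),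
    (566, 4), (899, 4), (141, 4), (849, 4), (301, 4), (239, 4)]

theorem mask7_2_ok : ([2].all fun r => Nat.blt r 1408) &&
    (grow gens7 trow7_2 (seedSet [2] 0) == some mask7_2) = true := by
  decide +kernel

theorem toOrb7_2 : ∀ c, mask7_2.testBit c = true → GoodTo C (vert C 7) (vert C 2) c := by
  have h := mask7_2_ok
  simp only [Bool.and_eq_true, beq_iff_eq, decide_eq_true_eq] at h
  refine goodTo_all C (seeds := [2]) (gens := gens7) (rows := trow7_2) ?_ ?_ (by decide +kernel) h.1 h.2
  · intro r hr
    simp only [List.mem_cons, List.not_mem_nil, or_false] at hr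
    subst hr
    exact goodTo_seed C (h48445 C) 2 (by decide +kernel)
  · intro g hg
    simp only [gens7, List.mem_cons, List.not_mem_nil, or_false] at hg
    rcases hg with rfl | rfl | rfl | rfl | rfl
    · exact h41082 C
    · exact h42108 C
    · exact h43711 C
    · exact h45430 C
    · exact h46997 C

/-- The directions from vertex 7 into the orbit of vertex 3. -/
def mask7_3 : ℕ := 0x88000500100000201209081000000400041040020129200040000404208000000400040094012000000010200006000020c14000000000002000100002008800a00184100080800800000130000244002200200800c00600020002840000180800084120202011040080100000000000180808950080400814c2181000408820000000004400002204809004004020080050460381910401010002008042005c00080420940001202200100000800020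

/-- A tree for these directions. -/
def trow7_3 : List (ℕ × ℕ) := [
    (5, 2), (5, 3), (5, 4), (1015, 0), (1015, 3), (1015, 4), (1262, 0), (1262, 4), (130, 0),
    (130, 2), (130, 3), (130, 4), (713, 2), (713, 3), (713, 4), (131, 4), (1068, 0), (1068, 2),
    (1068, 4), (225, 0), (225, 2), (225, 3), (225, 4), (427, 2), (427, 4), (491, 0), (491, 3),
    (491, 4), (471, 0), (471, 4), (855, 0), (855, 2), (855, 3), (855, 4), (169, 4), (1407, 0),
    (1407, 2), (1407, 4), (567, 0), (567, 2), (567, 4), (216, 2), (216, 3), (216, 4), (1337, 0),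
    (1337, 4), (761, 0), (761, 2), (761, 3), (761, 4), (244, 2), (244, 4), (1014, 0), (1014, 3),
    (1014, 4), (895, 0), (895, 4), (1274, 2), (1274, 4), (499, 2), (499, 4), (1235, 4), (1328, 4),
    (325, 0), (325, 3), (325, 4), (804, 0), (804, 2), (804, 4), (727, 3), (727, 4), (462, 0),
    (462, 3), (462, 4), (847, 4), (1240, 2), (1240, 3), (1240, 4), (321, 2), (184, 4), (238, 2),
    (616, 0), (616, 4), (805, 2), (805, 4), (482, 4), (1372, 4), (1181, 4), (681, 4), (1101, 4),
    (389, 4), (223, 4), (1119, 4), (785, 0), (785, 4), (23, 4), (314, 4), (1146, 4), (1249, 4),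
    (208, 4), (1386, 4), (1104, 4), (278, 4), (739, 4), (1008, 4), (508, 0), (508, 4), (1130, 4),
    (212, 4), (940, 4), (439, 4), (1021, 4), (697, 2), (697, 3), (697, 4), (106, 4), (588, 4),
    (259, 4), (622, 4), (1323, 4), (399, 4), (350, 4), (311, 3), (311, 4), (1340, 4), (778, 4),
    (480, 4), (132, 4), (1116, 4), (395, 3), (395, 4), (90, 4), (428, 4), (1290, 4), (1349, 4),
    (1042, 4), (879, 4), (556, 4), (246, 4), (1237, 4), (1316, 4), (921, 4), (1194, 4), (233, 4),
    (1331, 4), (652, 4), (578, 4), (159, 4), (605, 4), (444, 4), (782, 4), (290, 4), (1041, 4),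
    (484, 4), (1175, 4), (1229, 0), (1403, 4), (584, 2), (215, 4)]

theorem mask7_3_ok : ([5].all fun r => Nat.blt r 1408) &&
    (grow gens7 trow7_3 (seedSet [5] 0) == some mask7_3) = true := by
  decide +kernel

theorem toOrb7_3 : ∀ c, mask7_3.testBit c = true → GoodTo C (vert C 7) (vert C 3) c := by
  have h := mask7_3_ok
  simp only [Bool.and_eq_true, beq_iff_eq, decide_eq_true_eq] at h
  refine goodTo_all C (seeds := [5]) (gens := gens7) (rows := trow7_3) ?_ ?_ (by decide +kernel) h.1 h.2
  · intro r hr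
    simp only [List.mem_cons, List.not_mem_nil, or_false] at hr
    subst hr
    exact goodTo_seed C (h41075 C) 5 (by decide +kernel)
  · intro g hg
    simp only [gens7, List.mem_cons, List.not_mem_nil, or_false] at hg
    rcases hg with rfl | rfl | rfl | rfl | rfl
    · exact h41082 C
    · exact h42108 C
    · exact h43711 C
    · exact h45430 C
    · exact h46997 C

/-- The directions from vertex 7 into the orbit of vertex 6. -/
def mask7_6 : ℕ := 0x5685b0d22b15c1916456d6a6863952db7a4f9f5c981250e08b90a970d76ee253e2cc115548221254aa8bea540af1931a15268c78938c27ac15fb2a3fddfa74561c940b21fa154ff02e4572c1df9db8d7404a8445ff1d51b9e1c229206e8b84039ed13c908541ce407825c873d3c738db46c6d308d53485614b082407e3093311126d90be93ce8f159b02086a26ad5dd6970911203800915e5610b5ad26a8c8a13c925897402ade86d897acad266de50b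

/-- A tree for these directions. -/
def trow7_6 : List (ℕ × ℕ) := [
    (0, 2), (0, 3), (0, 4), (1, 2), (1, 3), (1, 4), (3, 0), (3, 2), (3, 3), (3, 4), (1183, 0),
    (1183, 3), (1183, 4), (917, 0), (917, 4), (123, 0), (123, 2), (123, 3), (123, 4), (1368, 0),
    (1368, 3), (1368, 4), (1007, 0), (1007, 4), (96, 0), (96, 2), (96, 3), (96, 4), (119, 2),
    (119, 3), (119, 4), (260, 0), (260, 3), (260, 4), (1097, 0), (1097, 4), (1025, 0), (1025, 2),
    (1025, 3), (1025, 4), (720, 2), (720, 3), (720, 4), (951, 4), (630, 0), (630, 2), (630, 4),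
    (393, 0), (393, 2), (393, 3), (393, 4), (965, 2), (965, 4), (353, 0), (353, 3), (353, 4),
    (572, 0), (572, 4), (1010, 0), (1010, 2), (1010, 3), (1010, 4), (842, 2), (842, 3), (842, 4),
    (97, 4), (1143, 0), (1143, 2), (1143, 4), (328, 0), (328, 2), (328, 3), (328, 4), (956, 2),
    (956, 4), (255, 0), (255, 3), (255, 4), (454, 0), (454, 4), (1263, 0), (1263, 2), (1263, 3),
    (1263, 4), (550, 0), (550, 3), (550, 4), (1018, 0), (1018, 4), (1016, 0), (1016, 2),
    (1016, 3), (1016, 4), (910, 2), (910, 3), (910, 4), (408, 4), (1287, 0), (1287, 2), (1287, 4),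
    (1058, 0), (1058, 2), (1058, 3), (1058, 4), (722, 2), (722, 4), (1329, 0), (1329, 3),
    (1329, 4), (1322, 0), (1322, 4), (826, 0), (826, 2), (826, 3), (826, 4), (39, 4), (1406, 0),
    (1406, 2), (1406, 4), (364, 0), (364, 2), (364, 4), (1094, 2), (1094, 3), (1094, 4),
    (1081, 0), (1081, 4), (758, 0), (758, 2), (758, 3), (758, 4), (200, 2), (200, 4), (809, 0),
    (809, 3), (809, 4), (1391, 0), (1391, 4), (1138, 2), (1138, 4), (544, 2), (544, 4), (1278, 4),
    (873, 4), (319, 0), (319, 3), (319, 4), (947, 0), (947, 2), (947, 4), (665, 3), (665, 4),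
    (263, 0), (263, 3), (263, 4), (948, 4), (1192, 2), (1192, 3), (1192, 4), (74, 4), (1404, 0),
    (1404, 2), (1404, 4), (266, 0), (266, 2), (266, 4), (440, 2), (440, 3), (440, 4), (1281, 0),
    (1281, 4), (543, 0), (543, 2), (543, 3), (543, 4), (342, 2), (342, 4), (1182, 0), (1182, 3),
    (1182, 4), (1394, 0), (1394, 4), (1069, 2), (1069, 4), (506, 2), (506, 4), (929, 4),
    (1211, 4), (322, 0), (322, 3), (322, 4), (988, 0), (988, 2), (988, 4), (788, 3), (788, 4),
    (1087, 0), (1087, 3), (1087, 4), (724, 4), (945, 2), (945, 3), (945, 4), (1277, 2), (1277, 3),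
    (1277, 4), (848, 4), (52, 0), (52, 2), (52, 4), (829, 0), (829, 2), (829, 3), (829, 4),
    (1299, 2), (1299, 4), (812, 0), (812, 3), (812, 4), (634, 0), (634, 4), (963, 0), (963, 2),
    (963, 3), (963, 4), (313, 4), (872, 0), (872, 2), (872, 4), (1351, 0), (1351, 2), (1351, 4),
    (1002, 2), (1002, 3), (1002, 4), (1188, 0), (1188, 4), (548, 0), (548, 2), (548, 3), (548, 4),
    (970, 2), (970, 4), (519, 0), (519, 3), (519, 4), (1286, 0), (1286, 4), (779, 0), (779, 2),
    (779, 4), (542, 4), (1362, 0), (1362, 2), (1362, 4), (1204, 4), (81, 4), (103, 0), (103, 3),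
    (103, 4), (1075, 0), (1075, 2), (1075, 3), (1075, 4), (1344, 3), (1344, 4), (892, 0),
    (892, 3), (892, 4), (163, 0), (163, 4), (1051, 0), (1051, 2), (1051, 3), (1051, 4), (392, 2),
    (186, 4), (770, 2), (1341, 0), (1341, 4), (954, 2), (954, 4), (1071, 4), (900, 4), (735, 4),
    (836, 4), (1352, 4), (1083, 4), (655, 4), (497, 4), (285, 0), (285, 4), (167, 4), (194, 4),
    (565, 4), (862, 4), (429, 4), (930, 4), (1294, 4), (193, 4), (1009, 4), (768, 4), (555, 0),
    (555, 4), (1270, 4), (659, 4), (1161, 4), (355, 4), (1267, 4), (857, 2), (857, 3), (857, 4),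
    (329, 2), (368, 4), (338, 2), (742, 0), (742, 4), (806, 2), (806, 4), (523, 4), (1222, 4),
    (798, 4), (586, 4), (466, 4), (221, 4), (656, 4), (530, 4), (702, 0), (702, 4), (107, 4),
    (316, 4), (650, 4), (979, 4), (279, 4), (1236, 4), (489, 4), (315, 4), (1040, 4), (890, 4),
    (1124, 0), (1124, 4), (591, 4), (863, 4), (775, 4), (257, 4), (850, 4), (409, 2), (409, 3),
    (409, 4), (1275, 4), (446, 0), (446, 2), (969, 0), (969, 2), (1171, 2), (1171, 3), (1171, 4),
    (1330, 0), (1330, 4), (250, 4), (1150, 2), (1150, 4), (47, 0), (47, 3), (47, 4), (426, 0),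
    (426, 4), (869, 2), (869, 4), (807, 2), (807, 4), (574, 4), (1122, 4), (1243, 0), (1243, 3),
    (1243, 4), (18, 0), (18, 2), (18, 4), (42, 3), (42, 4), (887, 0), (887, 3), (667, 4),
    (456, 2), (456, 3), (456, 4), (173, 2), (8, 4), (1247, 2), (1115, 0), (1115, 4), (272, 2),
    (272, 4), (1228, 4), (1044, 4), (941, 4), (1280, 4), (1313, 0), (1313, 4), (751, 2), (751, 4),
    (624, 4), (560, 4), (337, 4), (1085, 0), (1085, 3), (1085, 4), (1197, 4), (696, 4), (312, 3),
    (312, 4), (116, 4), (344, 4), (840, 4), (1348, 4), (620, 4), (837, 4), (1180, 4), (380, 4),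
    (135, 0), (135, 4), (403, 4), (142, 0), (142, 4), (636, 4), (818, 4), (997, 4), (94, 0),
    (94, 4), (677, 3), (677, 4), (458, 3), (458, 4), (1190, 0), (1190, 4), (79, 0), (79, 2),
    (79, 3), (79, 4), (73, 4), (633, 4), (294, 4), (641, 4), (1105, 4), (275, 4), (766, 4),
    (1149, 3), (1149, 4), (733, 4), (1252, 4), (540, 4), (71, 4), (1326, 4), (640, 3), (640, 4),
    (180, 4), (207, 4), (1284, 4), (838, 4), (615, 4), (1028, 4), (1036, 4), (1167, 4), (1359, 4),
    (1223, 4), (939, 4), (1142, 4), (185, 4), (1306, 4), (772, 4), (168, 4), (512, 4), (357, 4),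
    (685, 4), (1324, 4), (274, 4), (1173, 4), (448, 3), (448, 4), (1165, 4), (923, 4), (479, 4),
    (98, 4), (515, 4), (229, 3), (229, 4), (800, 4), (377, 4), (1358, 4), (1199, 4), (1013, 4),
    (1266, 4), (769, 4), (345, 4), (933, 4), (1371, 4), (718, 4), (827, 4), (270, 4), (1332, 4),
    (1045, 4), (15, 2), (1070, 2), (592, 0), (498, 4), (1259, 4), (924, 4), (973, 4), (219, 4),
    (151, 4), (695, 4), (928, 4), (875, 4), (839, 4), (1283, 4), (937, 4), (730, 4), (1342, 4),
    (359, 4), (1314, 2), (1314, 3), (1314, 4), (1073, 4), (162, 4), (571, 4), (822, 4), (55, 4),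
    (537, 4), (29, 4), (621, 3), (621, 4), (1317, 2), (1317, 3), (1317, 4), (1257, 4), (787, 4),
    (125, 4), (1152, 4), (843, 2), (843, 4), (922, 4), (598, 4), (277, 4), (1067, 3), (1067, 4),
    (902, 4), (1153, 4), (63, 4), (66, 4), (495, 4), (154, 4), (262, 4), (1334, 3), (1334, 4),
    (413, 4), (1401, 4), (909, 3), (909, 4), (983, 4), (1254, 4), (631, 2), (35, 4), (198, 4),
    (991, 4), (289, 4), (441, 4), (619, 4), (128, 4), (1032, 4), (371, 4), (14, 4), (920, 4),
    (476, 4), (291, 4), (524, 4), (1169, 4), (860, 4), (780, 4), (694, 0), (1289, 4), (841, 2),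
    (417, 4), (793, 4), (50, 4), (1047, 4), (469, 4), (704, 4), (418, 4), (1338, 4), (558, 4),
    (781, 4), (913, 0), (1360, 4), (712, 2), (669, 4), (478, 4), (415, 3), (415, 4), (267, 4),
    (663, 3), (663, 4), (110, 4), (915, 4), (864, 4), (339, 4), (1380, 4), (1256, 4), (995, 4),
    (1402, 4), (175, 4), (1364, 4), (268, 4), (1319, 4), (1230, 4), (1100, 4), (505, 4), (967, 4),
    (585, 4), (1250, 4), (172, 4), (1215, 4), (582, 4), (1300, 4), (1120, 0), (1120, 2),
    (1377, 4), (628, 2), (852, 4), (1151, 4), (753, 4), (689, 4), (716, 4), (153, 4), (1020, 4),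
    (707, 4), (711, 4)]

theorem mask7_6_ok : ([0, 1, 3].all fun r => Nat.blt r 1408) &&
    (grow gens7 trow7_6 (seedSet [0, 1, 3] 0) == some mask7_6) = true := by
  decide +kernel

theorem toOrb7_6 : ∀ c, mask7_6.testBit c = true → GoodTo C (vert C 7) (vert C 6) c := by
  have h := mask7_6_ok
  simp only [Bool.and_eq_true, beq_iff_eq, decide_eq_true_eq] at h
  refine goodTo_all C (seeds := [0, 1, 3]) (gens := gens7) (rows := trow7_6) ?_ ?_ (by decide +kernel) h.1 h.2
  · intro r hr
    simp only [List.mem_cons, List.not_mem_nil, or_false] at hr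
    rcases hr with rfl | rfl | rfl
    · exact goodTo_seed C (h48455 C) 0 (by decide +kernel)
    · exact goodTo_seed C (h48492 C) 1 (by decide +kernel)
    · exact goodTo_seed C (h48440 C) 3 (by decide +kernel)
  · intro g hg
    simp only [gens7, List.mem_cons, List.not_mem_nil, or_false] at hg
    rcases hg with rfl | rfl | rfl | rfl | rfl
    · exact h41082 C
    · exact h42108 C
    · exact h43711 C
    · exact h45430 C
    · exact h46997 C

/-- The directions from vertex 7 into the orbit of vertex 7. -/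
def mask7_7 : ℕ := 0x2162480cc08200460900214848442100000020006040001c1028000100110088101068a803c049a01450010a65086ca1c81022012041801048004100000000a14140400a0020100080800c0a0000010818915a320000a0061001005a813421406022024508920098031a2400281045002000246228012080a02501c010b604ceed800a010011704040594381991282006884081c426a682080c9004010110502c20001080a5100100400015208000890

/-- A tree for these directions. -/
def trow7_7 : List (ℕ × ℕ) := [
    (4, 2), (4, 3), (4, 4), (33, 0), (33, 1), (33, 2), (33, 3), (810, 0), (810, 3), (810, 4),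
    (485, 0), (485, 4), (86, 0), (86, 2), (86, 3), (86, 4), (336, 1), (336, 2), (336, 3),
    (336, 4), (179, 2), (179, 3), (179, 4), (254, 0), (254, 3), (254, 4), (748, 0), (748, 4),
    (583, 2), (583, 3), (583, 4), (182, 4), (637, 0), (637, 2), (637, 4), (227, 0), (227, 2),
    (227, 3), (227, 4), (276, 2), (276, 4), (763, 0), (763, 3), (763, 4), (638, 0), (638, 4),
    (1205, 0), (1205, 2), (1205, 3), (1205, 4), (176, 2), (176, 3), (176, 4), (1390, 0),
    (1390, 3), (1390, 4), (1184, 0), (1184, 1), (1184, 4), (750, 2), (750, 3), (888, 0), (888, 3),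
    (888, 4), (307, 0), (307, 2), (307, 3), (307, 4), (894, 2), (894, 3), (894, 4), (541, 4),
    (1005, 0), (1005, 2), (1005, 3), (1005, 4), (1219, 0), (1219, 2), (1219, 3), (1219, 4),
    (91, 4), (1405, 0), (1405, 2), (1405, 4), (688, 0), (688, 2), (688, 4), (386, 2), (386, 3),
    (386, 4), (1345, 0), (1345, 4), (1172, 0), (1172, 2), (1172, 3), (1172, 4), (287, 2),
    (287, 4), (614, 0), (614, 3), (614, 4), (1220, 0), (1220, 4), (625, 2), (625, 4), (1110, 2),
    (1110, 4), (1078, 4), (1310, 4), (326, 0), (326, 3), (326, 4), (803, 0), (803, 2), (803, 4),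
    (423, 3), (423, 4), (361, 0), (361, 3), (361, 4), (844, 4), (823, 2), (823, 3), (823, 4),
    (1113, 0), (1113, 3), (1113, 4), (608, 4), (678, 0), (678, 2), (678, 3), (678, 4), (764, 3),
    (764, 4), (745, 1), (745, 4), (407, 0), (407, 2), (407, 3), (936, 3), (554, 2), (554, 3),
    (554, 4), (1093, 4), (1123, 4), (265, 0), (265, 2), (265, 4), (617, 2), (617, 4), (1238, 0),
    (1238, 3), (1238, 4), (509, 0), (509, 4), (387, 0), (387, 2), (387, 3), (563, 4), (1099, 0),
    (1099, 2), (1375, 0), (1375, 4), (271, 3), (271, 4), (1022, 3), (1022, 4), (297, 0), (493, 2),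
    (493, 4), (253, 4), (401, 0), (401, 3), (568, 0), (568, 4), (1012, 0), (226, 2), (332, 4),
    (752, 2), (1134, 0), (1134, 4), (955, 2), (955, 4), (1102, 4), (1315, 4), (747, 4), (671, 4),
    (1387, 4), (1095, 4), (391, 4), (867, 4), (402, 0), (402, 4), (58, 4), (334, 4), (771, 4),
    (1302, 4), (378, 4), (1397, 4), (1298, 4), (333, 4), (1168, 4), (1035, 4), (1112, 0),
    (1112, 4), (1059, 4), (382, 4), (717, 4), (296, 4), (1031, 4), (1155, 2), (1155, 3),
    (1155, 4), (379, 4), (1133, 0), (1133, 2), (522, 2), (522, 4), (1367, 0), (1367, 3),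
    (1393, 4), (222, 0), (222, 2), (222, 3), (222, 4), (481, 4), (1203, 0), (1203, 2), (1203, 3),
    (1084, 2), (569, 3), (310, 3), (191, 0), (191, 3), (228, 0), (228, 4), (526, 0), (526, 4),
    (447, 3), (447, 4), (658, 0), (603, 3), (38, 4), (1127, 4), (437, 4), (759, 4), (490, 4),
    (205, 4), (251, 4), (675, 3), (675, 4), (1378, 4), (982, 4), (539, 4), (36, 4), (1336, 4),
    (308, 3), (308, 4), (127, 4), (206, 4), (1361, 4), (673, 4), (741, 4), (1023, 4), (1125, 4),
    (737, 4), (1288, 4), (901, 4), (776, 4), (629, 4), (280, 4), (1307, 4), (653, 4), (197, 4),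
    (80, 4), (648, 4), (304, 4), (434, 4), (661, 4), (740, 4), (1038, 4), (1379, 4), (412, 0),
    (1318, 4), (719, 2), (385, 4)]

theorem mask7_7_ok : ([4, 33].all fun r => Nat.blt r 1408) &&
    (grow gens7 trow7_7 (seedSet [4, 33] 0) == some mask7_7) = true := by
  decide +kernel

theorem toOrb7_7 : ∀ c, mask7_7.testBit c = true → GoodTo C (vert C 7) (vert C 7) c := by
  have h := mask7_7_ok
  simp only [Bool.and_eq_true, beq_iff_eq, decide_eq_true_eq] at h
  refine goodTo_all C (seeds := [4, 33]) (gens := gens7) (rows := trow7_7) ?_ ?_ (by decide +kernel) h.1 h.2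
  · intro r hr
    simp only [List.mem_cons, List.not_mem_nil, or_false] at hr
    rcases hr with rfl | rfl
    · exact goodTo_seed C (h48476 C) 4 (by decide +kernel)
    · exact goodTo_seed C (h48513 C) 33 (by decide +kernel)
  · intro g hg
    simp only [gens7, List.mem_cons, List.not_mem_nil, or_false] at hg
    rcases hg with rfl | rfl | rfl | rfl | rfl
    · exact h41082 C
    · exact h42108 C
    · exact h43711 C
    · exact h45430 C
    · exact h46997 C

/-- The directions from vertex 8 into the orbit of vertex 6. -/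
def mask8_6 : ℕ := 0xfffefffddfdbfdffffffbfffefefbefb5fefffffff37ffefeef7bf7ffffff7fef3ffffdfffff7f7ffb3eeff3fdffff9ffe7fffffaffffefdfbfdfbceffff7f9f7fdfffbffbfffbff7ff3ffe7ffeffefeffffffffefff3ff7ffffff9feffcfff9f9fffefffffffffefffffbfe7dffdfffffffffe7e7effbfffffffefff5dffffffdff7feff3effffdffff3fe7ffffdff9fefe7fff3fffe77ffefffffffffffff7ffffffffbffffffffffffffffffffff

/-- A tree for these directions. -/
def trow8_6 : List (ℕ × ℕ) := [
    (0, 2), (0, 3), (0, 4), (0, 5), (5, 3), (5, 4), (5, 5), (6, 4), (6, 5), (4, 3), (4, 5),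
    (240, 0), (240, 1), (240, 2), (240, 3), (240, 4), (240, 5), (2, 5), (1, 5), (318, 0),
    (318, 1), (318, 2), (318, 3), (318, 4), (318, 5), (45, 5), (1030, 0), (1030, 1), (1030, 2),
    (1030, 3), (1030, 4), (1030, 5), (3, 5), (204, 0), (204, 1), (204, 2), (204, 3), (204, 4),
    (204, 5), (174, 0), (174, 1), (174, 2), (174, 3), (174, 4), (174, 5), (97, 1), (97, 2),
    (97, 4), (97, 5), (89, 0), (89, 1), (89, 3), (89, 4), (89, 5), (1063, 0), (1063, 1),
    (1063, 3), (1063, 4), (1063, 5), (241, 0), (241, 2), (241, 3), (241, 4), (241, 5), (282, 0),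
    (282, 1), (282, 2), (282, 3), (282, 4), (851, 0), (851, 1), (851, 2), (851, 3), (851, 4),
    (851, 5), (192, 0), (192, 1), (192, 2), (192, 3), (192, 4), (192, 5), (82, 0), (82, 3),
    (82, 4), (82, 5), (182, 2), (182, 4), (182, 5), (179, 1), (179, 3), (179, 4), (179, 5),
    (239, 0), (239, 1), (239, 4), (239, 5), (117, 0), (117, 2), (117, 3), (117, 5), (746, 0),
    (746, 1), (746, 2), (746, 3), (746, 4), (573, 0), (573, 1), (573, 2), (573, 3), (573, 4),
    (573, 5), (648, 2), (648, 3), (648, 4), (648, 5), (568, 1), (568, 4), (568, 5), (1010, 0),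
    (1010, 1), (1010, 4), (1010, 5), (158, 3), (158, 5), (1300, 0), (1300, 3), (1300, 5), (77, 0),
    (77, 1), (77, 2), (77, 3), (77, 4), (1003, 0), (1003, 1), (1003, 2), (1003, 3), (1003, 4),
    (1003, 5), (119, 0), (119, 1), (119, 2), (119, 3), (119, 4), (119, 5), (951, 1), (951, 2),
    (951, 4), (951, 5), (801, 0), (801, 1), (801, 3), (801, 4), (801, 5), (711, 0), (711, 3),
    (711, 5), (172, 3), (172, 4), (172, 5), (431, 0), (431, 2), (175, 2), (175, 3), (175, 4),
    (175, 5), (40, 4), (40, 5), (611, 5), (277, 2), (277, 5), (922, 0), (922, 1), (922, 2),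
    (922, 3), (922, 4), (922, 5), (170, 4), (170, 5), (41, 5), (169, 1), (169, 3), (169, 5),
    (346, 0), (346, 1), (346, 2), (346, 3), (346, 4), (346, 5), (124, 5), (84, 4), (84, 5),
    (71, 1), (71, 5), (483, 1), (483, 2), (483, 3), (483, 4), (483, 5), (796, 4), (796, 5),
    (430, 4), (430, 5), (1032, 4), (1032, 5), (698, 5), (597, 0), (597, 1), (597, 2), (597, 3),
    (597, 4), (597, 5), (85, 3), (85, 5), (1044, 5), (776, 5), (83, 5), (797, 1), (797, 2),
    (797, 3), (797, 4), (996, 1), (996, 3), (996, 4), (996, 5), (408, 1), (408, 5), (562, 0),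
    (562, 1), (562, 4), (562, 5), (122, 0), (122, 3), (122, 5), (281, 4), (1047, 5), (678, 5),
    (855, 4), (855, 5), (70, 5), (852, 0), (852, 5), (105, 1), (105, 2), (105, 3), (188, 0),
    (188, 5), (131, 5), (126, 1), (126, 3), (126, 4), (126, 5), (339, 0), (339, 5), (79, 5),
    (699, 2), (1185, 5), (125, 5), (983, 0), (983, 1), (983, 2), (983, 3), (983, 4), (983, 5),
    (171, 5), (39, 5), (736, 0), (736, 1), (736, 2), (736, 3), (736, 4), (736, 5), (176, 4),
    (176, 5), (132, 5), (643, 1), (643, 2), (643, 3), (643, 4), (643, 5), (962, 4), (962, 5),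
    (645, 4), (645, 5), (856, 5), (1207, 0), (1207, 1), (1207, 2), (1207, 3), (1207, 4),
    (1207, 5), (95, 3), (95, 5), (963, 5), (718, 5), (425, 1), (425, 2), (425, 3), (425, 4),
    (313, 5), (1156, 5), (599, 1), (599, 4), (599, 5), (129, 0), (129, 5), (920, 2), (920, 3),
    (920, 4), (920, 5), (745, 1), (745, 5), (1263, 0), (1263, 5), (35, 3), (35, 5), (1004, 3),
    (1004, 5), (398, 5), (335, 5), (642, 5), (256, 0), (256, 1), (256, 2), (256, 3), (256, 4),
    (256, 5), (570, 5), (450, 5), (1037, 0), (1037, 1), (1037, 2), (1037, 3), (1037, 4),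
    (1037, 5), (641, 5), (614, 5), (584, 5), (513, 1), (513, 2), (513, 3), (513, 4), (513, 5),
    (622, 5), (266, 0), (266, 1), (266, 2), (266, 3), (266, 4), (266, 5), (1042, 5), (333, 5),
    (1232, 1), (1232, 2), (1232, 3), (1232, 4), (91, 3), (91, 4), (91, 5), (604, 1), (604, 5),
    (130, 0), (130, 5), (1013, 3), (1013, 5), (605, 5), (563, 5), (1205, 5), (135, 5), (1202, 5),
    (120, 5), (92, 5), (1287, 5), (178, 5), (1253, 0), (1253, 1), (1253, 2), (1253, 3), (1253, 4),
    (1253, 5), (75, 5), (74, 5), (1166, 0), (1166, 1), (1166, 2), (1166, 3), (1166, 4), (1166, 5),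
    (87, 5), (191, 5), (36, 5), (455, 2), (455, 5), (1241, 5), (177, 5), (1305, 0), (1305, 2),
    (1305, 3), (1305, 4), (1305, 5), (921, 5), (189, 5), (667, 1), (667, 2), (667, 3), (667, 4),
    (1089, 5), (1033, 5), (1053, 5), (1182, 5), (229, 0), (229, 1), (229, 2), (229, 4), (229, 5),
    (96, 5), (1333, 0), (1333, 1), (1333, 3), (1333, 5), (138, 0), (138, 1), (138, 2), (138, 4),
    (138, 5), (155, 5), (526, 0), (526, 1), (526, 3), (526, 5), (1018, 0), (1018, 1), (1018, 3),
    (1018, 5), (62, 1), (62, 2), (62, 5), (376, 0), (376, 1), (376, 5), (847, 0), (847, 2),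
    (847, 3), (847, 4), (847, 5), (273, 0), (273, 2), (273, 3), (273, 4), (273, 5), (1397, 0),
    (1397, 1), (1397, 3), (86, 5), (1308, 0), (1308, 1), (1308, 2), (1308, 3), (1308, 4),
    (1308, 5), (67, 5), (623, 5), (900, 1), (900, 3), (900, 4), (900, 5), (409, 0), (409, 1),
    (409, 2), (409, 3), (409, 4), (409, 5), (756, 1), (756, 2), (756, 4), (654, 0), (654, 3),
    (654, 4), (654, 5), (909, 0), (909, 1), (909, 3), (909, 4), (909, 5), (1367, 0), (1367, 4),
    (1367, 5), (1283, 1), (1283, 2), (1283, 3), (1283, 4), (243, 0), (243, 4), (243, 5), (334, 5),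
    (269, 0), (269, 1), (269, 2), (269, 3), (269, 4), (269, 5), (369, 5), (1162, 0), (1162, 1),
    (1162, 2), (1162, 3), (1162, 4), (1162, 5), (566, 1), (566, 2), (566, 4), (566, 5), (447, 1),
    (447, 5), (1291, 0), (1291, 1), (689, 4), (689, 5), (1355, 0), (1355, 1), (1355, 2),
    (1355, 3), (1355, 4), (795, 5), (766, 0), (766, 1), (766, 2), (766, 3), (766, 4), (766, 5),
    (19, 5), (315, 5), (272, 0), (272, 3), (272, 4), (272, 5), (944, 0), (944, 1), (944, 2),
    (944, 3), (944, 4), (518, 1), (518, 2), (529, 1), (529, 2), (529, 4), (1380, 1), (647, 0),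
    (647, 1), (647, 3), (647, 5), (1144, 1), (1144, 2), (1144, 3), (1144, 4), (1144, 5), (345, 0),
    (345, 1), (345, 2), (345, 3), (345, 4), (1186, 5), (404, 1), (404, 2), (404, 3), (404, 4),
    (404, 5), (153, 0), (153, 1), (153, 2), (153, 3), (1249, 0), (1249, 1), (1249, 2), (1249, 3),
    (1249, 4), (308, 0), (308, 1), (308, 2), (308, 3), (308, 4), (308, 5), (606, 5), (197, 3),
    (197, 5), (558, 1), (558, 4), (558, 5), (1015, 0), (1015, 1), (1015, 3), (1015, 4), (111, 5),
    (88, 5), (812, 5), (1107, 0), (1107, 1), (1107, 3), (1107, 5), (939, 5), (1191, 0), (1191, 1),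
    (1191, 2), (1191, 3), (1191, 4), (813, 5), (809, 5), (517, 0), (517, 1), (517, 2), (517, 3),
    (517, 4), (139, 5), (1039, 0), (1039, 1), (1039, 2), (1039, 3), (1039, 4), (1039, 5), (54, 5),
    (762, 0), (762, 1), (762, 2), (762, 3), (762, 4), (762, 5), (557, 0), (557, 1), (557, 2),
    (557, 5), (841, 5), (1128, 1), (1128, 2), (1128, 3), (1128, 4), (1128, 5), (688, 1), (688, 3),
    (688, 5), (615, 5), (918, 2), (918, 3), (918, 4), (802, 5), (123, 5), (741, 5), (777, 1),
    (777, 2), (777, 3), (247, 1), (247, 3), (247, 5), (121, 5), (98, 5), (536, 2), (536, 5),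
    (575, 5), (865, 0), (865, 3), (865, 4), (865, 5), (1180, 1), (1180, 2), (679, 5), (33, 0),
    (33, 1), (33, 2), (33, 4), (33, 5), (1133, 0), (1133, 1), (1133, 3), (1133, 5), (1176, 3),
    (150, 5), (617, 1), (617, 5), (948, 0), (948, 4), (948, 5), (242, 0), (242, 5), (1236, 0),
    (1236, 1), (1236, 3), (1372, 3), (1372, 4), (1372, 5), (1155, 1), (1155, 3), (522, 4),
    (1164, 5), (1383, 5), (811, 0), (811, 5), (1079, 1), (1079, 2), (1079, 3), (1079, 4),
    (709, 0), (709, 1), (709, 2), (709, 3), (709, 4), (709, 5), (1224, 0), (1224, 1), (1224, 2),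
    (1224, 3), (1224, 4), (1224, 5), (365, 2), (365, 4), (365, 5), (676, 1), (994, 1), (267, 4),
    (267, 5), (527, 0), (527, 1), (527, 2), (527, 3), (527, 4), (426, 5), (350, 0), (350, 1),
    (350, 2), (350, 3), (350, 5), (163, 5), (822, 0), (822, 1), (822, 2), (822, 3), (822, 4),
    (1257, 4), (991, 1), (581, 5), (514, 1), (514, 5), (737, 0), (737, 1), (737, 2), (737, 3),
    (737, 4), (1276, 5), (738, 1), (738, 2), (738, 3), (738, 4), (65, 0), (65, 1), (65, 2),
    (65, 3), (862, 0), (862, 1), (862, 2), (862, 3), (862, 4), (793, 5), (1038, 1), (1038, 5),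
    (1183, 3), (1183, 4), (1248, 0), (1248, 3), (1248, 5), (1239, 0), (1239, 2), (1239, 3),
    (1239, 4), (1014, 5), (830, 2), (830, 3), (32, 5), (406, 0), (406, 1), (406, 2), (406, 4),
    (406, 5), (1097, 5), (234, 5), (456, 5), (1085, 0), (1085, 1), (1085, 2), (232, 5), (1034, 0),
    (1034, 3), (1034, 5), (685, 5), (589, 2), (589, 5), (759, 5), (567, 5), (486, 1), (486, 2),
    (1070, 0), (1070, 3), (1070, 5), (326, 2), (326, 4), (326, 5), (896, 0), (896, 1), (1109, 0),
    (1109, 1), (1109, 3), (1109, 5), (381, 2), (381, 5), (387, 0), (387, 1), (387, 5), (52, 0),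
    (52, 3), (52, 4), (52, 5), (530, 0), (530, 2), (530, 3), (530, 4), (530, 5), (1327, 0),
    (1327, 1), (1327, 3), (624, 0), (624, 3), (624, 4), (624, 5), (978, 5), (821, 3), (821, 5),
    (1057, 2), (437, 0), (1009, 3), (1009, 4), (1009, 5), (390, 4), (1135, 1), (1135, 2),
    (1135, 3), (1135, 4), (289, 0), (289, 5), (100, 1), (100, 5), (1125, 1), (1125, 3), (1125, 5),
    (1317, 2), (1317, 5), (1035, 5), (1338, 1), (397, 0), (397, 1), (397, 2), (397, 3), (397, 4),
    (783, 0), (783, 5), (302, 0), (302, 1), (302, 3), (302, 5), (443, 2), (221, 0), (221, 1),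
    (221, 2), (221, 3), (221, 4), (1056, 1), (1056, 2), (1056, 3), (1056, 4), (884, 0), (884, 1),
    (884, 2), (884, 3), (884, 4), (485, 5), (780, 3), (537, 5), (400, 5), (1222, 1), (1222, 3),
    (141, 1), (141, 2), (141, 3), (141, 4), (194, 5), (1023, 0), (1023, 1), (1023, 2), (1023, 3),
    (1023, 4), (969, 1), (969, 2), (969, 3), (969, 4), (354, 1), (354, 2), (942, 3), (942, 5),
    (632, 2), (632, 5), (364, 5), (926, 1), (926, 2), (640, 5), (1286, 5), (68, 1), (1350, 0),
    (1350, 3), (1350, 5), (832, 0), (27, 5), (203, 0), (203, 1), (724, 0), (724, 3), (724, 4),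
    (724, 5), (271, 4), (271, 5), (1386, 0), (1386, 1), (1330, 0), (1330, 5), (1315, 3), (857, 5),
    (481, 2), (481, 4), (1279, 1), (1279, 2), (1279, 3), (1279, 4), (341, 0), (341, 4), (367, 1),
    (367, 2), (367, 5), (730, 0), (730, 1), (730, 3), (1118, 0), (1118, 2), (1118, 3), (1118, 4),
    (251, 4), (251, 5), (286, 3), (286, 4), (722, 1), (1167, 0), (1167, 1), (1167, 2), (1167, 3),
    (1167, 4), (979, 0), (979, 1), (979, 2), (979, 3), (979, 4), (395, 5), (578, 5), (1368, 4),
    (494, 5), (1197, 2), (1197, 3), (1197, 4), (322, 2), (322, 4), (322, 5), (183, 1), (183, 5),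
    (836, 0), (836, 1), (836, 2), (836, 3), (836, 4), (1371, 1), (1371, 2), (1371, 4), (716, 0),
    (716, 3), (716, 4), (228, 4), (228, 5), (10, 0), (10, 1), (10, 2), (10, 3), (879, 2),
    (879, 3), (879, 4), (544, 3), (535, 1), (488, 0), (488, 1), (488, 2), (488, 3), (488, 4),
    (958, 5), (181, 0), (1316, 4), (932, 0), (932, 1), (932, 2), (932, 3), (1260, 2), (1260, 3),
    (1260, 4), (610, 1), (610, 4), (1116, 0), (1116, 1), (255, 2), (255, 3), (128, 2), (128, 4),
    (340, 5), (78, 4), (913, 0), (913, 1), (913, 5), (14, 4), (14, 5), (956, 5), (752, 0),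
    (752, 3), (1134, 5), (1362, 5), (548, 1), (548, 2), (548, 5), (895, 1), (1111, 0), (1111, 2),
    (1028, 1), (1028, 2), (499, 3), (498, 2), (424, 0), (424, 1), (424, 2), (424, 3), (1392, 0),
    (1198, 2), (894, 0), (995, 5), (1132, 1), (1132, 2), (1132, 3), (731, 5), (936, 5), (608, 5),
    (162, 5), (1298, 0), (1298, 5), (382, 1), (382, 3), (819, 0), (819, 5), (927, 2), (927, 3),
    (53, 0), (53, 1), (393, 5), (1119, 4), (161, 0), (161, 3), (161, 4), (505, 2), (1146, 4),
    (1122, 5), (912, 4), (912, 5), (696, 5), (1321, 2), (1229, 1), (1229, 5), (384, 4), (384, 5),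
    (1165, 5), (300, 1), (300, 5), (1104, 0), (1104, 2), (1104, 3), (1104, 4), (555, 2), (555, 4),
    (1108, 3), (1108, 4), (765, 4), (114, 0), (114, 1), (114, 2), (114, 3), (846, 0), (846, 1),
    (846, 2), (846, 3), (1209, 0), (1209, 1), (1209, 2), (1209, 4), (1138, 2), (1138, 5),
    (385, 1), (385, 2), (385, 4), (619, 1), (619, 3), (707, 3), (410, 5), (260, 5), (1251, 1),
    (1301, 0), (1345, 3), (474, 4), (878, 1), (878, 5), (383, 5), (872, 2), (872, 5), (458, 0),
    (628, 3), (893, 0), (893, 2), (379, 1), (842, 5), (823, 1), (681, 3), (681, 4), (681, 5),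
    (901, 4), (1334, 1), (101, 0), (101, 1), (101, 2), (101, 3), (351, 1), (257, 1), (257, 2),
    (257, 3), (925, 5), (1309, 2), (1309, 3), (1309, 4), (603, 0), (603, 5), (556, 3), (727, 2),
    (1302, 1), (1302, 2), (1302, 3), (625, 2), (625, 3), (215, 1), (215, 2), (215, 5), (914, 3),
    (773, 0), (773, 1), (773, 4), (301, 2), (1323, 2), (1323, 5), (134, 1), (417, 2), (417, 4),
    (417, 5), (1271, 0), (1271, 3), (1271, 4), (1072, 1), (1072, 3), (1072, 4), (1195, 2),
    (1195, 3), (666, 1), (666, 2), (966, 0), (966, 2), (966, 3), (323, 1), (323, 2), (1022, 3),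
    (1022, 4), (658, 4), (985, 2), (845, 0), (845, 3), (705, 1), (113, 4), (867, 0), (834, 2),
    (571, 0), (571, 1), (1095, 2), (1007, 5), (30, 2), (30, 3), (30, 4), (1266, 2), (519, 2),
    (519, 4), (1343, 1), (1343, 3), (1343, 4), (477, 1), (902, 0), (902, 3), (1292, 0), (1173, 5),
    (246, 1), (246, 2), (636, 2), (952, 5), (1326, 0), (412, 1), (159, 5), (276, 5), (338, 0),
    (338, 3), (1243, 5), (863, 1), (877, 5), (225, 5), (224, 5), (1353, 4), (949, 1), (949, 2),
    (949, 3), (1029, 5), (1082, 5), (1389, 0), (296, 2), (296, 3), (1129, 4), (871, 3), (1001, 4),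
    (686, 5), (1221, 0), (660, 5), (1137, 5), (1073, 2), (904, 0), (283, 4), (362, 5), (634, 5),
    (1400, 5), (1106, 0), (770, 3), (461, 2), (873, 1), (1285, 5), (911, 0), (1178, 0), (1178, 4),
    (1344, 3), (231, 0), (80, 5), (553, 5), (1002, 5), (214, 5), (264, 5), (463, 5), (1115, 5),
    (687, 5), (657, 5), (1347, 5), (49, 2), (49, 4), (971, 5), (998, 5), (511, 5), (1384, 5)]

theorem mask8_6_ok : ([0].all fun r => Nat.blt r 1408) &&
    (grow gens8 trow8_6 (seedSet [0] 0) == some mask8_6) = true := by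
  decide +kernel

theorem toOrb8_6 : ∀ c, mask8_6.testBit c = true → GoodTo C (vert C 8) (vert C 6) c := by
  have h := mask8_6_ok
  simp only [Bool.and_eq_true, beq_iff_eq, decide_eq_true_eq] at h
  refine goodTo_all C (seeds := [0]) (gens := gens8) (rows := trow8_6) ?_ ?_ (by decide +kernel) h.1 h.2
  · intro r hr
    simp only [List.mem_cons, List.not_mem_nil, or_false] at hr
    subst hr
    exact goodTo_seed C (h53050 C) 0 (by decide +kernel)
  · intro g hg
    simp only [gens8, List.mem_cons, List.not_mem_nil, or_false] at hg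
    rcases hg with rfl | rfl | rfl | rfl | rfl | rfl
    · exact h48529 C
    · exact h49763 C
    · exact h51481 C
    · exact h53063 C
    · exact h54569 C
    · exact h56028 C

/-- The directions from vertex 8 into the orbit of vertex 8. -/
def mask8_8 : ℕ := 0xf00010002202402000000400010104104a010000000c8001011084080000008010c0000200000808004c1100c02000060018000005000010204020431000080608020004004000400800c001800100101000000001000c0080000006010030006060001000000000100000401820020000000001818100400000001000a200000020080100c1000020000c0180000200601018000c000188001000000000000080000000040000000000000000000000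

/-- A tree for these directions. -/
def trow8_8 : List (ℕ × ℕ) := [
    (90, 0), (90, 1), (90, 2), (90, 3), (90, 4), (90, 5), (1054, 2), (1054, 3), (1054, 4),
    (1054, 5), (236, 0), (236, 2), (236, 3), (236, 4), (236, 5), (957, 0), (957, 3), (957, 4),
    (957, 5), (1275, 1), (1275, 4), (1275, 5), (1055, 2), (1055, 3), (1055, 5), (664, 0),
    (664, 1), (664, 2), (664, 3), (664, 4), (336, 4), (336, 5), (1075, 2), (1075, 4), (950, 0),
    (950, 3), (950, 5), (674, 0), (674, 1), (674, 2), (674, 3), (674, 4), (674, 5), (799, 5),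
    (195, 3), (195, 4), (1011, 5), (401, 3), (401, 5), (814, 4), (1099, 5), (800, 5), (199, 0),
    (199, 1), (199, 2), (199, 3), (199, 5), (407, 4), (407, 5), (1012, 5), (1290, 0), (1290, 2),
    (1290, 3), (1290, 4), (1264, 5), (373, 0), (373, 2), (373, 3), (373, 4), (373, 5), (244, 1),
    (244, 2), (244, 4), (244, 5), (363, 1), (363, 3), (1235, 0), (1235, 2), (1235, 4), (1199, 1),
    (1199, 2), (1199, 4), (1199, 5), (1373, 0), (1373, 1), (1373, 5), (612, 5), (1074, 5),
    (405, 5), (343, 0), (343, 3), (343, 4), (343, 5), (838, 1), (838, 2), (838, 5), (881, 1),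
    (881, 4), (471, 3), (464, 3), (1121, 2), (1091, 0), (1091, 2), (1091, 3), (1091, 5), (235, 5),
    (218, 0), (218, 4), (1148, 1), (1148, 2), (1148, 3), (1148, 5), (815, 5), (1143, 1),
    (1143, 3), (673, 1), (673, 2), (673, 5), (1231, 3), (1304, 1), (1304, 3), (1068, 2),
    (1068, 4), (941, 4), (572, 1), (572, 3), (454, 3)]

theorem mask8_8_ok : ([90].all fun r => Nat.blt r 1408) &&
    (grow gens8 trow8_8 (seedSet [90] 0) == some mask8_8) = true := by
  decide +kernel

theorem toOrb8_8 : ∀ c, mask8_8.testBit c = true → GoodTo C (vert C 8) (vert C 8) c := by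
  have h := mask8_8_ok
  simp only [Bool.and_eq_true, beq_iff_eq, decide_eq_true_eq] at h
  refine goodTo_all C (seeds := [90]) (gens := gens8) (rows := trow8_8) ?_ ?_ (by decide +kernel) h.1 h.2
  · intro r hr
    simp only [List.mem_cons, List.not_mem_nil, or_false] at hr
    subst hr
    exact goodTo_seed C (h57464 C) 90 (by decide +kernel)
  · intro g hg
    simp only [gens8, List.mem_cons, List.not_mem_nil, or_false] at hg
    rcases hg with rfl | rfl | rfl | rfl | rfl | rfl
    · exact h48529 C
    · exact h49763 C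
    · exact h51481 C
    · exact h53063 C
    · exact h54569 C
    · exact h56028 C

/-- The orbit reached from a vertex in a direction. -/
def tgt (i c : ℕ) : ℕ :=
  match i with
  | 0 => 1
  | 1 => if mask1_0.testBit c then 0 else if mask1_1.testBit c then 1 else if mask1_2.testBit c then 2 else if mask1_3.testBit c then 3 else if mask1_4.testBit c then 4 else 5
  | 2 => if mask2_1.testBit c then 1 else if mask2_2.testBit c then 2 else if mask2_3.testBit c then 3 else if mask2_4.testBit c then 4 else if mask2_6.testBit c then 6 else 7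
  | 3 => if mask3_1.testBit c then 1 else if mask3_2.testBit c then 2 else if mask3_3.testBit c then 3 else if mask3_4.testBit c then 4 else if mask3_5.testBit c then 5 else if mask3_6.testBit c then 6 else 7
  | 4 => if mask4_1.testBit c then 1 else if mask4_2.testBit c then 2 else if mask4_3.testBit c then 3 else if mask4_4.testBit c then 4 else if mask4_5.testBit c then 5 else 6
  | 5 => if mask5_1.testBit c then 1 else if mask5_3.testBit c then 3 else if mask5_4.testBit c then 4 else 6
  | 6 => if mask6_2.testBit c then 2 else if mask6_3.testBit c then 3 else if mask6_4.testBit c then 4 else if mask6_5.testBit c then 5 else if mask6_6.testBit c then 6 else if mask6_7.testBit c then 7 else 8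
  | 7 => if mask7_2.testBit c then 2 else if mask7_3.testBit c then 3 else if mask7_6.testBit c then 6 else 7
  | 8 => if mask8_6.testBit c then 6 else 8
  | _ => 0

/-- The number of directions from one orbit into another. -/
def deg : List (List ℕ) := [
    [0, 1408, 0, 0, 0, 0, 0, 0, 0],
    [1, 53, 504, 350, 450, 50, 0, 0, 0],
    [0, 2, 356, 100, 50, 0, 650, 250, 0],
    [0, 4, 288, 160, 32, 12, 552, 360, 0],
    [0, 18, 504, 112, 100, 2, 672, 0, 0],
    [0, 32, 0, 672, 32, 0, 672, 0, 0],
    [0, 0, 312, 92, 32, 2, 720, 240, 10],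
    [0, 0, 320, 160, 0, 0, 640, 288, 0],
    [0, 0, 0, 0, 0, 0, 1280, 0, 128]]

theorem tgt_checks : ((List.range 9).all fun i => (List.range 9).all fun k =>
    Nat.beq ((List.range 1408).countP fun c => Nat.beq (tgt i c) k) ((deg.getD i []).getD k 0)) = true := by
  decide +kernel

theorem cover0 : ((List.range 1408).all fun c => mask0_1.testBit c) = true := by
  decide +kernel

theorem tgt0 (c : ℕ) (hc : c < 1408) : GoodTo C (vert C 0) (vert C (tgt 0 c)) c := by
  have h := List.all_eq_true.1 cover0 c (List.mem_range.2 hc)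
  simp only [tgt]
  exact toOrb0_1 C c h

theorem cover1 : ((List.range 1408).all fun c => mask1_0.testBit c || mask1_1.testBit c || mask1_2.testBit c || mask1_3.testBit c || mask1_4.testBit c || mask1_5.testBit c) = true := by
  decide +kernel

theorem tgt1 (c : ℕ) (hc : c < 1408) : GoodTo C (vert C 1) (vert C (tgt 1 c)) c := by
  have h := List.all_eq_true.1 cover1 c (List.mem_range.2 hc)
  simp only [Bool.or_eq_true] at h
  simp only [tgt]
  split_ifs
  · exact toOrb1_0 C c (by assumption)
  · exact toOrb1_1 C c (by assumption)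
  · exact toOrb1_2 C c (by assumption)
  · exact toOrb1_3 C c (by assumption)
  · exact toOrb1_4 C c (by assumption)
  · exact toOrb1_5 C c (by simp_all)

theorem cover2 : ((List.range 1408).all fun c => mask2_1.testBit c || mask2_2.testBit c || mask2_3.testBit c || mask2_4.testBit c || mask2_6.testBit c || mask2_7.testBit c) = true := by
  decide +kernel

theorem tgt2 (c : ℕ) (hc : c < 1408) : GoodTo C (vert C 2) (vert C (tgt 2 c)) c := by
  have h := List.all_eq_true.1 cover2 c (List.mem_range.2 hc)
  simp only [Bool.or_eq_true] at h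
  simp only [tgt]
  split_ifs
  · exact toOrb2_1 C c (by assumption)
  · exact toOrb2_2 C c (by assumption)
  · exact toOrb2_3 C c (by assumption)
  · exact toOrb2_4 C c (by assumption)
  · exact toOrb2_6 C c (by assumption)
  · exact toOrb2_7 C c (by simp_all)

theorem cover3 : ((List.range 1408).all fun c => mask3_1.testBit c || mask3_2.testBit c || mask3_3.testBit c || mask3_4.testBit c || mask3_5.testBit c || mask3_6.testBit c || mask3_7.testBit c) = true := by
  decide +kernel

theorem tgt3 (c : ℕ) (hc : c < 1408) : GoodTo C (vert C 3) (vert C (tgt 3 c)) c := by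
  have h := List.all_eq_true.1 cover3 c (List.mem_range.2 hc)
  simp only [Bool.or_eq_true] at h
  simp only [tgt]
  split_ifs
  · exact toOrb3_1 C c (by assumption)
  · exact toOrb3_2 C c (by assumption)
  · exact toOrb3_3 C c (by assumption)
  · exact toOrb3_4 C c (by assumption)
  · exact toOrb3_5 C c (by assumption)
  · exact toOrb3_6 C c (by assumption)
  · exact toOrb3_7 C c (by simp_all)

theorem cover4 : ((List.range 1408).all fun c => mask4_1.testBit c || mask4_2.testBit c || mask4_3.testBit c || mask4_4.testBit c || mask4_5.testBit c || mask4_6.testBit c) = true := by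
  decide +kernel

theorem tgt4 (c : ℕ) (hc : c < 1408) : GoodTo C (vert C 4) (vert C (tgt 4 c)) c := by
  have h := List.all_eq_true.1 cover4 c (List.mem_range.2 hc)
  simp only [Bool.or_eq_true] at h
  simp only [tgt]
  split_ifs
  · exact toOrb4_1 C c (by assumption)
  · exact toOrb4_2 C c (by assumption)
  · exact toOrb4_3 C c (by assumption)
  · exact toOrb4_4 C c (by assumption)
  · exact toOrb4_5 C c (by assumption)
  · exact toOrb4_6 C c (by simp_all)

theorem cover5 : ((List.range 1408).all fun c => mask5_1.testBit c || mask5_3.testBit c || mask5_4.testBit c || mask5_6.testBit c) = true := by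
  decide +kernel

theorem tgt5 (c : ℕ) (hc : c < 1408) : GoodTo C (vert C 5) (vert C (tgt 5 c)) c := by
  have h := List.all_eq_true.1 cover5 c (List.mem_range.2 hc)
  simp only [Bool.or_eq_true] at h
  simp only [tgt]
  split_ifs
  · exact toOrb5_1 C c (by assumption)
  · exact toOrb5_3 C c (by assumption)
  · exact toOrb5_4 C c (by assumption)
  · exact toOrb5_6 C c (by simp_all)

theorem cover6 : ((List.range 1408).all fun c => mask6_2.testBit c || mask6_3.testBit c || mask6_4.testBit c || mask6_5.testBit c || mask6_6.testBit c || mask6_7.testBit c || mask6_8.testBit c) = true := by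
  decide +kernel

theorem tgt6 (c : ℕ) (hc : c < 1408) : GoodTo C (vert C 6) (vert C (tgt 6 c)) c := by
  have h := List.all_eq_true.1 cover6 c (List.mem_range.2 hc)
  simp only [Bool.or_eq_true] at h
  simp only [tgt]
  split_ifs
  · exact toOrb6_2 C c (by assumption)
  · exact toOrb6_3 C c (by assumption)
  · exact toOrb6_4 C c (by assumption)
  · exact toOrb6_5 C c (by assumption)
  · exact toOrb6_6 C c (by assumption)
  · exact toOrb6_7 C c (by assumption)
  · exact toOrb6_8 C c (by simp_all)

theorem cover7 : ((List.range 1408).all fun c => mask7_2.testBit c || mask7_3.testBit c || mask7_6.testBit c || mask7_7.testBit c) = true := by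
  decide +kernel

theorem tgt7 (c : ℕ) (hc : c < 1408) : GoodTo C (vert C 7) (vert C (tgt 7 c)) c := by
  have h := List.all_eq_true.1 cover7 c (List.mem_range.2 hc)
  simp only [Bool.or_eq_true] at h
  simp only [tgt]
  split_ifs
  · exact toOrb7_2 C c (by assumption)
  · exact toOrb7_3 C c (by assumption)
  · exact toOrb7_6 C c (by assumption)
  · exact toOrb7_7 C c (by simp_all)

theorem cover8 : ((List.range 1408).all fun c => mask8_6.testBit c || mask8_8.testBit c) = true := by
  decide +kernel

theorem tgt8 (c : ℕ) (hc : c < 1408) : GoodTo C (vert C 8) (vert C (tgt 8 c)) c := by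
  have h := List.all_eq_true.1 cover8 c (List.mem_range.2 hc)
  simp only [Bool.or_eq_true] at h
  simp only [tgt]
  split_ifs
  · exact toOrb8_6 C c (by assumption)
  · exact toOrb8_8 C c (by simp_all)

theorem tgt_spec : ∀ i < 9, ∀ c < 1408, GoodTo C (vert C i) (vert C (tgt i c)) c := by
  intro i hi
  interval_cases i
  · exact tgt0 C
  · exact tgt1 C
  · exact tgt2 C
  · exact tgt3 C
  · exact tgt4 C
  · exact tgt5 C
  · exact tgt6 C
  · exact tgt7 C
  · exact tgt8 C

end CfsgLib.HNIndex
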