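import Cfsg.Agent.Lib.HNIndex.Rules

/-!
# The vertices (generated)

One vertex for each orbit of the stabiliser of the point on the cosets.
-/

set_option autoImplicit false

namespace CfsgLib.HNIndex

variable {G X : Type} [Group G] [MulAction G X] (C : Ctx G X)

/-- The given point. -/
def v0 : X := C.p0

/-- Vertex 1. -/
def v1 : X :=
  C.t • C.W [] • v0 C

/-- Vertex 2. -/
def v2 : X :=
  C.t • C.W [0, 4, 2, 4, 3, 3, 0, 4] • v1 C

/-- Vertex 3. -/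
def v3 : X :=
  C.t • C.W [0, 4, 2, 1, 2, 4] • v1 C

/-- Vertex 4. -/
def v4 : X :=
  C.t • C.W [0, 4, 2, 2, 2, 1, 4] • v1 C

/-- Vertex 5. -/
def v5 : X :=
  C.t • C.W [4, 2, 1] • v1 C

/-- Vertex 6. -/
def v6 : X :=
  C.t • C.W [4, 2, 1] • v5 C

/-- Vertex 7. -/
def v7 : X :=
  C.t • C.W [0, 4, 2, 1, 2, 4, 2] • v3 C

/-- Vertex 8. -/
def v8 : X :=
  C.t • C.W [4, 3, 1] • v6 C

/-- The vertices. -/
def vert : ℕ → X
  | 1 => v1 C
  | 2 => v2 C
  | 3 => v3 C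
  | 4 => v4 C
  | 5 => v5 C
  | 6 => v6 C
  | 7 => v7 C
  | 8 => v8 C
  | _ => v0 C

end CfsgLib.HNIndex
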